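/-
S5630 project (Aschbacher's theorem, linear case), module M8.3 (tensor branch, helper16):
shared definitions of pure tensors, position embeddings and factor permutations on the index
type `Fin t → Fin m`.  Only definitions here.
-/
import Mathlib

set_option autoImplicit false

namespace Cfsg.Agent.Lib.H16.Asch

open scoped Matrix

/-- The pure tensor `g_0 ⊗ ⋯ ⊗ g_{t-1}` of `t` square matrices of size `m`, as a matrix indexed by
functions `Fin t → Fin m` (same convention as `Cfsg.Geo.IsPureTensor`). -/
def pureT {R : Type*} [CommRing R] {m t : ℕ} (gs : Fin t → Matrix (Fin m) (Fin m) R) :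
    Matrix (Fin t → Fin m) (Fin t → Fin m) R :=
  fun x y => ∏ i, gs i (x i) (y i)

/-- `a` acting in position `i` of the `t`-fold tensor power: `1 ⊗ ⋯ ⊗ a ⊗ ⋯ ⊗ 1`. -/
def posEmb {R : Type*} [CommRing R] {m t : ℕ} (i : Fin t) (a : Matrix (Fin m) (Fin m) R) :
    Matrix (Fin t → Fin m) (Fin t → Fin m) R :=
  pureT (Function.update (fun _ => (1 : Matrix (Fin m) (Fin m) R)) i a)

/-- The matrix permuting the `t` tensor factors according to `σ` (same convention as
`Cfsg.Geo.IsFactorPermutation`). -/
def permMat {R : Type*} [CommRing R] {m t : ℕ} (σ : Equiv.Perm (Fin t)) :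
    Matrix (Fin t → Fin m) (Fin t → Fin m) R :=
  fun x y => if y = x ∘ σ then 1 else 0

end Cfsg.Agent.Lib.H16.Asch
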