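import Mathlib

set_option autoImplicit false

namespace Cfsg.Agent.Lib.H16

open scoped Pointwise

/-- A `p`-subgroup can be conjugated into any given Sylow `p`-subgroup. -/
theorem exists_conj_mem_sylow {G : Type*} [Group G] [Finite G] {p : ℕ} [Fact p.Prime]
    (A : Subgroup G) (hA : IsPGroup p A) (S : Sylow p G) :
    ∃ g : G, ∀ a ∈ A, g * a * g⁻¹ ∈ (S : Subgroup G) := by
  obtain ⟨S', hS'⟩ := hA.exists_le_sylow
  obtain ⟨g, hg⟩ := MulAction.exists_smul_eq G S' S
  refine ⟨g, fun a ha => ?_⟩
  have h1 : a ∈ (S' : Subgroup G) := hS' ha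
  have h2 : MulAut.conj g • a ∈ MulAut.conj g • (S' : Subgroup G) :=
    Subgroup.smul_mem_pointwise_smul a (MulAut.conj g) (S' : Subgroup G) h1
  rw [← Sylow.coe_subgroup_smul, hg] at h2
  simpa [MulAut.smul_def] using h2

/-- Membership in `H.map (conj g)`. -/
theorem mem_map_conj_iff {G : Type*} [Group G] (H : Subgroup G) (g x : G) :
    x ∈ H.map (MulAut.conj g).toMonoidHom ↔ g⁻¹ * x * g ∈ H := by
  constructor
  · rintro ⟨a, ha, rfl⟩
    simp only [MulEquiv.coe_toMonoidHom, MulAut.conj_apply]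
    have : g⁻¹ * (g * a * g⁻¹) * g = a := by group
    rw [this]; exact ha
  · intro h
    refine ⟨g⁻¹ * x * g, h, ?_⟩
    simp only [MulEquiv.coe_toMonoidHom, MulAut.conj_apply]
    group

theorem conj_mem_map_conj {G : Type*} [Group G] (H : Subgroup G) (g a : G) (ha : a ∈ H) :
    g * a * g⁻¹ ∈ H.map (MulAut.conj g).toMonoidHom := by
  rw [mem_map_conj_iff]
  have : g⁻¹ * (g * a * g⁻¹) * g = a := by group
  rw [this]; exact ha

/-- If conjugation by `g` maps `H` onto `H`, then `g` normalizes `H`. -/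
theorem mem_normalizer_of_map_conj_eq {G : Type*} [Group G] (H : Subgroup G) (g : G)
    (h : H.map (MulAut.conj g).toMonoidHom = H) : g ∈ Subgroup.normalizer (H : Set G) := by
  rw [Subgroup.mem_set_normalizer_iff]
  intro x
  constructor
  · intro hx
    have := conj_mem_map_conj H g x hx
    rwa [h] at this
  · intro hx
    have : g * x * g⁻¹ ∈ H.map (MulAut.conj g).toMonoidHom := by rw [h]; exact hx
    rw [mem_map_conj_iff] at this
    have e : g⁻¹ * (g * x * g⁻¹) * g = x := by group
    rwa [e] at this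

theorem map_conj_eq_of_mem_normalizer {G : Type*} [Group G] (H : Subgroup G) (g : G)
    (h : g ∈ Subgroup.normalizer (H : Set G)) : H.map (MulAut.conj g).toMonoidHom = H := by
  rw [Subgroup.mem_set_normalizer_iff] at h
  ext x
  rw [mem_map_conj_iff]
  have := h (g⁻¹ * x * g)
  have e : g * (g⁻¹ * x * g) * g⁻¹ = x := by group
  rw [e] at this
  exact this

end Cfsg.Agent.Lib.H16
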