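import Mathlib
import Cfsg.Agent.Lib.H5.CS4a

/-!
# S4146 farm-out T1 (helper16): Camina's lemma, relative form.

If every `p'`-element of a finite group `H` has class size prime to `p`, then `H = P × K`
with `P` the set of `p`-elements and `K` the set of `p'`-elements.
-/

set_option autoImplicit false

namespace Cfsg.Agent.Lib.H16.CS4T1

open Subgroup
open Cfsg.Agent.Lib.H5.CS4 (PE)

/-- a Sylow subgroup of a subgroup of `p'`-index, seen as a Sylow subgroup of the whole group -/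
theorem exists_sylow_map {H : Type*} [Group H] [Finite H] {p : ℕ} [Fact p.Prime]
    (L : Subgroup H) (hL : ¬ p ∣ L.index) (R : Sylow p L) :
    ∃ Q : Sylow p H, (Q : Subgroup H) = (R : Subgroup L).map L.subtype := by
  have hcard : Nat.card ((R : Subgroup L).map L.subtype) = p ^ (Nat.card H).factorization p := by
    rw [Subgroup.card_map_of_injective L.subtype_injective, R.card_eq_multiplicity,
      ← Subgroup.card_mul_index L, Nat.factorization_mul Nat.card_pos.ne'
        Subgroup.index_ne_zero_of_finite, Finsupp.add_apply,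
      Nat.factorization_eq_zero_of_not_dvd hL, add_zero]
  exact ⟨Sylow.ofCard _ hcard, rfl⟩

/-- Camina's lemma in an abstract finite group. -/
theorem core {H : Type*} [Group H] [Finite H] (p : ℕ) [Fact p.Prime]
    (h : ∀ u : H, ¬ p ∣ orderOf u → ¬ p ∣ (centralizer ({u} : Set H)).index) :
    ∃ P K : Subgroup H,
      (∀ u, PE p u → u ∈ P) ∧ (∀ u ∈ P, PE p u) ∧
      (∀ u, ¬ p ∣ orderOf u → u ∈ K) ∧ (∀ u ∈ K, ¬ p ∣ orderOf u) ∧
      (∀ a ∈ P, ∀ b ∈ K, Commute a b) ∧ Nat.card P * Nat.card K = Nat.card H := by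
  classical
  have hp : p.Prime := Fact.out
  obtain ⟨P⟩ : Nonempty (Sylow p H) := inferInstance
  -- every element normalizes some Sylow `p`-subgroup
  have hcover : ∀ x : H, ∃ Q : Sylow p H, x ∈ normalizer ((Q : Subgroup H) : Set H) := by
    intro x
    obtain ⟨k, l, hkl, ⟨e, he⟩, hcop⟩ :=
      Cfsg.Agent.Lib.H20.exists_pPart_pPrimePart x (isOfFinOrder_of_finite x) p hp
    have hb : ¬ p ∣ orderOf (x ^ l) := fun hd =>
      hp.one_lt.ne' (Nat.Coprime.eq_one_of_dvd hcop.symm hd)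
    have hL := h (x ^ l) hb
    have hcomm : x ^ k ∈ centralizer ({x ^ l} : Set H) := by
      rw [mem_centralizer_singleton_iff]
      exact ((Commute.refl x).pow_pow k l).eq
    have hpe : PE p (⟨x ^ k, hcomm⟩ : centralizer ({x ^ l} : Set H)) := by
      apply Cfsg.Agent.Lib.H5.CS4.pe_of_orderOf (k := e)
      rw [Subgroup.orderOf_mk, he]
    obtain ⟨R, hR⟩ := hpe.exists_sylow
    obtain ⟨Q, hQ⟩ := exists_sylow_map _ hL R
    refine ⟨Q, ?_⟩
    rw [← hkl]
    apply mul_mem
    · apply le_normalizer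
      show x ^ k ∈ (Q : Subgroup H)
      rw [hQ]
      exact ⟨⟨x ^ k, hcomm⟩, hR, rfl⟩
    · apply centralizer_le_normalizer
      rw [mem_centralizer_iff]
      intro y hy
      have hy' : y ∈ (Q : Subgroup H) := hy
      rw [hQ] at hy'
      obtain ⟨z, -, rfl⟩ := hy'
      have := z.2
      rw [mem_centralizer_singleton_iff] at this
      exact this
  -- hence `P` is normal
  have hPn : (P : Subgroup H).Normal := by
    rw [← normalizer_eq_top_iff]
    by_contra hne
    obtain ⟨g, hg⟩ := Cfsg.Agent.Lib.H20.exists_not_mem_conj _ hne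
    obtain ⟨Q, hQ⟩ := hcover g
    obtain ⟨y, hy⟩ := MulAction.exists_smul_eq H P Q
    apply hg y
    rw [Subgroup.mem_pointwise_smul_iff_inv_smul_mem]
    have hQ' : g • Q = Q := Sylow.smul_eq_iff_mem_normalizer.2 hQ
    refine Sylow.smul_eq_iff_mem_normalizer.1 ?_
    have h1 : (MulAut.conj y)⁻¹ • g = y⁻¹ * g * y := by
      simp [MulAut.smul_def]
    rw [h1, mul_smul, mul_smul, hy, hQ', ← hy, inv_smul_smul]
  haveI : Unique (Sylow p H) := Sylow.unique_of_normal P hPn
  -- `p'`-elements centralize `P`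
  have hcent : ∀ u : H, ¬ p ∣ orderOf u → ∀ a ∈ (P : Subgroup H), Commute a u := by
    intro u hu a ha
    obtain ⟨Q, hQ⟩ := Cfsg.Agent.Lib.L0.exists_sylow_le_of_not_dvd_index _ (h u hu)
    have hQP : Q = P := Subsingleton.elim _ _
    rw [hQP] at hQ
    have := hQ ha
    rw [mem_centralizer_singleton_iff] at this
    exact this
  obtain ⟨K, hK⟩ := exists_right_complement'_of_coprime (N := (P : Subgroup H))
    P.card_coprime_index
  have hcardK : Nat.card K = (P : Subgroup H).index := by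
    have h1 := hK.card_mul_card
    have h2 := (P : Subgroup H).card_mul_index
    exact Nat.eq_of_mul_eq_mul_left Nat.card_pos (h1.trans h2.symm)
  have hKp : ∀ u ∈ K, ¬ p ∣ orderOf u := by
    intro u hu hd
    have h1 : orderOf u ∣ Nat.card K := by
      have := orderOf_dvd_natCard (⟨u, hu⟩ : K)
      rwa [Subgroup.orderOf_mk] at this
    rw [hcardK] at h1
    exact P.not_dvd_index (hd.trans h1)
  refine ⟨P, K, ?_, ?_, ?_, hKp, ?_, hK.card_mul_card⟩
  · intro u hu
    obtain ⟨Q, hQ⟩ := hu.exists_sylow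
    rwa [Subsingleton.elim Q P] at hQ
  · intro u hu
    exact Cfsg.Agent.Lib.H5.CS4.pe_of_mem P.isPGroup' hu
  · intro u hu
    obtain ⟨⟨a, b⟩, hab⟩ := hK.2 u
    have hab' : (a : H) * (b : H) = u := hab
    have hc : Commute (a : H) (b : H) := hcent b (hKp b b.2) a a.2
    obtain ⟨o, ho⟩ : ∃ o, o = orderOf u := ⟨_, rfl⟩
    have h1 : (a : H) ^ o = ((b : H) ^ o)⁻¹ := by
      have h2 : u ^ o = 1 := by rw [ho]; exact pow_orderOf_eq_one u
      rw [← hab', hc.mul_pow] at h2
      exact eq_inv_of_mul_eq_one_left h2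
    have h3 : (a : H) ^ o = 1 := by
      apply (Subgroup.disjoint_def.1 hK.disjoint) (pow_mem a.2 _)
      rw [h1]
      exact inv_mem (pow_mem b.2 _)
    have h4 : orderOf (a : H) ∣ orderOf u := by
      rw [← ho]
      exact orderOf_dvd_of_pow_eq_one h3
    obtain ⟨e, he⟩ := (Cfsg.Agent.Lib.H5.CS4.pe_of_mem P.isPGroup' a.2).orderOf_eq hp
    have he0 : e = 0 := by
      by_contra hne
      apply hu
      refine dvd_trans ?_ h4
      rw [he]
      exact dvd_pow_self p hne
    rw [he0, pow_zero, orderOf_eq_one_iff] at he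
    rw [← hab', he, one_mul]
    exact b.2
  · intro a ha b hb
    exact hcent b (hKp b hb) a ha

end Cfsg.Agent.Lib.H16.CS4T1

namespace Cfsg.Agent.Lib.H5.CS4

open Cfsg.Agent.Lib.H20.BHM (cs)
open Subgroup

variable {G : Type*} [Group G] [Finite G]

/-- T1 (Camina's lemma, relative form).  `Y ≤ G`; every `p'`-element of `Y` has `p'`-class size
inside `Y`.  Then `Y = P × K`, `P` = the `p`-elements of `Y`, `K` = the `p'`-elements of `Y`. -/
theorem camina_split (p : ℕ) [Fact p.Prime] (Y : Subgroup G)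
    (h : ∀ u ∈ Y, ¬ p ∣ orderOf u → ¬ p ∣ (centralizer ({u} : Set G)).relIndex Y) :
    ∃ P K : Subgroup G, P ≤ Y ∧ K ≤ Y ∧
      (∀ u ∈ Y, PE p u → u ∈ P) ∧ (∀ u ∈ P, PE p u) ∧
      (∀ u ∈ Y, ¬ p ∣ orderOf u → u ∈ K) ∧ (∀ u ∈ K, ¬ p ∣ orderOf u) ∧
      (∀ a ∈ P, ∀ b ∈ K, Commute a b) ∧ Nat.card P * Nat.card K = Nat.card Y := by
  have hY : ∀ u : Y, ¬ p ∣ orderOf u → ¬ p ∣ (centralizer ({u} : Set Y)).index := by
    intro u hu
    have h1 := h u u.2 (by rwa [Subgroup.orderOf_coe])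
    have h2 : (centralizer ({(u : G)} : Set G)).subgroupOf Y = centralizer ({u} : Set Y) := by
      ext v
      rw [mem_subgroupOf, mem_centralizer_singleton_iff, mem_centralizer_singleton_iff,
        Subtype.ext_iff, coe_mul, coe_mul]
    rwa [relIndex, h2] at h1
  have hPE : ∀ u : Y, PE p (u : G) ↔ PE p u := by
    intro u
    constructor
    · rintro ⟨k, hk⟩
      exact ⟨k, Subtype.ext (by rw [coe_pow, hk, coe_one])⟩
    · rintro ⟨k, hk⟩
      refine ⟨k, ?_⟩
      have := congrArg Subtype.val hk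
      rwa [coe_pow, coe_one] at this
  obtain ⟨P, K, h1, h2, h3, h4, h5, h6⟩ := Cfsg.Agent.Lib.H16.CS4T1.core p hY
  refine ⟨P.map Y.subtype, K.map Y.subtype, map_subtype_le P, map_subtype_le K,
    ?_, ?_, ?_, ?_, ?_, ?_⟩
  · intro u hu hpe
    exact ⟨⟨u, hu⟩, h1 _ ((hPE ⟨u, hu⟩).1 hpe), rfl⟩
  · rintro _ ⟨v, hv, rfl⟩
    exact (hPE v).2 (h2 v hv)
  · intro u hu hpu
    exact ⟨⟨u, hu⟩, h3 _ (by rwa [Subgroup.orderOf_mk]), rfl⟩
  · rintro _ ⟨v, hv, rfl⟩
    have := h4 v hv
    rwa [← Subgroup.orderOf_coe] at this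
  · rintro _ ⟨a, ha, rfl⟩ _ ⟨b, hb, rfl⟩
    exact (h5 a ha b hb).map Y.subtype
  · rw [Subgroup.card_map_of_injective Y.subtype_injective,
      Subgroup.card_map_of_injective Y.subtype_injective, h6]

end Cfsg.Agent.Lib.H5.CS4
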