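import Mathlib

/-!
# Ring homomorphisms out of a matrix ring from a system of matrix units

* `matrixUnitsHom ι e he h1 hc : Matrix n n L →+* E` for `e : n → n → E` with
  `e i j * e k l = if j = k then e i l else 0`, `∑ i, e i i = 1`, and scalars `ι a` commuting with `e i j`.
* `matrixUnitsHom₂`: the `2 × 2` case, from `N₁ N₂` with `N₁² = 0 = N₂²`, `N₁ N₂ + N₂ N₁ = 1`.
-/

set_option autoImplicit false

namespace Cfsg.Agent.Lib.H16

section MatrixUnits

variable {L E : Type*} [CommRing L] [Ring E] {n : Type*} [Fintype n] [DecidableEq n]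

/-- ring hom from a system of matrix units with commuting scalars -/
noncomputable def matrixUnitsHom (ι : L →+* E) (e : n → n → E)
    (he : ∀ i j k l, e i j * e k l = if j = k then e i l else 0)
    (h1 : ∑ i, e i i = 1) (hc : ∀ a i j, ι a * e i j = e i j * ι a) :
    Matrix n n L →+* E where
  toFun M := ∑ i, ∑ j, ι (M i j) * e i j
  map_one' := by
    rw [← h1]
    refine Finset.sum_congr rfl (fun i _ => ?_)
    rw [Finset.sum_eq_single i]
    · simp
    · intro j _ hji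
      rw [Matrix.one_apply_ne (Ne.symm hji), map_zero, zero_mul]
    · intro h; exact absurd (Finset.mem_univ i) h
  map_mul' M N := by
    have hterm : ∀ i j k l, ι (M i j) * e i j * (ι (N k l) * e k l) =
        if j = k then ι (M i j) * ι (N k l) * e i l else 0 := by
      intro i j k l
      have : ι (M i j) * e i j * (ι (N k l) * e k l) = ι (M i j) * ι (N k l) * (e i j * e k l) := by
        rw [mul_assoc, ← mul_assoc (e i j), ← hc, mul_assoc, mul_assoc]
      rw [this, he]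
      split_ifs <;> simp
    rw [Finset.sum_mul]
    refine Finset.sum_congr rfl (fun i _ => ?_)
    rw [Finset.sum_mul]
    -- RHS : ∑ j, ι (M i j) * e i j * ∑ k, ∑ l, ...
    have hR : ∀ j, ι (M i j) * e i j * (∑ k, ∑ l, ι (N k l) * e k l) =
        ∑ l, ι (M i j) * ι (N j l) * e i l := by
      intro j
      rw [Finset.mul_sum]
      rw [Finset.sum_eq_single j]
      · rw [Finset.mul_sum]
        refine Finset.sum_congr rfl (fun l _ => ?_)
        rw [hterm, if_pos rfl]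
      · intro k _ hkj
        rw [Finset.mul_sum]
        refine Finset.sum_eq_zero (fun l _ => ?_)
        rw [hterm, if_neg (Ne.symm hkj)]
      · intro h; exact absurd (Finset.mem_univ j) h
    simp only [hR]
    rw [Finset.sum_comm]
    refine Finset.sum_congr rfl (fun l _ => ?_)
    rw [Matrix.mul_apply, map_sum, Finset.sum_mul]
    refine Finset.sum_congr rfl (fun k _ => ?_)
    rw [map_mul]
  map_zero' := by simp
  map_add' M N := by
    simp only [Matrix.add_apply, map_add, add_mul, Finset.sum_add_distrib]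

theorem matrixUnitsHom_apply (ι : L →+* E) (e : n → n → E)
    (he : ∀ i j k l, e i j * e k l = if j = k then e i l else 0)
    (h1 : ∑ i, e i i = 1) (hc : ∀ a i j, ι a * e i j = e i j * ι a) (M : Matrix n n L) :
    matrixUnitsHom ι e he h1 hc M = ∑ i, ∑ j, ι (M i j) * e i j := rfl

end MatrixUnits

section Two

variable {L E : Type*} [CommRing L] [Ring E]

/-- the `2 × 2` matrix units attached to `N₁, N₂`. -/
def units₂ (N₁ N₂ : E) : Fin 2 → Fin 2 → E :=
  fun i j => if i = 0 then (if j = 0 then N₁ * N₂ else N₁) else (if j = 0 then N₂ else N₂ * N₁)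

theorem units₂_mul (N₁ N₂ : E) (h11 : N₁ * N₁ = 0) (h22 : N₂ * N₂ = 0)
    (h12 : N₁ * N₂ + N₂ * N₁ = 1) (i j k l : Fin 2) :
    units₂ N₁ N₂ i j * units₂ N₁ N₂ k l = if j = k then units₂ N₁ N₂ i l else 0 := by
  have hA : N₁ * N₂ * N₁ = N₁ := by
    have : N₁ * N₂ * N₁ = N₁ * (N₁ * N₂ + N₂ * N₁) - N₁ * N₁ * N₂ := by noncomm_ring
    rw [this, h12, h11]; simp
  have hB : N₂ * N₁ * N₂ = N₂ := by
    have : N₂ * N₁ * N₂ = N₂ * (N₁ * N₂ + N₂ * N₁) - N₂ * N₂ * N₁ := by noncomm_ring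
    rw [this, h12, h22]; simp
  have hA' : ∀ X : E, N₁ * (N₂ * (N₁ * X)) = N₁ * X := fun X => by
    rw [← mul_assoc, ← mul_assoc, hA]
  have hB' : ∀ X : E, N₂ * (N₁ * (N₂ * X)) = N₂ * X := fun X => by
    rw [← mul_assoc, ← mul_assoc, hB]
  have h11' : ∀ X : E, N₁ * (N₁ * X) = 0 := fun X => by rw [← mul_assoc, h11, zero_mul]
  have h22' : ∀ X : E, N₂ * (N₂ * X) = 0 := fun X => by rw [← mul_assoc, h22, zero_mul]
  have hA'' : N₁ * (N₂ * N₁) = N₁ := by rw [← mul_assoc, hA]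
  have hB'' : N₂ * (N₁ * N₂) = N₂ := by rw [← mul_assoc, hB]
  fin_cases i <;> fin_cases j <;> fin_cases k <;> fin_cases l <;>
    simp [units₂, mul_assoc, hA', hB', h11', h22', hA'', hB'', h11, h22]

theorem units₂_sum (N₁ N₂ : E) (h12 : N₁ * N₂ + N₂ * N₁ = 1) :
    ∑ i, units₂ N₁ N₂ i i = 1 := by
  rw [Fin.sum_univ_two]
  simpa [units₂] using h12

/-- ring hom `M₂(L) → E` from `N₁ N₂` with `N₁² = 0 = N₂²`, `N₁ N₂ + N₂ N₁ = 1` and commuting scalars. -/
noncomputable def matrixUnitsHom₂ (ι : L →+* E) (N₁ N₂ : E) (h11 : N₁ * N₁ = 0) (h22 : N₂ * N₂ = 0)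
    (h12 : N₁ * N₂ + N₂ * N₁ = 1) (hc1 : ∀ a, ι a * N₁ = N₁ * ι a) (hc2 : ∀ a, ι a * N₂ = N₂ * ι a) :
    Matrix (Fin 2) (Fin 2) L →+* E :=
  matrixUnitsHom ι (units₂ N₁ N₂) (units₂_mul N₁ N₂ h11 h22 h12) (units₂_sum N₁ N₂ h12) (by
    intro a i j
    have h3 : ι a * (N₁ * N₂) = N₁ * N₂ * ι a := by
      rw [← mul_assoc, hc1, mul_assoc, hc2, mul_assoc]
    have h4 : ι a * (N₂ * N₁) = N₂ * N₁ * ι a := by
      rw [← mul_assoc, hc2, mul_assoc, hc1, mul_assoc]
    fin_cases i <;> fin_cases j <;> simp [units₂, h3, h4, hc1, hc2])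

theorem matrixUnitsHom₂_apply (ι : L →+* E) (N₁ N₂ : E) (h11 : N₁ * N₁ = 0) (h22 : N₂ * N₂ = 0)
    (h12 : N₁ * N₂ + N₂ * N₁ = 1) (hc1 : ∀ a, ι a * N₁ = N₁ * ι a) (hc2 : ∀ a, ι a * N₂ = N₂ * ι a)
    (M : Matrix (Fin 2) (Fin 2) L) :
    matrixUnitsHom₂ ι N₁ N₂ h11 h22 h12 hc1 hc2 M =
      ι (M 0 0) * (N₁ * N₂) + ι (M 0 1) * N₁ + (ι (M 1 0) * N₂ + ι (M 1 1) * (N₂ * N₁)) := by
  unfold matrixUnitsHom₂
  rw [matrixUnitsHom_apply, Fin.sum_univ_two, Fin.sum_univ_two, Fin.sum_univ_two]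
  simp [units₂]

end Two

end Cfsg.Agent.Lib.H16
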