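import Mathlib

/-! Power identities in groups of class two (helper16). Everything is phrased elementwise: the
"commutator" `c` of `y` and `x` is given by `y * x = x * y * c`, and `c` is assumed to commute with
`x` and `y`. -/

set_option autoImplicit false

namespace Cfsg.Agent.Lib.H16

variable {G : Type*} [Group G]

/-- If `y * x = x * y * c` with `c` commuting with `y`, then `y ^ n * x = x * y ^ n * c ^ n`. -/
theorem pow_mul_comm_of_central {x y c : G} (h : y * x = x * y * c) (hcy : Commute c y) (n : ℕ) :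
    y ^ n * x = x * y ^ n * c ^ n := by
  induction n with
  | zero => simp
  | succ k ih =>
    have hcyk : Commute c (y ^ k) := hcy.pow_right k
    calc y ^ (k + 1) * x = y * (y ^ k * x) := by rw [pow_succ', mul_assoc]
      _ = y * (x * y ^ k * c ^ k) := by rw [ih]
      _ = (y * x) * y ^ k * c ^ k := by group
      _ = x * y * c * y ^ k * c ^ k := by rw [h]
      _ = x * y * (c * y ^ k) * c ^ k := by group
      _ = x * y * (y ^ k * c) * c ^ k := by rw [hcyk.eq]
      _ = x * (y * y ^ k) * (c * c ^ k) := by group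
      _ = x * y ^ (k + 1) * c ^ (k + 1) := by rw [← pow_succ', ← pow_succ']

/-- The class-two power formula: if `y * x = x * y * c` with `c` commuting with `x` and `y`, then
`(x * y) ^ n = x ^ n * y ^ n * c ^ (n * (n - 1) / 2)`. -/
theorem mul_pow_of_central {x y c : G} (h : y * x = x * y * c) (hcx : Commute c x)
    (hcy : Commute c y) (n : ℕ) :
    (x * y) ^ n = x ^ n * y ^ n * c ^ (n * (n - 1) / 2) := by
  induction n with
  | zero => simp
  | succ k ih =>
    have h1 := pow_mul_comm_of_central h hcy k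
    have hT : (k + 1) * (k + 1 - 1) / 2 = k * (k - 1) / 2 + k := by
      have h2 : (k + 1) * (k + 1 - 1) = k * (k - 1) + 2 * k := by
        cases k with
        | zero => simp
        | succ j => simp; ring
      rw [h2, Nat.add_mul_div_left _ _ (by norm_num : 0 < 2)]
    have hcyk : Commute (c ^ (k * (k - 1) / 2)) (y) := hcy.pow_left _
    have hcxk : Commute (c ^ (k * (k - 1) / 2)) (x) := hcx.pow_left _
    have hckk : Commute (c ^ k) y := hcy.pow_left _
    calc (x * y) ^ (k + 1) = (x * y) ^ k * (x * y) := pow_succ _ _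
      _ = x ^ k * y ^ k * c ^ (k * (k - 1) / 2) * (x * y) := by rw [ih]
      _ = x ^ k * y ^ k * (c ^ (k * (k - 1) / 2) * x) * y := by group
      _ = x ^ k * y ^ k * (x * c ^ (k * (k - 1) / 2)) * y := by rw [hcxk.eq]
      _ = x ^ k * (y ^ k * x) * (c ^ (k * (k - 1) / 2) * y) := by group
      _ = x ^ k * (x * y ^ k * c ^ k) * (y * c ^ (k * (k - 1) / 2)) := by rw [h1, hcyk.eq]
      _ = x ^ k * x * y ^ k * (c ^ k * y) * c ^ (k * (k - 1) / 2) := by group
      _ = x ^ k * x * y ^ k * (y * c ^ k) * c ^ (k * (k - 1) / 2) := by rw [hckk.eq]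
      _ = (x ^ k * x) * (y ^ k * y) * (c ^ k * c ^ (k * (k - 1) / 2)) := by group
      _ = x ^ (k + 1) * y ^ (k + 1) * c ^ ((k + 1) * (k + 1 - 1) / 2) := by
          rw [← pow_succ, ← pow_succ, ← pow_add, hT, add_comm (k * (k - 1) / 2) k]

/-- If `y * x = x * y * c` with `c` commuting with `y`, and `y ^ n = 1`, then `c ^ n = 1`. -/
theorem pow_eq_one_of_central_right {x y c : G} (h : y * x = x * y * c) (hcy : Commute c y) {n : ℕ}
    (hy : y ^ n = 1) : c ^ n = 1 := by
  have h1 := pow_mul_comm_of_central h hcy n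
  rw [hy, one_mul, mul_one] at h1
  have h2 : x⁻¹ * x = x⁻¹ * (x * c ^ n) := by rw [← h1]
  rw [inv_mul_cancel, inv_mul_cancel_left] at h2
  exact h2.symm

/-- If `y * x = x * y * c` with `c` commuting with `y`, and `y ^ n` commutes with `x`, then
`c ^ n = 1`. -/
theorem pow_eq_one_of_pow_commute {x y c : G} (h : y * x = x * y * c) (hcy : Commute c y) {n : ℕ}
    (hy : Commute (y ^ n) x) : c ^ n = 1 := by
  have h1 := pow_mul_comm_of_central h hcy n
  rw [hy.eq] at h1
  have h2 : (x * y ^ n)⁻¹ * (x * y ^ n) = (x * y ^ n)⁻¹ * (x * y ^ n * c ^ n) := by rw [← h1]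
  rw [inv_mul_cancel, inv_mul_cancel_left] at h2
  exact h2.symm

/-- If `y * x = x * y * c` with `c` commuting with `x` and `y`, and `x ^ n = 1`, then `c ^ n = 1`. -/
theorem pow_eq_one_of_central_left {x y c : G} (h : y * x = x * y * c) (hcx : Commute c x)
    {n : ℕ} (hx : x ^ n = 1) : c ^ n = 1 := by
  -- `x * y = y * x * c⁻¹`
  have h' : x * y = y * x * c⁻¹ := by rw [h]; group
  have h1 := pow_eq_one_of_central_right h' (hcx.inv_left) hx
  rwa [inv_pow, inv_eq_one] at h1

/-- In class two, for odd `n`, if `x ^ n = 1` and `y ^ n = 1` then `(x * y) ^ n = 1`. -/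
theorem mul_pow_eq_one_of_central {x y c : G} (h : y * x = x * y * c) (hcx : Commute c x)
    (hcy : Commute c y) {n : ℕ} (hn : Odd n) (hx : x ^ n = 1) (hy : y ^ n = 1) :
    (x * y) ^ n = 1 := by
  rw [mul_pow_of_central h hcx hcy n, hx, hy, one_mul, one_mul]
  have hc := pow_eq_one_of_central_right h hcy hy
  obtain ⟨k, hk⟩ := hn
  have : n * (n - 1) / 2 = n * k := by
    rw [hk]
    have : (2 * k + 1) * (2 * k + 1 - 1) = 2 * ((2 * k + 1) * k) := by
      simp; ring
    rw [this, Nat.mul_div_cancel_left _ (by norm_num : 0 < 2)]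
  rw [this, pow_mul, hc, one_pow]

/-- In class two, for odd `n`, if every "commutator" has `n`-th power one, then
`(x * y) ^ n = x ^ n * y ^ n`. -/
theorem mul_pow_eq_of_central {x y c : G} (h : y * x = x * y * c) (hcx : Commute c x)
    (hcy : Commute c y) {n : ℕ} (hn : Odd n) (hc : c ^ n = 1) :
    (x * y) ^ n = x ^ n * y ^ n := by
  rw [mul_pow_of_central h hcx hcy n]
  obtain ⟨k, hk⟩ := hn
  have : n * (n - 1) / 2 = n * k := by
    rw [hk]
    have : (2 * k + 1) * (2 * k + 1 - 1) = 2 * ((2 * k + 1) * k) := by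
      simp; ring
    rw [this, Nat.mul_div_cancel_left _ (by norm_num : 0 < 2)]
  rw [this, pow_mul, hc, one_pow, mul_one]

end Cfsg.Agent.Lib.H16
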