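import Mathlib
import Cfsg.Agent.Lib.H16.SylowBasic

set_option autoImplicit false

namespace Cfsg.Agent.Lib.H16

variable {G : Type*} [Group G]

/-- The conjugate `g E g⁻¹` of a subgroup (same shape as in `Cfsg.IsWeaklyClosed`). -/
abbrev cj (g : G) (E : Subgroup G) : Subgroup G := E.map (MulAut.conj g).toMonoidHom

theorem mem_cj_iff (g : G) (E : Subgroup G) (x : G) : x ∈ cj g E ↔ g⁻¹ * x * g ∈ E :=
  mem_map_conj_iff E g x

theorem conj_mem_cj (g : G) (E : Subgroup G) (a : G) (ha : a ∈ E) : g * a * g⁻¹ ∈ cj g E :=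
  conj_mem_map_conj E g a ha

theorem cj_mul (g h : G) (E : Subgroup G) : cj (g * h) E = cj g (cj h E) := by
  ext x
  rw [mem_cj_iff, mem_cj_iff, mem_cj_iff]
  have : (g * h)⁻¹ * x * (g * h) = h⁻¹ * (g⁻¹ * x * g) * h := by group
  rw [this]

theorem cj_one (E : Subgroup G) : cj (1 : G) E = E := by
  ext x
  rw [mem_cj_iff]
  simp

theorem cj_inv_cj (g : G) (E : Subgroup G) : cj g⁻¹ (cj g E) = E := by
  rw [← cj_mul, inv_mul_cancel, cj_one]

theorem cj_cj_inv (g : G) (E : Subgroup G) : cj g (cj g⁻¹ E) = E := by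
  rw [← cj_mul, mul_inv_cancel, cj_one]

theorem cj_mono (g : G) {E F : Subgroup G} (h : E ≤ F) : cj g E ≤ cj g F := Subgroup.map_mono h

theorem cj_injective (g : G) {E F : Subgroup G} (h : cj g E = cj g F) : E = F := by
  have := congrArg (cj g⁻¹) h
  rwa [cj_inv_cj, cj_inv_cj] at this

theorem card_cj (g : G) (E : Subgroup G) : Nat.card (cj g E) = Nat.card E :=
  Subgroup.card_map_of_injective (MulAut.conj g).injective

theorem cj_eq_of_le [Finite G] (g : G) (E : Subgroup G) (h : cj g E ≤ E) : cj g E = E :=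
  Subgroup.eq_of_le_of_card_ge h (card_cj g E).ge

theorem cj_eq_of_le_of_card [Finite G] (g : G) (E F : Subgroup G) (h : cj g E ≤ F)
    (hc : Nat.card F ≤ Nat.card E) : cj g E = F :=
  Subgroup.eq_of_le_of_card_ge h (by rw [card_cj]; exact hc)

theorem cj_le_iff (g : G) (E F : Subgroup G) : cj g E ≤ F ↔ ∀ x ∈ E, g * x * g⁻¹ ∈ F := by
  constructor
  · intro h x hx
    exact h (conj_mem_cj g E x hx)
  · intro h y hy
    rw [mem_cj_iff] at hy
    have := h _ hy
    have e : g * (g⁻¹ * y * g) * g⁻¹ = y := by group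
    rwa [e] at this

theorem mem_normalizer_iff_cj_eq (g : G) (E : Subgroup G) :
    g ∈ Subgroup.normalizer (E : Set G) ↔ cj g E = E :=
  ⟨map_conj_eq_of_mem_normalizer E g, mem_normalizer_of_map_conj_eq E g⟩

/-- In a finite group, an element conjugating `E` into `E` normalizes `E`. -/
theorem mem_normalizer_of_conj_mem [Finite G] (g : G) (E : Subgroup G)
    (h : ∀ x ∈ E, g * x * g⁻¹ ∈ E) : g ∈ Subgroup.normalizer (E : Set G) := by
  rw [mem_normalizer_iff_cj_eq]
  exact cj_eq_of_le g E ((cj_le_iff g E E).mpr h)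

/-- Relative Sylow theorem: inside a subgroup `N` containing a Sylow `p`-subgroup `S` of `G`, any
`p`-subgroup `Q ≤ N` can be conjugated into `S` by an element of `N`. -/
theorem exists_mem_conj_mem_sylow_of_le [Finite G] {p : ℕ} [Fact p.Prime]
    (N : Subgroup G) (S : Sylow p G) (hS : (S : Subgroup G) ≤ N) (Q : Subgroup G)
    (hQ : IsPGroup p Q) (hQN : Q ≤ N) :
    ∃ n ∈ N, ∀ q ∈ Q, n * q * n⁻¹ ∈ (S : Subgroup G) := by
  have hQ' : IsPGroup p (Q.subgroupOf N) := hQ.comap_subtype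
  obtain ⟨g, hg⟩ := exists_conj_mem_sylow (Q.subgroupOf N) hQ' (S.subtype hS)
  refine ⟨g.1, g.2, fun q hq => ?_⟩
  have h1 := hg ⟨q, hQN hq⟩ (Subgroup.mem_subgroupOf.mpr hq)
  rw [Sylow.coe_subtype, Subgroup.mem_subgroupOf] at h1
  simpa using h1

end Cfsg.Agent.Lib.H16

namespace Cfsg.Agent.Lib.H16

/-- The conjugate Sylow subgroup `g • P` is `cj g P`. -/
theorem coe_sylow_smul_eq_cj {G : Type*} [Group G] {p : ℕ} (g : G) (P : Sylow p G) :
    ((g • P : Sylow p G) : Subgroup G) = cj g (P : Subgroup G) := by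
  ext x
  rw [mem_cj_iff, Sylow.coe_subgroup_smul, Subgroup.mem_pointwise_smul_iff_inv_smul_mem]
  simp [MulAut.smul_def]

end Cfsg.Agent.Lib.H16
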