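import Mathlib

set_option autoImplicit false

namespace Cfsg.Agent.Lib.H16

/-- Normalizers grow in finite `p`-groups: if `T < P` with `P` a `p`-subgroup, some element of `P`
outside `T` normalizes `T`. -/
theorem exists_mem_normalizer_not_mem {G : Type*} [Group G] [Finite G] {p : ℕ} [Fact p.Prime]
    (P T : Subgroup G) (hP : IsPGroup p P) (hTP : T < P) :
    ∃ n ∈ P, n ∉ T ∧ n ∈ Subgroup.normalizer (T : Set G) := by
  haveI : Group.IsNilpotent P := hP.isNilpotent
  have nc := Group.normalizerCondition_of_isNilpotent (G := P)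
  have hlt : T.subgroupOf P < ⊤ := by
    rw [lt_top_iff_ne_top, Ne, Subgroup.subgroupOf_eq_top]
    exact not_le_of_gt hTP
  obtain ⟨n, hn1, hn2⟩ := SetLike.exists_of_lt (nc _ hlt)
  refine ⟨n.1, n.2, ?_, ?_⟩
  · intro h
    apply hn2
    rw [Subgroup.mem_subgroupOf]
    exact h
  · rw [Subgroup.mem_set_normalizer_iff] at hn1 ⊢
    intro x
    constructor
    · intro hx
      have := (hn1 ⟨x, hTP.le hx⟩).mp (by rw [SetLike.mem_coe, Subgroup.mem_subgroupOf]; exact hx)
      rw [SetLike.mem_coe, Subgroup.mem_subgroupOf] at this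
      simpa using this
    · intro hx
      have hxP : x ∈ P := by
        have h1 : n.1 * x * n.1⁻¹ ∈ P := hTP.le hx
        have h2 : x = n.1⁻¹ * (n.1 * x * n.1⁻¹) * n.1 := by group
        rw [h2]
        exact P.mul_mem (P.mul_mem (P.inv_mem n.2) h1) n.2
      have := (hn1 ⟨x, hxP⟩).mpr (by
        rw [SetLike.mem_coe, Subgroup.mem_subgroupOf]; simpa using hx)
      rw [SetLike.mem_coe, Subgroup.mem_subgroupOf] at this
      exact this

/-- In a group where `j` has order two, a power of `j` is `1` or `j`. -/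
theorem mem_zpowers_of_orderOf_two {G : Type*} [Group G] (j x : G) (hj : orderOf j = 2)
    (hx : x ∈ Subgroup.zpowers j) : x = 1 ∨ x = j := by
  obtain ⟨k, rfl⟩ := Subgroup.mem_zpowers_iff.mp hx
  have h := zpow_mod_orderOf j k
  rw [hj] at h
  have : k % (2 : ℕ) = 0 ∨ k % (2 : ℕ) = 1 := by omega
  rcases this with h0 | h1
  · left; rw [← h, h0, zpow_zero]
  · right; rw [← h, h1, zpow_one]

end Cfsg.Agent.Lib.H16
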