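import Mathlib

set_option autoImplicit false

namespace Cfsg.Agent.Lib.H16

open scoped Pointwise

/-- Membership in a conjugate Sylow subgroup. -/
theorem mem_sylow_smul_iff {G : Type*} [Group G] {p : ℕ} (g y : G) (P : Sylow p G) :
    y ∈ ((g • P : Sylow p G) : Subgroup G) ↔ g⁻¹ * y * g ∈ (P : Subgroup G) := by
  rw [Sylow.coe_subgroup_smul, Subgroup.mem_pointwise_smul_iff_inv_smul_mem]
  simp [MulAut.smul_def]

/-- An element of `p`-power order lies in every normal subgroup of index prime to `p`. -/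
theorem mem_of_normal_of_coprime_index {G : Type*} [Group G] (K : Subgroup G) [K.Normal] (g : G)
    (p k : ℕ) (hg : g ^ (p ^ k) = 1) (hcop : Nat.Coprime p K.index) : g ∈ K := by
  have h1 : g ^ K.index ∈ K := K.pow_index_mem g
  have hc : Nat.Coprime (p ^ k) K.index := hcop.pow_left k
  have hb := Nat.gcd_eq_gcd_ab (p ^ k) K.index
  rw [hc] at hb
  have : g = (g ^ (p ^ k)) ^ (Nat.gcdA (p ^ k) K.index) * (g ^ K.index) ^ (Nat.gcdB (p ^ k) K.index) := by
    rw [← zpow_natCast g (p ^ k), ← zpow_natCast g K.index, ← zpow_mul, ← zpow_mul, ← zpow_add, ← hb]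
    simp
  rw [this, hg, one_zpow, one_mul]
  exact K.zpow_mem h1 _

/-- If a Sylow `p`-subgroup of `G` centralizes `D`, every `p`-element normalizing `D`
centralizes `D`. -/
theorem mem_centralizer_of_mem_normalizer_of_sylow_le {G : Type*} [Group G] [Finite G] {p : ℕ}
    [Fact p.Prime] (D : Subgroup G) (U : Sylow p G)
    (hU : (U : Subgroup G) ≤ Subgroup.centralizer (D : Set G)) (n : G)
    (hn : n ∈ Subgroup.normalizer (D : Set G)) (k : ℕ) (hnk : n ^ (p ^ k) = 1) :
    n ∈ Subgroup.centralizer (D : Set G) := by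
  set N := Subgroup.normalizer (D : Set G) with hN
  set C := Subgroup.centralizer (D : Set G) with hC
  have hCN : C ≤ N := Subgroup.centralizer_le_normalizer _
  haveI hnorm : (C.subgroupOf N).Normal := by
    rw [hC, hN, ← Subgroup.normalizerMonoidHom_ker]
    infer_instance
  have hidx : Nat.Coprime p (C.subgroupOf N).index := by
    have h1 : ¬ p ∣ (U : Subgroup G).index := U.not_dvd_index
    have h2 : C.index ∣ (U : Subgroup G).index := Subgroup.index_dvd_of_le hU
    have h3 : C.relIndex N ∣ C.index := Subgroup.relIndex_dvd_index_of_le hCN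
    have h4 : ¬ p ∣ C.relIndex N := fun h => h1 (h.trans (h3.trans h2))
    exact (Nat.Prime.coprime_iff_not_dvd (Fact.out)).mpr h4
  have hmem : (⟨n, hn⟩ : N) ∈ C.subgroupOf N := by
    apply mem_of_normal_of_coprime_index (C.subgroupOf N) ⟨n, hn⟩ p k _ hidx
    apply Subtype.ext
    simpa using hnk
  exact Subgroup.mem_subgroupOf.mp hmem

end Cfsg.Agent.Lib.H16
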