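import Mathlib
import Cfsg.Agent.Lib.H16.ConjSub
import Cfsg.Agent.Lib.H16.SylowMore
import Cfsg.Agent.Lib.H16.PGroupBasic

/-! The Baer–Suzuki theorem (helper16): a conjugation-invariant set `K` in a finite group any two
elements of which generate a `p`-group generates a `p`-group.  The proof has no induction: choose
Sylow subgroups `P, Q` with `K ∩ P ≠ K ∩ Q` and `|K ∩ P ∩ Q|` maximal. -/

set_option autoImplicit false

namespace Cfsg.Agent.Lib.H16

variable {G : Type*} [Group G] [Finite G] {p : ℕ} [Fact p.Prime]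

/-- Key step: if `T ⊆ P` is invariant under conjugation by the `p`-group `P`, `E ≤ P` is generated
by `T ∩ E` and `T ⊄ E`, then some element of `T` outside `E` normalizes `E`. -/
theorem exists_mem_normalizer_of_generated (P : Subgroup G) (hP : IsPGroup p P) (T : Set G)
    (hTP : T ⊆ P) (hTconj : ∀ g ∈ P, ∀ t ∈ T, g * t * g⁻¹ ∈ T)
    (E : Subgroup G) (hEP : E ≤ P) (hE : E ≤ Subgroup.closure (T ∩ (E : Set G)))
    (hTE : ¬ T ⊆ E) :
    ∃ t ∈ T, t ∉ E ∧ t ∈ Subgroup.normalizer (E : Set G) := by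
  obtain ⟨F, hEF, hF⟩ := Finite.exists_le_maximal
    (p := fun F : Subgroup G => F ≤ P ∧ E ≤ F ∧ T ∩ (F : Set G) ⊆ E) (a := E)
    ⟨hEP, le_rfl, Set.inter_subset_right⟩
  obtain ⟨hFP, -, hTF⟩ := hF.prop
  have hFne : F ≠ P := by
    rintro rfl
    apply hTE
    intro t ht
    exact hTF ⟨ht, hTP ht⟩
  have hlt : F < P := lt_of_le_of_ne hFP hFne
  obtain ⟨n, hnP, hnF, hnN⟩ := exists_mem_normalizer_not_mem P F hP hlt
  set F' : Subgroup G := P ⊓ Subgroup.normalizer (F : Set G) with hF'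
  have hFF' : F ≤ F' := le_inf hFP Subgroup.le_normalizer
  have hnot : ¬ (F' ≤ P ∧ E ≤ F' ∧ T ∩ (F' : Set G) ⊆ E) := by
    intro h
    have := hF.le_of_ge h hFF'
    exact hnF (this (Subgroup.mem_inf.mpr ⟨hnP, hnN⟩))
  have hnot' : ¬ (T ∩ (F' : Set G) ⊆ E) := fun h => hnot ⟨inf_le_left, hEF.trans hFF', h⟩
  rw [Set.not_subset] at hnot'
  obtain ⟨t, ⟨htT, htF'⟩, htE⟩ := hnot'
  obtain ⟨htP, htN⟩ := Subgroup.mem_inf.mp htF'
  refine ⟨t, htT, htE, ?_⟩
  apply mem_normalizer_of_conj_mem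
  have key : ∀ x ∈ Subgroup.closure (T ∩ (E : Set G)), t * x * t⁻¹ ∈ E := by
    intro x hx
    induction hx using Subgroup.closure_induction with
    | mem s hs =>
      apply hTF
      refine ⟨hTconj t htP s hs.1, ?_⟩
      exact (Subgroup.mem_normalizer_iff.mp htN s).mp (hEF hs.2)
    | one => simp
    | mul y z _ _ hy hz =>
      have : t * (y * z) * t⁻¹ = (t * y * t⁻¹) * (t * z * t⁻¹) := by group
      rw [this]
      exact E.mul_mem hy hz
    | inv y _ hy =>
      have : t * y⁻¹ * t⁻¹ = (t * y * t⁻¹)⁻¹ := by group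
      rw [this]
      exact E.inv_mem hy
  intro x hx
  exact key x (hE hx)

/-- For a conjugation-invariant set `K`, the sets `K ∩ P` (`P` Sylow) all have the same size. -/
theorem ncard_inter_sylow_eq (K : Set G) (hKconj : ∀ g : G, ∀ x ∈ K, g * x * g⁻¹ ∈ K)
    (P Q : Sylow p G) :
    (K ∩ ((P : Subgroup G) : Set G)).ncard = (K ∩ ((Q : Subgroup G) : Set G)).ncard := by
  obtain ⟨g, rfl⟩ := MulAction.exists_smul_eq G P Q
  have himg : K ∩ (((g • P : Sylow p G) : Subgroup G) : Set G)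
      = (fun x => g * x * g⁻¹) '' (K ∩ ((P : Subgroup G) : Set G)) := by
    ext y
    constructor
    · rintro ⟨hyK, hyP⟩
      rw [SetLike.mem_coe, mem_sylow_smul_iff] at hyP
      refine ⟨g⁻¹ * y * g, ⟨?_, hyP⟩, by group⟩
      have := hKconj g⁻¹ y hyK
      rwa [inv_inv] at this
    · rintro ⟨x, ⟨hxK, hxP⟩, rfl⟩
      refine ⟨hKconj g x hxK, ?_⟩
      rw [SetLike.mem_coe, mem_sylow_smul_iff]
      have : g⁻¹ * (g * x * g⁻¹) * g = x := by group
      rw [this]
      exact hxP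
  rw [himg]
  symm
  apply Set.ncard_image_of_injective
  intro a b hab
  have : g * a * g⁻¹ = g * b * g⁻¹ := hab
  exact mul_left_cancel (mul_right_cancel this)

/-- **Baer–Suzuki**, set version: a conjugation-invariant subset `K` of a finite group such that
any two of its elements generate a `p`-group generates a `p`-group. -/
theorem isPGroup_closure_of_pairwise (K : Set G) (hKconj : ∀ g : G, ∀ x ∈ K, g * x * g⁻¹ ∈ K)
    (hK : ∀ x ∈ K, ∀ y ∈ K, IsPGroup p (Subgroup.closure ({x, y} : Set G))) :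
    IsPGroup p (Subgroup.closure K) := by
  by_cases hall : ∀ P Q : Sylow p G,
      K ∩ ((P : Subgroup G) : Set G) = K ∩ ((Q : Subgroup G) : Set G)
  · obtain ⟨P⟩ : Nonempty (Sylow p G) := Sylow.nonempty
    have hKP : K ⊆ ((P : Subgroup G) : Set G) := by
      intro x hx
      obtain ⟨Q, hQ⟩ := (hK x hx x hx).exists_le_sylow
      have hxQ : x ∈ (Q : Subgroup G) := hQ (Subgroup.subset_closure (by simp))
      have : x ∈ K ∩ ((P : Subgroup G) : Set G) := by
        rw [hall P Q]; exact ⟨hx, hxQ⟩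
      exact this.2
    exact P.2.to_le ((Subgroup.closure_le _).mpr hKP)
  · exfalso
    push Not at hall
    obtain ⟨P₀, Q₀, h₀⟩ := hall
    obtain ⟨⟨P, Q⟩, hbad, hmax⟩ := Set.exists_max_image
      {pq : Sylow p G × Sylow p G |
        K ∩ ((pq.1 : Subgroup G) : Set G) ≠ K ∩ ((pq.2 : Subgroup G) : Set G)}
      (fun pq => (K ∩ ((pq.1 : Subgroup G) : Set G) ∩ ((pq.2 : Subgroup G) : Set G)).ncard)
      (Set.toFinite _) ⟨(P₀, Q₀), h₀⟩
    simp only [Set.mem_ofPred_eq] at hbad hmax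
    -- neither of `K ∩ P`, `K ∩ Q` contains the other
    have hPQ : ¬ (K ∩ ((P : Subgroup G) : Set G) ⊆ ((Q : Subgroup G) : Set G)) := by
      intro h
      apply hbad
      have hsub : K ∩ ((P : Subgroup G) : Set G) ⊆ K ∩ ((Q : Subgroup G) : Set G) :=
        fun z hz => ⟨hz.1, h hz⟩
      exact Set.eq_of_subset_of_ncard_le hsub
        (ncard_inter_sylow_eq K hKconj Q P).le (Set.toFinite _)
    have hQP : ¬ (K ∩ ((Q : Subgroup G) : Set G) ⊆ ((P : Subgroup G) : Set G)) := by
      intro h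
      apply hbad
      have hsub : K ∩ ((Q : Subgroup G) : Set G) ⊆ K ∩ ((P : Subgroup G) : Set G) :=
        fun z hz => ⟨hz.1, h hz⟩
      exact (Set.eq_of_subset_of_ncard_le hsub
        (ncard_inter_sylow_eq K hKconj P Q).le (Set.toFinite _)).symm
    set D : Subgroup G := (P : Subgroup G) ⊓ (Q : Subgroup G) with hD
    set E : Subgroup G := Subgroup.closure (K ∩ (D : Set G)) with hE
    have hED : E ≤ D := (Subgroup.closure_le _).mpr Set.inter_subset_right
    have hEP : E ≤ (P : Subgroup G) := hED.trans inf_le_left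
    have hEQ : E ≤ (Q : Subgroup G) := hED.trans inf_le_right
    have hKDE : K ∩ (D : Set G) ⊆ E := Subgroup.subset_closure
    -- the element `x`
    obtain ⟨x, hxT, hxE, hxN⟩ := exists_mem_normalizer_of_generated (P : Subgroup G) P.2
      (K ∩ ((P : Subgroup G) : Set G)) Set.inter_subset_right
      (fun g hg t ht => ⟨hKconj g t ht.1, (P : Subgroup G).mul_mem
        ((P : Subgroup G).mul_mem hg ht.2) ((P : Subgroup G).inv_mem hg)⟩)
      E hEP
      (Subgroup.closure_mono (fun z hz =>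
        ⟨⟨hz.1, (Subgroup.mem_inf.mp hz.2).1⟩, hKDE hz⟩))
      (fun h => hPQ (fun z hz => hEQ (h hz)))
    have hxQ : x ∉ (Q : Subgroup G) := fun h =>
      hxE (hKDE ⟨hxT.1, Subgroup.mem_inf.mpr ⟨hxT.2, h⟩⟩)
    -- the element `y`
    obtain ⟨y, hyT, hyE, hyN⟩ := exists_mem_normalizer_of_generated (Q : Subgroup G) Q.2
      (K ∩ ((Q : Subgroup G) : Set G)) Set.inter_subset_right
      (fun g hg t ht => ⟨hKconj g t ht.1, (Q : Subgroup G).mul_mem
        ((Q : Subgroup G).mul_mem hg ht.2) ((Q : Subgroup G).inv_mem hg)⟩)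
      E hEQ
      (Subgroup.closure_mono (fun z hz =>
        ⟨⟨hz.1, (Subgroup.mem_inf.mp hz.2).2⟩, hKDE hz⟩))
      (fun h => hQP (fun z hz => hEP (h hz)))
    have hyP : y ∉ (P : Subgroup G) := fun h =>
      hyE (hKDE ⟨hyT.1, Subgroup.mem_inf.mpr ⟨h, hyT.2⟩⟩)
    -- a Sylow subgroup containing `E`, `x`, `y`
    have hH : IsPGroup p (Subgroup.closure ({x, y} : Set G)) := hK x hxT.1 y hyT.1
    have hHN : Subgroup.closure ({x, y} : Set G) ≤ Subgroup.normalizer (E : Set G) := by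
      rw [Subgroup.closure_le]
      intro z hz
      rcases hz with rfl | rfl
      · exact hxN
      · exact hyN
    have hHE : IsPGroup p (Subgroup.closure ({x, y} : Set G) ⊔ E : Subgroup G) :=
      IsPGroup.to_sup_of_normal_right' hH (P.2.to_le hEP) hHN
    obtain ⟨P', hP'⟩ := hHE.exists_le_sylow
    have hxP' : x ∈ (P' : Subgroup G) :=
      hP' (Subgroup.mem_sup_left (Subgroup.subset_closure (by simp)))
    have hyP' : y ∈ (P' : Subgroup G) :=
      hP' (Subgroup.mem_sup_left (Subgroup.subset_closure (by simp)))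
    have hEP' : E ≤ (P' : Subgroup G) := le_sup_right.trans hP'
    -- compare with the maximal pair
    have h1 : K ∩ ((P : Subgroup G) : Set G) = K ∩ ((P' : Subgroup G) : Set G) := by
      by_contra hne
      have hle := hmax (P, P') hne
      have hlt : (K ∩ ((P : Subgroup G) : Set G) ∩ ((Q : Subgroup G) : Set G)).ncard
          < (K ∩ ((P : Subgroup G) : Set G) ∩ ((P' : Subgroup G) : Set G)).ncard := by
        apply Set.ncard_lt_ncard _ (Set.toFinite _)
        refine ⟨fun z hz => ⟨hz.1, hEP' (hKDE ⟨hz.1.1, Subgroup.mem_inf.mpr ⟨hz.1.2, hz.2⟩⟩)⟩, ?_⟩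
        intro hsub
        exact hxQ (hsub ⟨hxT, hxP'⟩).2
      exact absurd hle (not_le.mpr hlt)
    have h2 : K ∩ ((P' : Subgroup G) : Set G) = K ∩ ((Q : Subgroup G) : Set G) := by
      by_contra hne
      have hle := hmax (P', Q) hne
      have hlt : (K ∩ ((P : Subgroup G) : Set G) ∩ ((Q : Subgroup G) : Set G)).ncard
          < (K ∩ ((P' : Subgroup G) : Set G) ∩ ((Q : Subgroup G) : Set G)).ncard := by
        apply Set.ncard_lt_ncard _ (Set.toFinite _)
        refine ⟨fun z hz => ⟨⟨hz.1.1,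
          hEP' (hKDE ⟨hz.1.1, Subgroup.mem_inf.mpr ⟨hz.1.2, hz.2⟩⟩)⟩, hz.2⟩, ?_⟩
        intro hsub
        exact hyP (hsub ⟨⟨hyT.1, hyP'⟩, hyT.2⟩).1.2
      exact absurd hle (not_le.mpr hlt)
    exact hbad (h1.trans h2)

/-- The subgroup generated by a conjugation-invariant set is normal. -/
theorem closure_normal_of_conj_mem {G : Type*} [Group G] (K : Set G)
    (hKconj : ∀ g : G, ∀ x ∈ K, g * x * g⁻¹ ∈ K) : (Subgroup.closure K).Normal := by
  refine ⟨fun n hn g => ?_⟩
  induction hn using Subgroup.closure_induction with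
  | mem s hs => exact Subgroup.subset_closure (hKconj g s hs)
  | one => simp
  | mul y z _ _ hy hz =>
    have : g * (y * z) * g⁻¹ = (g * y * g⁻¹) * (g * z * g⁻¹) := by group
    rw [this]
    exact Subgroup.mul_mem _ hy hz
  | inv y _ hy =>
    have : g * y⁻¹ * g⁻¹ = (g * y * g⁻¹)⁻¹ := by group
    rw [this]
    exact Subgroup.inv_mem _ hy

/-- **Baer–Suzuki**, subgroup version: if `X` and each of its conjugates generate a `p`-group,
then `X` lies in a normal `p`-subgroup. -/
theorem baer_suzuki_subgroup (X : Subgroup G) (h : ∀ g : G, IsPGroup p ↥(X ⊔ cj g X)) :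
    ∃ N : Subgroup G, N.Normal ∧ IsPGroup p N ∧ X ≤ N := by
  set K : Set G := {x | ∃ g : G, x ∈ cj g X} with hKdef
  have hKconj : ∀ k : G, ∀ x ∈ K, k * x * k⁻¹ ∈ K := by
    rintro k x ⟨g, hx⟩
    refine ⟨k * g, ?_⟩
    rw [cj_mul]
    exact conj_mem_cj k _ x hx
  have hK : ∀ x ∈ K, ∀ y ∈ K, IsPGroup p (Subgroup.closure ({x, y} : Set G)) := by
    rintro x ⟨g, hx⟩ y ⟨g', hy⟩
    have h1 : IsPGroup p ((X ⊔ cj (g⁻¹ * g') X).map (MulAut.conj g).toMonoidHom) :=
      (h (g⁻¹ * g')).map _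
    rw [Subgroup.map_sup] at h1
    have h2 : cj g (cj (g⁻¹ * g') X) = cj g' X := by
      rw [← cj_mul, mul_inv_cancel_left]
    change IsPGroup p (cj g X ⊔ cj g (cj (g⁻¹ * g') X) : Subgroup G) at h1
    rw [h2] at h1
    apply h1.to_le
    rw [Subgroup.closure_le]
    intro z hz
    rcases hz with rfl | rfl
    · exact Subgroup.mem_sup_left hx
    · exact Subgroup.mem_sup_right hy
  refine ⟨Subgroup.closure K, closure_normal_of_conj_mem K hKconj,
    isPGroup_closure_of_pairwise K hKconj hK, ?_⟩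
  intro x hx
  apply Subgroup.subset_closure
  refine ⟨1, ?_⟩
  rw [cj_one]
  exact hx

end Cfsg.Agent.Lib.H16
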