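import Mathlib
import Cfsg.Agent.Lib.H16.MatrixUnits
import Cfsg.Agent.Lib.H8.SL2Odd

/-!
# Quadratic pairs generating a group of odd order

`H` a finite group of odd order generated by `x, y`, acting on a finite abelian group `M` of
exponent `p` (odd) through `ρ : H →* AddMonoid.End M`, with `(ρ x - 1)² = 0 = (ρ y - 1)²`.
Then `H` acts on `M` as a `p`-group: `qp_core`.
-/

set_option autoImplicit false

namespace Cfsg.Agent.Lib.H16

universe u v

section Basic

variable {E : Type*} [Ring E]

theorem one_add_pow_of_sq_zero (N : E) (hN : N * N = 0) (m : ℕ) : (1 + N) ^ m = 1 + m • N := by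
  induction m with
  | zero => simp
  | succ m ih =>
    rw [pow_succ, ih, mul_add, mul_one, add_mul, one_mul, smul_mul_assoc, hN, smul_zero, add_zero,
      succ_nsmul]
    abel

theorem pow_char_of_sq_zero {p : ℕ} (hpE : (p : E) = 0) (g : E) (hN : (g - 1) * (g - 1) = 0) :
    g ^ p = 1 := by
  have h := one_add_pow_of_sq_zero (g - 1) hN p
  rw [add_sub_cancel] at h
  rw [h, nsmul_eq_mul, hpE, zero_mul, add_zero]

end Basic

section Rep

variable {H : Type v} [Group H] {M : Type u} [AddCommGroup M]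

/-- invariant additive subgroup -/
def IsInv (ρ : H →* AddMonoid.End M) (W : AddSubgroup M) : Prop := ∀ h : H, ∀ w ∈ W, ρ h w ∈ W

/-- irreducible -/
def IsIrr (ρ : H →* AddMonoid.End M) : Prop := ∀ W : AddSubgroup M, IsInv ρ W → W = ⊥ ∨ W = ⊤

/-- representation on an invariant subgroup -/
def subRep (ρ : H →* AddMonoid.End M) (W : AddSubgroup M) (hW : IsInv ρ W) :
    H →* AddMonoid.End W where
  toFun h :=
    { toFun := fun w => ⟨ρ h w, hW h w w.2⟩
      map_zero' := Subtype.ext (map_zero (ρ h))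
      map_add' := fun a b => Subtype.ext (map_add (ρ h) (a : M) (b : M)) }
  map_one' := by
    ext w
    change ρ 1 (w : M) = w
    rw [map_one]; rfl
  map_mul' g h := by
    ext w
    change ρ (g * h) (w : M) = ρ g (ρ h (w : M))
    rw [map_mul]; rfl

theorem subRep_apply (ρ : H →* AddMonoid.End M) (W : AddSubgroup M) (hW : IsInv ρ W) (h : H)
    (w : W) : ((subRep ρ W hW h) w : M) = ρ h (w : M) := rfl

/-- an endomorphism as an additive hom -/
def endHom (f : AddMonoid.End M) : M →+ M := f

theorem endHom_apply (f : AddMonoid.End M) (m : M) : endHom f m = f m := rfl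

/-- induced endomorphism of a quotient -/
def quotEnd (f : AddMonoid.End M) (W : AddSubgroup M) (hf : ∀ w ∈ W, f w ∈ W) :
    AddMonoid.End (M ⧸ W) :=
  QuotientAddGroup.map W W (endHom f) hf

theorem quotEnd_mk (f : AddMonoid.End M) (W : AddSubgroup M) (hf : ∀ w ∈ W, f w ∈ W) (m : M) :
    quotEnd f W hf (m : M ⧸ W) = ((f m : M) : M ⧸ W) := rfl

/-- representation on the quotient by an invariant subgroup -/
def quotRep (ρ : H →* AddMonoid.End M) (W : AddSubgroup M) (hW : IsInv ρ W) :
    H →* AddMonoid.End (M ⧸ W) where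
  toFun h := quotEnd (ρ h) W (hW h)
  map_one' := by
    apply AddMonoid.End.ext
    intro q
    induction q using QuotientAddGroup.induction_on with
    | H m =>
      rw [quotEnd_mk]
      simp only [map_one]
      rfl
  map_mul' g h := by
    apply AddMonoid.End.ext
    intro q
    induction q using QuotientAddGroup.induction_on with
    | H m =>
      rw [quotEnd_mk]
      change _ = quotEnd (ρ g) W (hW g) (quotEnd (ρ h) W (hW h) (m : M ⧸ W))
      rw [quotEnd_mk, quotEnd_mk]
      simp only [map_mul]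
      rfl

theorem quotRep_mk (ρ : H →* AddMonoid.End M) (W : AddSubgroup M) (hW : IsInv ρ W) (h : H)
    (m : M) : (quotRep ρ W hW h) (m : M ⧸ W) = ((ρ h m : M) : M ⧸ W) := rfl

theorem natCast_end_eq_zero {p : ℕ} (hpM : ∀ m : M, p • m = 0) : (p : AddMonoid.End M) = 0 := by
  ext m
  rw [AddMonoid.End.natCast_apply, hpM]; rfl

theorem pow_eq_one_of_sub_quot {p : ℕ} (hpM : ∀ m : M, p • m = 0) (ρ : H →* AddMonoid.End M)
    (W : AddSubgroup M) (hW : IsInv ρ W) (h : H) (k : ℕ)
    (h1 : subRep ρ W hW h ^ (p ^ k) = 1) (h2 : quotRep ρ W hW h ^ (p ^ k) = 1) :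
    ρ h ^ (p ^ (k + 1)) = 1 := by
  rw [← map_pow] at h1 h2
  rw [pow_succ, pow_mul, ← map_pow]
  set g := h ^ (p ^ k) with hg
  apply pow_char_of_sq_zero (natCast_end_eq_zero hpM)
  ext m
  have hmW : ρ g m - m ∈ W := by
    have h3 := quotRep_mk ρ W hW g m
    rw [h2] at h3
    have h4 : ((ρ g m : M) : M ⧸ W) = (m : M ⧸ W) := h3.symm
    rw [QuotientAddGroup.eq] at h4
    have : ρ g m - m = -(-(ρ g m) + m) := by abel
    rw [this]
    exact W.neg_mem h4
  have h5 := subRep_apply ρ W hW g ⟨_, hmW⟩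
  rw [h1] at h5
  change ρ g (ρ g m - m) - (ρ g m - m) = 0
  rw [← h5]
  exact sub_self _

theorem subRep_quad (ρ : H →* AddMonoid.End M) (W : AddSubgroup M) (hW : IsInv ρ W) (x : H)
    (hx : (ρ x - 1) * (ρ x - 1) = 0) : (subRep ρ W hW x - 1) * (subRep ρ W hW x - 1) = 0 := by
  ext w
  have h1 := DFunLike.congr_fun hx (w : M)
  exact h1

theorem quotRep_quad (ρ : H →* AddMonoid.End M) (W : AddSubgroup M) (hW : IsInv ρ W) (x : H)
    (hx : (ρ x - 1) * (ρ x - 1) = 0) : (quotRep ρ W hW x - 1) * (quotRep ρ W hW x - 1) = 0 := by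
  apply AddMonoidHom.ext
  intro q
  induction q using QuotientAddGroup.induction_on with
  | H m =>
    have h1 := DFunLike.congr_fun hx m
    have h2 : ((ρ x - 1) * (ρ x - 1)) m = ρ x (ρ x m - m) - (ρ x m - m) := rfl
    rw [h2] at h1
    change quotRep ρ W hW x (quotRep ρ W hW x (m : M ⧸ W) - (m : M ⧸ W))
      - (quotRep ρ W hW x (m : M ⧸ W) - (m : M ⧸ W)) = 0
    rw [quotRep_mk, ← QuotientAddGroup.mk_sub, quotRep_mk, ← QuotientAddGroup.mk_sub, h1]
    rfl

end Rep

section FieldContra

open Matrix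

variable {H : Type v} [Group H] [Finite H] {E : Type*} [Ring E] [Nontrivial E]
  {L : Type*} [Field L] [Finite L]

/-- closure induction in a 2-generated group -/
theorem forall_mem_of_gens {x y : H} (hgen : Subgroup.closure {x, y} = ⊤) (S : Subgroup H)
    (hx : x ∈ S) (hy : y ∈ S) : ∀ h, h ∈ S := by
  intro h
  have h1 : Subgroup.closure {x, y} ≤ S := by
    rw [Subgroup.closure_le]
    intro z hz
    rcases hz with rfl | rfl
    · exact hx
    · exact hy
  exact h1 (hgen ▸ Subgroup.mem_top h)

/-- the field contradiction: a quadratic pair with invertible `AB + BA` in a field `L` commuting with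
`A, B` cannot generate a group of odd order. -/
theorem field_contra {p : ℕ} [Fact p.Prime] [CharP L p] (hp2 : p ≠ 2) (hodd : Odd (Nat.card H))
    {x y : H} (hgen : Subgroup.closure {x, y} = ⊤) (ι : L →+* E) (A B : E)
    (hAA : A * A = 0) (hBB : B * B = 0) (μ : L) (hμ : μ ≠ 0) (hμc : ι μ = A * B + B * A)
    (hιA : ∀ a, ι a * A = A * ι a) (hιB : ∀ a, ι a * B = B * ι a)
    (ρ : H →* E) (hρx : ρ x = 1 + A) (hρy : ρ y = 1 + B) : False := by
  classical
  have hp : p.Prime := Fact.out
  have h2 : (2 : L) ≠ 0 := by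
    intro h
    have h3 : ((2 : ℕ) : L) = 0 := by exact_mod_cast h
    rw [CharP.cast_eq_zero_iff L p 2] at h3
    exact hp2 ((Nat.prime_dvd_prime_iff_eq hp Nat.prime_two).1 h3)
  set c' : E := ι μ⁻¹ with hc'
  have hcc' : ι μ * c' = 1 := by rw [hc', ← map_mul, mul_inv_cancel₀ hμ, map_one]
  set N₂ : E := B * c' with hN₂
  have h22 : N₂ * N₂ = 0 := by
    rw [hN₂, mul_assoc, ← mul_assoc c', hιB, mul_assoc, ← mul_assoc B B, hBB, zero_mul]
  have h12 : A * N₂ + N₂ * A = 1 := by
    rw [hN₂, mul_assoc B c' A, hιA, ← mul_assoc, ← mul_assoc, ← add_mul, ← hμc, hcc']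
  have hc2 : ∀ a, ι a * N₂ = N₂ * ι a := by
    intro a
    rw [hN₂, ← mul_assoc, hιB, mul_assoc, mul_assoc, hc', ← map_mul, ← map_mul, mul_comm]
  set ψ := matrixUnitsHom₂ ι A N₂ hAA h22 h12 hιA hc2 with hψ
  have hψinj : Function.Injective ψ := RingHom.injective ψ
  -- the two matrices
  obtain ⟨u, hu⟩ : ∃ u : SpecialLinearGroup (Fin 2) L,
      (u : Matrix (Fin 2) (Fin 2) L) = !![1, 1; 0, 1] :=
    ⟨⟨!![1, 1; 0, 1], by simp [Matrix.det_fin_two]⟩, rfl⟩
  obtain ⟨l, hl⟩ : ∃ l : SpecialLinearGroup (Fin 2) L,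
      (l : Matrix (Fin 2) (Fin 2) L) = !![1, 0; μ, 1] :=
    ⟨⟨!![1, 0; μ, 1], by simp [Matrix.det_fin_two]⟩, rfl⟩
  have hψu : ψ (u : Matrix (Fin 2) (Fin 2) L) = 1 + A := by
    rw [hψ, matrixUnitsHom₂_apply, hu]
    simp only [Matrix.of_apply, Matrix.cons_val', Matrix.cons_val_zero, Matrix.cons_val_one,
      Matrix.empty_val', Matrix.cons_val_fin_one, map_one, map_zero, one_mul, zero_mul, zero_add]
    rw [← h12]; abel
  have hψl : ψ (l : Matrix (Fin 2) (Fin 2) L) = 1 + B := by
    rw [hψ, matrixUnitsHom₂_apply, hl]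
    simp only [Matrix.of_apply, Matrix.cons_val', Matrix.cons_val_zero, Matrix.cons_val_one,
      Matrix.empty_val', Matrix.cons_val_fin_one, map_one, map_zero, one_mul, zero_mul, add_zero]
    have h3 : ι μ * N₂ = B := by
      rw [hN₂, ← mul_assoc, hιB, mul_assoc, hcc', mul_one]
    rw [h3, ← h12]; abel
  let Ψ : SpecialLinearGroup (Fin 2) L →* Eˣ :=
    (Units.map (ψ : Matrix (Fin 2) (Fin 2) L →* E)).comp SpecialLinearGroup.toGL
  have hΨinj : Function.Injective Ψ := by
    intro g g' hgg
    apply SpecialLinearGroup.toGL_injective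
    apply Units.ext
    apply hψinj
    have := congrArg Units.val hgg
    exact this
  let ρ' : H →* Eˣ := ρ.toHomUnits
  have hΨu : Ψ u = ρ' x := Units.ext (by
    change ψ (u : Matrix (Fin 2) (Fin 2) L) = ρ x
    rw [hψu, hρx])
  have hΨl : Ψ l = ρ' y := Units.ext (by
    change ψ (l : Matrix (Fin 2) (Fin 2) L) = ρ y
    rw [hψl, hρy])
  set K : Subgroup (SpecialLinearGroup (Fin 2) L) := Subgroup.closure {u, l} with hK
  have hKmap : K.map Ψ = ρ'.range := by
    rw [hK, MonoidHom.map_closure, Set.image_pair, hΨu, hΨl, ← Set.image_pair, ← MonoidHom.map_closure,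
      hgen, MonoidHom.range_eq_map]
  have hKodd : Odd (Nat.card K) := by
    rw [← Subgroup.card_map_of_injective hΨinj, hKmap]
    exact Odd.of_dvd_nat hodd (Subgroup.card_range_dvd ρ')
  have huK : u ∈ K := Subgroup.subset_closure (Set.mem_insert _ _)
  have hlK : l ∈ K := Subgroup.subset_closure (Set.mem_insert_of_mem _ rfl)
  have hup : u ^ p = 1 := by
    rw [Cfsg.Agent.Lib.H8.SL2Odd.pow_char_eq_one_iff_trace p h2, hu]
    simp [Matrix.trace_fin_two]
    norm_num
  have hlp : l ^ p = 1 := by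
    rw [Cfsg.Agent.Lib.H8.SL2Odd.pow_char_eq_one_iff_trace p h2, hl]
    simp [Matrix.trace_fin_two]
    norm_num
  have hcomm := Cfsg.Agent.Lib.H8.SL2Odd.commute_of_pow_char p h2 K hKodd huK hlK hup hlp
  have h5 : (u : Matrix (Fin 2) (Fin 2) L) * (l : Matrix (Fin 2) (Fin 2) L) =
      (l : Matrix (Fin 2) (Fin 2) L) * (u : Matrix (Fin 2) (Fin 2) L) := by
    exact (Matrix.SpecialLinearGroup.coe_mul u l).symm.trans
      ((congrArg (fun g : SpecialLinearGroup (Fin 2) L => (g : Matrix (Fin 2) (Fin 2) L))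
        hcomm.eq).trans (Matrix.SpecialLinearGroup.coe_mul l u))
  rw [hu, hl] at h5
  have h6 := congrFun (congrFun h5 0) 0
  simp [Matrix.mul_apply, Fin.sum_univ_two] at h6
  exact hμ h6

end FieldContra

section Irr

variable {H : Type v} [Group H] {M : Type u} [AddCommGroup M]

/-- subgroup of the elements whose action commutes with `z` -/
def commSub (ρ : H →* AddMonoid.End M) (z : AddMonoid.End M) : Subgroup H where
  carrier := {h | z * ρ h = ρ h * z}
  one_mem' := by simp
  mul_mem' := by
    intro a b ha hb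
    simp only [Set.mem_setOf_eq] at *
    rw [map_mul, ← mul_assoc, ha, mul_assoc, hb, mul_assoc]
  inv_mem' := by
    intro a ha
    simp only [Set.mem_setOf_eq] at *
    have h1 : ρ a⁻¹ * ρ a = 1 := by rw [← map_mul, inv_mul_cancel, map_one]
    have h2 : ρ a * ρ a⁻¹ = 1 := by rw [← map_mul, mul_inv_cancel, map_one]
    calc z * ρ a⁻¹ = ρ a⁻¹ * ρ a * (z * ρ a⁻¹) := by rw [h1, one_mul]
      _ = ρ a⁻¹ * (ρ a * z) * ρ a⁻¹ := by simp only [mul_assoc]
      _ = ρ a⁻¹ * (z * ρ a) * ρ a⁻¹ := by rw [ha]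
      _ = ρ a⁻¹ * z * (ρ a * ρ a⁻¹) := by simp only [mul_assoc]
      _ = ρ a⁻¹ * z := by rw [h2, mul_one]

theorem mem_commSub (ρ : H →* AddMonoid.End M) (z : AddMonoid.End M) (h : H) :
    h ∈ commSub ρ z ↔ z * ρ h = ρ h * z := Iff.rfl

/-- stabilizer of a vector -/
def stabSub (ρ : H →* AddMonoid.End M) (m : M) : Subgroup H where
  carrier := {h | ρ h m = m}
  one_mem' := by
    change ρ 1 m = m
    rw [map_one]; rfl
  mul_mem' := by
    intro a b ha hb
    change ρ (a * b) m = m
    rw [map_mul]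
    change ρ a (ρ b m) = m
    rw [hb, ha]
  inv_mem' := by
    intro a ha
    change ρ a⁻¹ m = m
    have h1 : (ρ a⁻¹ * ρ a) m = m := by
      rw [← map_mul, inv_mul_cancel, map_one]; rfl
    change ρ a⁻¹ (ρ a m) = m at h1
    rw [ha] at h1
    exact h1

theorem mem_stabSub (ρ : H →* AddMonoid.End M) (m : M) (h : H) :
    h ∈ stabSub ρ m ↔ ρ h m = m := Iff.rfl

/-- Schur's lemma -/
theorem schur (ρ : H →* AddMonoid.End M) (hirr : IsIrr ρ) (z : AddMonoid.End M)
    (hz : ∀ h, z * ρ h = ρ h * z) : z = 0 ∨ Function.Injective z := by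
  have hinv : IsInv ρ (AddMonoidHom.ker (endHom z)) := by
    intro h w hw
    rw [AddMonoidHom.mem_ker, endHom_apply] at hw ⊢
    have h1 := DFunLike.congr_fun (hz h) w
    change z (ρ h w) = ρ h (z w) at h1
    rw [h1, hw, map_zero]
  rcases hirr _ hinv with h | h
  · right
    exact (AddMonoidHom.ker_eq_bot_iff (endHom z)).1 h
  · left
    ext m
    have h1 : m ∈ AddMonoidHom.ker (endHom z) := h ▸ AddSubgroup.mem_top m
    exact h1

theorem irr_trivial [Finite M] [Finite H] {p : ℕ} [Fact p.Prime] (hp2 : p ≠ 2)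
    (hodd : Odd (Nat.card H)) {x y : H} (hgen : Subgroup.closure {x, y} = ⊤)
    (hpM : ∀ m : M, p • m = 0) (ρ : H →* AddMonoid.End M)
    (hx : (ρ x - 1) * (ρ x - 1) = 0) (hy : (ρ y - 1) * (ρ y - 1) = 0) (hirr : IsIrr ρ) :
    ∀ h, ρ h = 1 := by
  classical
  have hp : p.Prime := Fact.out
  rcases subsingleton_or_nontrivial M with hM | hM
  · intro h
    ext m
    exact Subsingleton.elim _ _
  obtain ⟨A, hA⟩ : ∃ A : AddMonoid.End M, A = ρ x - 1 := ⟨_, rfl⟩
  obtain ⟨B, hB⟩ : ∃ B : AddMonoid.End M, B = ρ y - 1 := ⟨_, rfl⟩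
  rw [← hA] at hx
  rw [← hB] at hy
  have hρx : ρ x = 1 + A := by rw [hA]; abel
  have hρy : ρ y = 1 + B := by rw [hB]; abel
  obtain ⟨c, hc⟩ : ∃ c : AddMonoid.End M, c = A * B + B * A := ⟨_, rfl⟩
  have hcA : c * A = A * c := by
    rw [hc, add_mul, mul_add, mul_assoc B A A, hx, mul_zero, add_zero, ← mul_assoc A A B, hx,
      zero_mul, zero_add, mul_assoc]
  have hcB : c * B = B * c := by
    rw [hc, add_mul, mul_add, mul_assoc A B B, hy, mul_zero, zero_add, ← mul_assoc B B A, hy,
      zero_mul, add_zero, mul_assoc]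
  have hcρ : ∀ h, c * ρ h = ρ h * c := by
    intro h
    rw [← mem_commSub]
    refine forall_mem_of_gens hgen _ ?_ ?_ h
    · rw [mem_commSub, hρx, mul_add, add_mul, mul_one, one_mul, hcA]
    · rw [mem_commSub, hρy, mul_add, add_mul, mul_one, one_mul, hcB]
  have hEnt : Nontrivial (AddMonoid.End M) := by
    obtain ⟨m, hm⟩ := exists_ne (0 : M)
    refine ⟨⟨0, 1, ?_⟩⟩
    intro h01
    have := DFunLike.congr_fun h01 m
    exact hm this.symm
  by_cases hc0 : c = 0
  · -- the fixed points
    set F : AddSubgroup M := AddMonoidHom.ker (endHom A) ⊓ AddMonoidHom.ker (endHom B) with hF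
    have hFmem : ∀ m, m ∈ F ↔ A m = 0 ∧ B m = 0 := by
      intro m
      rw [hF, AddSubgroup.mem_inf, AddMonoidHom.mem_ker, AddMonoidHom.mem_ker, endHom_apply,
        endHom_apply]
    have hFfix : ∀ m ∈ F, ∀ h, ρ h m = m := by
      intro m hm h
      rw [← mem_stabSub]
      obtain ⟨h1, h2⟩ := (hFmem m).1 hm
      refine forall_mem_of_gens hgen _ ?_ ?_ h
      · rw [mem_stabSub, hρx]
        change m + A m = m
        rw [h1, add_zero]
      · rw [mem_stabSub, hρy]
        change m + B m = m
        rw [h2, add_zero]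
    have hFinv : IsInv ρ F := by
      intro h w hw
      rw [hFfix w hw h]
      exact hw
    rcases hirr F hFinv with hbot | htop
    · exfalso
      obtain ⟨m, hm⟩ := exists_ne (0 : M)
      obtain ⟨w, hw0, hAw⟩ : ∃ w : M, w ≠ 0 ∧ A w = 0 := by
        by_cases h : A m = 0
        · exact ⟨m, hm, h⟩
        · exact ⟨A m, h, DFunLike.congr_fun hx m⟩
      obtain ⟨w', hw'0, hAw', hBw'⟩ : ∃ w' : M, w' ≠ 0 ∧ A w' = 0 ∧ B w' = 0 := by
        by_cases h : B w = 0
        · exact ⟨w, hw0, hAw, h⟩
        · refine ⟨B w, h, ?_, DFunLike.congr_fun hy w⟩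
          have h1 : (A * B + B * A) w = 0 := by
            rw [← hc, hc0]; rfl
          change A (B w) + B (A w) = 0 at h1
          rw [hAw, map_zero, add_zero] at h1
          exact h1
      have : w' ∈ F := (hFmem w').2 ⟨hAw', hBw'⟩
      rw [hbot, AddSubgroup.mem_bot] at this
      exact hw'0 this
    · have hA0 : A = 0 := by
        ext m
        exact ((hFmem m).1 (htop ▸ AddSubgroup.mem_top m)).1
      have hB0 : B = 0 := by
        ext m
        exact ((hFmem m).1 (htop ▸ AddSubgroup.mem_top m)).2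
      intro h
      have : h ∈ ρ.ker := by
        refine forall_mem_of_gens hgen _ ?_ ?_ h
        · rw [MonoidHom.mem_ker, hρx, hA0, add_zero]
        · rw [MonoidHom.mem_ker, hρy, hB0, add_zero]
      exact this
  · exfalso
    -- the subring generated by c is a field
    have hLcomm : ∀ z ∈ Subring.closure ({c} : Set (AddMonoid.End M)), ∀ h, z * ρ h = ρ h * z := by
      intro z hz h
      have h1 : Subring.closure ({c} : Set (AddMonoid.End M)) ≤
          Subring.centralizer ({ρ h} : Set (AddMonoid.End M)) := by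
        rw [Subring.closure_le]
        intro z hz
        rw [Set.mem_singleton_iff] at hz
        subst hz
        rw [SetLike.mem_coe, Subring.mem_centralizer_iff]
        intro g hg
        rw [Set.mem_singleton_iff] at hg
        subst hg
        exact (hcρ h).symm
      exact ((Subring.mem_centralizer_iff.1 (h1 hz)) (ρ h) rfl).symm
    have hLA : ∀ z ∈ Subring.closure ({c} : Set (AddMonoid.End M)), z * A = A * z := by
      intro z hz
      have h1 := hLcomm z hz x
      rw [hρx, mul_add, add_mul, mul_one, one_mul] at h1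
      exact add_left_cancel h1
    have hLB : ∀ z ∈ Subring.closure ({c} : Set (AddMonoid.End M)), z * B = B * z := by
      intro z hz
      have h1 := hLcomm z hz y
      rw [hρy, mul_add, add_mul, mul_one, one_mul] at h1
      exact add_left_cancel h1
    have hLinj : ∀ z ∈ Subring.closure ({c} : Set (AddMonoid.End M)), z ≠ 0 →
        Function.Injective z := fun z hz hz0 => (schur ρ hirr z (hLcomm z hz)).resolve_left hz0
    letI : CommRing (Subring.closure ({c} : Set (AddMonoid.End M))) :=
      Subring.closureCommRingOfComm (by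
        intro a ha b hb
        rw [Set.mem_singleton_iff] at ha hb
        rw [ha, hb])
    haveI : Nontrivial (Subring.closure ({c} : Set (AddMonoid.End M))) := inferInstance
    haveI : NoZeroDivisors (Subring.closure ({c} : Set (AddMonoid.End M))) := by
      constructor
      intro a b hab
      by_contra hcon
      push Not at hcon
      have ha : (a : AddMonoid.End M) ≠ 0 := fun h => hcon.1 (Subtype.ext h)
      have hb : (b : AddMonoid.End M) ≠ 0 := fun h => hcon.2 (Subtype.ext h)
      have hai := hLinj a a.2 ha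
      have hbi := hLinj b b.2 hb
      have h1 : (a : AddMonoid.End M) * (b : AddMonoid.End M) = 0 := by
        have := congrArg Subtype.val hab
        exact this
      obtain ⟨m, hm⟩ := exists_ne (0 : M)
      have h2 := DFunLike.congr_fun h1 m
      change (a : AddMonoid.End M) ((b : AddMonoid.End M) m) = 0 at h2
      rw [← map_zero (a : AddMonoid.End M)] at h2
      have h3 := hai h2
      rw [← map_zero (b : AddMonoid.End M)] at h3
      exact hm (hbi h3)
    haveI : IsDomain (Subring.closure ({c} : Set (AddMonoid.End M))) := NoZeroDivisors.to_isDomain _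
    haveI : Finite (AddMonoid.End M) :=
      Finite.of_injective (fun f : AddMonoid.End M => (f : M → M)) DFunLike.coe_injective
    haveI : Finite (Subring.closure ({c} : Set (AddMonoid.End M))) := inferInstance
    letI : Field (Subring.closure ({c} : Set (AddMonoid.End M))) :=
      (Finite.isField_of_domain _).toField
    haveI : CharP (Subring.closure ({c} : Set (AddMonoid.End M))) p := by
      rw [CharP.charP_iff_prime_eq_zero hp]
      apply Subtype.ext
      have := natCast_end_eq_zero hpM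
      rw [Subring.coe_natCast]
      exact this
    refine field_contra (L := Subring.closure ({c} : Set (AddMonoid.End M))) hp2 hodd hgen
      (Subring.closure ({c} : Set (AddMonoid.End M))).subtype A B hx hy
      ⟨c, Subring.subset_closure rfl⟩ ?_ ?_ ?_ ?_ ρ hρx hρy
    · intro h
      exact hc0 (congrArg Subtype.val h)
    · exact hc
    · intro a
      exact hLA a a.2
    · intro a
      exact hLB a a.2

end Irr

section Core

variable {H : Type v} [Group H] [Finite H]

/-- **Quadratic pairs of odd order**: a group of odd order generated by two elements acting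
quadratically on a finite abelian group of odd prime exponent `p` acts as a `p`-group. -/
theorem qp_core {p : ℕ} [Fact p.Prime] (hp2 : p ≠ 2) (hodd : Odd (Nat.card H)) {x y : H}
    (hgen : Subgroup.closure {x, y} = ⊤) :
    ∀ (n : ℕ) (M : Type u) [AddCommGroup M] [Finite M], Nat.card M = n →
      (∀ m : M, p • m = 0) → ∀ ρ : H →* AddMonoid.End M,
      (ρ x - 1) * (ρ x - 1) = 0 → (ρ y - 1) * (ρ y - 1) = 0 →
      ∀ h, ∃ k : ℕ, ρ h ^ (p ^ k) = 1 := by
  intro n
  induction n using Nat.strong_induction_on with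
  | _ n ih =>
    intro M _ _ hcard hpM ρ hx hy h
    by_cases hirr : IsIrr ρ
    · exact ⟨0, by rw [pow_zero, pow_one]; exact irr_trivial hp2 hodd hgen hpM ρ hx hy hirr h⟩
    · unfold IsIrr at hirr
      push Not at hirr
      obtain ⟨W, hWinv, hW0, hW1⟩ := hirr
      have hcardeq : Nat.card M = Nat.card (M ⧸ W) * Nat.card W :=
        AddSubgroup.card_eq_card_quotient_mul_card_addSubgroup W
      have hW1lt : 1 < Nat.card W := (AddSubgroup.one_lt_card_iff_ne_bot W).2 hW0
      have hQ1lt : 1 < Nat.card (M ⧸ W) := by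
        have h1 : W.index ≠ 1 := fun h => hW1 (AddSubgroup.index_eq_one.1 h)
        have h2 : W.index ≠ 0 := AddSubgroup.index_ne_zero_of_finite
        rw [AddSubgroup.index_eq_card] at h1 h2
        omega
      have hWlt : Nat.card W < n := by
        rw [← hcard, hcardeq]; nlinarith
      have hQlt : Nat.card (M ⧸ W) < n := by
        rw [← hcard, hcardeq]; nlinarith
      obtain ⟨k1, hk1⟩ := ih _ hWlt W rfl (fun w => Subtype.ext (hpM w)) (subRep ρ W hWinv)
        (subRep_quad ρ W hWinv x hx) (subRep_quad ρ W hWinv y hy) h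
      have hpQ : ∀ q : M ⧸ W, p • q = 0 := by
        intro q
        induction q using QuotientAddGroup.induction_on with
        | H m =>
          rw [← QuotientAddGroup.mk_nsmul, hpM]; rfl
      obtain ⟨k2, hk2⟩ := ih _ hQlt (M ⧸ W) rfl hpQ (quotRep ρ W hWinv)
        (quotRep_quad ρ W hWinv x hx) (quotRep_quad ρ W hWinv y hy) h
      refine ⟨max k1 k2 + 1, pow_eq_one_of_sub_quot hpM ρ W hWinv h (max k1 k2) ?_ ?_⟩
      · obtain ⟨d, hd⟩ := Nat.exists_eq_add_of_le (le_max_left k1 k2)
        rw [hd, pow_add, pow_mul, hk1, one_pow]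
      · obtain ⟨d, hd⟩ := Nat.exists_eq_add_of_le (le_max_right k1 k2)
        rw [hd, pow_add, pow_mul, hk2, one_pow]

end Core

end Cfsg.Agent.Lib.H16
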