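import Mathlib
import Cfsg.Prelude.Def_PLocal
import Cfsg.Agent.Lib.H16.QuadraticPair
import Cfsg.Agent.Lib.H16.BaerSuzuki
import Cfsg.Agent.Lib.H1.PCore

/-!
# Groups of odd order are `p`-stable on normal elementary abelian `p`-subgroups

`odd_isPStableOn`: `X` of odd order, `p` odd, `V ⊲ X` elementary abelian `p`-group ⇒
`Cfsg.IsPStableOn p V`: every `a` with `[V, a, a] = 1` maps into `O_p(X / C_X(V))`.
Proof: Baer–Suzuki reduces to two quadratic elements, where `qp_core` applies.
-/

set_option autoImplicit false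

namespace Cfsg.Agent.Lib.H16

open scoped commutatorElement

/-- The commutative group structure on a subgroup whose elements commute. -/
@[reducible] def commGroupOfComm {X : Type*} [Group X] (V : Subgroup X)
    (hVc : ∀ u ∈ V, ∀ v ∈ V, u * v = v * u) : CommGroup V :=
  { (inferInstance : Group V) with mul_comm := fun a b => Subtype.ext (hVc a a.2 b b.2) }

/-- generators of a 2-generated subgroup generate it as a group -/
theorem closure_pair_subtype_eq_top {X : Type*} [Group X] (b₁ b₂ : X) :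
    Subgroup.closure ({⟨b₁, Subgroup.subset_closure (Set.mem_insert _ _)⟩,
      ⟨b₂, Subgroup.subset_closure (Set.mem_insert_of_mem _ rfl)⟩} :
        Set ↥(Subgroup.closure ({b₁, b₂} : Set X))) = ⊤ := by
  apply Subgroup.map_injective (Subgroup.closure ({b₁, b₂} : Set X)).subtype_injective
  rw [MonoidHom.map_closure, Set.image_pair, ← MonoidHom.range_eq_map, Subgroup.range_subtype]
  rfl

theorem odd_isPStableOn {X : Type*} [Group X] [Finite X] {p : ℕ} [Fact p.Prime] (hp : p ≠ 2)
    (hodd : Odd (Nat.card X)) (V : Subgroup X) [V.Normal]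
    (hV : Cfsg.IsElementaryAbelian p V) : Cfsg.IsPStableOn p V := by
  classical
  intro a hq
  obtain ⟨hVcomm, hVexp⟩ := hV
  have hVc : ∀ u ∈ V, ∀ v ∈ V, u * v = v * u := fun u hu v hv =>
    congrArg Subtype.val (hVcomm.is_comm.comm ⟨u, hu⟩ ⟨v, hv⟩)
  letI : CommGroup V := commGroupOfComm V hVc
  let ρ : X →* AddMonoid.End (Additive V) :=
    { toFun := fun g => MonoidHom.toAdditive ((MulAut.conjNormal g : V ≃* V).toMonoidHom)
      map_one' := by
        ext w
        rw [map_one]; rfl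
      map_mul' := by
        intro g h
        ext w
        rw [map_mul]; rfl }
  have hρ : ∀ g (v : V), ρ g (Additive.ofMul v) = Additive.ofMul (MulAut.conjNormal g v) :=
    fun _ _ => rfl
  have hker : ∀ g, ρ g = 1 ↔ g ∈ Subgroup.centralizer (V : Set X) := by
    intro g
    rw [Subgroup.mem_centralizer_iff]
    constructor
    · intro hg v hv
      have h3 := hρ g ⟨v, hv⟩
      rw [hg] at h3
      have h4 : (MulAut.conjNormal g (⟨v, hv⟩ : V) : V) = ⟨v, hv⟩ :=
        (Additive.ofMul.injective h3).symm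
      have h5 := congrArg Subtype.val h4
      rw [MulAut.conjNormal_apply] at h5
      calc v * g = (g * v * g⁻¹) * g := by rw [h5]
        _ = g * v := by group
    · intro hg
      refine DFunLike.ext _ _ (fun w => ?_)
      obtain ⟨v, rfl⟩ := Additive.ofMul.surjective w
      rw [hρ]
      show Additive.ofMul _ = Additive.ofMul v
      congr 1
      apply Subtype.ext
      rw [MulAut.conjNormal_apply, ← hg v v.2]
      group
  have hpM : ∀ m : Additive V, p • m = 0 := by
    intro m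
    obtain ⟨v, rfl⟩ := Additive.ofMul.surjective m
    rw [← ofMul_pow]
    have : v ^ p = 1 := Subtype.ext (by simpa using hVexp v v.2)
    rw [this]; rfl
  -- `a` is quadratic in the ring sense
  have hqa : (ρ a - 1) * (ρ a - 1) = 0 := by
    apply AddMonoid.End.ext
    intro m
    obtain ⟨v, rfl⟩ := Additive.ofMul.surjective m
    have h1 : ⁅a, (v : X)⁆ ∈ ⁅V, Subgroup.zpowers a⁆ := by
      rw [← commutatorElement_inv]
      exact Subgroup.inv_mem _
        (Subgroup.commutator_mem_commutator v.2 (Subgroup.mem_zpowers a))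
    have h2 : ⁅⁅a, (v : X)⁆, a⁆ = 1 := by
      have : ⁅⁅a, (v : X)⁆, a⁆ ∈ ⁅⁅V, Subgroup.zpowers a⁆, Subgroup.zpowers a⁆ :=
        Subgroup.commutator_mem_commutator h1 (Subgroup.mem_zpowers a)
      rw [hq] at this
      exact this
    rw [commutatorElement_eq_one_iff_mul_comm] at h2
    set w : V := MulAut.conjNormal a v / v with hw
    have hwX : (w : X) = ⁅a, (v : X)⁆ := by
      rw [hw, commutatorElement_def]
      simp [MulAut.conjNormal_apply, div_eq_mul_inv]
    have hcw : MulAut.conjNormal a w = w := by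
      apply Subtype.ext
      rw [MulAut.conjNormal_apply, hwX]
      calc a * ⁅a, (v : X)⁆ * a⁻¹ = (⁅a, (v : X)⁆ * a) * a⁻¹ := by rw [h2]
        _ = ⁅a, (v : X)⁆ := by group
    have e1 : (ρ a - 1) (Additive.ofMul v) = Additive.ofMul w := by
      change ρ a (Additive.ofMul v) - Additive.ofMul v = Additive.ofMul w
      rw [hρ]; rfl
    change (ρ a - 1) ((ρ a - 1) (Additive.ofMul v)) = 0
    rw [e1]
    change ρ a (Additive.ofMul w) - Additive.ofMul w = 0
    rw [hρ, hcw, sub_self]
  -- the set of images of quadratic elements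
  let K : Set (X ⧸ Subgroup.centralizer (V : Set X)) :=
    {q | ∃ b : X, (ρ b - 1) * (ρ b - 1) = 0 ∧ q = (b : X ⧸ Subgroup.centralizer (V : Set X))}
  have hKconj : ∀ g : X ⧸ Subgroup.centralizer (V : Set X), ∀ q ∈ K, g * q * g⁻¹ ∈ K := by
    intro g q hqK
    obtain ⟨g', rfl⟩ := QuotientGroup.mk_surjective g
    obtain ⟨b, hb, rfl⟩ := hqK
    refine ⟨g' * b * g'⁻¹, ?_, rfl⟩
    have h1 : ρ g' * ρ g'⁻¹ = 1 := by rw [← map_mul, mul_inv_cancel, map_one]
    have h1' : ρ g'⁻¹ * ρ g' = 1 := by rw [← map_mul, inv_mul_cancel, map_one]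
    have h2 : ρ (g' * b * g'⁻¹) - 1 = ρ g' * (ρ b - 1) * ρ g'⁻¹ := by
      rw [map_mul, map_mul, mul_sub, sub_mul, mul_one, h1]
    rw [h2]
    calc ρ g' * (ρ b - 1) * ρ g'⁻¹ * (ρ g' * (ρ b - 1) * ρ g'⁻¹)
        = ρ g' * (ρ b - 1) * (ρ g'⁻¹ * ρ g') * (ρ b - 1) * ρ g'⁻¹ := by simp only [mul_assoc]
      _ = ρ g' * ((ρ b - 1) * (ρ b - 1)) * ρ g'⁻¹ := by rw [h1', mul_one]; simp only [mul_assoc]
      _ = 0 := by rw [hb, mul_zero, zero_mul]
  have hKpair : ∀ q₁ ∈ K, ∀ q₂ ∈ K,
      IsPGroup p (Subgroup.closure ({q₁, q₂} : Set (X ⧸ Subgroup.centralizer (V : Set X)))) := by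
    rintro q₁ ⟨b₁, hb₁, rfl⟩ q₂ ⟨b₂, hb₂, rfl⟩
    have himg : Subgroup.closure ({(b₁ : X ⧸ Subgroup.centralizer (V : Set X)),
        (b₂ : X ⧸ Subgroup.centralizer (V : Set X))} : Set _) =
        (Subgroup.closure ({b₁, b₂} : Set X)).map
          (QuotientGroup.mk' (Subgroup.centralizer (V : Set X))) := by
      rw [MonoidHom.map_closure, Set.image_pair]; rfl
    rw [himg]
    rintro ⟨q, hq⟩
    obtain ⟨h, hh, rfl⟩ := hq
    have hoddH : Odd (Nat.card ↥(Subgroup.closure ({b₁, b₂} : Set X))) :=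
      Odd.of_dvd_nat hodd (Subgroup.card_subgroup_dvd_card _)
    obtain ⟨k, hk⟩ := qp_core hp hoddH (closure_pair_subtype_eq_top b₁ b₂) (Nat.card (Additive V))
      (Additive V) rfl hpM (ρ.comp (Subgroup.closure ({b₁, b₂} : Set X)).subtype) hb₁ hb₂ ⟨h, hh⟩
    refine ⟨k, Subtype.ext ?_⟩
    change (QuotientGroup.mk' (Subgroup.centralizer (V : Set X))) h ^ (p ^ k) = 1
    rw [← map_pow]
    apply (QuotientGroup.eq_one_iff _).2
    rw [← hker, map_pow]
    exact hk
  have hKp := isPGroup_closure_of_pairwise (p := p) K hKconj hKpair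
  have hKn := closure_normal_of_conj_mem K hKconj
  exact Cfsg.Agent.Lib.H1.le_pCore hKn hKp (Subgroup.subset_closure ⟨a, hqa, rfl⟩)

end Cfsg.Agent.Lib.H16
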