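import Mathlib
import Cfsg.Prelude.Def_CaseTheorems
import Cfsg.Agent.Lib.H7.FStar
import Cfsg.Agent.Lib.H1.Fitting
import Cfsg.Agent.Lib.H1.PCore
import Cfsg.Agent.Lib.H22.PPrimeCore

/-! Hall–Higman Lemma 1.2.3 in the special case `O_{p'}(G) = 1` (helper16): in a finite solvable
group with trivial `p'`-core, `O_p(G)` contains its own centralizer. -/

set_option autoImplicit false

namespace Cfsg.Agent.Lib.H16

open Cfsg
open scoped commutatorElement

variable {G : Type*} [Group G] [Finite G]

/-- A finite solvable group has trivial layer. -/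
theorem layer_eq_bot_of_isSolvable (hs : Group.IsSolvable G) : layer G = ⊥ := by
  have hsl : Group.IsSolvable (layer G) := inferInstance
  have h1 : ⁅layer G, layer G⁆ = ⊥ :=
    Cfsg.Agent.Lib.H7.layer_commutator_solvable (N := layer G) hsl
  rw [Cfsg.Agent.Lib.H7.layer_commutator_self] at h1
  exact h1

/-- With trivial `p'`-core, the Fitting subgroup is `O_p(G)`. -/
theorem fittingSubgroup_eq_pCore_of_pPrimeCore_eq_bot (p : ℕ) [hp : Fact p.Prime]
    (hO : pPrimeCore p G = ⊥) : fittingSubgroup G = pCore p G := by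
  rw [Cfsg.Agent.Lib.H1.fittingSubgroup_eq_iSup_pCore]
  apply le_antisymm
  · apply iSup_le
    intro q
    by_cases hqp : (q : ℕ) = p
    · rw [hqp]
    · haveI : Fact (q : ℕ).Prime := ⟨q.2⟩
      have hq : IsPGroup (q : ℕ) (pCore (q : ℕ) G) := Cfsg.Agent.Lib.H1.pCore_isPGroup (q : ℕ) G
      obtain ⟨k, hk⟩ := IsPGroup.iff_card.mp hq
      have hcop : (Nat.card (pCore (q : ℕ) G)).Coprime p := by
        rw [hk]
        apply Nat.Coprime.pow_left
        exact (Nat.coprime_primes q.2 hp.out).mpr hqp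
      have hle := Cfsg.Agent.Lib.H22.le_pPrimeCore p (pCore (q : ℕ) G)
        (Cfsg.Agent.Lib.H1.pCore_normal (q : ℕ) G) hcop
      rw [hO] at hle
      exact hle.trans bot_le
  · exact le_iSup (fun q : Nat.Primes => pCore (q : ℕ) G) ⟨p, hp.out⟩

/-- **Hall–Higman 1.2.3** (case `O_{p'}(G) = 1`): in a finite solvable group with trivial
`p'`-core, `C_G(O_p(G)) ≤ O_p(G)`. -/
theorem centralizer_pCore_le_of_isSolvable (p : ℕ) [hp : Fact p.Prime] (hs : Group.IsSolvable G)
    (hO : pPrimeCore p G = ⊥) :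
    Subgroup.centralizer (pCore p G : Set G) ≤ pCore p G := by
  have h1 : generalizedFittingSubgroup G = pCore p G := by
    unfold generalizedFittingSubgroup
    rw [layer_eq_bot_of_isSolvable hs, bot_sup_eq, fittingSubgroup_eq_pCore_of_pPrimeCore_eq_bot p hO]
  have h2 := Cfsg.Agent.Lib.H7.centralizer_generalizedFittingSubgroup_le (G := G)
  rw [h1] at h2
  exact h2

end Cfsg.Agent.Lib.H16
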