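import Mathlib
import Cfsg.Prelude.Def_PLocal
import Cfsg.Agent.Lib.H16.OddKiller
import Cfsg.Agent.Lib.H16.SolvableCore
import Cfsg.Agent.Lib.H1.PCore
import Cfsg.Agent.Lib.H1.PGroupBasic
import Cfsg.Agent.Lib.H1.CharSubgroup
import Cfsg.Agent.Lib.H9.FrattiniAction
import Cfsg.Agent.Lib.H9.PPrimeCore

/-!
# p-stability consequences in groups of odd order

* `odd_quadratic_mem_pCore`: `X` of odd order, `P ⊲ X` a `p`-group, `a` quadratic on `P`
  ⇒ the image of `a` in `X ⧸ C_X(P)` lies in `O_p`.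
-/

set_option autoImplicit false

namespace Cfsg.Agent.Lib.H16

open Cfsg
open scoped commutatorElement

variable {X : Type*} [Group X] [Finite X] {p : ℕ} [Fact p.Prime]

/-- an element of `p`-power order times a `p'`-element: a power `e ^ (p ^ j)` has order prime to `p`. -/
theorem exists_pow_coprime_order (e : X) : ∃ j : ℕ, (orderOf (e ^ (p ^ j))).Coprime p := by
  have hp : p.Prime := Fact.out
  have hn : orderOf e ≠ 0 := (orderOf_pos e).ne'
  obtain ⟨j, m, hm, hjm⟩ := Nat.exists_eq_pow_mul_and_not_dvd hn p hp.ne_one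
  refine ⟨j, ?_⟩
  have h1 : orderOf (e ^ (p ^ j)) = m := by
    rw [orderOf_pow' e (pow_ne_zero j hp.ne_zero), hjm]
    rw [Nat.gcd_eq_right (Dvd.intro _ rfl)]
    exact Nat.mul_div_cancel_left m (pow_pos hp.pos j)
  rw [h1]
  exact ((Nat.Prime.coprime_iff_not_dvd hp).2 hm).symm

theorem odd_quadratic_mem_pCore (hp : p ≠ 2) (hodd : Odd (Nat.card X)) (P : Subgroup X) [P.Normal]
    (hP : IsPGroup p P) (a : X)
    (hq : ⁅⁅P, Subgroup.zpowers a⁆, Subgroup.zpowers a⁆ = ⊥) :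
    (QuotientGroup.mk a : X ⧸ Subgroup.centralizer (P : Set X)) ∈
      Cfsg.pCore p (X ⧸ Subgroup.centralizer (P : Set X)) := by
  classical
  obtain ⟨Φ, hΦ⟩ : ∃ Φ : Subgroup X, Φ = (frattini ↥P).map P.subtype := ⟨_, rfl⟩
  have hΦn : Φ.Normal := by
    rw [← Subgroup.normalizer_eq_top_iff, eq_top_iff, hΦ]
    have h1 := Cfsg.Agent.Lib.H1.normalizer_le_normalizer_map_of_characteristic (K := P)
      (frattini ↥P)
    rwa [Subgroup.normalizer_eq_top_iff.2 inferInstance] at h1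
  haveI := hΦn
  have hΦP : Φ ≤ P := hΦ ▸ Subgroup.map_subtype_le _
  obtain ⟨π, hπ⟩ : ∃ π : X →* X ⧸ Φ, π = QuotientGroup.mk' Φ := ⟨_, rfl⟩
  have hπs : Function.Surjective π := hπ ▸ QuotientGroup.mk'_surjective Φ
  have hπk : ∀ x : X, π x = 1 ↔ x ∈ Φ := fun x => by
    rw [hπ]; exact QuotientGroup.eq_one_iff x
  obtain ⟨V, hVdef⟩ : ∃ V : Subgroup (X ⧸ Φ), V = P.map π := ⟨_, rfl⟩
  haveI hVn : V.Normal := hVdef ▸ Subgroup.Normal.map inferInstance π hπs
  have hcomm : ∀ x ∈ P, ∀ y ∈ P, x * y * x⁻¹ * y⁻¹ ∈ Φ := by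
    intro x hx y hy
    have h1 : ⁅(⟨x, hx⟩ : P), ⟨y, hy⟩⁆ ∈ frattini ↥P :=
      Cfsg.Agent.Lib.H1.isPGroup_commutator_le_frattini hP
        (Subgroup.commutator_mem_commutator (Subgroup.mem_top _) (Subgroup.mem_top _))
    rw [hΦ]
    exact ⟨_, h1, by simp [commutatorElement_def]⟩
  have hVea : IsElementaryAbelian p V := by
    constructor
    · constructor
      constructor
      rintro ⟨u, hu⟩ ⟨v, hv⟩
      rw [hVdef] at hu hv
      obtain ⟨x, hx, rfl⟩ := hu
      obtain ⟨y, hy, rfl⟩ := hv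
      apply Subtype.ext
      change π x * π y = π y * π x
      have h1 := (hπk _).2 (hcomm x hx y hy)
      rw [map_mul, map_mul, map_mul, map_inv, map_inv] at h1
      calc π x * π y = (π x * π y * (π x)⁻¹ * (π y)⁻¹) * (π y * π x) := by group
        _ = π y * π x := by rw [h1, one_mul]
    · intro u hu
      rw [hVdef] at hu
      obtain ⟨x, hx, rfl⟩ := hu
      rw [← map_pow, hπk, hΦ]
      have h1 := Cfsg.Agent.Lib.H1.isPGroup_pow_mem_frattini hP (⟨x, hx⟩ : P)
      exact ⟨_, h1, by simp⟩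
  have hoddq : Odd (Nat.card (X ⧸ Φ)) :=
    Odd.of_dvd_nat hodd (Subgroup.card_quotient_dvd_card Φ)
  have hst := odd_isPStableOn hp hoddq V hVea
  have hqa : ⁅⁅V, Subgroup.zpowers (π a)⁆, Subgroup.zpowers (π a)⁆ = ⊥ := by
    rw [hVdef, ← MonoidHom.map_zpowers, ← Subgroup.map_commutator, ← Subgroup.map_commutator, hq,
      Subgroup.map_bot]
  have ha := hst (π a) hqa
  -- the subgroup D
  set Cb : Subgroup (X ⧸ Φ) := Subgroup.centralizer (V : Set (X ⧸ Φ)) with hCb
  set D : Subgroup X := (Cfsg.pCore p ((X ⧸ Φ) ⧸ Cb)).comap ((QuotientGroup.mk' Cb).comp π) with hD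
  haveI hDn : D.Normal := by
    haveI := Cfsg.Agent.Lib.H1.pCore_normal p ((X ⧸ Φ) ⧸ Cb)
    exact Subgroup.Normal.comap inferInstance _
  have haD : a ∈ D := ha
  -- elements acting trivially on P / Φ
  have hK : ∀ e : X, π e ∈ Cb → ∀ j : ℕ, (orderOf (e ^ (p ^ j))).Coprime p →
      e ^ (p ^ j) ∈ Subgroup.centralizer (P : Set X) := by
    intro e he j hj
    have h1 := Cfsg.Agent.Lib.H9.commute_of_commutator_mem_frattini hP
      (y := e ^ (p ^ j)) (by rw [Subgroup.normalizer_eq_top_iff.2 inferInstance]; trivial) hj ?_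
    · intro q hq
      exact (h1 q hq).symm
    · intro b hb q hq
      rw [← hΦ, ← hπk]
      have hbC : π b ∈ Cb := by
        have : Subgroup.zpowers (e ^ (p ^ j)) ≤ Cb.comap π := by
          rw [Subgroup.zpowers_le]
          exact Subgroup.pow_mem (Cb.comap π) (show e ∈ Cb.comap π from he) _
        exact this hb
      have h2 : π q * π b = π b * π q := hbC (π q) (hVdef ▸ Subgroup.mem_map_of_mem π hq)
      rw [map_mul, map_mul, map_mul, map_inv, map_inv, ← h2]
      group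
  have hDp : IsPGroup p (D.map (QuotientGroup.mk' (Subgroup.centralizer (P : Set X)))) := by
    rintro ⟨u, hu⟩
    obtain ⟨d, hd, rfl⟩ := hu
    have hpc := Cfsg.Agent.Lib.H1.pCore_isPGroup p ((X ⧸ Φ) ⧸ Cb)
    obtain ⟨k, hk⟩ := hpc ⟨_, hd⟩
    have hk' : ((QuotientGroup.mk' Cb).comp π) d ^ (p ^ k) = 1 := by
      simpa using congrArg Subtype.val hk
    have he : π (d ^ (p ^ k)) ∈ Cb := by
      rw [map_pow]
      have : (QuotientGroup.mk' Cb) (π d ^ (p ^ k)) = 1 := by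
        rw [map_pow]; exact hk'
      exact (QuotientGroup.eq_one_iff _).1 this
    obtain ⟨j, hj⟩ := exists_pow_coprime_order (p := p) (d ^ (p ^ k))
    have h3 := hK _ he j hj
    refine ⟨k + j, Subtype.ext ?_⟩
    change (QuotientGroup.mk' (Subgroup.centralizer (P : Set X))) d ^ (p ^ (k + j)) = 1
    rw [← map_pow, pow_add, pow_mul]
    exact (QuotientGroup.eq_one_iff _).2 h3
  have hDmn : (D.map (QuotientGroup.mk' (Subgroup.centralizer (P : Set X)))).Normal :=
    Subgroup.Normal.map hDn _ (QuotientGroup.mk'_surjective _)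
  exact Cfsg.Agent.Lib.H1.le_pCore hDmn hDp (Subgroup.mem_map_of_mem _ haD)

/-- If `O_{p'}(G) = 1`, `P ⊲ G` is a `p`-group and `O_p(G) ∩ C_G(P) ≤ P` in the solvable group `G`,
then `C_G(P)` is a `p`-group. -/
theorem isPGroup_centralizer_of_inf_le {G : Type*} [Group G] [Finite G] (hs : Group.IsSolvable G)
    (P : Subgroup G) [P.Normal] (hO : Cfsg.pPrimeCore p G = ⊥)
    (hC : Cfsg.pCore p G ⊓ Subgroup.centralizer (P : Set G) ≤ P) :
    IsPGroup p (Subgroup.centralizer (P : Set G)) := by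
  classical
  obtain ⟨C, hCdef⟩ : ∃ C : Subgroup G, C = Subgroup.centralizer (P : Set G) := ⟨_, rfl⟩
  rw [← hCdef]
  have hCn : C.Normal := hCdef ▸ inferInstance
  have hsC : Group.IsSolvable ↥C := inferInstance
  have hOC : Cfsg.pPrimeCore p ↥C = ⊥ := by
    have h1 := Cfsg.Agent.Lib.H9.pPrimeCore_subnormal_le p hCn.isSubnormal
    rw [hO, le_bot_iff] at h1
    exact (Subgroup.map_eq_bot_iff_of_injective _ C.subtype_injective).1 h1
  have h := centralizer_pCore_le_of_isSolvable p hsC hOC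
  have hmapn : ((Cfsg.pCore p ↥C).map C.subtype).Normal := by
    rw [← Subgroup.normalizer_eq_top_iff, eq_top_iff]
    haveI := Cfsg.Agent.Lib.H1.pCore_characteristic p ↥C
    have h1 := Cfsg.Agent.Lib.H1.normalizer_le_normalizer_map_of_characteristic (K := C)
      (Cfsg.pCore p ↥C)
    rwa [Subgroup.normalizer_eq_top_iff.2 hCn] at h1
  have hmapp : IsPGroup p ((Cfsg.pCore p ↥C).map C.subtype) :=
    (Cfsg.Agent.Lib.H1.pCore_isPGroup p ↥C).map C.subtype
  have hle : (Cfsg.pCore p ↥C).map C.subtype ≤ P := by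
    refine le_trans (le_inf (Cfsg.Agent.Lib.H1.le_pCore hmapn hmapp) ?_) hC
    rw [← hCdef]
    exact Subgroup.map_subtype_le _
  have htop : Cfsg.pCore p ↥C = ⊤ := by
    rw [eq_top_iff]
    refine le_trans ?_ h
    intro c _
    rw [Subgroup.mem_centralizer_iff]
    intro x hx
    have hxP : (x : G) ∈ P := hle (Subgroup.mem_map_of_mem C.subtype hx)
    have hc : (c : G) ∈ Subgroup.centralizer (P : Set G) := hCdef ▸ c.2
    apply Subtype.ext
    exact hc (x : G) hxP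
  have hpc := Cfsg.Agent.Lib.H1.pCore_isPGroup p ↥C
  intro c
  obtain ⟨k, hk⟩ := hpc ⟨c, htop ▸ Subgroup.mem_top c⟩
  exact ⟨k, by simpa using congrArg Subtype.val hk⟩

/-- preimage of `O_p(G/C)` for a normal `p`-subgroup `C` lies in `O_p(G)`. -/
theorem comap_pCore_le_pCore {G : Type*} [Group G] [Finite G] (C : Subgroup G) [C.Normal]
    (hC : IsPGroup p C) :
    (Cfsg.pCore p (G ⧸ C)).comap (QuotientGroup.mk' C) ≤ Cfsg.pCore p G := by
  haveI := Cfsg.Agent.Lib.H1.pCore_normal p (G ⧸ C)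
  have hn : ((Cfsg.pCore p (G ⧸ C)).comap (QuotientGroup.mk' C)).Normal :=
    Subgroup.Normal.comap inferInstance _
  refine Cfsg.Agent.Lib.H1.le_pCore hn ?_
  rintro ⟨k, hk⟩
  have hpc := Cfsg.Agent.Lib.H1.pCore_isPGroup p (G ⧸ C)
  obtain ⟨i, hi⟩ := hpc ⟨_, hk⟩
  have hi' : (QuotientGroup.mk' C) k ^ (p ^ i) = 1 := by
    simpa using congrArg Subtype.val hi
  rw [← map_pow] at hi'
  have hkc : k ^ (p ^ i) ∈ C := (QuotientGroup.eq_one_iff _).1 hi'
  obtain ⟨j, hj⟩ := hC ⟨_, hkc⟩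
  refine ⟨i + j, Subtype.ext ?_⟩
  have hj' : (k ^ (p ^ i)) ^ (p ^ j) = 1 := by simpa using congrArg Subtype.val hj
  change k ^ (p ^ (i + j)) = 1
  rw [pow_add, pow_mul]
  exact hj'

end Cfsg.Agent.Lib.H16
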