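import Mathlib

/-! The commutator homomorphism `k ↦ [k, x]` into a subgroup `D` centralizing everything in
sight (helper16), and the resulting bounds on the index of a centralizer. -/

set_option autoImplicit false

namespace Cfsg.Agent.Lib.H16

open scoped commutatorElement

variable {G : Type*} [Group G]

/-- `k ↦ [k, x]` as a homomorphism `K →* D`, when `D` contains these commutators and centralizes
`K` and `x`. -/
def commHom (K D : Subgroup G) (x : G) (hmem : ∀ k ∈ K, ⁅k, x⁆ ∈ D)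
    (hDx : ∀ d ∈ D, Commute d x) (hDK : ∀ d ∈ D, ∀ k ∈ K, Commute d k) : K →* D :=
  MonoidHom.mk' (fun k => ⟨⁅(k : G), x⁆, hmem k k.2⟩) (by
    intro k₁ k₂
    apply Subtype.ext
    have hd := hmem k₂ k₂.2
    have h1 : Commute ⁅(k₂ : G), x⁆ (k₁ : G) := hDK _ hd _ k₁.2
    have h2 : Commute ⁅(k₂ : G), x⁆ x := hDx _ hd
    have h3 : Commute ⁅(k₂ : G), x⁆ ⁅(k₁ : G), x⁆ := by
      rw [commutatorElement_def (k₁ : G) x]
      exact ((h1.mul_right h2).mul_right h1.inv_right).mul_right h2.inv_right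
    change ⁅((k₁ : G) * (k₂ : G)), x⁆ = ⁅(k₁ : G), x⁆ * ⁅(k₂ : G), x⁆
    calc ⁅((k₁ : G) * (k₂ : G)), x⁆
        = (k₁ : G) * ⁅(k₂ : G), x⁆ * (k₁ : G)⁻¹ * ⁅(k₁ : G), x⁆ := by
          simp only [commutatorElement_def]; group
      _ = ⁅(k₂ : G), x⁆ * (k₁ : G) * (k₁ : G)⁻¹ * ⁅(k₁ : G), x⁆ := by rw [h1.eq]
      _ = ⁅(k₂ : G), x⁆ * ⁅(k₁ : G), x⁆ := by group
      _ = ⁅(k₁ : G), x⁆ * ⁅(k₂ : G), x⁆ := h3.eq)

theorem commHom_apply (K D : Subgroup G) (x : G) (hmem : ∀ k ∈ K, ⁅k, x⁆ ∈ D)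
    (hDx : ∀ d ∈ D, Commute d x) (hDK : ∀ d ∈ D, ∀ k ∈ K, Commute d k) (k : K) :
    ((commHom K D x hmem hDx hDK k : D) : G) = ⁅(k : G), x⁆ := rfl

theorem ker_commHom (K D : Subgroup G) (x : G) (hmem : ∀ k ∈ K, ⁅k, x⁆ ∈ D)
    (hDx : ∀ d ∈ D, Commute d x) (hDK : ∀ d ∈ D, ∀ k ∈ K, Commute d k) :
    (commHom K D x hmem hDx hDK).ker = (Subgroup.centralizer ({x} : Set G)).subgroupOf K := by
  ext k
  rw [MonoidHom.mem_ker, Subgroup.mem_subgroupOf, Subgroup.mem_centralizer_singleton_iff]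
  constructor
  · intro h
    have h1 : ⁅(k : G), x⁆ = 1 := by
      have := congrArg Subtype.val h
      simpa [commHom_apply] using this
    exact (commutatorElement_eq_one_iff_commute.mp h1).eq
  · intro h
    apply Subtype.ext
    rw [commHom_apply]
    exact commutatorElement_eq_one_iff_commute.mpr h

/-- The relative index of `C(x)` in `K` divides `|D|`. -/
theorem relIndex_centralizer_dvd_card [Finite G] (K D : Subgroup G) (x : G)
    (hmem : ∀ k ∈ K, ⁅k, x⁆ ∈ D)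
    (hDx : ∀ d ∈ D, Commute d x) (hDK : ∀ d ∈ D, ∀ k ∈ K, Commute d k) :
    (Subgroup.centralizer ({x} : Set G)).relIndex K ∣ Nat.card D := by
  rw [Subgroup.relIndex, ← ker_commHom K D x hmem hDx hDK, Subgroup.index_ker]
  exact Subgroup.card_subgroup_dvd_card _

/-- If `|D| = p` is prime and some element of `K` does not commute with `x`, the relative index of
`C(x)` in `K` is `p`. -/
theorem relIndex_centralizer_eq_prime [Finite G] {p : ℕ} (hp : p.Prime) (K D : Subgroup G) (x : G)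
    (hD : Nat.card D = p) (hmem : ∀ k ∈ K, ⁅k, x⁆ ∈ D)
    (hDx : ∀ d ∈ D, Commute d x) (hDK : ∀ d ∈ D, ∀ k ∈ K, Commute d k)
    (hne : ∃ k ∈ K, k * x ≠ x * k) :
    (Subgroup.centralizer ({x} : Set G)).relIndex K = p := by
  have h1 := relIndex_centralizer_dvd_card K D x hmem hDx hDK
  rw [hD] at h1
  rcases (Nat.dvd_prime hp).mp h1 with h | h
  · exfalso
    rw [Subgroup.relIndex_eq_one] at h
    obtain ⟨k, hk, hkx⟩ := hne
    have := h hk
    rw [Subgroup.mem_centralizer_singleton_iff] at this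
    exact hkx this
  · exact h

end Cfsg.Agent.Lib.H16
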