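import Mathlib
import Cfsg.Prelude.Def_Transfer
import Cfsg.Agent.Lib.H3.Thompson

/-!
helper16 library: Thompson / Timmesfeld replacement (Kurzweil–Stellmacher 9.2.1–9.2.3).

`cfix V B = C_V(B)`, `offVal V B = |B| * |C_V(B)|`.
-/

set_option autoImplicit false

namespace Cfsg.Agent.Lib.H16

open Subgroup
open scoped commutatorElement

variable {G : Type*} [Group G]

/-- `C_V(B)` -/
abbrev cfix (V B : Subgroup G) : Subgroup G := V ⊓ Subgroup.centralizer (B : Set G)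

/-- `|B| * |C_V(B)|` -/
noncomputable abbrev offVal (V B : Subgroup G) : ℕ :=
  Nat.card B * Nat.card ↥(V ⊓ Subgroup.centralizer (B : Set G))

theorem centralizer_sup_ge (B₁ B₂ : Subgroup G) :
    Subgroup.centralizer (B₁ : Set G) ⊓ Subgroup.centralizer (B₂ : Set G) ≤
      Subgroup.centralizer ((B₁ ⊔ B₂ : Subgroup G) : Set G) := by
  intro x hx
  have h1 : Subgroup.zpowers x ≤ Subgroup.centralizer (B₁ : Set G) :=
    (Subgroup.zpowers_le).2 hx.1
  have h2 : Subgroup.zpowers x ≤ Subgroup.centralizer (B₂ : Set G) :=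
    (Subgroup.zpowers_le).2 hx.2
  have h3 : B₁ ⊔ B₂ ≤ Subgroup.centralizer ((Subgroup.zpowers x : Subgroup G) : Set G) :=
    sup_le (Subgroup.le_centralizer_iff.1 h1) (Subgroup.le_centralizer_iff.1 h2)
  exact Subgroup.le_centralizer_iff.1 h3 (Subgroup.mem_zpowers x)

theorem cfix_anti (V : Subgroup G) {B₁ B₂ : Subgroup G} (h : B₁ ≤ B₂) : cfix V B₂ ≤ cfix V B₁ :=
  inf_le_inf_left V (Subgroup.centralizer_le h)

theorem offVal_pos [Finite G] (V B : Subgroup G) : 0 < offVal V B :=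
  Nat.mul_pos Nat.card_pos Nat.card_pos

/-- The lattice property of subgroups maximizing `|B||C_V(B)|`. -/
theorem offender_inf [Finite G] {V A B₁ B₂ : Subgroup G}
    (hmax : ∀ B : Subgroup G, B ≤ A → offVal V B ≤ offVal V A) (h₁ : B₁ ≤ A) (h₂ : B₂ ≤ A)
    (e₁ : offVal V B₁ = offVal V A) (e₂ : offVal V B₂ = offVal V A) :
    offVal V (B₁ ⊓ B₂) = offVal V A ∧ cfix V (B₁ ⊓ B₂) = cfix V B₁ ⊔ cfix V B₂ := by
  have hs : offVal V (B₁ ⊔ B₂) ≤ offVal V A := hmax _ (sup_le h₁ h₂)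
  have ht : offVal V (B₁ ⊓ B₂) ≤ offVal V A := hmax _ (inf_le_left.trans h₁)
  have hB : Nat.card B₁ * Nat.card B₂ ≤
      Nat.card (B₁ ⊔ B₂ : Subgroup G) * Nat.card (B₁ ⊓ B₂ : Subgroup G) :=
    Cfsg.Agent.Lib.H3.card_mul_card_le B₁ B₂
  have hC : Nat.card (cfix V B₁) * Nat.card (cfix V B₂) ≤
      Nat.card (cfix V B₁ ⊔ cfix V B₂ : Subgroup G) * Nat.card (cfix V B₁ ⊓ cfix V B₂ : Subgroup G) :=
    Cfsg.Agent.Lib.H3.card_mul_card_le _ _
  have hi : cfix V B₁ ⊓ cfix V B₂ ≤ cfix V (B₁ ⊔ B₂) := by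
    intro x hx
    exact ⟨hx.1.1, centralizer_sup_ge B₁ B₂ ⟨hx.1.2, hx.2.2⟩⟩
  have hj : cfix V B₁ ⊔ cfix V B₂ ≤ cfix V (B₁ ⊓ B₂) :=
    sup_le (cfix_anti V inf_le_left) (cfix_anti V inf_le_right)
  have hi' : Nat.card (cfix V B₁ ⊓ cfix V B₂ : Subgroup G) ≤ Nat.card (cfix V (B₁ ⊔ B₂)) :=
    Subgroup.card_le_of_le hi
  have hj' : Nat.card (cfix V B₁ ⊔ cfix V B₂ : Subgroup G) ≤ Nat.card (cfix V (B₁ ⊓ B₂)) :=
    Subgroup.card_le_of_le hj
  have hmpos : 0 < offVal V A := offVal_pos V A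
  -- abbreviations
  set m := offVal V A with hm
  set s := Nat.card (B₁ ⊔ B₂ : Subgroup G) with hsdef
  set t := Nat.card (B₁ ⊓ B₂ : Subgroup G) with htdef
  set cs := Nat.card (cfix V (B₁ ⊔ B₂)) with hcs
  set ct := Nat.card (cfix V (B₁ ⊓ B₂)) with hct
  set cj := Nat.card (cfix V B₁ ⊔ cfix V B₂ : Subgroup G) with hcj
  set ci := Nat.card (cfix V B₁ ⊓ cfix V B₂ : Subgroup G) with hci
  set b1 := Nat.card B₁ with hb1
  set b2 := Nat.card B₂ with hb2
  set c1 := Nat.card (cfix V B₁) with hc1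
  set c2 := Nat.card (cfix V B₂) with hc2
  have e₁' : b1 * c1 = m := e₁
  have e₂' : b2 * c2 = m := e₂
  have hs' : s * cs ≤ m := hs
  have ht' : t * ct ≤ m := ht
  have spos : 0 < s := Nat.card_pos
  have tpos : 0 < t := Nat.card_pos
  have cspos : 0 < cs := Nat.card_pos
  have ctpos : 0 < ct := Nat.card_pos
  have cjpos : 0 < cj := Nat.card_pos
  have chain1 : m * m ≤ (s * t) * (cj * ci) := by
    calc m * m = (b1 * c1) * (b2 * c2) := by rw [e₁', e₂']
      _ = (b1 * b2) * (c1 * c2) := by ring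
      _ ≤ (s * t) * (cj * ci) := Nat.mul_le_mul hB hC
  have chain2 : (s * t) * (cj * ci) ≤ (s * t) * (cj * cs) :=
    Nat.mul_le_mul_left _ (Nat.mul_le_mul_left _ hi')
  have chain3 : (s * t) * (cj * cs) ≤ (s * t) * (ct * cs) :=
    Nat.mul_le_mul_left _ (Nat.mul_le_mul_right _ hj')
  have chain4 : (s * t) * (ct * cs) = (s * cs) * (t * ct) := by ring
  have chain5 : (s * cs) * (t * ct) ≤ m * m := Nat.mul_le_mul hs' ht'
  have eq3 : (s * t) * (cj * cs) = (s * t) * (ct * cs) := by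
    apply le_antisymm chain3
    calc (s * t) * (ct * cs) = (s * cs) * (t * ct) := chain4
      _ ≤ m * m := chain5
      _ ≤ (s * t) * (cj * ci) := chain1
      _ ≤ (s * t) * (cj * cs) := chain2
  have hcjct : cj = ct := by
    have h1 : cj * cs = ct * cs := Nat.eq_of_mul_eq_mul_left (Nat.mul_pos spos tpos) eq3
    exact Nat.eq_of_mul_eq_mul_right cspos h1
  have htm : t * ct = m := by
    by_contra hne
    have hlt : t * ct < m := lt_of_le_of_ne ht' hne
    have : (s * cs) * (t * ct) < m * m := by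
      calc (s * cs) * (t * ct) ≤ m * (t * ct) := Nat.mul_le_mul_right _ hs'
        _ < m * m := Nat.mul_lt_mul_of_pos_left hlt hmpos
    have h2 : m * m ≤ (s * cs) * (t * ct) := by
      calc m * m ≤ (s * t) * (cj * ci) := chain1
        _ ≤ (s * t) * (cj * cs) := chain2
        _ ≤ (s * t) * (ct * cs) := chain3
        _ = (s * cs) * (t * ct) := chain4
    omega
  refine ⟨htm, ?_⟩
  exact (Subgroup.eq_of_le_of_card_ge hj (le_of_eq hcjct.symm)).symm


theorem conj_mem_of_le_normalizer {V A : Subgroup G} (hAV : A ≤ Subgroup.normalizer (V : Set G))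
    {x v : G} (hx : x ∈ A) (hv : v ∈ V) : x * v * x⁻¹ ∈ V :=
  (Subgroup.mem_normalizer_iff.1 (hAV hx) v).1 hv

theorem conj_conj_comm {V A : Subgroup G}
    (hab : ⁅A, A⁆ ≤ Subgroup.centralizer (V : Set G))
    {x y v : G} (hx : x ∈ A) (hy : y ∈ A) (hv : v ∈ V) :
    x * (y * v * y⁻¹) * x⁻¹ = y * (x * v * x⁻¹) * y⁻¹ := by
  have h := hab (Subgroup.commutator_mem_commutator (A.inv_mem hx) (A.inv_mem hy))
  have h' := Subgroup.mem_centralizer_iff.1 h v hv
  rw [commutatorElement_def] at h'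
  simp only [inv_inv] at h'
  calc x * (y * v * y⁻¹) * x⁻¹ = y * x * ((x⁻¹ * y⁻¹ * x * y) * v) * y⁻¹ * x⁻¹ := by group
    _ = y * x * (v * (x⁻¹ * y⁻¹ * x * y)) * y⁻¹ * x⁻¹ := by rw [h']
    _ = y * (x * v * x⁻¹) * y⁻¹ := by group

theorem commutator_mem_of_le_normalizer {V A : Subgroup G}
    (hAV : A ≤ Subgroup.normalizer (V : Set G)) {u a : G} (hu : u ∈ V) (ha : a ∈ A) :
    ⁅u, a⁆ ∈ V := by
  have : ⁅u, a⁆ = u * (a * u * a⁻¹)⁻¹ := by rw [commutatorElement_def]; group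
  rw [this]
  exact V.mul_mem hu (V.inv_mem (conj_mem_of_le_normalizer hAV ha hu))

theorem key_comm {V A : Subgroup G} (hVc : ∀ x ∈ V, ∀ y ∈ V, x * y = y * x)
    (hAV : A ≤ Subgroup.normalizer (V : Set G))
    (hab : ⁅A, A⁆ ≤ Subgroup.centralizer (V : Set G))
    {u : G} (hu : u ∈ V) {a b : G} (ha : a ∈ A) (hb : b ∈ A)
    (hz : ⁅u, a⁆⁻¹ * ⁅u, b⁆ ∈ Subgroup.centralizer (A : Set G)) {c : G} (hc : c ∈ A) :
    ⁅u, c⁆ * (a⁻¹ * b) = (a⁻¹ * b) * ⁅u, c⁆ := by
  set cu := c * u * c⁻¹ with hcu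
  have hcuV : cu ∈ V := conj_mem_of_le_normalizer hAV hc hu
  have hw : ⁅u, c⁆ = u * cu⁻¹ := by rw [commutatorElement_def, hcu]; group
  have hPV : a * u * a⁻¹ ∈ V := conj_mem_of_le_normalizer hAV ha hu
  have hQV : b * u * b⁻¹ ∈ V := conj_mem_of_le_normalizer hAV hb hu
  have hP'V : a * cu * a⁻¹ ∈ V := conj_mem_of_le_normalizer hAV ha hcuV
  have hQ'V : b * cu * b⁻¹ ∈ V := conj_mem_of_le_normalizer hAV hb hcuV
  have hzeq : ⁅u, a⁆⁻¹ * ⁅u, b⁆ = (a * u * a⁻¹) * (b * u * b⁻¹)⁻¹ := by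
    rw [commutatorElement_def, commutatorElement_def]; group
  rw [hzeq] at hz
  have hzc := Subgroup.mem_centralizer_iff.1 hz c hc
  -- c z c⁻¹ = z
  have h1 : (a * cu * a⁻¹) * (b * cu * b⁻¹)⁻¹ = (a * u * a⁻¹) * (b * u * b⁻¹)⁻¹ := by
    have e1 : a * cu * a⁻¹ = c * (a * u * a⁻¹) * c⁻¹ := conj_conj_comm hab ha hc hu
    have e2 : b * cu * b⁻¹ = c * (b * u * b⁻¹) * c⁻¹ := conj_conj_comm hab hb hc hu
    rw [e1, e2]
    calc c * (a * u * a⁻¹) * c⁻¹ * (c * (b * u * b⁻¹) * c⁻¹)⁻¹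
        = (c * ((a * u * a⁻¹) * (b * u * b⁻¹)⁻¹)) * c⁻¹ := by group
      _ = ((a * u * a⁻¹) * (b * u * b⁻¹)⁻¹ * c) * c⁻¹ := by rw [hzc]
      _ = (a * u * a⁻¹) * (b * u * b⁻¹)⁻¹ := by group
  -- P⁻¹ P' = Q⁻¹ Q'
  have h2 : (a * u * a⁻¹)⁻¹ * (a * cu * a⁻¹) = (b * u * b⁻¹)⁻¹ * (b * cu * b⁻¹) := by
    calc (a * u * a⁻¹)⁻¹ * (a * cu * a⁻¹)
        = (a * u * a⁻¹)⁻¹ * ((a * cu * a⁻¹) * (b * cu * b⁻¹)⁻¹) * (b * cu * b⁻¹) := by group
      _ = (a * u * a⁻¹)⁻¹ * ((a * u * a⁻¹) * (b * u * b⁻¹)⁻¹) * (b * cu * b⁻¹) := by rw [h1]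
      _ = (b * u * b⁻¹)⁻¹ * (b * cu * b⁻¹) := by group
  have h3 : (a * cu * a⁻¹)⁻¹ * (a * u * a⁻¹) = (b * cu * b⁻¹)⁻¹ * (b * u * b⁻¹) := by
    have := congrArg (fun g => g⁻¹) h2
    simpa [mul_inv_rev] using this
  have h4 : (a * u * a⁻¹) * (a * cu * a⁻¹)⁻¹ = (b * u * b⁻¹) * (b * cu * b⁻¹)⁻¹ := by
    rw [hVc _ hPV _ (V.inv_mem hP'V), hVc _ hQV _ (V.inv_mem hQ'V)]
    exact h3
  -- a w a⁻¹ = b w b⁻¹
  have h5 : a * (u * cu⁻¹) * a⁻¹ = b * (u * cu⁻¹) * b⁻¹ := by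
    calc a * (u * cu⁻¹) * a⁻¹ = (a * u * a⁻¹) * (a * cu * a⁻¹)⁻¹ := by group
      _ = (b * u * b⁻¹) * (b * cu * b⁻¹)⁻¹ := h4
      _ = b * (u * cu⁻¹) * b⁻¹ := by group
  rw [hw]
  calc u * cu⁻¹ * (a⁻¹ * b) = a⁻¹ * (a * (u * cu⁻¹) * a⁻¹) * b := by group
    _ = a⁻¹ * (b * (u * cu⁻¹) * b⁻¹) * b := by rw [h5]
    _ = a⁻¹ * b * (u * cu⁻¹) := by group


/-- the set of commutators `[u, a]`, `a ∈ A` -/
def commSet (u : G) (A : Subgroup G) : Set G := {g | ∃ a ∈ A, ⁅u, a⁆ = g}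

theorem commSet_subset {V A : Subgroup G} (hAV : A ≤ Subgroup.normalizer (V : Set G))
    {u : G} (hu : u ∈ V) : commSet u A ⊆ (V : Set G) := by
  rintro g ⟨a, ha, rfl⟩
  exact commutator_mem_of_le_normalizer hAV hu ha

theorem single_le {V A : Subgroup G} (hAV : A ≤ Subgroup.normalizer (V : Set G))
    {u : G} (hu : u ∈ V) :
    Subgroup.closure (commSet u A) ⊔ cfix V A ≤
      cfix V (A ⊓ Subgroup.centralizer (commSet u A)) := by
  apply sup_le
  · apply le_inf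
    · exact (Subgroup.closure_le _).2 (commSet_subset hAV hu)
    · have h1 : (A ⊓ Subgroup.centralizer (commSet u A) : Subgroup G) ≤
          Subgroup.centralizer ((Subgroup.closure (commSet u A) : Subgroup G) : Set G) := by
        rw [Subgroup.centralizer_closure]
        exact inf_le_right
      exact Subgroup.le_centralizer_iff.1 h1
  · exact cfix_anti V inf_le_left

theorem single_ineq [Finite G] {V A : Subgroup G} (hVc : ∀ x ∈ V, ∀ y ∈ V, x * y = y * x)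
    (hAV : A ≤ Subgroup.normalizer (V : Set G))
    (hab : ⁅A, A⁆ ≤ Subgroup.centralizer (V : Set G)) {u : G} (hu : u ∈ V) :
    Nat.card A * Nat.card (cfix V A) ≤
      Nat.card (A ⊓ Subgroup.centralizer (commSet u A) : Subgroup G) *
        Nat.card (Subgroup.closure (commSet u A) ⊔ cfix V A : Subgroup G) := by
  set Au : Subgroup G := A ⊓ Subgroup.centralizer (commSet u A) with hAu
  set C : Subgroup G := cfix V A with hC
  set X : Subgroup G := Subgroup.closure (commSet u A) ⊔ C with hX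
  have hmemX : ∀ a ∈ A, ⁅u, a⁆ ∈ X := fun a ha =>
    (le_sup_left : Subgroup.closure (commSet u A) ≤ X) (Subgroup.subset_closure ⟨a, ha, rfl⟩)
  have e1 : Au.relIndex A * Nat.card Au = Nat.card A := by
    have := Cfsg.Agent.Lib.H3.relIndex_mul_card_inf A Au
    rwa [inf_of_le_right (inf_le_left : Au ≤ A)] at this
  have e2 : C.relIndex X * Nat.card C = Nat.card X := by
    have := Cfsg.Agent.Lib.H3.relIndex_mul_card_inf X C
    rwa [inf_of_le_right (le_sup_right : C ≤ X)] at this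
  have key : Au.relIndex A ≤ C.relIndex X := by
    unfold Subgroup.relIndex Subgroup.index
    let θ : (A ⧸ Au.subgroupOf A) → (X ⧸ C.subgroupOf X) := fun q =>
      QuotientGroup.mk ⟨⁅u, ((Quotient.out q : A) : G)⁆, hmemX _ (Quotient.out q : A).2⟩
    apply Nat.card_le_card_of_injective θ
    intro q q' hqq
    have h1 := QuotientGroup.eq.1 hqq
    rw [Subgroup.mem_subgroupOf] at h1
    have h2 : ⁅u, ((Quotient.out q : A) : G)⁆⁻¹ * ⁅u, ((Quotient.out q' : A) : G)⁆ ∈ C := by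
      simpa using h1
    have h3 : ((Quotient.out q : A) : G)⁻¹ * ((Quotient.out q' : A) : G) ∈ Au := by
      refine ⟨A.mul_mem (A.inv_mem (Quotient.out q : A).2) (Quotient.out q' : A).2, ?_⟩
      show _ ∈ Subgroup.centralizer (commSet u A)
      rw [Subgroup.mem_centralizer_iff]
      rintro g ⟨c, hc, rfl⟩
      exact key_comm hVc hAV hab hu (Quotient.out q : A).2 (Quotient.out q' : A).2 h2.2 hc
    have h4 : (QuotientGroup.mk (Quotient.out q) : A ⧸ Au.subgroupOf A) =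
        QuotientGroup.mk (Quotient.out q') := by
      rw [QuotientGroup.eq, Subgroup.mem_subgroupOf]
      simpa using h3
    have h5 : (QuotientGroup.mk (Quotient.out q) : A ⧸ Au.subgroupOf A) = q := Quotient.out_eq' q
    have h6 : (QuotientGroup.mk (Quotient.out q') : A ⧸ Au.subgroupOf A) = q' := Quotient.out_eq' q'
    rw [← h5, ← h6, h4]
  calc Nat.card A * Nat.card C = (Au.relIndex A * Nat.card Au) * Nat.card C := by rw [e1]
    _ ≤ (C.relIndex X * Nat.card Au) * Nat.card C := by gcongr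
    _ = Nat.card Au * (C.relIndex X * Nat.card C) := by ring
    _ = Nat.card Au * Nat.card X := by rw [e2]


theorem commutator_le_of_le_normalizer {V A U : Subgroup G}
    (hAV : A ≤ Subgroup.normalizer (V : Set G)) (hU : U ≤ V) : ⁅U, A⁆ ≤ V :=
  Subgroup.commutator_le.2 fun _ hu _ ha => commutator_mem_of_le_normalizer hAV (hU hu) ha

/-- Under maximality of `|A||C_V(A)|`, each `A_u` attains the maximum and has the expected fixed points. -/
theorem single_eq [Finite G] {V A : Subgroup G} (hVc : ∀ x ∈ V, ∀ y ∈ V, x * y = y * x)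
    (hAV : A ≤ Subgroup.normalizer (V : Set G))
    (hab : ⁅A, A⁆ ≤ Subgroup.centralizer (V : Set G))
    (hmax : ∀ B : Subgroup G, B ≤ A → offVal V B ≤ offVal V A) {u : G} (hu : u ∈ V) :
    offVal V (A ⊓ Subgroup.centralizer (commSet u A)) = offVal V A ∧
      cfix V (A ⊓ Subgroup.centralizer (commSet u A)) =
        Subgroup.closure (commSet u A) ⊔ cfix V A := by
  have h1 := single_ineq hVc hAV hab hu
  have h2 := single_le (A := A) hAV hu
  have h3 := hmax _ (inf_le_left : A ⊓ Subgroup.centralizer (commSet u A) ≤ A)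
  have h4 : Nat.card (Subgroup.closure (commSet u A) ⊔ cfix V A : Subgroup G) ≤
      Nat.card (cfix V (A ⊓ Subgroup.centralizer (commSet u A))) := Subgroup.card_le_of_le h2
  have h5 : Nat.card (A ⊓ Subgroup.centralizer (commSet u A) : Subgroup G) *
      Nat.card (Subgroup.closure (commSet u A) ⊔ cfix V A : Subgroup G) ≤
      offVal V (A ⊓ Subgroup.centralizer (commSet u A)) := Nat.mul_le_mul_left _ h4
  have h6 : offVal V (A ⊓ Subgroup.centralizer (commSet u A)) = offVal V A :=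
    le_antisymm h3 (h1.trans h5)
  refine ⟨h6, ?_⟩
  have h7 : Nat.card (A ⊓ Subgroup.centralizer (commSet u A) : Subgroup G) *
      Nat.card (cfix V (A ⊓ Subgroup.centralizer (commSet u A))) ≤
      Nat.card (A ⊓ Subgroup.centralizer (commSet u A) : Subgroup G) *
      Nat.card (Subgroup.closure (commSet u A) ⊔ cfix V A : Subgroup G) := by
    calc _ = offVal V A := h6
      _ ≤ _ := h1
  have h8 := Nat.le_of_mul_le_mul_left h7 Nat.card_pos
  exact (Subgroup.eq_of_le_of_card_ge h2 h8).symm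

/-- **Thompson replacement** (KS 9.2.1, the case where no subgroup of `A` beats `A`). -/
theorem replacement_main [Finite G] {V A : Subgroup G} (hVc : ∀ x ∈ V, ∀ y ∈ V, x * y = y * x)
    (hAV : A ≤ Subgroup.normalizer (V : Set G))
    (hab : ⁅A, A⁆ ≤ Subgroup.centralizer (V : Set G))
    (hmax : ∀ B : Subgroup G, B ≤ A → offVal V B ≤ offVal V A) {U : Subgroup G} (hU : U ≤ V) :
    cfix V (A ⊓ Subgroup.centralizer ((⁅U, A⁆ : Subgroup G) : Set G)) = ⁅U, A⁆ ⊔ cfix V A ∧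
      offVal V A = offVal V (A ⊓ Subgroup.centralizer ((⁅U, A⁆ : Subgroup G) : Set G)) := by
  set W : Subgroup G := ⁅U, A⁆ with hW
  set B₀ : Subgroup G := A ⊓ Subgroup.centralizer (W : Set G) with hB₀
  have hWV : W ≤ V := commutator_le_of_le_normalizer hAV hU
  have hcs : ∀ u ∈ U, commSet u A ⊆ (W : Set G) := by
    rintro u hu g ⟨a, ha, rfl⟩
    exact Subgroup.commutator_mem_commutator hu ha
  let M : Set (Subgroup G) :=
    {B | B₀ ≤ B ∧ B ≤ A ∧ offVal V B = offVal V A ∧ cfix V B ≤ W ⊔ cfix V A}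
  have hAM : A ∈ M := ⟨inf_le_left, le_rfl, rfl, le_sup_right⟩
  obtain ⟨B, hBM, hBmin⟩ := wellFounded_lt.has_min M ⟨A, hAM⟩
  obtain ⟨hB₀B, hBA, hBval, hBfix⟩ := hBM
  have hBle : ∀ u ∈ U, B ≤ A ⊓ Subgroup.centralizer (commSet u A) := by
    intro u hu
    obtain ⟨e1, e2⟩ := single_eq hVc hAV hab hmax (hU hu)
    obtain ⟨f1, f2⟩ := offender_inf hmax hBA inf_le_left hBval e1
    have hmem : B ⊓ (A ⊓ Subgroup.centralizer (commSet u A)) ∈ M := by
      refine ⟨le_inf hB₀B (inf_le_inf_left A (Subgroup.centralizer_le (hcs u hu))),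
        inf_le_left.trans hBA, f1, ?_⟩
      rw [f2, e2]
      refine sup_le hBfix (sup_le ?_ le_sup_right)
      exact ((Subgroup.closure_le _).2 (hcs u hu)).trans le_sup_left
    have hnlt := hBmin _ hmem
    have hle : B ⊓ (A ⊓ Subgroup.centralizer (commSet u A)) ≤ B := inf_le_left
    have heq : B ⊓ (A ⊓ Subgroup.centralizer (commSet u A)) = B := by
      by_contra hne
      exact hnlt (lt_of_le_of_ne hle hne)
    exact inf_eq_left.1 heq
  have hBB₀ : B ≤ B₀ := by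
    intro b hb
    refine ⟨hBA hb, ?_⟩
    show b ∈ Subgroup.centralizer (W : Set G)
    rw [hW, Subgroup.commutator_def, Subgroup.centralizer_closure, Subgroup.mem_centralizer_iff]
    rintro g ⟨u, hu, a, ha, rfl⟩
    have := (hBle u hu hb).2
    exact Subgroup.mem_centralizer_iff.1 this _ ⟨a, ha, rfl⟩
  have hBeq : B = B₀ := le_antisymm hBB₀ hB₀B
  rw [hBeq] at hBval hBfix
  refine ⟨le_antisymm hBfix (sup_le (le_inf hWV ?_) (cfix_anti V inf_le_left)), hBval.symm⟩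
  exact Subgroup.le_centralizer_iff.1 (inf_le_right : B₀ ≤ Subgroup.centralizer (W : Set G))


theorem comm_of_elemAb {p : ℕ} {V : Subgroup G} (hV : Cfsg.IsElementaryAbelian p V) :
    ∀ x ∈ V, ∀ y ∈ V, x * y = y * x := by
  intro x hx y hy
  have h := Subgroup.le_centralizer_iff_isMulCommutative.2 hV.1
  exact Subgroup.mem_centralizer_iff.1 (h hy) x hx


/-- `C_A(V)` is normal in `A` when `A` normalizes `V`. -/
theorem centralizer_subgroupOf_normal {V A : Subgroup G}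
    (hAV : A ≤ Subgroup.normalizer (V : Set G)) :
    ((Subgroup.centralizer (V : Set G)).subgroupOf A).Normal := by
  constructor
  intro n hn g
  rw [Subgroup.mem_subgroupOf] at hn ⊢
  rw [Subgroup.mem_centralizer_iff] at hn ⊢
  intro v hv
  have hgv : (g : G)⁻¹ * v * (g : G) ∈ V := by
    have := (Subgroup.mem_normalizer_iff.1 (hAV (A.inv_mem g.2)) v).1 hv
    simpa using this
  have h := hn _ hgv
  simp only [Subgroup.coe_mul, Subgroup.coe_inv]
  calc v * ((g : G) * (n : G) * (g : G)⁻¹)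
      = (g : G) * (((g : G)⁻¹ * v * (g : G)) * (n : G)) * (g : G)⁻¹ := by group
    _ = (g : G) * ((n : G) * ((g : G)⁻¹ * v * (g : G))) * (g : G)⁻¹ := by rw [h]
    _ = (g : G) * (n : G) * (g : G)⁻¹ * v := by group

/-- If `A` acts on `V` with every `p`-th power acting trivially, then `A = P C_A(V)` for a
`p`-subgroup `P` of `A`. -/
theorem exists_pgroup_decomp [Finite G] {p : ℕ} [Fact p.Prime] {V A : Subgroup G}
    (hAV : A ≤ Subgroup.normalizer (V : Set G))
    (hpow : ∀ a ∈ A, a ^ p ∈ Subgroup.centralizer (V : Set G)) :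
    ∃ P : Subgroup G, P ≤ A ∧ IsPGroup p P ∧
      ∀ a ∈ A, ∃ y ∈ P, y⁻¹ * a ∈ Subgroup.centralizer (V : Set G) := by
  have hKn := centralizer_subgroupOf_normal hAV
  set K : Subgroup A := (Subgroup.centralizer (V : Set G)).subgroupOf A with hK
  have hquot : IsPGroup p (A ⧸ K) := by
    intro q
    refine ⟨1, ?_⟩
    induction q using QuotientGroup.induction_on with
    | H a =>
      rw [pow_one, ← QuotientGroup.mk_pow, QuotientGroup.eq_one_iff, hK, Subgroup.mem_subgroupOf]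
      simpa using hpow a a.2
  obtain ⟨Q⟩ : Nonempty (Sylow p A) := inferInstance
  have hsurj : Function.Surjective (QuotientGroup.mk' K) := QuotientGroup.mk'_surjective K
  have htop : (Q : Subgroup A).map (QuotientGroup.mk' K) = ⊤ := by
    have h1 := (Q.mapSurjective hsurj).is_maximal' (Q := ⊤)
      (fun g => by
        obtain ⟨k, hk⟩ := hquot (g : A ⧸ K)
        exact ⟨k, Subtype.ext (by simpa using hk)⟩) le_top
    rw [← Sylow.coe_mapSurjective hsurj]
    exact h1.symm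
  refine ⟨(Q : Subgroup A).map A.subtype, Subgroup.map_subtype_le _, ?_, ?_⟩
  · exact Q.isPGroup'.map A.subtype
  · intro a ha
    have hmem : QuotientGroup.mk' K ⟨a, ha⟩ ∈ (Q : Subgroup A).map (QuotientGroup.mk' K) := by
      rw [htop]; exact Subgroup.mem_top _
    obtain ⟨y, hyQ, hy⟩ := Subgroup.mem_map.1 hmem
    refine ⟨(y : G), Subgroup.mem_map.2 ⟨y, hyQ, rfl⟩, ?_⟩
    have h2 : y⁻¹ * ⟨a, ha⟩ ∈ K := QuotientGroup.eq.1 hy
    rw [hK, Subgroup.mem_subgroupOf] at h2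
    simpa using h2

/-- Nilpotent action: if `A` acts on the `p`-group `V` as a `p`-group (all `p`-th powers act
trivially) and `X ≤ V` satisfies `X ≤ [X, A]`, then `X = 1`. -/
theorem eq_bot_of_le_commutator [Finite G] {p : ℕ} [Fact p.Prime] {V A X : Subgroup G}
    (hV : IsPGroup p V) (hAV : A ≤ Subgroup.normalizer (V : Set G))
    (hpow : ∀ a ∈ A, a ^ p ∈ Subgroup.centralizer (V : Set G))
    (hXV : X ≤ V) (hX : X ≤ ⁅X, A⁆) : X = ⊥ := by
  obtain ⟨P, hPA, hP, hdec⟩ := exists_pgroup_decomp hAV hpow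
  have hXP : ⁅X, A⁆ ≤ ⁅X, P⁆ := by
    rw [Subgroup.commutator_le]
    intro x hx a ha
    obtain ⟨y, hyP, hyc⟩ := hdec a ha
    have hcomm := Subgroup.mem_centralizer_iff.1 hyc x⁻¹ (V.inv_mem (hXV hx))
    have : ⁅x, a⁆ = ⁅x, y⁆ := by
      rw [commutatorElement_def, commutatorElement_def]
      calc x * a * x⁻¹ * a⁻¹ = x * y * ((y⁻¹ * a) * x⁻¹) * a⁻¹ := by group
        _ = x * y * (x⁻¹ * (y⁻¹ * a)) * a⁻¹ := by rw [hcomm]
        _ = x * y * x⁻¹ * y⁻¹ := by group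
    rw [this]
    exact Subgroup.commutator_mem_commutator hx hyP
  set S : Subgroup G := P ⊔ V with hS
  have hSp : IsPGroup p S := IsPGroup.to_sup_of_normal_right' hP hV (hPA.trans hAV)
  have hnil : Group.IsNilpotent S := hSp.isNilpotent
  obtain ⟨n, hn⟩ := (Subgroup.isNilpotent_iff_lowerCentralSeries S).1 hnil
  have hall : ∀ k, X ≤ S.lowerCentralSeries k := by
    intro k
    induction k with
    | zero => exact hXV.trans le_sup_right
    | succ k ih =>
      rw [Subgroup.lowerCentralSeries_succ]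
      exact (hX.trans hXP).trans (Subgroup.commutator_mono ih le_sup_left)
  have := hall n
  rw [hn] at this
  exact le_bot_iff.1 this


theorem commutator_le_of_sup {V A W C T : Subgroup G} (hVc : ∀ x ∈ V, ∀ y ∈ V, x * y = y * x)
    (hAV : A ≤ Subgroup.normalizer (V : Set G)) (hW : W ≤ V) (hC : C ≤ V)
    (hWT : ⁅W, A⁆ ≤ T) (hCT : ⁅C, A⁆ ≤ T) : ⁅W ⊔ C, A⁆ ≤ T := by
  let S : Subgroup G :=
    { carrier := {v | v ∈ V ∧ ∀ a ∈ A, ⁅v, a⁆ ∈ T}
      mul_mem' := by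
        rintro v v' ⟨hv, h1⟩ ⟨hv', h2⟩
        refine ⟨V.mul_mem hv hv', fun a ha => ?_⟩
        have hc : ⁅v', a⁆ ∈ V := commutator_mem_of_le_normalizer hAV hv' ha
        have e : ⁅v * v', a⁆ = ⁅v', a⁆ * ⁅v, a⁆ := by
          have h := hVc v hv _ hc
          calc ⁅v * v', a⁆ = (v * ⁅v', a⁆) * v⁻¹ * ⁅v, a⁆ := by
                simp only [commutatorElement_def]; group
            _ = (⁅v', a⁆ * v) * v⁻¹ * ⁅v, a⁆ := by rw [h]
            _ = ⁅v', a⁆ * ⁅v, a⁆ := by group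
        rw [e]
        exact T.mul_mem (h2 a ha) (h1 a ha)
      one_mem' := by
        refine ⟨V.one_mem, fun a _ => ?_⟩
        rw [commutatorElement_one_left]
        exact T.one_mem
      inv_mem' := by
        rintro v ⟨hv, h1⟩
        refine ⟨V.inv_mem hv, fun a ha => ?_⟩
        have hc : ⁅v, a⁆ ∈ V := commutator_mem_of_le_normalizer hAV hv ha
        have e : ⁅v⁻¹, a⁆ = ⁅v, a⁆⁻¹ := by
          have h := hVc v⁻¹ (V.inv_mem hv) _ (V.inv_mem hc)
          calc ⁅v⁻¹, a⁆ = (v⁻¹ * ⁅v, a⁆⁻¹) * v := by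
                simp only [commutatorElement_def]; group
            _ = (⁅v, a⁆⁻¹ * v⁻¹) * v := by rw [h]
            _ = ⁅v, a⁆⁻¹ := by group
        rw [e]
        exact T.inv_mem (h1 a ha) }
  have hWS : W ≤ S := fun w hw =>
    ⟨hW hw, fun a ha => hWT (Subgroup.commutator_mem_commutator hw ha)⟩
  have hCS : C ≤ S := fun c hc =>
    ⟨hC hc, fun a ha => hCT (Subgroup.commutator_mem_commutator hc ha)⟩
  rw [Subgroup.commutator_le]
  intro v hv a ha
  exact ((sup_le hWS hCS) hv).2 a ha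


/-- If `C_A([U,A])` centralizes `V` (and `A` is a maximizer acting as a `p`-group), then `[V, A] = 1`. -/
theorem commutator_eq_bot_of_replacement_trivial [Finite G] {p : ℕ} [Fact p.Prime] {V A U : Subgroup G}
    (hV : Cfsg.IsElementaryAbelian p V) (hAV : A ≤ Subgroup.normalizer (V : Set G))
    (hpow : ∀ a ∈ A, a ^ p ∈ Subgroup.centralizer (V : Set G)) (hU : U ≤ V)
    (hfix : V ≤ ⁅U, A⁆ ⊔ cfix V A) : ⁅V, A⁆ = ⊥ := by
  have hVc := comm_of_elemAb hV
  have hVp : IsPGroup p V := Cfsg.Agent.Lib.H3.elemAb_isPGroup hV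
  have hXV : ⁅V, A⁆ ≤ V := commutator_le_of_le_normalizer hAV le_rfl
  have hWV : ⁅U, A⁆ ≤ V := commutator_le_of_le_normalizer hAV hU
  have hWX : ⁅U, A⁆ ≤ ⁅V, A⁆ := Subgroup.commutator_mono hU le_rfl
  have hX : ⁅V, A⁆ ≤ ⁅⁅V, A⁆, A⁆ := by
    refine (Subgroup.commutator_mono hfix le_rfl).trans ?_
    refine commutator_le_of_sup hVc hAV hWV inf_le_left (Subgroup.commutator_mono hWX le_rfl) ?_
    have : ⁅cfix V A, A⁆ = ⊥ := Subgroup.commutator_eq_bot_iff_le_centralizer.2 inf_le_right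
    rw [this]; exact bot_le
  exact eq_bot_of_le_commutator hVp hAV hpow hXV hX


theorem commutator_sup_right_le {H K₁ K₂ N : Subgroup G} (h₁ : ⁅H, K₁⁆ ≤ N) (h₂ : ⁅H, K₂⁆ ≤ N)
    (n₁ : K₁ ≤ Subgroup.normalizer (N : Set G)) (n₂ : K₂ ≤ Subgroup.normalizer (N : Set G)) :
    ⁅H, K₁ ⊔ K₂⁆ ≤ N := by
  let S : Subgroup G :=
    { carrier := {g | g ∈ Subgroup.normalizer (N : Set G) ∧ ∀ h ∈ H, ⁅h, g⁆ ∈ N}
      mul_mem' := by
        rintro g g' ⟨hg, h1⟩ ⟨hg', h2⟩
        refine ⟨(Subgroup.normalizer (N : Set G)).mul_mem hg hg', fun h hh => ?_⟩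
        have e : ⁅h, g * g'⁆ = ⁅h, g⁆ * (g * ⁅h, g'⁆ * g⁻¹) := by
          simp only [commutatorElement_def]; group
        rw [e]
        exact N.mul_mem (h1 h hh) ((Subgroup.mem_normalizer_iff.1 hg _).1 (h2 h hh))
      one_mem' := by
        refine ⟨(Subgroup.normalizer (N : Set G)).one_mem, fun h _ => ?_⟩
        rw [commutatorElement_one_right]
        exact N.one_mem
      inv_mem' := by
        rintro g ⟨hg, h1⟩
        refine ⟨(Subgroup.normalizer (N : Set G)).inv_mem hg, fun h hh => ?_⟩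
        have e : ⁅h, g⁻¹⁆ = g⁻¹ * ⁅h, g⁆⁻¹ * g⁻¹⁻¹ := by
          simp only [commutatorElement_def]; group
        rw [e]
        exact (Subgroup.mem_normalizer_iff.1 ((Subgroup.normalizer (N : Set G)).inv_mem hg) _).1
          (N.inv_mem (h1 h hh)) }
  have hK₁ : K₁ ≤ S := fun g hg =>
    ⟨n₁ hg, fun h hh => h₁ (Subgroup.commutator_mem_commutator hh hg)⟩
  have hK₂ : K₂ ≤ S := fun g hg =>
    ⟨n₂ hg, fun h hh => h₂ (Subgroup.commutator_mem_commutator hh hg)⟩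
  rw [Subgroup.commutator_le]
  intro h hh g hg
  exact ((sup_le hK₁ hK₂) hg).2 h hh

end Cfsg.Agent.Lib.H16
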