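import Mathlib
import Cfsg.Agent.Lib.H16.Replacement
import Cfsg.Agent.S0606

/-!
helper16 library: the replacement theorem for the Thompson subgroup (KS 9.2.3).
-/

set_option autoImplicit false

namespace Cfsg.Agent.Lib.H16

open Subgroup
open scoped commutatorElement

variable {G : Type*} [Group G]

/-- **Replacement theorem for the Thompson subgroup** (KS 9.2.3). -/
theorem thompson_replacement_J [Finite G] {p : ℕ} [Fact p.Prime] (V : Subgroup G) [V.Normal]
    (hV : Cfsg.IsElementaryAbelian p V) (A : Subgroup G)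
    (hA : A ∈ Cfsg.maxElementaryAbelianSubgroups p G) :
    (⁅V, A⁆ ⊔ (A ⊓ Subgroup.centralizer ((⁅V, A⁆ : Subgroup G) : Set G))) ∈
        Cfsg.maxElementaryAbelianSubgroups p G ∧
      ⁅⁅V, ⁅V, A⁆ ⊔ (A ⊓ Subgroup.centralizer ((⁅V, A⁆ : Subgroup G) : Set G))⁆,
        ⁅V, A⁆ ⊔ (A ⊓ Subgroup.centralizer ((⁅V, A⁆ : Subgroup G) : Set G))⁆ = ⊥ ∧
      (⁅V, A⁆ ≠ ⊥ →
        ⁅V, ⁅V, A⁆ ⊔ (A ⊓ Subgroup.centralizer ((⁅V, A⁆ : Subgroup G) : Set G))⁆ ≠ ⊥) := by
  have hoff := Cfsg.Agent.S0606.result V hV A hA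
  obtain ⟨hmax, hab, hpow⟩ := hoff
  have hVc := comm_of_elemAb hV
  have hAc := comm_of_elemAb hA.1
  have hAV : A ≤ Subgroup.normalizer (V : Set G) := by
    rw [Subgroup.normalizer_eq_top]; exact le_top
  obtain ⟨h1, h2⟩ := replacement_main hVc hAV hab hmax (le_refl V)
  set W : Subgroup G := ⁅V, A⁆ with hW
  set B : Subgroup G := A ⊓ Subgroup.centralizer (W : Set G) with hB
  have hWV : W ≤ V := commutator_le_of_le_normalizer hAV le_rfl
  have hWe : Cfsg.IsElementaryAbelian p W := Cfsg.Agent.Lib.H3.elemAb_mono hWV hV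
  have hBe : Cfsg.IsElementaryAbelian p B := Cfsg.Agent.Lib.H3.elemAb_mono inf_le_left hA.1
  have hBW : B ≤ Subgroup.centralizer (W : Set G) := inf_le_right
  have hA₀e : Cfsg.IsElementaryAbelian p (W ⊔ B) := Cfsg.Agent.Lib.H3.elemAb_sup hWe hBe hBW
  -- `C_V(A) ≤ A`
  have hCA : cfix V A ≤ A := by
    have hce : Cfsg.IsElementaryAbelian p (cfix V A) := Cfsg.Agent.Lib.H3.elemAb_mono inf_le_left hV
    have hsup : Cfsg.IsElementaryAbelian p (A ⊔ cfix V A) :=
      Cfsg.Agent.Lib.H3.elemAb_sup hA.1 hce inf_le_right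
    have := Cfsg.Agent.Lib.H3.eq_of_maxElemAb_le hA hsup le_sup_left
    calc cfix V A ≤ A ⊔ cfix V A := le_sup_right
      _ = A := this.symm
  have hCB : cfix V A ≤ B := by
    refine le_inf hCA ?_
    intro x hx
    show x ∈ Subgroup.centralizer (W : Set G)
    rw [Subgroup.mem_centralizer_iff]
    intro w hw
    exact hVc w (hWV hw) x hx.1
  have hWB : W ≤ Subgroup.centralizer (B : Set G) := Subgroup.le_centralizer_iff.1 hBW
  -- `A₀ = B ⊔ C_V(B)`
  have hA₀ : W ⊔ B = B ⊔ cfix V B := by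
    rw [h1]
    apply le_antisymm
    · exact sup_le (le_sup_right.trans' le_sup_left) le_sup_left
    · exact sup_le le_sup_right (sup_le le_sup_left (hCB.trans le_sup_right))
  have hinf : B ⊓ cfix V B ≤ cfix V A := by
    intro x hx
    refine ⟨hx.2.1, ?_⟩
    show x ∈ Subgroup.centralizer (A : Set G)
    rw [Subgroup.mem_centralizer_iff]
    intro a ha
    exact hAc a ha x hx.1.1
  have hcard : Nat.card A ≤ Nat.card (W ⊔ B : Subgroup G) := by
    have k1 := Cfsg.Agent.Lib.H3.card_mul_card_le B (cfix V B)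
    have k2 : Nat.card (B ⊓ cfix V B : Subgroup G) ≤ Nat.card (cfix V A) :=
      Subgroup.card_le_of_le hinf
    have k3 : Nat.card A * Nat.card (cfix V A) ≤
        Nat.card (W ⊔ B : Subgroup G) * Nat.card (cfix V A) := by
      calc Nat.card A * Nat.card (cfix V A) = Nat.card B * Nat.card (cfix V B) := h2
        _ ≤ Nat.card (B ⊔ cfix V B : Subgroup G) * Nat.card (B ⊓ cfix V B : Subgroup G) := k1
        _ ≤ Nat.card (B ⊔ cfix V B : Subgroup G) * Nat.card (cfix V A) :=
            Nat.mul_le_mul_left _ k2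
        _ = Nat.card (W ⊔ B : Subgroup G) * Nat.card (cfix V A) := by rw [hA₀]
    exact Nat.le_of_mul_le_mul_right k3 Nat.card_pos
  have hA₀W : W ⊔ B ≤ Subgroup.centralizer (W : Set G) :=
    sup_le (Subgroup.le_centralizer_iff_isMulCommutative.2 hWe.1) hBW
  refine ⟨⟨hA₀e, fun B' hB' => (hA.2 B' hB').trans hcard⟩, ?_, ?_⟩
  · have hVA₀ : ⁅V, W ⊔ B⁆ ≤ W := by
      apply commutator_sup_right_le
      · have : ⁅V, W⁆ = ⊥ := by
          rw [Subgroup.commutator_eq_bot_iff_le_centralizer]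
          exact (Subgroup.le_centralizer_iff_isMulCommutative.2 hV.1).trans
            (Subgroup.centralizer_le hWV)
        rw [this]; exact bot_le
      · exact Subgroup.commutator_mono le_rfl inf_le_left
      · exact (Subgroup.le_centralizer_iff_isMulCommutative.2 hWe.1).trans
          (Subgroup.centralizer_le_normalizer _)
      · exact hBW.trans (Subgroup.centralizer_le_normalizer _)
    have : ⁅W, W ⊔ B⁆ = ⊥ := by
      rw [Subgroup.commutator_eq_bot_iff_le_centralizer]
      exact Subgroup.le_centralizer_iff.1 hA₀W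
    exact le_bot_iff.1 ((Subgroup.commutator_mono hVA₀ le_rfl).trans (le_of_eq this))
  · intro hne hbot
    apply hne
    have hcen : V ≤ Subgroup.centralizer ((W ⊔ B : Subgroup G) : Set G) :=
      Subgroup.commutator_eq_bot_iff_le_centralizer.1 hbot
    have hfix : V ≤ ⁅V, A⁆ ⊔ cfix V A := by
      rw [← h1]
      exact le_inf le_rfl (hcen.trans (Subgroup.centralizer_le (le_sup_right : B ≤ W ⊔ B)))
    exact commutator_eq_bot_of_replacement_trivial hV hAV hpow le_rfl hfix

end Cfsg.Agent.Lib.H16
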