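import Cfsg.Agent.Lib.H5.Glaub.Defs

/-!
# S4359 (Glauberman 1969, Thm 1), piece (TQ): `q < t` implies `2t ≤ 3q`

Blueprint: `tools/blueprints/S4359.md`, section (TQ).  (helper16, twin of helper25.)
-/

set_option autoImplicit false
open scoped Pointwise
open Cfsg.Agent.Lib.H5.Glaub Cfsg.Agent.Lib.H5.Glaub.Setup
namespace Cfsg.Agent.Lib.H16.Glaub

variable {G : Type*} [Group G] [Finite G]

/-- a subgroup of index `p` in a group of order `p ^ (k+1)` is normalized by it -/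
theorem conj_mem_of_card {A B : Subgroup G} {p k : ℕ} (hp : p.Prime) (hAB : A ≤ B)
    (hA : Nat.card A = p ^ k) (hB : Nat.card B = p ^ (k + 1)) {b a : G} (hb : b ∈ B) (ha : a ∈ A) :
    b * a * b⁻¹ ∈ A := by
  have hidx : (A.subgroupOf B).index = p := by
    have h1 : Nat.card (A.subgroupOf B) = p ^ k := by
      rw [Nat.card_congr (Subgroup.subgroupOfEquivOfLe hAB).toEquiv, hA]
    have h2 := (A.subgroupOf B).card_mul_index
    rw [h1, hB, pow_succ] at h2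
    exact Nat.eq_of_mul_eq_mul_left (pow_pos hp.pos k) h2
  have hn : (A.subgroupOf B).Normal := by
    apply Subgroup.normal_of_index_eq_minFac_card
    rw [hidx, hB, hp.pow_minFac (Nat.succ_ne_zero k)]
  have := hn.conj_mem ⟨a, hAB ha⟩ (Subgroup.mem_subgroupOf.2 ha) ⟨b, hb⟩
  simpa [Subgroup.mem_subgroupOf] using this

/-- if `B` normalizes `H` then it normalizes the centre of `H` -/
theorem conj_mem_zc {H B : Subgroup G} (hB : ∀ g ∈ B, ∀ a ∈ H, g * a * g⁻¹ ∈ H) {v : G} (hv : v ∈ B)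
    {x : G} (hx : x ∈ zc H) : v * x * v⁻¹ ∈ zc H := by
  have hv' : ∀ a ∈ H, v⁻¹ * a * v ∈ H := fun a ha => by
    simpa using hB v⁻¹ (B.inv_mem hv) a ha
  rw [mem_zc] at hx ⊢
  refine ⟨hB v hv x hx.1, fun y hy => ?_⟩
  have h1 := hx.2 _ (hv' y hy)
  calc y * (v * x * v⁻¹) = v * ((v⁻¹ * y * v) * x) * v⁻¹ := by group
    _ = v * (x * (v⁻¹ * y * v)) * v⁻¹ := by rw [h1]
    _ = v * x * v⁻¹ * y := by group

/-- `I[a,b']` is normalized by `I[a,b'+1]` -/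
theorem Iv_conj_left (S : Setup G) {t : ℕ} (hI : S.Ivl t) {a b b' : ℤ} (hb : b = b' + 1)
    (hab : a ≤ b') (hbt : b < a + t) {g x : G} (hg : g ∈ S.Iv t a b) (hx : x ∈ S.Iv t a b') :
    g * x * g⁻¹ ∈ S.Iv t a b' := by
  subst hb
  have hA := hI.card a b' hab (by omega)
  have hB := hI.card a (b' + 1) (by omega) hbt
  have e : (b' + 1 - a).toNat + 1 = ((b' - a).toNat + 1) + 1 := by omega
  rw [e] at hB
  exact conj_mem_of_card S.hp (S.Iv_mono t le_rfl (by omega)) hA hB hg hx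

/-- `I[a+1,b]` is normalized by `I[a,b]` -/
theorem Iv_conj_right (S : Setup G) {t : ℕ} (hI : S.Ivl t) {a a' b : ℤ} (ha : a' = a + 1)
    (hab : a' ≤ b) (hbt : b < a + t) {g x : G} (hg : g ∈ S.Iv t a b) (hx : x ∈ S.Iv t a' b) :
    g * x * g⁻¹ ∈ S.Iv t a' b := by
  subst ha
  have hA := hI.card (a + 1) b hab (by omega)
  have hB := hI.card a b (by omega) hbt
  have e : (b - a).toNat + 1 = ((b - (a + 1)).toNat + 1) + 1 := by omega
  rw [e] at hB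
  exact conj_mem_of_card S.hp (S.Iv_mono t (by omega) le_rfl) hA hB hg hx

/-- (TQ) Step 7: `2t ≤ 3q` when `q < t`. -/
theorem two_t_le (S : Setup G) (t q : ℕ) (hU : S.Uni t) (hI : S.Ivl t) (hD : S.Dist t q)
    (hC : S.Cen t q) (hq : q + 1 ≤ t) : 2 * t ≤ 3 * q := by
  by_contra hcon
  have hq1 := hD.pos
  -- the two centres
  obtain ⟨hN, h2q⟩ := hC 0 ((t : ℤ) - 2) (by omega) (by omega)
  obtain ⟨hN2, -⟩ := hC ((t : ℤ) - q) (2 * (t : ℤ) - q - 2) (by omega) (by omega)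
  -- non-commuting `u ∈ X_(t-q-1)`, `v ∈ X_(t-1)`
  have hnc := hD.ncomm ((t : ℤ) - q - 1)
  simp only [Comm] at hnc
  push Not at hnc
  obtain ⟨u, hu, v, hv, huv⟩ := hnc
  have hc1 : v * u * v⁻¹ * u⁻¹ ≠ 1 := by
    intro h
    rw [mul_inv_eq_one, mul_inv_eq_iff_eq_mul] at h
    exact huv h.symm
  -- (A) `c ∈ N = Z(I[0,t-2])`
  have huN : u ∈ zc (S.Iv t 0 ((t : ℤ) - 2)) := by
    rw [hN]
    exact S.X_le_Iv t (by omega) (by omega) hu
  have hvB : v ∈ S.Iv t 0 ((t : ℤ) - 1) := S.X_le_Iv t (by omega) (by omega) hv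
  have hcN : v * u * v⁻¹ * u⁻¹ ∈ zc (S.Iv t 0 ((t : ℤ) - 2)) := by
    refine Subgroup.mul_mem _ ?_ (Subgroup.inv_mem _ huN)
    exact conj_mem_zc (B := S.Iv t 0 ((t : ℤ) - 1))
      (fun g hg a ha => Iv_conj_left S hI (by ring) (by omega) (by omega) hg ha) hvB huN
  rw [hN] at hcN
  -- (B) `c ∈ I[t-q,t-2]`
  have huA1 : u ∈ S.Iv t ((t : ℤ) - q - 1) ((t : ℤ) - 2) := S.X_le_Iv t (by omega) (by omega) hu
  have huB : u ∈ S.Iv t ((t : ℤ) - q - 1) ((t : ℤ) - 1) := S.X_le_Iv t (by omega) (by omega) hu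
  have hvB' : v ∈ S.Iv t ((t : ℤ) - q - 1) ((t : ℤ) - 1) := S.X_le_Iv t (by omega) (by omega) hv
  have hvA2 : v ∈ S.Iv t ((t : ℤ) - q) ((t : ℤ) - 1) := S.X_le_Iv t (by omega) (by omega) hv
  have hcA1 : v * u * v⁻¹ * u⁻¹ ∈ S.Iv t ((t : ℤ) - q - 1) ((t : ℤ) - 2) := by
    refine Subgroup.mul_mem _ ?_ (Subgroup.inv_mem _ huA1)
    exact Iv_conj_left S hI (by ring) (by omega) (by omega) hvB' huA1
  have hcA2 : v * u * v⁻¹ * u⁻¹ ∈ S.Iv t ((t : ℤ) - q) ((t : ℤ) - 1) := by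
    have e : v * u * v⁻¹ * u⁻¹ = v * (u * v⁻¹ * u⁻¹) := by group
    rw [e]
    refine Subgroup.mul_mem _ hvA2 ?_
    exact Iv_conj_right S hI (by ring) (by omega) (by omega) huB (Subgroup.inv_mem _ hvA2)
  have hcA : v * u * v⁻¹ * u⁻¹ ∈ S.Iv t ((t : ℤ) - q) ((t : ℤ) - 2) := by
    have h := Subgroup.mem_inf.2 ⟨hcA1, hcA2⟩
    rw [hI.inf ((t : ℤ) - q - 1) ((t : ℤ) - 1) _ _ _ _ (by omega) (by omega) (by omega) (by omega)
      (by omega)] at h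
    exact S.Iv_mono t (by omega) (by omega) h
  -- (C) `c ∈ N_2 = Z(I[t-q,2t-q-2])`
  have hvN2 : v ∈ zc (S.Iv t ((t : ℤ) - q) (2 * (t : ℤ) - q - 2)) := by
    rw [hN2]
    exact S.X_le_Iv t (by omega) (by omega) hv
  have huB2 : u ∈ S.Iv t ((t : ℤ) - q - 1) (2 * (t : ℤ) - q - 2) :=
    S.X_le_Iv t (by omega) (by omega) hu
  have hcN2 : v * u * v⁻¹ * u⁻¹ ∈ zc (S.Iv t ((t : ℤ) - q) (2 * (t : ℤ) - q - 2)) := by
    have e : v * u * v⁻¹ * u⁻¹ = v * (u * v⁻¹ * u⁻¹) := by group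
    rw [e]
    refine Subgroup.mul_mem _ hvN2 ?_
    exact conj_mem_zc (B := S.Iv t ((t : ℤ) - q - 1) (2 * (t : ℤ) - q - 2))
      (fun g hg a ha => Iv_conj_right S hI (by ring) (by omega) (by omega) hg ha) huB2
      (Subgroup.inv_mem _ hvN2)
  rw [hN2] at hcN2
  -- (D) intersect
  have h1 := Subgroup.mem_inf.2 ⟨hcN, hcA⟩
  rw [hI.inf ((t : ℤ) - q - 1) ((t : ℤ) - 2) _ _ _ _ (by omega) (by omega) (by omega) (by omega)
    (by omega)] at h1
  have h2 := Subgroup.mem_inf.2 ⟨h1, hcN2⟩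
  rw [hI.inf ((t : ℤ) - q - 1) ((t : ℤ) - 1) _ _ _ _ (by omega) (by omega) (by omega) (by omega)
    (by omega), S.Iv_eq_bot t (by omega), Subgroup.mem_bot] at h2
  exact hc1 h2

end Cfsg.Agent.Lib.H16.Glaub
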