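import Mathlib

/-! Thompson transfer (helper16): the sign character of a Sylow 2-subgroup relative to an index-two
subgroup, its transfer to `G`, and the evaluation at elements of 2-power order none of whose
conjugates lies in the index-two subgroup. -/

set_option autoImplicit false

namespace Cfsg.Agent.Lib.H16

/-- The sign character of a subgroup `H` with respect to a subgroup `M` of relative index two. -/
noncomputable def sgnHom {G : Type*} [Group G] (H M : Subgroup G) (hM : M.relIndex H = 2) :
    H →* ℤˣ := by
  classical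
  exact MonoidHom.mk' (fun s => if (s : G) ∈ M then 1 else -1) (by
    intro s t
    have key : (s * t : H) ∈ M.subgroupOf H ↔ (s ∈ M.subgroupOf H ↔ t ∈ M.subgroupOf H) :=
      Subgroup.mul_mem_iff_of_index_two hM
    simp only [Subgroup.mem_subgroupOf, Subgroup.coe_mul] at key
    by_cases hs : (s : G) ∈ M <;> by_cases ht : (t : G) ∈ M
    · have : (s : G) * t ∈ M := key.mpr (iff_of_true hs ht)
      simp [hs, ht, this]
    · have : ¬ (s : G) * t ∈ M := fun h => ht ((key.mp h).mp hs)
      simp [hs, ht, this]
    · have : ¬ (s : G) * t ∈ M := fun h => hs ((key.mp h).mpr ht)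
      simp [hs, ht, this]
    · have : (s : G) * t ∈ M := key.mpr (iff_of_false hs ht)
      simp [hs, ht, this])

theorem sgnHom_of_mem {G : Type*} [Group G] (H M : Subgroup G) (hM : M.relIndex H = 2) (s : H)
    (hs : (s : G) ∈ M) : sgnHom H M hM s = 1 := by
  classical
  simp [sgnHom, hs]

theorem sgnHom_of_not_mem {G : Type*} [Group G] (H M : Subgroup G) (hM : M.relIndex H = 2) (s : H)
    (hs : (s : G) ∉ M) : sgnHom H M hM s = -1 := by
  classical
  simp [sgnHom, hs]

/-- The transfer of the sign character: a homomorphism `G →* ℤˣ`. -/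
noncomputable def thompsonTransfer {G : Type*} [Group G] [Finite G] (S : Sylow 2 G)
    (M : Subgroup G) (hM : M.relIndex (S : Subgroup G) = 2) : G →* ℤˣ :=
  MonoidHom.transfer (sgnHom (S : Subgroup G) M hM)

/-- **Thompson transfer, evaluation.** If `x` has order `2 ^ n`, every element of `S` outside `M`
has order exceeding `2 ^ (n - 1)` and no conjugate of `x` lies in `M`, then the transfer of the sign
character takes the value `-1` at `x`. -/
theorem thompsonTransfer_eq_neg_one {G : Type*} [Group G] [Finite G] (S : Sylow 2 G)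
    (M : Subgroup G) (hM : M.relIndex (S : Subgroup G) = 2)
    (n : ℕ) (hord : ∀ y ∈ (S : Subgroup G), y ∉ M → 2 ^ (n - 1) < orderOf y)
    (x : G) (hxn : orderOf x = 2 ^ n) (hcon : ∀ g : G, g * x * g⁻¹ ∉ M) :
    thompsonTransfer S M hM x = -1 := by
  classical
  set H : Subgroup G := (S : Subgroup G) with hH
  set ϕ := sgnHom H M hM with hϕ
  haveI : Fintype (Quotient (MulAction.orbitRel (Subgroup.zpowers x) (G ⧸ H))) :=
    Fintype.ofFinite _
  have hterm : ∀ q : Quotient (MulAction.orbitRel (Subgroup.zpowers x) (G ⧸ H)),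
      ϕ ⟨q.out.out⁻¹ * x ^ Function.minimalPeriod (x • ·) q.out * q.out.out,
        QuotientGroup.out_conj_pow_minimalPeriod_mem H x q.out⟩
        = (-1) ^ Function.minimalPeriod (x • ·) q.out := by
    intro q
    have hkdvd : Function.minimalPeriod (x • ·) q.out ∣ 2 ^ n := by
      apply Function.IsPeriodicPt.minimalPeriod_dvd
      rw [Function.IsPeriodicPt, Function.IsFixedPt, smul_iterate, ← hxn, pow_orderOf_eq_one]
      exact one_smul _ _
    obtain ⟨j, hjn, hkj⟩ := (Nat.dvd_prime_pow Nat.prime_two).mp hkdvd
    have hmemH := QuotientGroup.out_conj_pow_minimalPeriod_mem H x q.out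
    rcases Nat.eq_zero_or_pos j with hj0 | hjpos
    · have hk1 : Function.minimalPeriod (x • ·) q.out = 1 := by rw [hkj, hj0, pow_zero]
      have hnot : q.out.out⁻¹ * x ^ Function.minimalPeriod (x • ·) q.out * q.out.out ∉ M := by
        rw [hk1, pow_one]
        have := hcon (q.out.out⁻¹)
        rwa [inv_inv] at this
      rw [hϕ, sgnHom_of_not_mem H M hM _ hnot, hk1, pow_one]
    · have hmem : q.out.out⁻¹ * x ^ Function.minimalPeriod (x • ·) q.out * q.out.out ∈ M := by
        by_contra hnot
        have h1 := hord _ hmemH hnot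
        have h2 : orderOf (q.out.out⁻¹ * x ^ Function.minimalPeriod (x • ·) q.out * q.out.out)
            = orderOf (x ^ Function.minimalPeriod (x • ·) q.out) := by
          have := MulEquiv.orderOf_eq (MulAut.conj (q.out.out⁻¹))
            (x ^ Function.minimalPeriod (x • ·) q.out)
          rw [MulAut.conj_apply, inv_inv] at this
          exact this
        rw [h2, hkj, orderOf_pow' x (by positivity), hxn] at h1
        have h3 : Nat.gcd (2 ^ n) (2 ^ j) = 2 ^ j :=
          Nat.gcd_eq_right (Nat.pow_dvd_pow 2 hjn)
        rw [h3, Nat.pow_div hjn (by norm_num)] at h1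
        have h4 : 2 ^ (n - j) ≤ 2 ^ (n - 1) := Nat.pow_le_pow_right (by norm_num) (by omega)
        omega
      have heven : Even (Function.minimalPeriod (x • ·) q.out) := by
        rw [hkj]
        exact (Nat.even_pow.mpr ⟨even_two, by omega⟩)
      rw [hϕ, sgnHom_of_mem H M hM _ hmem, heven.neg_one_pow]
  unfold thompsonTransfer
  rw [MonoidHom.transfer_eq_prod_quotient_orbitRel_zpowers_quot,
    Finset.prod_congr rfl (fun q _ => hterm q), Finset.prod_pow_eq_pow_sum,
    ← Subgroup.index_eq_sum_minimalPeriod H x]
  have hodd : Odd H.index := by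
    have := S.not_dvd_index
    rw [← Nat.not_even_iff_odd, even_iff_two_dvd]
    exact this
  exact hodd.neg_one_pow

/-- A homomorphism to `ℤˣ` taking the value `-1` has a kernel of index two. -/
theorem index_ker_eq_two_of_apply_eq_neg_one {G : Type*} [Group G] (f : G →* ℤˣ) (x : G)
    (hx : f x = -1) : f.ker.index = 2 := by
  rw [Subgroup.index_ker]
  have hrange : f.range = ⊤ := by
    rw [eq_top_iff]
    intro u _
    rcases Int.units_eq_one_or u with rfl | rfl
    · exact Subgroup.one_mem _
    · exact ⟨x, hx⟩
  rw [hrange, Subgroup.card_top, Nat.card_eq_fintype_card, Fintype.card_units_int]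

/-- **Thompson transfer lemma**: under the hypotheses of `thompsonTransfer_eq_neg_one` there is a
normal subgroup of index two not containing `x`. -/
theorem exists_normal_index_two_not_mem {G : Type*} [Group G] [Finite G] (S : Sylow 2 G)
    (M : Subgroup G) (hM : M.relIndex (S : Subgroup G) = 2)
    (n : ℕ) (hord : ∀ y ∈ (S : Subgroup G), y ∉ M → 2 ^ (n - 1) < orderOf y)
    (x : G) (hxn : orderOf x = 2 ^ n) (hcon : ∀ g : G, g * x * g⁻¹ ∉ M) :
    ∃ K : Subgroup G, K.Normal ∧ K.index = 2 ∧ x ∉ K := by
  have hV := thompsonTransfer_eq_neg_one S M hM n hord x hxn hcon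
  refine ⟨(thompsonTransfer S M hM).ker, inferInstance,
    index_ker_eq_two_of_apply_eq_neg_one _ x hV, ?_⟩
  intro hmem
  rw [MonoidHom.mem_ker, hV] at hmem
  exact absurd hmem (by decide)

end Cfsg.Agent.Lib.H16
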