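import Mathlib

/-!
# S4429 helper lib (helper16): the quadratic Gaussian period of a primitive 11th root of unity

For `hζ : IsPrimitiveRoot ζ 11`: `η = ζ + ζ^3 + ζ^4 + ζ^5 + ζ^9` (exponents = the nonzero squares mod 11) and
`η' = ζ^2 + ζ^6 + ζ^7 + ζ^8 + ζ^10`: `η + η' = -1`, `η η' = 3`, `η^2 = -η - 3`, `conj η = η'`, and `1, η` are linearly
independent over `ℤ`.
-/

set_option autoImplicit false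

namespace Cfsg.Agent.Lib.H16.O7920

open scoped ComplexConjugate

variable {ζ : ℂ}

theorem zeta_pow_eleven (hζ : IsPrimitiveRoot ζ 11) : ζ ^ 11 = 1 := hζ.pow_eq_one

theorem zeta_sum11 (hζ : IsPrimitiveRoot ζ 11) :
    1 + ζ + ζ ^ 2 + ζ ^ 3 + ζ ^ 4 + ζ ^ 5 + ζ ^ 6 + ζ ^ 7 + ζ ^ 8 + ζ ^ 9 + ζ ^ 10 = 0 := by
  have h := hζ.geom_sum_eq_zero (by norm_num : 1 < 11)
  simp only [Finset.sum_range_succ, Finset.sum_range_zero, pow_zero, pow_one, zero_add] at h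
  exact h

theorem eta_add_eta' (hζ : IsPrimitiveRoot ζ 11) :
    (ζ + ζ ^ 3 + ζ ^ 4 + ζ ^ 5 + ζ ^ 9) + (ζ ^ 2 + ζ ^ 6 + ζ ^ 7 + ζ ^ 8 + ζ ^ 10) = -1 := by
  linear_combination zeta_sum11 hζ

theorem eta_mul_eta' (hζ : IsPrimitiveRoot ζ 11) :
    (ζ + ζ ^ 3 + ζ ^ 4 + ζ ^ 5 + ζ ^ 9) * (ζ ^ 2 + ζ ^ 6 + ζ ^ 7 + ζ ^ 8 + ζ ^ 10) = 3 := by
  have hs := zeta_sum11 hζ
  have h11 := zeta_pow_eleven hζ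
  linear_combination (2 : ℂ) * hs +
    (5 + 2 * ζ + 2 * ζ ^ 2 + 1 * ζ ^ 3 + 2 * ζ ^ 4 + 1 * ζ ^ 5 + 1 * ζ ^ 6 + 1 * ζ ^ 8) * h11

theorem eta_sq (hζ : IsPrimitiveRoot ζ 11) :
    (ζ + ζ ^ 3 + ζ ^ 4 + ζ ^ 5 + ζ ^ 9) ^ 2 = -(ζ + ζ ^ 3 + ζ ^ 4 + ζ ^ 5 + ζ ^ 9) - 3 := by
  have hs := zeta_sum11 hζ
  have h11 := zeta_pow_eleven hζ
  linear_combination (3 : ℂ) * hs + (2 * ζ + 2 * ζ ^ 2 + 2 * ζ ^ 3 + 1 * ζ ^ 7) * h11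

theorem eta'_sq (hζ : IsPrimitiveRoot ζ 11) :
    (ζ ^ 2 + ζ ^ 6 + ζ ^ 7 + ζ ^ 8 + ζ ^ 10) ^ 2 = -(ζ ^ 2 + ζ ^ 6 + ζ ^ 7 + ζ ^ 8 + ζ ^ 10) - 3 := by
  have h1 := eta_add_eta' hζ
  have h2 := eta_mul_eta' hζ
  linear_combination (ζ ^ 2 + ζ ^ 6 + ζ ^ 7 + ζ ^ 8 + ζ ^ 10) * h1 - h2

theorem conj_zeta11 (hζ : IsPrimitiveRoot ζ 11) : conj ζ = ζ ^ 10 := by
  have h11 := zeta_pow_eleven hζ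
  have hn : ‖ζ‖ = 1 := hζ.norm'_eq_one (by norm_num)
  have h0 : ζ ≠ 0 := hζ.ne_zero (by norm_num)
  have h1 : ζ * conj ζ = 1 := by
    rw [Complex.mul_conj, Complex.normSq_eq_norm_sq, hn]; norm_num
  have h2 : ζ * ζ ^ 10 = 1 := by rw [← h11]; ring
  exact mul_left_cancel₀ h0 (h1.trans h2.symm)

theorem conj_eta (hζ : IsPrimitiveRoot ζ 11) :
    conj (ζ + ζ ^ 3 + ζ ^ 4 + ζ ^ 5 + ζ ^ 9) = ζ ^ 2 + ζ ^ 6 + ζ ^ 7 + ζ ^ 8 + ζ ^ 10 := by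
  have h11 := zeta_pow_eleven hζ
  simp only [map_add, map_pow, conj_zeta11 hζ]
  linear_combination (ζ ^ 19 + ζ ^ 8 + ζ ^ 29 + ζ ^ 18 + ζ ^ 7 + ζ ^ 39 + ζ ^ 28 + ζ ^ 17 + ζ ^ 6 +
    ζ ^ 79 + ζ ^ 68 + ζ ^ 57 + ζ ^ 46 + ζ ^ 35 + ζ ^ 24 + ζ ^ 13 + ζ ^ 2) * h11

theorem conj_eta' (hζ : IsPrimitiveRoot ζ 11) :
    conj (ζ ^ 2 + ζ ^ 6 + ζ ^ 7 + ζ ^ 8 + ζ ^ 10) = ζ + ζ ^ 3 + ζ ^ 4 + ζ ^ 5 + ζ ^ 9 := by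
  rw [← conj_eta hζ, Complex.conj_conj]

/-- `η` is not rational. -/
theorem eta_irrational (hζ : IsPrimitiveRoot ζ 11) (q : ℚ) :
    ζ + ζ ^ 3 + ζ ^ 4 + ζ ^ 5 + ζ ^ 9 ≠ (q : ℂ) := by
  intro h
  have h1 := eta_sq hζ
  rw [h] at h1
  have h2 : ((q ^ 2 + q + 3 : ℚ) : ℂ) = 0 := by push_cast; linear_combination h1
  have h3 : q ^ 2 + q + 3 = 0 := by exact_mod_cast h2
  nlinarith [sq_nonneg (q + 1 / 2)]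

/-- `1` and `η` are linearly independent over `ℤ`. -/
theorem int_indep (hζ : IsPrimitiveRoot ζ 11) (a b : ℤ)
    (h : (a : ℂ) + b * (ζ + ζ ^ 3 + ζ ^ 4 + ζ ^ 5 + ζ ^ 9) = 0) : a = 0 ∧ b = 0 := by
  by_cases hb : b = 0
  · subst hb
    have : (a : ℂ) = 0 := by simpa using h
    exact ⟨by exact_mod_cast this, rfl⟩
  · exfalso
    apply eta_irrational hζ (-(a : ℚ) / b)
    have hb' : (b : ℂ) ≠ 0 := by exact_mod_cast hb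
    push_cast
    field_simp
    linear_combination h

theorem eta_sub_eta'_ne_zero (hζ : IsPrimitiveRoot ζ 11) :
    (ζ + ζ ^ 3 + ζ ^ 4 + ζ ^ 5 + ζ ^ 9) - (ζ ^ 2 + ζ ^ 6 + ζ ^ 7 + ζ ^ 8 + ζ ^ 10) ≠ 0 := by
  intro h
  have h1 := eta_add_eta' hζ
  have h2 := eta_mul_eta' hζ
  have h5 : ((ζ + ζ ^ 3 + ζ ^ 4 + ζ ^ 5 + ζ ^ 9) - (ζ ^ 2 + ζ ^ 6 + ζ ^ 7 + ζ ^ 8 + ζ ^ 10)) ^ 2 = -11 := by
    linear_combination ((ζ + ζ ^ 3 + ζ ^ 4 + ζ ^ 5 + ζ ^ 9) + (ζ ^ 2 + ζ ^ 6 + ζ ^ 7 + ζ ^ 8 + ζ ^ 10) - 1) * h1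
      - 4 * h2
  rw [h] at h5
  norm_num at h5

end Cfsg.Agent.Lib.H16.O7920
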