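import Mathlib
import Cfsg.Prelude.Def_Characters
import Cfsg.Agent.Lib.H24.CharOrth
import Cfsg.Agent.Lib.H24.CharBasic
import Cfsg.Agent.Lib.H12.O7920F2
import Cfsg.Agent.Lib.H16.O7920Eta
import Cfsg.Agent.Lib.L0.CharOps
import Cfsg.Agent.Lib.L0.CharBasic

/-!
# S4429 piece (F3)+(F5) (helper16), general form: the characters not vanishing at an element `x` of order 11
with `C_G(x) = ⟨x⟩`, `x ~ x^3`, `x ≁ x⁻¹`, by column orthogonality only.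

With `η = ζ + ζ^3 + ζ^4 + ζ^5 + ζ^9`, `η' = ζ^2 + ζ^6 + ζ^7 + ζ^8 + ζ^10`: there are exactly two characters `χ₁, χ₂`
with irrational value at `x` (`χ₁ x = -δ η'`, `χ₂ x = -δ η`, equal degrees `≡ 6 δ (mod 11)`), a finite set `S` of
characters with nonzero integer value `ε ψ` at `x`, `∑ ε^2 = 4`, every other nonprincipal character vanishes at `x`,
and for `g ≁ x, x⁻¹`: `χ₁ g = χ₂ g` and `1 + ∑_{ψ ∈ S} ε ψ ψ(g) + δ χ₁(g) = 0`.
-/

set_option autoImplicit false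

namespace Cfsg.Agent.Lib.H16.O7920

open Cfsg Cfsg.Agent.Lib.L0 Cfsg.Agent.Lib.H24
open scoped BigOperators ComplexConjugate

universe u

/-- splitting three distinct points off a sum over a fintype -/
theorem sum_split3 {ι M : Type*} [Fintype ι] [DecidableEq ι] [AddCommMonoid M] (f : ι → M)
    (a b c : ι) (hab : a ≠ b) (hac : a ≠ c) (hbc : b ≠ c) :
    ∑ i, f i = f a + (f b + (f c + ∑ i ∈ ((Finset.univ.erase a).erase b).erase c, f i)) := by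
  rw [Finset.add_sum_erase _ f (show c ∈ (Finset.univ.erase a).erase b from by simp [hac.symm, hbc.symm]),
    Finset.add_sum_erase _ f (show b ∈ Finset.univ.erase a from by simp [hab.symm]),
    Finset.add_sum_erase _ f (Finset.mem_univ a)]

theorem mem_erase3 {ι : Type*} [Fintype ι] [DecidableEq ι] {a b c i : ι} :
    i ∈ ((Finset.univ.erase a).erase b).erase c ↔ i ≠ a ∧ i ≠ b ∧ i ≠ c := by
  simp only [Finset.mem_erase, Finset.mem_univ, and_true]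
  tauto

/-- PURE integer combinatorics for `p = 11`, `e = 5`. -/
theorem arith_eleven {ι : Type u} [Fintype ι] [DecidableEq ι] (A m D : ι → ℤ) (hD : ∀ i, 0 < D i)
    (i₁ : ι) (hA1 : A i₁ = 1) (hm1 : m i₁ = 0) (hD1 : D i₁ = 1)
    (hf : ∑ i, (A i ^ 2 - A i * m i + 3 * m i ^ 2) = 11)
    (hg : ∑ i, (A i ^ 2 - 3 * m i ^ 2) = 0)
    (hh : ∑ i, (2 * A i * m i - m i ^ 2) = 0)
    (hDm : ∑ i, D i * m i = 0) (hDA : ∑ i, D i * (A i - m i) = 0) :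
    ∃ (j₁ j₂ : ι) (δ : ℤ), (δ = 1 ∨ δ = -1) ∧ j₁ ≠ i₁ ∧ j₂ ≠ i₁ ∧ j₁ ≠ j₂ ∧ A j₁ = δ ∧ m j₁ = δ ∧
      A j₂ = 0 ∧ m j₂ = -δ ∧ D j₁ = D j₂ ∧ (∀ i, i ≠ j₁ → i ≠ j₂ → m i = 0) ∧
      ∑ i ∈ ((Finset.univ.erase i₁).erase j₁).erase j₂, A i ^ 2 = 4 := by
  classical
  set F : ι → ℤ := fun i => A i ^ 2 - A i * m i + 3 * m i ^ 2 with hF
  have hFnn : ∀ i, 0 ≤ F i := fun i => by
    simp only [hF]; nlinarith [sq_nonneg (2 * A i - m i), sq_nonneg (m i)]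
  have hF1 : F i₁ = 1 := by simp only [hF, hA1, hm1]; norm_num
  have hfs : ∑ j, F j = 11 := hf
  set M : Finset ι := Finset.univ.filter (fun i => m i ≠ 0) with hM
  have hi₁M : i₁ ∉ M := by simp [hM, hm1]
  have hmemM : ∀ i, i ∈ M ↔ m i ≠ 0 := fun i => by simp [hM]
  have hpair : ∀ i, i ≠ i₁ → F i ≤ 10 := by
    intro i hi
    have h1 : ∑ j ∈ ({i₁, i} : Finset ι), F j ≤ ∑ j, F j :=
      Finset.sum_le_sum_of_subset_of_nonneg (Finset.subset_univ _) (fun j _ _ => hFnn j)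
    rw [Finset.sum_pair (Ne.symm hi), hF1] at h1
    linarith
  have hintsq : ∀ t : ℤ, 0 ≤ t * (t - 1) := by
    intro t
    rcases le_or_gt t 0 with h | h
    · nlinarith
    · have : 1 ≤ t := by omega
      nlinarith
  have hMval : ∀ i ∈ M, (m i = 1 ∨ m i = -1) ∧ 3 ≤ F i := by
    intro i hi
    have hmi : m i ≠ 0 := (hmemM i).1 hi
    have hii : i ≠ i₁ := fun h => hi₁M (h ▸ hi)
    have h10 := hpair i hii
    have hlt : m i ^ 2 < 4 := by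
      by_contra hge
      push Not at hge
      simp only [hF] at h10
      nlinarith [sq_nonneg (2 * A i - m i)]
    have hm : m i = 1 ∨ m i = -1 := by
      have h1 : -2 < m i := by nlinarith
      have h2 : m i < 2 := by nlinarith
      omega
    refine ⟨hm, ?_⟩
    simp only [hF]
    rcases hm with h | h <;> rw [h]
    · nlinarith [hintsq (A i)]
    · nlinarith [hintsq (-A i)]
  have hMne : M.Nonempty := by
    by_contra hem
    rw [Finset.not_nonempty_iff_eq_empty] at hem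
    have hm0 : ∀ i, m i = 0 := by
      intro i
      by_contra h
      have : i ∈ M := (hmemM i).2 h
      rw [hem] at this
      simp at this
    have h2 : ∑ i, (A i ^ 2 - 3 * m i ^ 2) = ∑ i, A i ^ 2 := by
      refine Finset.sum_congr rfl fun i _ => ?_
      rw [hm0 i]; ring
    rw [h2] at hg
    have h1 : A i₁ ^ 2 ≤ ∑ i, A i ^ 2 :=
      Finset.single_le_sum (f := fun i => A i ^ 2) (fun i _ => sq_nonneg (A i)) (Finset.mem_univ i₁)
    rw [hA1] at h1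
    linarith
  have hsumM : ∑ i ∈ M, F i ≤ 10 := by
    have h1 : ∑ j ∈ insert i₁ M, F j ≤ ∑ j, F j :=
      Finset.sum_le_sum_of_subset_of_nonneg (Finset.subset_univ _) (fun j _ _ => hFnn j)
    rw [Finset.sum_insert hi₁M, hF1] at h1
    linarith
  have hcard3 : 3 * (M.card : ℤ) ≤ 10 := by
    have h1 : ∑ i ∈ M, (3 : ℤ) ≤ ∑ i ∈ M, F i := Finset.sum_le_sum (fun i hi => (hMval i hi).2)
    rw [Finset.sum_const, nsmul_eq_mul] at h1
    linarith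
  have hm_out' : ∀ i, i ∉ M → m i = 0 := by
    intro i hi
    by_contra h
    exact hi ((hmemM i).2 h)
  have hhM : ∑ i ∈ M, (2 * A i * m i - 1) = 0 := by
    have h1 : ∑ i, (2 * A i * m i - m i ^ 2) = ∑ i ∈ M, (2 * A i * m i - m i ^ 2) := by
      symm
      apply Finset.sum_subset (Finset.subset_univ _)
      intro i _ hi
      rw [hm_out' i hi]; ring
    rw [h1] at hh
    rw [← hh]
    refine Finset.sum_congr rfl fun i hi => ?_
    rcases (hMval i hi).1 with h | h <;> rw [h] <;> ring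
  have hcard2 : M.card = 2 := by
    have h1 : ∑ i ∈ M, (2 * A i * m i - 1) = 2 * ∑ i ∈ M, A i * m i - (M.card : ℤ) := by
      rw [Finset.sum_sub_distrib, Finset.mul_sum, Finset.sum_const, nsmul_eq_mul, mul_one]
      congr 1
      refine Finset.sum_congr rfl fun i _ => by ring
    rw [h1] at hhM
    have hpos : 0 < M.card := Finset.card_pos.2 hMne
    omega
  obtain ⟨a, b, hab, hMab⟩ := Finset.card_eq_two.1 hcard2
  have haM : a ∈ M := by rw [hMab]; simp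
  have hbM : b ∈ M := by rw [hMab]; simp
  have hai : a ≠ i₁ := fun h => hi₁M (h ▸ haM)
  have hbi : b ≠ i₁ := fun h => hi₁M (h ▸ hbM)
  have hm_out : ∀ i, i ≠ a → i ≠ b → m i = 0 := by
    intro i h1 h2
    apply hm_out'
    rw [hMab]
    simp [h1, h2]
  have hDm' : D a * m a + D b * m b = 0 := by
    have h1 : ∑ i, D i * m i = ∑ i ∈ M, D i * m i := by
      symm
      apply Finset.sum_subset (Finset.subset_univ _)
      intro i _ hi
      rw [hm_out' i hi, mul_zero]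
    rw [h1, hMab, Finset.sum_pair hab] at hDm
    exact hDm
  have hh' : (2 * A a * m a - 1) + (2 * A b * m b - 1) = 0 := by
    rw [hMab, Finset.sum_pair hab] at hhM
    exact hhM
  have hFab : F a + F b ≤ 10 := by
    rw [hMab, Finset.sum_pair hab] at hsumM
    exact hsumM
  -- the ordered core: `m p = 1`, `m q = -1`
  have core : ∀ p q : ι, p ≠ q → p ≠ i₁ → q ≠ i₁ → m p = 1 → m q = -1 →
      (∀ i, i ≠ p → i ≠ q → m i = 0) → D p * m p + D q * m q = 0 →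
      (2 * A p * m p - 1) + (2 * A q * m q - 1) = 0 → F p + F q ≤ 10 →
      ∃ (j₁ j₂ : ι) (δ : ℤ), (δ = 1 ∨ δ = -1) ∧ j₁ ≠ i₁ ∧ j₂ ≠ i₁ ∧ j₁ ≠ j₂ ∧ A j₁ = δ ∧ m j₁ = δ ∧
        A j₂ = 0 ∧ m j₂ = -δ ∧ D j₁ = D j₂ ∧ (∀ i, i ≠ j₁ → i ≠ j₂ → m i = 0) ∧
        ∑ i ∈ ((Finset.univ.erase i₁).erase j₁).erase j₂, A i ^ 2 = 4 := by
    intro p q hpq hpi hqi hmp hmq hout hDpq hhpq hFpq
    rw [hmp, hmq] at hDpq hhpq
    have hDeq : D p = D q := by linarith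
    have hAq : A q = A p - 1 := by linarith
    have hFp : F p = A p ^ 2 - A p + 3 := by simp only [hF, hmp]; ring
    have hFq : F q = A q ^ 2 + A q + 3 := by simp only [hF, hmq]; ring
    rw [hFp, hFq, hAq] at hFpq
    have hlo : -1 ≤ A p := by nlinarith
    have hhi : A p ≤ 2 := by nlinarith
    -- the rest of the sum
    have hrestF : ∀ j₁ j₂ : ι, j₁ ≠ i₁ → j₂ ≠ i₁ → j₁ ≠ j₂ → (∀ i, i ≠ j₁ → i ≠ j₂ → m i = 0) →
        ∑ i ∈ ((Finset.univ.erase i₁).erase j₁).erase j₂, A i ^ 2 = 11 - 1 - F j₁ - F j₂ := by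
      intro j₁ j₂ h1 h2 h12 ho
      have hs := sum_split3 F i₁ j₁ j₂ (Ne.symm h1) (Ne.symm h2) h12
      rw [hfs, hF1] at hs
      have hR : ∑ i ∈ ((Finset.univ.erase i₁).erase j₁).erase j₂, F i =
          ∑ i ∈ ((Finset.univ.erase i₁).erase j₁).erase j₂, A i ^ 2 := by
        refine Finset.sum_congr rfl fun i hi => ?_
        obtain ⟨_, hi1, hi2⟩ := mem_erase3.1 hi
        simp only [hF, ho i hi1 hi2]
        ring
      rw [hR] at hs
      linarith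
    have hrestDA : ∀ j₁ j₂ : ι, j₁ ≠ i₁ → j₂ ≠ i₁ → j₁ ≠ j₂ → (∀ i, i ≠ j₁ → i ≠ j₂ → m i = 0) →
        ∑ i ∈ ((Finset.univ.erase i₁).erase j₁).erase j₂, A i ^ 2 = 0 →
        1 + (D j₁ * (A j₁ - m j₁) + D j₂ * (A j₂ - m j₂)) = 0 := by
      intro j₁ j₂ h1 h2 h12 ho hz
      have hs := sum_split3 (fun i => D i * (A i - m i)) i₁ j₁ j₂ (Ne.symm h1) (Ne.symm h2) h12
      rw [hDA] at hs
      have hR : ∑ i ∈ ((Finset.univ.erase i₁).erase j₁).erase j₂, D i * (A i - m i) = 0 := by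
        apply Finset.sum_eq_zero
        intro i hi
        obtain ⟨_, hi1, hi2⟩ := mem_erase3.1 hi
        have hA0 : A i ^ 2 = 0 :=
          (Finset.sum_eq_zero_iff_of_nonneg (fun k _ => sq_nonneg (A k))).1 hz i hi
        rw [ho i hi1 hi2, pow_eq_zero_iff (two_ne_zero) |>.1 hA0]
        ring
      rw [hR] at hs
      simp only [hD1, hA1, hm1] at hs
      linarith
    have hcases : A p = -1 ∨ A p = 0 ∨ A p = 1 ∨ A p = 2 := by omega
    rcases hcases with h | h | h | h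
    · -- `(-1, 1)`, `(-2, -1)`: impossible
      exfalso
      have hAq' : A q = -2 := by rw [hAq, h]; norm_num
      have hz := hrestF p q hpi hqi hpq hout
      rw [hFp, hFq, h, hAq'] at hz
      norm_num at hz
      have := hrestDA p q hpi hqi hpq hout hz
      rw [h, hAq', hmp, hmq, hDeq] at this
      have := hD q
      omega
    · -- `δ = -1`
      have hAq' : A q = -1 := by rw [hAq, h]; norm_num
      refine ⟨q, p, -1, Or.inr rfl, hqi, hpi, Ne.symm hpq, hAq', hmq, h, by rw [hmp]; norm_num,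
        hDeq.symm, fun i h1 h2 => hout i h2 h1, ?_⟩
      rw [hrestF q p hqi hpi (Ne.symm hpq) (fun i h1 h2 => hout i h2 h1), hFp, hFq, h, hAq']
      norm_num
    · -- `δ = 1`
      have hAq' : A q = 0 := by rw [hAq, h]; norm_num
      refine ⟨p, q, 1, Or.inl rfl, hpi, hqi, hpq, h, hmp, hAq', by rw [hmq], hDeq, hout, ?_⟩
      rw [hrestF p q hpi hqi hpq hout, hFp, hFq, h, hAq']
      norm_num
    · -- `(2, 1)`, `(1, -1)`: impossible
      exfalso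
      have hAq' : A q = 1 := by rw [hAq, h]; norm_num
      have hz := hrestF p q hpi hqi hpq hout
      rw [hFp, hFq, h, hAq'] at hz
      norm_num at hz
      have := hrestDA p q hpi hqi hpq hout hz
      rw [h, hAq', hmp, hmq, hDeq] at this
      have := hD q
      omega
  have hDa := hD a
  have hDb := hD b
  rcases (hMval a haM).1 with hma | hma <;> rcases (hMval b hbM).1 with hmb | hmb
  · exfalso; rw [hma, hmb] at hDm'; linarith
  · exact core a b hab hai hbi hma hmb hm_out hDm' hh' hFab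
  · exact core b a (Ne.symm hab) hbi hai hmb hma (fun i h1 h2 => hm_out i h2 h1)
      (by linarith) (by linarith) (by linarith)
  · exfalso; rw [hma, hmb] at hDm'; linarith

/-- (F3)+(F5), general form. -/
theorem b0_structure11 {G : Type u} [Group G] [Fintype G]
    (K : Subgroup G) (hK : Nat.card K = 11) (hC : Subgroup.centralizer (K : Set G) = K)
    {x : G} (hx : x ∈ K) (hx1 : x ≠ 1) (hconj : IsConj x (x ^ 3)) (hninv : ¬ IsConj x x⁻¹)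
    (ζ : ℂ) (hζ : IsPrimitiveRoot ζ 11) :
    ∃ (χ₁ χ₂ : IrrCharacter G) (δ : ℤ) (S : Finset (IrrCharacter G)) (ε : IrrCharacter G → ℤ),
      (δ = 1 ∨ δ = -1) ∧ χ₁ ≠ χ₂ ∧ χ₁ ∉ S ∧ χ₂ ∉ S ∧ (χ₁ : G → ℂ) ≠ 1 ∧ (χ₂ : G → ℂ) ≠ 1 ∧
      (∀ ψ ∈ S, (ψ : G → ℂ) ≠ 1) ∧
      (χ₁ : G → ℂ) x = -(δ : ℂ) * (ζ ^ 2 + ζ ^ 6 + ζ ^ 7 + ζ ^ 8 + ζ ^ 10) ∧
      (χ₂ : G → ℂ) x = -(δ : ℂ) * (ζ + ζ ^ 3 + ζ ^ 4 + ζ ^ 5 + ζ ^ 9) ∧
      (χ₁ : G → ℂ) 1 = (χ₂ : G → ℂ) 1 ∧ (∃ c : ℕ, (χ₁ : G → ℂ) 1 = 6 * (δ : ℂ) + 11 * (c : ℂ)) ∧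
      (∀ ψ ∈ S, (ψ : G → ℂ) x = (ε ψ : ℂ) ∧ ∃ c : ℕ, (ψ : G → ℂ) 1 = (ε ψ : ℂ) + 11 * (c : ℂ)) ∧
      (∀ ψ ∈ S, ε ψ ≠ 0) ∧ ∑ ψ ∈ S, ε ψ ^ 2 = 4 ∧
      (∀ ψ : IrrCharacter G, (ψ : G → ℂ) ≠ 1 → ψ ≠ χ₁ → ψ ≠ χ₂ → ψ ∉ S →
        (ψ : G → ℂ) x = 0 ∧ ∃ c : ℕ, (ψ : G → ℂ) 1 = 11 * (c : ℂ)) ∧
      ∀ g : G, ¬ IsConj g x → ¬ IsConj g x⁻¹ →
        (χ₁ : G → ℂ) g = (χ₂ : G → ℂ) g ∧
          1 + ∑ ψ ∈ S, (ε ψ : ℂ) * (ψ : G → ℂ) g + (δ : ℂ) * (χ₁ : G → ℂ) g = 0 := by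
  classical
  have hfi : Fintype (IrrCharacter G) := Fintype.ofFinite (IrrCharacter G)
  -- algebra of `η`, `η'`
  obtain ⟨η, hη⟩ : ∃ η : ℂ, ζ + ζ ^ 3 + ζ ^ 4 + ζ ^ 5 + ζ ^ 9 = η := ⟨_, rfl⟩
  obtain ⟨η', hη'⟩ : ∃ η' : ℂ, ζ ^ 2 + ζ ^ 6 + ζ ^ 7 + ζ ^ 8 + ζ ^ 10 = η' := ⟨_, rfl⟩
  rw [hη, hη']
  have hab : η + η' = -1 := by rw [← hη, ← hη']; exact eta_add_eta' hζ
  have hab' : η * η' = 3 := by rw [← hη, ← hη']; exact eta_mul_eta' hζ
  have hη2 : η ^ 2 = -η - 3 := by rw [← hη]; exact eta_sq hζ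
  have hcη : conj η = η' := by rw [← hη, ← hη']; exact conj_eta hζ
  have hcη' : conj η' = η := by rw [← hη, ← hη']; exact conj_eta' hζ
  have hindep : ∀ a b : ℤ, (a : ℂ) + b * η = 0 → a = 0 ∧ b = 0 := by
    intro a b h
    rw [← hη] at h
    exact int_indep hζ a b h
  have hne : η - η' ≠ 0 := by rw [← hη, ← hη']; exact eta_sub_eta'_ne_zero hζ
  have hη'e : η' = -1 - η := by linear_combination hab
  -- the order of `x`
  have hox : orderOf x = 11 := by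
    have h1 : orderOf (⟨x, hx⟩ : K) ∣ Nat.card K := orderOf_dvd_natCard _
    rw [hK, Subgroup.orderOf_mk] at h1
    rcases (Nat.Prime.eq_one_or_self_of_dvd (by norm_num : Nat.Prime 11) _ h1) with h2 | h2
    · exact absurd (orderOf_eq_one_iff.1 h2) hx1
    · exact h2
  -- the centralizer of `x`
  have hcent : Nat.card (Subgroup.centralizer ({x} : Set G)) = 11 := by
    have heq : Subgroup.zpowers x = K := by
      apply Subgroup.eq_of_le_of_card_ge ((Subgroup.zpowers_le).2 hx)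
      rw [Nat.card_zpowers, hox, hK]
    have h1 : Subgroup.centralizer ({x} : Set G) = Subgroup.centralizer (K : Set G) := by
      apply le_antisymm
      · intro g hg
        rw [Subgroup.mem_centralizer_iff] at hg ⊢
        intro k hk
        rw [← heq] at hk
        obtain ⟨n, rfl⟩ := Subgroup.mem_zpowers_iff.1 hk
        have h2 : x * g = g * x := hg x (Set.mem_singleton x)
        exact ((Commute.zpow_left (show Commute x g from h2) n)).eq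
      · exact Subgroup.centralizer_le (Set.singleton_subset_iff.2 hx)
    rw [h1, hC, hK]
  -- the values at `x`, `x⁻¹`, `1`
  have hvals := fun ψ : IrrCharacter G =>
    Cfsg.Agent.Lib.H12.O7920.char_values_order11 ψ.1 ψ.2 x hox hconj ζ hζ
  choose A m c hAx hAxi hA1 using hvals
  simp only [hη, hη'] at hAx hAxi
  have hcx : ∀ ψ : IrrCharacter G, conj ((ψ : G → ℂ) x) = (A ψ : ℂ) + m ψ * η' := by
    intro ψ
    rw [hAx ψ, map_add, map_mul, map_intCast, map_intCast, hcη]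
  have hcxi : ∀ ψ : IrrCharacter G, conj ((ψ : G → ℂ) x⁻¹) = (A ψ : ℂ) + m ψ * η := by
    intro ψ
    rw [hAxi ψ, map_add, map_mul, map_intCast, map_intCast, hcη']
  -- the trivial character
  set T : IrrCharacter G := trivialIrr G with hT
  have hT1 : ∀ ψ : IrrCharacter G, (ψ : G → ℂ) = 1 → ψ = T := by
    intro ψ h
    apply Subtype.ext
    rw [h]; rfl
  have hTv : ∀ g : G, (T : G → ℂ) g = 1 := fun g => rfl
  have hAT : A T = 1 ∧ m T = 0 := by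
    have h1 := hAx T
    rw [hTv] at h1
    have := hindep (A T - 1) (m T) (by push_cast; linear_combination -h1)
    exact ⟨by linarith [this.1], this.2⟩
  -- degrees
  have hDex : ∀ ψ : IrrCharacter G, ∃ n : ℕ, 0 < n ∧ (ψ : G → ℂ) 1 = n := fun ψ => irr_one_eq ψ
  choose Dn hDpos hDn using hDex
  set D : IrrCharacter G → ℤ := fun ψ => (Dn ψ : ℤ) with hDdef
  have hD : ∀ ψ : IrrCharacter G, (ψ : G → ℂ) 1 = (D ψ : ℂ) := fun ψ => by rw [hDn ψ]; simp [hDdef]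
  have hDp : ∀ ψ : IrrCharacter G, 0 < D ψ := fun ψ => by simp only [hDdef]; exact_mod_cast hDpos ψ
  have hDT : D T = 1 := by
    have := hD T
    rw [hTv] at this
    exact_mod_cast this.symm
  -- (x, x)
  have hf : ∑ ψ : IrrCharacter G, (A ψ ^ 2 - A ψ * m ψ + 3 * m ψ ^ 2) = 11 := by
    have h1 := second_orthogonality x x
    rw [if_pos (IsConj.refl x), hcent] at h1
    have h2 : ∀ ψ : IrrCharacter G, (ψ : G → ℂ) x * conj ((ψ : G → ℂ) x) =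
        ((A ψ ^ 2 - A ψ * m ψ + 3 * m ψ ^ 2 : ℤ) : ℂ) := by
      intro ψ
      rw [hcx ψ, hAx ψ]
      push_cast
      linear_combination (A ψ : ℂ) * (m ψ : ℂ) * hab + (m ψ : ℂ) ^ 2 * hab'
    rw [Finset.sum_congr rfl (fun ψ _ => h2 ψ), ← Int.cast_sum] at h1
    exact_mod_cast h1
  -- (x, x⁻¹)
  have hgh : ∑ ψ : IrrCharacter G, (A ψ ^ 2 - 3 * m ψ ^ 2) = 0 ∧
      ∑ ψ : IrrCharacter G, (2 * A ψ * m ψ - m ψ ^ 2) = 0 := by
    have h1 := second_orthogonality x x⁻¹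
    rw [if_neg hninv] at h1
    have h2 : ∀ ψ : IrrCharacter G, (ψ : G → ℂ) x * conj ((ψ : G → ℂ) x⁻¹) =
        ((A ψ ^ 2 - 3 * m ψ ^ 2 : ℤ) : ℂ) + ((2 * A ψ * m ψ - m ψ ^ 2 : ℤ) : ℂ) * η := by
      intro ψ
      rw [hcxi ψ, hAx ψ]
      push_cast
      linear_combination (m ψ : ℂ) ^ 2 * hη2
    rw [Finset.sum_congr rfl (fun ψ _ => h2 ψ), Finset.sum_add_distrib, ← Finset.sum_mul,
      ← Int.cast_sum, ← Int.cast_sum] at h1
    exact hindep _ _ h1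
  -- (1, x)
  have h1x : ¬ IsConj (1 : G) x := fun h => hx1 (isConj_one_right.1 h)
  have hdeg : ∑ ψ : IrrCharacter G, D ψ * (A ψ - m ψ) = 0 ∧ ∑ ψ : IrrCharacter G, D ψ * m ψ = 0 := by
    have h1 := second_orthogonality (1 : G) x
    rw [if_neg h1x] at h1
    have h2 : ∀ ψ : IrrCharacter G, (ψ : G → ℂ) 1 * conj ((ψ : G → ℂ) x) =
        ((D ψ * (A ψ - m ψ) : ℤ) : ℂ) + ((-(D ψ * m ψ) : ℤ) : ℂ) * η := by
      intro ψ
      rw [hcx ψ, hD ψ, hη'e]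
      push_cast
      ring
    rw [Finset.sum_congr rfl (fun ψ _ => h2 ψ), Finset.sum_add_distrib, ← Finset.sum_mul,
      ← Int.cast_sum, ← Int.cast_sum] at h1
    have := hindep _ _ h1
    refine ⟨this.1, ?_⟩
    have h3 := this.2
    rw [Finset.sum_neg_distrib] at h3
    linarith
  obtain ⟨j₁, j₂, δ, hδ, hj₁T, hj₂T, hj₁j₂, hAj₁, hmj₁, hAj₂, hmj₂, hDj, hmout, hrest⟩ :=
    arith_eleven A m D hDp T hAT.1 hAT.2 hDT hf hgh.1 hgh.2 hdeg.2 hdeg.1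
  -- the set `S`
  set R : Finset (IrrCharacter G) := ((Finset.univ.erase T).erase j₁).erase j₂ with hR
  set S : Finset (IrrCharacter G) := R.filter (fun ψ => A ψ ≠ 0) with hS
  have hmemR : ∀ ψ, ψ ∈ R ↔ ψ ≠ T ∧ ψ ≠ j₁ ∧ ψ ≠ j₂ := fun ψ => mem_erase3
  have hmemS : ∀ ψ, ψ ∈ S ↔ (ψ ≠ T ∧ ψ ≠ j₁ ∧ ψ ≠ j₂) ∧ A ψ ≠ 0 := by
    intro ψ
    rw [hS, Finset.mem_filter, hmemR]
  have hmR : ∀ ψ ∈ R, m ψ = 0 := by
    intro ψ hψ
    obtain ⟨_, h1, h2⟩ := (hmemR ψ).1 hψ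
    exact hmout ψ h1 h2
  have hsumS : ∀ f : IrrCharacter G → ℂ, (∀ ψ ∈ R, A ψ = 0 → f ψ = 0) →
      ∑ ψ ∈ R, f ψ = ∑ ψ ∈ S, f ψ := by
    intro f hf0
    rw [hS, Finset.sum_filter_of_ne]
    intro ψ hψ hne0 h0
    exact hne0 (hf0 ψ hψ h0)
  have hsq4 : ∑ ψ ∈ S, A ψ ^ 2 = 4 := by
    rw [← hrest, hS, Finset.sum_filter_of_ne]
    intro ψ _ hne0 h0
    apply hne0
    rw [h0]; norm_num
  -- values
  have hδ0 : (δ : ℂ) ≠ 0 := by
    rcases hδ with h | h <;> rw [h] <;> norm_num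
  have hχ₁x : (j₁ : G → ℂ) x = -(δ : ℂ) * η' := by
    rw [hAx j₁, hAj₁, hmj₁, hη'e]; ring
  have hχ₁xi : (j₁ : G → ℂ) x⁻¹ = -(δ : ℂ) * η := by
    rw [hAxi j₁, hAj₁, hmj₁, hη'e]; ring
  have hχ₂x : (j₂ : G → ℂ) x = -(δ : ℂ) * η := by
    rw [hAx j₂, hAj₂, hmj₂]; push_cast; ring
  have hχ₂xi : (j₂ : G → ℂ) x⁻¹ = -(δ : ℂ) * η' := by
    rw [hAxi j₂, hAj₂, hmj₂]; push_cast; ring
  have hRx : ∀ ψ ∈ R, (ψ : G → ℂ) x = (A ψ : ℂ) ∧ (ψ : G → ℂ) x⁻¹ = (A ψ : ℂ) := by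
    intro ψ hψ
    rw [hAx ψ, hAxi ψ, hmR ψ hψ]
    simp
  have hsplit : ∀ f : IrrCharacter G → ℂ,
      ∑ ψ, f ψ = f T + (f j₁ + (f j₂ + ∑ ψ ∈ R, f ψ)) := fun f =>
    sum_split3 f T j₁ j₂ (Ne.symm hj₁T) (Ne.symm hj₂T) hj₁j₂
  refine ⟨j₁, j₂, δ, S, A, hδ, hj₁j₂, fun h => ((hmemS j₁).1 h).1.2.1 rfl,
    fun h => ((hmemS j₂).1 h).1.2.2 rfl, fun h => hj₁T (hT1 _ h), fun h => hj₂T (hT1 _ h),
    fun ψ hψ h => ((hmemS ψ).1 hψ).1.1 (hT1 _ h), hχ₁x, hχ₂x, ?_, ?_, ?_,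
    fun ψ hψ => ((hmemS ψ).1 hψ).2, hsq4, ?_, ?_⟩
  · rw [hD j₁, hD j₂, hDj]
  · refine ⟨c j₁, ?_⟩
    rw [hA1 j₁, hAj₁, hmj₁]; ring
  · intro ψ hψ
    have hψR : ψ ∈ R := (hmemR ψ).2 ((hmemS ψ).1 hψ).1
    refine ⟨(hRx ψ hψR).1, c ψ, ?_⟩
    rw [hA1 ψ, hmR ψ hψR]; push_cast; ring
  · intro ψ h1 h2 h3 h4
    have hψT : ψ ≠ T := fun h => h1 (by rw [h]; rfl)
    have hψR : ψ ∈ R := (hmemR ψ).2 ⟨hψT, h2, h3⟩
    have hA0 : A ψ = 0 := by
      by_contra h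
      exact h4 ((hmemS ψ).2 ⟨⟨hψT, h2, h3⟩, h⟩)
    refine ⟨by rw [(hRx ψ hψR).1, hA0]; simp, c ψ, ?_⟩
    rw [hA1 ψ, hmR ψ hψR, hA0]; push_cast; ring
  · intro g hgx hgxi
    have e1 := second_orthogonality g x
    rw [if_neg hgx, hsplit] at e1
    have e2 := second_orthogonality g x⁻¹
    rw [if_neg hgxi, hsplit] at e2
    have hR1 : ∑ ψ ∈ R, (ψ : G → ℂ) g * conj ((ψ : G → ℂ) x) =
        ∑ ψ ∈ S, (A ψ : ℂ) * (ψ : G → ℂ) g := by
      rw [← hsumS (fun ψ => (A ψ : ℂ) * (ψ : G → ℂ) g) (fun ψ _ h0 => by simp [h0])]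
      refine Finset.sum_congr rfl fun ψ hψ => ?_
      rw [(hRx ψ hψ).1, map_intCast]; ring
    have hR2 : ∑ ψ ∈ R, (ψ : G → ℂ) g * conj ((ψ : G → ℂ) x⁻¹) =
        ∑ ψ ∈ S, (A ψ : ℂ) * (ψ : G → ℂ) g := by
      rw [← hsumS (fun ψ => (A ψ : ℂ) * (ψ : G → ℂ) g) (fun ψ _ h0 => by simp [h0])]
      refine Finset.sum_congr rfl fun ψ hψ => ?_
      rw [(hRx ψ hψ).2, map_intCast]; ring
    rw [hR1] at e1
    rw [hR2] at e2
    simp only [hTv, hχ₁x, hχ₂x, map_mul, map_neg, map_intCast, hcη, hcη', map_one] at e1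
    simp only [hTv, hχ₁xi, hχ₂xi, map_mul, map_neg, map_intCast, hcη, hcη', map_one] at e2
    have hdiff : (δ : ℂ) * (η - η') * ((j₁ : G → ℂ) g - (j₂ : G → ℂ) g) = 0 := by
      linear_combination e2 - e1
    have heq : (j₁ : G → ℂ) g = (j₂ : G → ℂ) g := by
      rcases mul_eq_zero.1 hdiff with h | h
      · rcases mul_eq_zero.1 h with h' | h'
        · exact absurd h' hδ0
        · exact absurd h' hne
      · exact sub_eq_zero.1 h
    refine ⟨heq, ?_⟩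
    rw [← heq] at e1
    linear_combination e1 + (δ : ℂ) * (j₁ : G → ℂ) g * hab

end Cfsg.Agent.Lib.H16.O7920
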