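import Mathlib

/-!
# S5289 piece NC (helper16): `|N_S(T)| ≤ p |C_S(T)|` for `|T| = p²` in a `p`-group `S`.
-/

set_option autoImplicit false

namespace Cfsg.Agent.Lib.H16.RK2

open MulAction in
/-- **NC**.  `N_S(T)/C_S(T)` has order at most `p` for a subgroup `T` of order `p²` of a `p`-group `S`. -/
theorem card_normalizer_le {Ω : Type*} [Group Ω] {p : ℕ} [Fact p.Prime] (S T : Subgroup Ω) [Finite S]
    (hS : IsPGroup p S) (hTS : T ≤ S) (hT : Nat.card T = p ^ 2) :
    Nat.card ↥(S ⊓ Subgroup.normalizer (T : Set Ω)) ≤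
      p * Nat.card ↥(S ⊓ Subgroup.centralizer (T : Set Ω)) := by
  classical
  have hp : p.Prime := Fact.out
  set N : Subgroup Ω := S ⊓ Subgroup.normalizer (T : Set Ω) with hNdef
  set C : Subgroup Ω := S ⊓ Subgroup.centralizer (T : Set Ω) with hCdef
  have hNS : N ≤ S := inf_le_left
  have hCS : C ≤ S := inf_le_left
  haveI : Finite ↥N := Finite.of_injective _ (Subgroup.inclusion_injective hNS)
  haveI : Finite ↥C := Finite.of_injective _ (Subgroup.inclusion_injective hCS)
  haveI : Finite ↥T := Finite.of_injective _ (Subgroup.inclusion_injective hTS)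
  have hNp : IsPGroup p ↥N := hS.to_le hNS
  have hconj : ∀ g ∈ N, ∀ u ∈ T, g * u * g⁻¹ ∈ T := fun g hg u hu =>
    (Subgroup.mem_normalizer_iff.1 hg.2 u).1 hu
  letI act : MulAction ↥N ↥T :=
    { smul := fun g u => ⟨(g : Ω) * (u : Ω) * (g : Ω)⁻¹, hconj g g.2 u u.2⟩
      one_smul := fun u => Subtype.ext (by
        show ((1 : ↥N) : Ω) * (u : Ω) * ((1 : ↥N) : Ω)⁻¹ = u
        simp)
      mul_smul := fun g h u => Subtype.ext (by
        show ((g * h : ↥N) : Ω) * (u : Ω) * ((g * h : ↥N) : Ω)⁻¹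
          = (g : Ω) * ((h : Ω) * (u : Ω) * (h : Ω)⁻¹) * (g : Ω)⁻¹
        simp [mul_assoc]) }
  have hsmul : ∀ (g : ↥N) (u : ↥T), ((g • u : ↥T) : Ω) = (g : Ω) * (u : Ω) * (g : Ω)⁻¹ :=
    fun _ _ => rfl
  -- a nontrivial element of `T` centralized by `N`
  have hdvd : p ∣ Nat.card ↥T := by rw [hT]; exact dvd_pow_self p two_ne_zero
  have h1 : (1 : ↥T) ∈ fixedPoints ↥N ↥T := by
    intro g
    apply Subtype.ext
    rw [hsmul]
    simp
  obtain ⟨z0, hz0, hz01⟩ := hNp.exists_fixed_point_of_prime_dvd_card_of_fixed_point (↥T) hdvd h1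
  -- the subgroup of `T` centralized by `N`
  set Z : Subgroup Ω := T ⊓ Subgroup.centralizer (N : Set Ω) with hZdef
  have hZT : Z ≤ T := inf_le_left
  have hmemZ : ∀ u, u ∈ Z ↔ u ∈ T ∧ ∀ g ∈ N, g * u = u * g := by
    intro u
    rw [hZdef, Subgroup.mem_inf, Subgroup.mem_centralizer_iff]
    rfl
  have hz0Z : (z0 : Ω) ∈ Z := by
    rw [hmemZ]
    refine ⟨z0.2, fun g hg => ?_⟩
    have := congrArg (fun u : ↥T => (u : Ω)) (hz0 ⟨g, hg⟩)
    simp only [hsmul] at this
    calc g * (z0 : Ω) = g * (z0 : Ω) * g⁻¹ * g := by group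
      _ = (z0 : Ω) * g := by rw [this]
  have hZne : Z ≠ ⊥ := by
    intro h
    rw [h, Subgroup.mem_bot] at hz0Z
    exact hz01 (Subtype.ext hz0Z.symm)
  -- card facts about subgroups of `T`
  have hsub : ∀ K : Subgroup Ω, K ≤ T → ∃ m ≤ 2, Nat.card ↥K = p ^ m := fun K hK =>
    (Nat.dvd_prime_pow hp).1 (hT ▸ Subgroup.card_dvd_of_le hK)
  have hZcard : p ≤ Nat.card ↥Z := by
    obtain ⟨m, hm, hmc⟩ := hsub Z hZT
    rcases Nat.eq_zero_or_pos m with h0 | hpos
    · exfalso
      rw [h0, pow_zero] at hmc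
      exact hZne (Subgroup.eq_bot_of_card_eq Z hmc)
    · rw [hmc]
      calc p = p ^ 1 := (pow_one p).symm
        _ ≤ p ^ m := Nat.pow_le_pow_right hp.pos hpos
  by_cases hTZ : T ≤ Z
  · -- everything centralized
    have hNC : N ≤ C := by
      intro g hg
      refine ⟨hg.1, ?_⟩
      show g ∈ Subgroup.centralizer (T : Set Ω)
      rw [Subgroup.mem_centralizer_iff]
      intro u hu
      exact (((hmemZ u).1 (hTZ hu)).2 g hg).symm
    calc Nat.card ↥N ≤ Nat.card ↥C := Subgroup.card_le_of_le hNC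
      _ ≤ p * Nat.card ↥C := Nat.le_mul_of_pos_left _ hp.pos
  · -- pick `t ∈ T ∖ Z`
    obtain ⟨t, htT, htZ⟩ := SetLike.not_le_iff_exists.1 hTZ
    set tt : ↥T := ⟨t, htT⟩ with httdef
    have horb := Nat.card_congr (orbitProdStabilizerEquivGroup ↥N tt)
    rw [Nat.card_prod] at horb
    -- the orbit has at most `p` elements
    have horb_le : Nat.card (orbit ↥N tt) ≤ p := by
      obtain ⟨k, hk⟩ := hNp.card_orbit tt
      have hlt : Nat.card (orbit ↥N tt) < p ^ 2 := by
        rw [← hT]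
        have hne1 : (1 : ↥T) ∉ orbit ↥N tt := by
          rintro ⟨g, hg⟩
          have := congrArg (fun u : ↥T => (u : Ω)) hg
          simp only [hsmul] at this
          have ht1 : t = 1 := by
            have h2 : (g : Ω) * t * (g : Ω)⁻¹ = 1 := this
            calc t = (g : Ω)⁻¹ * ((g : Ω) * t * (g : Ω)⁻¹) * (g : Ω) := by group
              _ = 1 := by rw [h2]; group
          exact htZ (ht1 ▸ Z.one_mem)
        have hss : orbit ↥N tt ⊂ (Set.univ : Set ↥T) :=
          ⟨Set.subset_univ _, fun h => hne1 (h (Set.mem_univ _))⟩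
        have := Set.ncard_lt_ncard hss (Set.toFinite _)
        rwa [Set.ncard_univ, ← Nat.card_coe_set_eq] at this
      rw [hk] at hlt ⊢
      have hk1 : k < 2 := (Nat.pow_lt_pow_iff_right hp.one_lt).1 hlt
      calc p ^ k ≤ p ^ 1 := Nat.pow_le_pow_right hp.pos (by omega)
        _ = p := pow_one p
    -- the stabilizer of `t` lies in `C`
    have hstab : Nat.card (stabilizer ↥N tt) ≤ Nat.card ↥C := by
      refine Nat.card_le_card_of_injective
        (fun g : stabilizer ↥N tt => (⟨(g : Ω), ?_⟩ : ↥C)) ?_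
      · have hgN : ((g : ↥N) : Ω) ∈ N := (g : ↥N).2
        refine ⟨hgN.1, ?_⟩
        -- `K = T ⊓ C(g)` is all of `T`
        set K : Subgroup Ω := T ⊓ Subgroup.centralizer ({((g : ↥N) : Ω)} : Set Ω) with hKdef
        have hKT : K ≤ T := inf_le_left
        have hmemK : ∀ u, u ∈ K ↔ u ∈ T ∧ ((g : ↥N) : Ω) * u = u * ((g : ↥N) : Ω) := by
          intro u
          rw [hKdef, Subgroup.mem_inf, Subgroup.mem_centralizer_iff]
          simp
        have hZK : Z ≤ K := by
          intro u hu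
          rw [hmemK]
          exact ⟨hZT hu, ((hmemZ u).1 hu).2 _ hgN⟩
        have htK : t ∈ K := by
          rw [hmemK]
          refine ⟨htT, ?_⟩
          have hg := g.2
          rw [mem_stabilizer_iff] at hg
          have := congrArg (fun u : ↥T => (u : Ω)) hg
          simp only [hsmul] at this
          have h2 : ((g : ↥N) : Ω) * t * ((g : ↥N) : Ω)⁻¹ = t := this
          calc ((g : ↥N) : Ω) * t = ((g : ↥N) : Ω) * t * ((g : ↥N) : Ω)⁻¹ * ((g : ↥N) : Ω) := by
                group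
            _ = t * ((g : ↥N) : Ω) := by rw [h2]
        haveI : Finite ↥K := Finite.of_injective _ (Subgroup.inclusion_injective hKT)
        have hZltK : Nat.card ↥Z < Nat.card ↥K := by
          by_contra hcon
          have := Subgroup.eq_of_le_of_card_ge hZK (not_lt.1 hcon)
          exact htZ (this ▸ htK)
        obtain ⟨m, hm, hmc⟩ := hsub K hKT
        have hm2 : m = 2 := by
          have hpm : p ^ 1 < p ^ m := by
            rw [pow_one, ← hmc]
            exact lt_of_le_of_lt hZcard hZltK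
          have := (Nat.pow_lt_pow_iff_right hp.one_lt).1 hpm
          omega
        have hKeq : K = T := by
          apply Subgroup.eq_of_le_of_card_ge hKT
          rw [hmc, hm2, hT]
        show ((g : ↥N) : Ω) ∈ Subgroup.centralizer (T : Set Ω)
        rw [Subgroup.mem_centralizer_iff]
        intro u hu
        have : u ∈ K := hKeq ▸ hu
        exact (((hmemK u).1 this).2).symm
      · intro g h hgh
        have := congrArg (fun c : ↥C => (c : Ω)) hgh
        exact Subtype.ext (Subtype.ext this)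
    calc Nat.card ↥N = Nat.card (orbit ↥N tt) * Nat.card (stabilizer ↥N tt) := horb.symm
      _ ≤ p * Nat.card ↥C := Nat.mul_le_mul horb_le hstab

end Cfsg.Agent.Lib.H16.RK2
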