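import Mathlib
import Cfsg.Agent.Lib.H11.RK2Defs
import Cfsg.Agent.Lib.H16.ClassTwo

/-!
# S5289 piece T2POW (helper16): the `p`-th power map of Blackburn's type T2 is multiplicative.
-/

set_option autoImplicit false

namespace Cfsg.Agent.Lib.H16.RK2

open Cfsg.Agent.Lib.H11.RK2

/-- If `W` is central, `s` generates `G` and the elements of `s` commute modulo `W`, then `G/W` is abelian:
`(g k)⁻¹ (k g) ∈ W` for all `g k`. -/
theorem comm_mem_of_gens {G : Type*} [Group G] (W : Subgroup G)
    (hW : ∀ c ∈ W, ∀ g : G, g * c = c * g) (s : Set G) (hs : Subgroup.closure s = ⊤)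
    (h : ∀ a ∈ s, ∀ b ∈ s, (a * b)⁻¹ * (b * a) ∈ W) :
    ∀ g k : G, (g * k)⁻¹ * (k * g) ∈ W := by
  haveI : W.Normal := ⟨fun c hc g => by
    have : g * c * g⁻¹ = c := by rw [hW c hc g]; group
    rw [this]; exact hc⟩
  have key : ∀ g k : G, Commute (g : G ⧸ W) (k : G ⧸ W) := by
    intro g k
    have hg : g ∈ Subgroup.closure s := hs ▸ Subgroup.mem_top g
    have hk : k ∈ Subgroup.closure s := hs ▸ Subgroup.mem_top k
    refine Subgroup.closure_induction₂
      (p := fun (a b : G) _ _ => Commute (QuotientGroup.mk a : G ⧸ W) (QuotientGroup.mk b : G ⧸ W)) ?_ ?_ ?_ ?_ ?_ ?_ ?_ hg hk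
    · intro a b ha hb
      show ((a * b : G) : G ⧸ W) = ((b * a : G) : G ⧸ W)
      exact QuotientGroup.eq.2 (h a ha b hb)
    · intro a _
      exact Commute.one_left _
    · intro a _
      exact Commute.one_right _
    · intro a b c _ _ _ h1 h2
      exact Commute.mul_left h1 h2
    · intro a b c _ _ _ h1 h2
      exact Commute.mul_right h1 h2
    · intro a b _ _ h1
      exact Commute.inv_left h1
    · intro a b _ _ h1
      exact Commute.inv_right h1
  intro g k
  have := key g k
  exact QuotientGroup.eq.1 (show ((g * k : G) : G ⧸ W) = ((k * g : G) : G ⧸ W) from this)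

/-- **T2POW**.  Class two, `p` odd, `G' = ⟨z^(p^(n-3))⟩` of order `p`:
`(gk)^p = g^p k^p [k,g]^(p(p-1)/2) = g^p k^p`. -/
theorem T2.pow_mul {G : Type*} [Group G] [Finite G] {p n : ℕ} [Fact p.Prime] {x y z : G}
    (h : T2 p n x y z) : ∀ g k : G, (g * k) ^ p = g ^ p * k ^ p := by
  have hp : p.Prime := Fact.out
  have hodd : Odd p := hp.odd_of_ne_two h.hp
  -- `z` is central
  have hzc : ∀ g : G, g * z = z * g := by
    have hle : Subgroup.closure ({x, y, z} : Set G) ≤ Subgroup.centralizer ({z} : Set G) := by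
      rw [Subgroup.closure_le]
      intro a ha
      rw [SetLike.mem_coe, Subgroup.mem_centralizer_iff]
      intro b hb
      rw [Set.mem_singleton_iff] at hb
      subst hb
      rcases ha with rfl | rfl | rfl
      · exact h.hxz.symm
      · exact h.hyz.symm
      · rfl
    intro g
    have hg : g ∈ Subgroup.centralizer ({z} : Set G) := hle (h.gen ▸ Subgroup.mem_top g)
    exact ((Subgroup.mem_centralizer_iff.1 hg) z rfl).symm
  set w : G := z ^ p ^ (n - 3) with hw
  have hwp : w ^ p = 1 := by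
    rw [hw, ← _root_.pow_mul, ← pow_succ]
    have : n - 3 + 1 = n - 2 := by have := h.hn; omega
    rw [this, h.hz]
  have hwc : ∀ g : G, g * w = w * g := fun g => ((Commute.pow_right (hzc g) _ : Commute g w)).eq
  set W : Subgroup G := Subgroup.zpowers w with hWdef
  have hW : ∀ c ∈ W, ∀ g : G, g * c = c * g := by
    intro c hc g
    obtain ⟨i, rfl⟩ := Subgroup.mem_zpowers_iff.1 hc
    exact ((Commute.zpow_right (hwc g) i : Commute g (w ^ i))).eq
  have hWp : ∀ c ∈ W, c ^ p = 1 := by
    intro c hc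
    obtain ⟨i, rfl⟩ := Subgroup.mem_zpowers_iff.1 hc
    rw [← zpow_natCast, ← zpow_mul, mul_comm, zpow_mul, zpow_natCast, hwp, one_zpow]
  have hwW : w ∈ W := Subgroup.mem_zpowers w
  have hgens : ∀ a ∈ ({x, y, z} : Set G), ∀ b ∈ ({x, y, z} : Set G), (a * b)⁻¹ * (b * a) ∈ W := by
    have hxy1 : (x * y)⁻¹ * (y * x) = w := by
      have := h.hxy
      calc (x * y)⁻¹ * (y * x) = y⁻¹ * (x⁻¹ * y * x) := by group
        _ = y⁻¹ * (y * w) := by rw [this]
        _ = w := by group
    have hyx1 : (y * x)⁻¹ * (x * y) = w⁻¹ := by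
      rw [← hxy1]; group
    intro a ha b hb
    rcases ha with rfl | rfl | rfl <;> rcases hb with rfl | rfl | rfl
    · simp [W.one_mem]
    · rw [hxy1]; exact hwW
    · rw [hzc a]; simp [W.one_mem]
    · rw [hyx1]; exact W.inv_mem hwW
    · simp [W.one_mem]
    · rw [hzc a]; simp [W.one_mem]
    · rw [hzc b]; simp [W.one_mem]
    · rw [hzc b]; simp [W.one_mem]
    · simp [W.one_mem]
  have hcomm := comm_mem_of_gens W hW _ h.gen hgens
  intro g k
  set c : G := (g * k)⁻¹ * (k * g) with hc
  have hcW : c ∈ W := hcomm g k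
  have hkg : k * g = g * k * c := by rw [hc]; group
  have hcg : Commute c g := (hW c hcW g).symm
  have hck : Commute c k := (hW c hcW k).symm
  exact Cfsg.Agent.Lib.H16.mul_pow_eq_of_central hkg hcg hck hodd (hWp c hcW)

end Cfsg.Agent.Lib.H16.RK2
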