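import Mathlib

set_option autoImplicit false

namespace Cfsg.Agent.Lib.H16

/-- Membership in the image in `X` of the centre of a subgroup `R`. -/
theorem mem_map_center_iff {X : Type*} [Group X] (R : Subgroup X) (z : X) :
    z ∈ (Subgroup.center R).map R.subtype ↔ z ∈ R ∧ ∀ r ∈ R, r * z = z * r := by
  constructor
  · rintro ⟨y, hy, rfl⟩
    refine ⟨y.2, fun r hr => ?_⟩
    have := Subgroup.mem_center_iff.mp hy ⟨r, hr⟩
    exact congrArg Subtype.val this
  · rintro ⟨hz, hcomm⟩
    refine ⟨⟨z, hz⟩, ?_, rfl⟩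
    rw [SetLike.mem_coe, Subgroup.mem_center_iff]
    intro g
    exact Subtype.ext (hcomm g g.2)

/-- A subgroup all of whose elements conjugate `B` into `B` normalizes `B`. -/
theorem le_normalizer_of_conj_mem {X : Type*} [Group X] (H B : Subgroup X)
    (h : ∀ g ∈ H, ∀ b ∈ B, g * b * g⁻¹ ∈ B) : H ≤ Subgroup.normalizer (B : Set X) := by
  intro g hg
  rw [Subgroup.mem_normalizer_iff]
  intro b
  refine ⟨h g hg b, fun hb => ?_⟩
  have := h g⁻¹ (inv_mem hg) _ hb
  simpa [mul_assoc] using this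

/-- A nontrivial normal subgroup of a finite `p`-group meets the centre nontrivially. -/
theorem exists_ne_one_mem_center_of_normal' {P : Type*} [Group P] [Finite P] {p : ℕ}
    (hp : p.Prime) (hP : IsPGroup p P) (N : Subgroup P) [N.Normal] (hN : N ≠ ⊥) :
    ∃ x ∈ N, x ≠ 1 ∧ x ∈ Subgroup.center P := by
  have : Fact p.Prime := ⟨hp⟩
  have hPc : IsPGroup p (ConjAct P) := hP.of_equiv ConjAct.toConjAct
  have hNp : IsPGroup p N := hP.to_subgroup N
  have hnt : Nontrivial N := (Subgroup.nontrivial_iff_ne_bot N).mpr hN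
  have dvd : p ∣ Nat.card N := by
    obtain ⟨n, hn0, hn⟩ := hNp.nontrivial_iff_card.mp hnt
    exact hn.symm ▸ dvd_pow_self _ (ne_of_gt hn0)
  have h1 : (1 : N) ∈ MulAction.fixedPoints (ConjAct P) N := by
    intro g
    exact smul_one g
  obtain ⟨b, hb, hb1⟩ := hPc.exists_fixed_point_of_prime_dvd_card_of_fixed_point N dvd h1
  refine ⟨b, b.2, fun h => hb1 (Subtype.ext h.symm), ?_⟩
  rw [Subgroup.mem_center_iff]
  intro g
  have := hb (ConjAct.toConjAct g)
  have h2 := congrArg Subtype.val this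
  rw [ConjAct.Subgroup.val_conj_smul] at h2
  rw [ConjAct.smul_def, ConjAct.ofConjAct_toConjAct] at h2
  calc g * (b : P) = g * b * g⁻¹ * g := by group
    _ = b * g := by rw [h2]

/-- Subgroup form: a nontrivial subgroup `N ≤ P` normalized by the `p`-subgroup `P` contains a
nontrivial element commuting with all of `P`. -/
theorem exists_ne_one_central_of_le_normalizer {X : Type*} [Group X] [Finite X] {p : ℕ}
    (hp : p.Prime) (P N : Subgroup X) (hP : IsPGroup p P) (hNP : N ≤ P)
    (hnorm : P ≤ Subgroup.normalizer (N : Set X)) (hN : N ≠ ⊥) :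
    ∃ x ∈ N, x ≠ 1 ∧ ∀ g ∈ P, g * x = x * g := by
  have : (N.subgroupOf P).Normal := (Subgroup.normal_subgroupOf_iff_le_normalizer hNP).mpr hnorm
  have hne : N.subgroupOf P ≠ ⊥ := by
    intro h
    apply hN
    rw [Subgroup.subgroupOf_eq_bot] at h
    rw [eq_bot_iff]
    intro x hx
    have : x ∈ N ⊓ P := ⟨hx, hNP hx⟩
    rw [disjoint_iff] at h
    rw [h] at this
    exact this
  obtain ⟨x, hxN, hx1, hxc⟩ := exists_ne_one_mem_center_of_normal' hp hP (N.subgroupOf P) hne
  refine ⟨x, Subgroup.mem_subgroupOf.mp hxN, fun h => hx1 (Subtype.ext h), fun g hg => ?_⟩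
  have := Subgroup.mem_center_iff.mp hxc ⟨g, hg⟩
  exact congrArg Subtype.val this

end Cfsg.Agent.Lib.H16
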