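import Mathlib
import Cfsg.Prelude.Def_OddOrderLocal
import Cfsg.Agent.Lib.H1.PGroupBasic
import Cfsg.Agent.Lib.H1.FpfAction
import Cfsg.Agent.Lib.H9.FrattiniAction
import Cfsg.Agent.Lib.H20.AutPrimeOrder

/-!
# Metacyclic groups (helper16)

* `isMetacyclic_of_surjective`, `isMetacyclic_of_mulEquiv`, `isMetacyclic_sub`:
  closure of `Cfsg.IsMetacyclic` under images, isomorphisms, subgroups.
* `card_le_sq_of_pow_eq_one`: a metacyclic group of exponent `p` has order at most `p ^ 2`.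
* `card_frattini_quotient`: for a metacyclic `p`-group `Q`, `|Q / Φ(Q)| = p ^ n` with `n ≤ 2`.
* `commute_of_metacyclic`: a `q`-element (`q ≠ p`, `q ∤ p ^ 2 - 1`) normalizing a metacyclic
  `p`-subgroup centralizes it.
-/

set_option autoImplicit false

namespace Cfsg.Agent.Lib.H16.Meta

open Subgroup

/-- Homomorphic images of metacyclic groups are metacyclic. -/
theorem isMetacyclic_of_surjective {X Y : Type*} [Group X] [Group Y] (hm : Cfsg.IsMetacyclic X)
    (f : X →* Y) (hf : Function.Surjective f) : Cfsg.IsMetacyclic Y := by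
  obtain ⟨N, hN, hNc, hQc⟩ := hm
  have hNn : (N.map f).Normal := hN.map _ hf
  refine ⟨N.map f, hNn, ?_, ?_⟩
  · exact isCyclic_of_surjective (f.subgroupMap N) (f.subgroupMap_surjective N)
  · let h : X ⧸ N →* Y ⧸ N.map f :=
      QuotientGroup.map N (N.map f) f (Subgroup.le_comap_map _ _)
    apply isCyclic_of_surjective h
    intro q
    obtain ⟨y, rfl⟩ := QuotientGroup.mk'_surjective _ q
    obtain ⟨x, rfl⟩ := hf y
    exact ⟨QuotientGroup.mk' N x, rfl⟩

theorem isMetacyclic_of_mulEquiv {X Y : Type*} [Group X] [Group Y] (hm : Cfsg.IsMetacyclic X)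
    (e : X ≃* Y) : Cfsg.IsMetacyclic Y :=
  isMetacyclic_of_surjective hm e.toMonoidHom e.surjective

theorem isMetacyclic_quot {X : Type*} [Group X] (hm : Cfsg.IsMetacyclic X)
    (K : Subgroup X) [K.Normal] : Cfsg.IsMetacyclic (X ⧸ K) :=
  isMetacyclic_of_surjective hm (QuotientGroup.mk' K) (QuotientGroup.mk'_surjective K)

/-- Subgroups of metacyclic groups are metacyclic. -/
theorem isMetacyclic_sub {X : Type*} [Group X] (hm : Cfsg.IsMetacyclic X) (L : Subgroup X) :
    Cfsg.IsMetacyclic ↥L := by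
  obtain ⟨N, hNn, hNc, hQ⟩ := hm
  refine ⟨N.subgroupOf L, inferInstance, ?_, ?_⟩
  · let f : ↥(N.subgroupOf L) →* ↥N :=
      { toFun := fun x => ⟨((x : ↥L) : X), x.2⟩
        map_one' := rfl
        map_mul' := fun _ _ => rfl }
    have hf : Function.Injective f := by
      intro x y hxy
      apply Subtype.ext
      apply Subtype.ext
      exact congrArg (fun z : ↥N => (z : X)) hxy
    exact isCyclic_of_injective f hf
  · let g : ↥L →* X ⧸ N := (QuotientGroup.mk' N).comp L.subtype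
    have hker : g.ker = N.subgroupOf L := by
      ext x
      rw [MonoidHom.mem_ker, Subgroup.mem_subgroupOf]
      show (QuotientGroup.mk' N) (x : X) = 1 ↔ _
      rw [QuotientGroup.mk'_apply, QuotientGroup.eq_one_iff]
    have hcyc : IsCyclic g.range := inferInstance
    have e1 : ↥L ⧸ g.ker ≃* g.range := QuotientGroup.quotientKerEquivRange g
    have e2 : ↥L ⧸ g.ker ≃* ↥L ⧸ N.subgroupOf L := QuotientGroup.quotientMulEquivOfEq hker
    exact isCyclic_of_surjective (e2.symm.trans e1).symm (e2.symm.trans e1).symm.surjective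

/-- If `L ≤ M` and `M` is metacyclic then `L` is metacyclic. -/
theorem isMetacyclic_of_le {X : Type*} [Group X] {L M : Subgroup X} (hLM : L ≤ M)
    (hm : Cfsg.IsMetacyclic ↥M) : Cfsg.IsMetacyclic ↥L :=
  isMetacyclic_of_mulEquiv (isMetacyclic_sub hm (L.subgroupOf M)) (Subgroup.subgroupOfEquivOfLe hLM)

/-- A finite cyclic group of exponent dividing `p` has order at most `p`. -/
theorem card_le_of_cyclic_of_pow {A : Type*} [Group A] [Finite A] [IsCyclic A] {p : ℕ} (hp : 0 < p)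
    (h : ∀ a : A, a ^ p = 1) : Nat.card A ≤ p := by
  obtain ⟨g, hg⟩ := IsCyclic.exists_generator (α := A)
  rw [← orderOf_eq_card_of_forall_mem_zpowers hg]
  exact Nat.le_of_dvd hp (orderOf_dvd_of_pow_eq_one (h g))

/-- A finite metacyclic group of exponent dividing `p` has order at most `p ^ 2`. -/
theorem card_le_sq_of_pow_eq_one {X : Type*} [Group X] [Finite X] (hm : Cfsg.IsMetacyclic X)
    {p : ℕ} (hp : 0 < p) (h : ∀ x : X, x ^ p = 1) : Nat.card X ≤ p ^ 2 := by
  obtain ⟨N, hN, hNc, hQc⟩ := hm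
  have h1 : Nat.card N ≤ p := by
    apply card_le_of_cyclic_of_pow hp
    intro a
    apply Subtype.ext
    rw [Subgroup.coe_pow, Subgroup.coe_one]
    exact h a
  have h2 : Nat.card (X ⧸ N) ≤ p := by
    apply card_le_of_cyclic_of_pow hp
    intro a
    obtain ⟨x, rfl⟩ := QuotientGroup.mk'_surjective N a
    rw [← map_pow, h x, map_one]
  calc Nat.card X = Nat.card (X ⧸ N) * Nat.card N := Subgroup.card_eq_card_quotient_mul_card_subgroup N
    _ ≤ p * p := Nat.mul_le_mul h2 h1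
    _ = p ^ 2 := (sq p).symm

/-- The Frattini quotient of a metacyclic finite `p`-group has order `p ^ n` with `n ≤ 2`. -/
theorem card_frattini_quotient {Q : Type*} [Group Q] [Finite Q] {p : ℕ} [hp : Fact p.Prime]
    (hQ : IsPGroup p Q) (hm : Cfsg.IsMetacyclic Q) :
    ∃ n : ℕ, n ≤ 2 ∧ Nat.card (Q ⧸ frattini Q) = p ^ n := by
  have hq : IsPGroup p (Q ⧸ frattini Q) := hQ.to_quotient _
  obtain ⟨n, hn⟩ := IsPGroup.iff_card.mp hq
  refine ⟨n, ?_, hn⟩
  have hle : Nat.card (Q ⧸ frattini Q) ≤ p ^ 2 := by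
    apply card_le_sq_of_pow_eq_one (isMetacyclic_quot hm _) hp.out.pos
    intro a
    obtain ⟨x, rfl⟩ := QuotientGroup.mk'_surjective (frattini Q) a
    rw [← map_pow, QuotientGroup.mk'_apply, QuotientGroup.eq_one_iff]
    exact Cfsg.Agent.Lib.H1.isPGroup_pow_mem_frattini hQ x
  rw [hn] at hle
  exact (Nat.pow_le_pow_iff_right hp.out.one_lt).mp hle

/-- A `q`-element, `q ≠ p` a prime not dividing `p ^ 2 - 1`, normalizing a metacyclic `p`-subgroup
`Q` centralizes `Q`. -/
theorem commute_of_metacyclic {G : Type*} [Group G] [Finite G] {p q : ℕ} [hp : Fact p.Prime]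
    [hq : Fact q.Prime] (hqp : q ≠ p) (hqd : ¬ q ∣ p ^ 2 - 1) (Q : Subgroup G) (hQ : IsPGroup p Q)
    (hm : Cfsg.IsMetacyclic ↥Q) (g : G) (hg : g ∈ Subgroup.normalizer (Q : Set G)) (k : ℕ)
    (hgo : orderOf g = q ^ k) : ∀ x ∈ Q, g * x = x * g := by
  have hA : Subgroup.zpowers g ≤ Subgroup.normalizer (Q : Set G) := Subgroup.zpowers_le.mpr hg
  let φ : Subgroup.zpowers g →* MulAut Q := Cfsg.Agent.Lib.H1.conjAutHom hA
  let ψ : Subgroup.zpowers g →* MulAut (↥Q ⧸ frattini ↥Q) :=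
    (Cfsg.Agent.Lib.H20.quotAutHom (frattini ↥Q)).comp φ
  have hcop : (orderOf g).Coprime p := by
    rw [hgo]
    exact Nat.Coprime.pow_left k ((Nat.coprime_primes hq.out hp.out).mpr hqp)
  obtain ⟨n, hn2, hn⟩ := card_frattini_quotient hQ hm
  -- every element acts trivially on the Frattini quotient
  have hψ : ∀ a : Subgroup.zpowers g, ψ a = 1 := by
    intro a
    by_contra hne
    have hpow : (ψ a) ^ (q ^ k) = 1 := by
      rw [← map_pow]
      have : a ^ (q ^ k) = 1 := by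
        apply Subtype.ext
        rw [Subgroup.coe_pow, Subgroup.coe_one]
        obtain ⟨j, hj⟩ := Subgroup.mem_zpowers_iff.mp a.2
        rw [← hj, ← zpow_natCast, ← zpow_mul, mul_comm, zpow_mul, zpow_natCast, ← hgo,
          pow_orderOf_eq_one, one_zpow]
      rw [this, map_one]
    obtain ⟨j, hjk, hj⟩ := (Nat.dvd_prime_pow hq.out).mp (orderOf_dvd_of_pow_eq_one hpow)
    have hj0 : j ≠ 0 := by
      intro h0
      rw [h0, pow_zero, orderOf_eq_one_iff] at hj
      exact hne hj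
    obtain ⟨j', rfl⟩ := Nat.exists_eq_succ_of_ne_zero hj0
    set β : MulAut (↥Q ⧸ frattini ↥Q) := (ψ a) ^ (q ^ j') with hβ
    have hβq : β ^ q = 1 := by
      rw [hβ, ← pow_mul, ← pow_succ, ← hj, pow_orderOf_eq_one]
    have hβ1 : β ≠ 1 := by
      intro h1
      have hdvd : orderOf (ψ a) ∣ q ^ j' := orderOf_dvd_of_pow_eq_one h1
      rw [hj] at hdvd
      have := (Nat.pow_dvd_pow_iff_le_right hq.out.one_lt).mp hdvd
      omega
    obtain ⟨i, hi1, hi2, hdvd⟩ :=
      Cfsg.Agent.Lib.H20.exists_dvd_pow_sub_one_of_aut hqp hn β hβq hβ1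
    apply hqd
    have hi : i = 1 ∨ i = 2 := by omega
    rcases hi with rfl | rfl
    · rw [pow_one] at hdvd
      have h2 : p ^ 2 - 1 = (p - 1) * (p + 1) := by
        have h1 : 1 ≤ p := hp.out.one_le
        obtain ⟨m, rfl⟩ := Nat.exists_eq_add_of_le h1
        simp only [Nat.add_sub_cancel_left]
        have : (1 + m) ^ 2 = m * (1 + m + 1) + 1 := by ring
        rw [this, Nat.add_sub_cancel]
      rw [h2]
      exact Dvd.dvd.mul_right hdvd _
    · exact hdvd
  -- Burnside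
  have hcomm := Cfsg.Agent.Lib.H9.commute_of_commutator_mem_frattini hQ hg hcop (by
    intro a ha x hx
    have h1 := hψ ⟨a, ha⟩
    have h2 : ψ ⟨a, ha⟩ (QuotientGroup.mk (⟨x, hx⟩ : ↥Q)) = QuotientGroup.mk (⟨x, hx⟩ : ↥Q) := by
      rw [h1]; rfl
    have h3 : ψ ⟨a, ha⟩ (QuotientGroup.mk (⟨x, hx⟩ : ↥Q)) =
        QuotientGroup.mk (φ ⟨a, ha⟩ ⟨x, hx⟩) := rfl
    rw [h3, QuotientGroup.eq_iff_div_mem] at h2
    refine ⟨_, h2, ?_⟩
    show ((φ ⟨a, ha⟩ ⟨x, hx⟩ / ⟨x, hx⟩ : ↥Q) : G) = a * x * a⁻¹ * x⁻¹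
    rw [div_eq_mul_inv, Subgroup.coe_mul, Subgroup.coe_inv]
    rfl)
  exact hcomm

end Cfsg.Agent.Lib.H16.Meta
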