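import Mathlib
import Cfsg.Agent.Lib.H16.Metacyclic
import Cfsg.Agent.Lib.H16.ClassTwo
import Cfsg.Agent.S0119

/-!
# Metacyclic `p`-groups with a coprime operator group, part A (helper16)

Class two preliminaries: for a group `K` with central commutators of exponent dividing an odd `p`,
the commutator is bimultiplicative and `x ↦ x ^ p` is an endomorphism.
-/

set_option autoImplicit false

namespace Cfsg.Agent.Lib.H16.Meta

open Subgroup
open scoped commutatorElement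

variable {K : Type*} [Group K]

/-- central commutators of exponent dividing `p` -/
structure C2 (K : Type*) [Group K] (p : ℕ) : Prop where
  central : ∀ x y : K, ⁅x, y⁆ ∈ Subgroup.center K
  exp : ∀ x y : K, ⁅x, y⁆ ^ p = 1

namespace C2

variable {p : ℕ} (h : C2 K p)

include h in
theorem comm_mul_left (x₁ x₂ y : K) : ⁅x₁ * x₂, y⁆ = ⁅x₁, y⁆ * ⁅x₂, y⁆ := by
  have hc := Subgroup.mem_center_iff.mp (h.central x₂ y)
  calc ⁅x₁ * x₂, y⁆ = x₁ * ⁅x₂, y⁆ * x₁⁻¹ * ⁅x₁, y⁆ := by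
        simp only [commutatorElement_def]; group
    _ = ⁅x₂, y⁆ * x₁ * x₁⁻¹ * ⁅x₁, y⁆ := by rw [hc x₁]
    _ = ⁅x₂, y⁆ * ⁅x₁, y⁆ := by group
    _ = ⁅x₁, y⁆ * ⁅x₂, y⁆ := (Subgroup.mem_center_iff.mp (h.central x₂ y) _).symm

/-- `x ↦ [x, y]` as a homomorphism -/
def commL (y : K) : K →* K where
  toFun x := ⁅x, y⁆
  map_one' := by simp [commutatorElement_def]
  map_mul' x₁ x₂ := h.comm_mul_left x₁ x₂ y

include h in
theorem comm_zpow_left (x y : K) (i : ℤ) : ⁅x ^ i, y⁆ = ⁅x, y⁆ ^ i :=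
  map_zpow (h.commL y) x i

include h in
theorem comm_zpow_right (x y : K) (i : ℤ) : ⁅x, y ^ i⁆ = ⁅x, y⁆ ^ i := by
  rw [← commutatorElement_inv (y ^ i) x, h.comm_zpow_left, ← commutatorElement_inv y x, inv_zpow]

include h in
theorem comm_mul_right (x y₁ y₂ : K) : ⁅x, y₁ * y₂⁆ = ⁅x, y₁⁆ * ⁅x, y₂⁆ := by
  rw [← commutatorElement_inv (y₁ * y₂) x, h.comm_mul_left, mul_inv_rev,
    commutatorElement_inv, commutatorElement_inv]
  exact (Subgroup.mem_center_iff.mp (h.central x y₁) _)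

include h in
theorem comm_central_left {f : K} (hf : f ∈ Subgroup.center K) (x y : K) :
    ⁅x * f, y⁆ = ⁅x, y⁆ := by
  rw [h.comm_mul_left]
  have : ⁅f, y⁆ = 1 := by
    rw [commutatorElement_eq_one_iff_mul_comm]
    exact (Subgroup.mem_center_iff.mp hf y).symm
  rw [this, mul_one]

include h in
theorem comm_commute_right {x y ℓ : K} (hℓ : Commute x ℓ) : ⁅x, y * ℓ⁆ = ⁅x, y⁆ := by
  rw [h.comm_mul_right]
  have : ⁅x, ℓ⁆ = 1 := by
    rw [commutatorElement_eq_one_iff_mul_comm]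
    exact hℓ.eq
  rw [this, mul_one]

include h in
/-- `p`-th powers are central -/
theorem pow_mem_center (x : K) : x ^ p ∈ Subgroup.center K := by
  rw [Subgroup.mem_center_iff]
  intro y
  have h1 : ⁅x ^ p, y⁆ = 1 := by
    have := h.comm_zpow_left x y (p : ℤ)
    rw [zpow_natCast, zpow_natCast, h.exp] at this
    exact this
  rw [commutatorElement_eq_one_iff_mul_comm] at h1
  exact h1.symm

include h in
theorem mul_pow (hp : Odd p) (x y : K) : (x * y) ^ p = x ^ p * y ^ p := by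
  have hc : y * x = x * y * ⁅y⁻¹, x⁻¹⁆ := by
    rw [commutatorElement_def]; group
  have hcen := Subgroup.mem_center_iff.mp (h.central y⁻¹ x⁻¹)
  exact mul_pow_eq_of_central hc (hcen x).symm (hcen y).symm hp (h.exp _ _)

/-- the `p`-power endomorphism -/
def powHom (hp : Odd p) : K →* K where
  toFun x := x ^ p
  map_one' := one_pow p
  map_mul' x y := h.mul_pow hp x y

/-- the iterated `p`-power endomorphisms -/
def pw (hp : Odd p) : ℕ → (K →* K)
  | 0 => MonoidHom.id K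
  | j + 1 => (h.powHom hp).comp (pw hp j)

theorem pw_apply (hp : Odd p) (j : ℕ) (x : K) : h.pw hp j x = x ^ (p ^ j) := by
  induction j with
  | zero => simp [pw]
  | succ j ih =>
    show (h.powHom hp) (h.pw hp j x) = _
    rw [ih]
    show (x ^ p ^ j) ^ p = _
    rw [← _root_.pow_mul, pow_succ]

theorem pw_succ_apply (hp : Odd p) (j : ℕ) (x : K) :
    h.pw hp (j + 1) x = h.pw hp j (x ^ p) := by
  rw [pw_apply, pw_apply, ← _root_.pow_mul, pow_succ']

theorem pw_aut (hp : Odd p) (j : ℕ) (α : MulAut K) (x : K) :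
    h.pw hp j (α x) = α (h.pw hp j x) := by
  rw [pw_apply, pw_apply, map_pow]

/-- `℧_j(K)` -/
def P (hp : Odd p) (j : ℕ) : Subgroup K := (h.pw hp j).range

theorem mem_P (hp : Odd p) (j : ℕ) (x : K) : x ∈ h.P hp j ↔ ∃ u : K, u ^ (p ^ j) = x := by
  unfold P
  rw [MonoidHom.mem_range]
  constructor
  · rintro ⟨u, hu⟩
    exact ⟨u, by rw [← pw_apply h hp]; exact hu⟩
  · rintro ⟨u, hu⟩
    exact ⟨u, by rw [pw_apply]; exact hu⟩

theorem P_succ_le (hp : Odd p) (j : ℕ) : h.P hp (j + 1) ≤ h.P hp j := by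
  intro x hx
  rw [mem_P] at hx ⊢
  obtain ⟨u, rfl⟩ := hx
  exact ⟨u ^ p, by rw [← _root_.pow_mul, pow_succ']⟩

theorem aut_mem_P (hp : Odd p) (j : ℕ) (α : MulAut K) {x : K} (hx : x ∈ h.P hp j) :
    α x ∈ h.P hp j := by
  rw [mem_P] at hx ⊢
  obtain ⟨u, rfl⟩ := hx
  exact ⟨α u, by rw [map_pow]⟩

theorem pw_mem_P_succ (hp : Odd p) (k : ℕ) {f : K} (hf : f ∈ h.P hp 1) :
    h.pw hp k f ∈ h.P hp (k + 1) := by
  rw [mem_P] at hf ⊢
  obtain ⟨u, rfl⟩ := hf
  refine ⟨u, ?_⟩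
  rw [pw_apply, pow_one, ← _root_.pow_mul, pow_succ']

theorem P_one_le_center (hp : Odd p) : h.P hp 1 ≤ Subgroup.center K := by
  intro x hx
  rw [mem_P] at hx
  obtain ⟨u, rfl⟩ := hx
  rw [pow_one]
  exact h.pow_mem_center u

theorem zpow_mem_P_one (hp : Odd p) (x : K) {i : ℤ} (hi : (p : ℤ) ∣ i) : x ^ i ∈ h.P hp 1 := by
  obtain ⟨j, rfl⟩ := hi
  rw [mem_P]
  refine ⟨x ^ j, ?_⟩
  rw [pow_one, ← zpow_natCast, ← zpow_mul, mul_comm]

end C2

end Cfsg.Agent.Lib.H16.Meta
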