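import Mathlib
import Cfsg.Prelude
import Cfsg.Agent.Lib.H16.MetaCoprimeA

set_option autoImplicit false

/-!
# Groups of exponent `p`, class at most two and rank at most two

Such a group is either abelian of order at most `p ^ 2`, or its centre has index `p ^ 2` and
consists of commutators.
-/

namespace Cfsg.Agent.Lib.H16.RankTwo

open scoped commutatorElement

universe u

variable {W : Type u} [Group W] [Finite W] {p : ℕ} [hp : Fact p.Prime]

theorem card_lt_of_lt {G : Type*} [Group G] [Finite G] {H K : Subgroup G} (h : H < K) :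
    Nat.card H < Nat.card K := by
  have h1 : Nat.card H ∣ Nat.card K := Subgroup.card_dvd_of_le h.le
  have h2 : Nat.card H ≠ Nat.card K := by
    intro h'
    exact h.ne (Subgroup.eq_of_le_of_card_ge h.le h'.ge)
  exact lt_of_le_of_ne (Nat.le_of_dvd Nat.card_pos h1) h2

theorem isPGroup_of_exp (hexp : ∀ w : W, w ^ p = 1) : IsPGroup p W :=
  fun g => ⟨1, by rw [pow_one]; exact hexp g⟩

/-- The commutative case. -/
theorem card_of_comm (hexp : ∀ w : W, w ^ p = 1) (hr : Cfsg.PRankLE p 2 W)
    (hc : ∀ x y : W, x * y = y * x) : ∃ e, e ≤ 2 ∧ Nat.card W = p ^ e := by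
  obtain ⟨e, he⟩ := IsPGroup.iff_card.mp (isPGroup_of_exp hexp)
  refine ⟨e, ?_, he⟩
  have h1 : Nat.card (⊤ : Subgroup W) ≤ p ^ 2 :=
    hr ⊤ ⟨⟨fun a b => Subtype.ext (hc a b)⟩⟩ (fun a _ => hexp a)
  rw [Subgroup.card_top, he] at h1
  exact (Nat.pow_le_pow_iff_right hp.out.one_lt).mp h1

/-- The non-commutative case. -/
theorem card_of_not_comm (hexp : ∀ w : W, w ^ p = 1) (hcl : ∀ x y z : W, Commute ⁅x, y⁆ z)
    (hr : Cfsg.PRankLE p 2 W) (hnc : ¬ ∀ x y : W, x * y = y * x) :
    Nat.card (W ⧸ Subgroup.center W) = p ^ 2 ∧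
      ∀ z ∈ Subgroup.center W, ∃ w x : W, z = ⁅w, x⁆ := by
  classical
  push_neg at hnc
  obtain ⟨x, y, hxy⟩ := hnc
  have hW : IsPGroup p W := isPGroup_of_exp hexp
  have hC2 : Meta.C2 W p :=
    ⟨fun a b => Subgroup.mem_center_iff.mpr (fun z => (hcl a b z).eq.symm), fun a b => hexp _⟩
  haveI : Nontrivial W := ⟨⟨x * y, y * x, hxy⟩⟩
  set Z : Subgroup W := Subgroup.center W with hZ
  have hZbot : ⊥ < Z := hW.bot_lt_center
  -- the abelian subgroup generated by `Z` and `x`
  set E : Subgroup W := Subgroup.closure ((Z : Set W) ∪ {x}) with hE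
  have hxnZ : x ∉ Z := by
    intro h
    exact hxy (Subgroup.mem_center_iff.mp h y).symm
  have hZE : Z ≤ E := fun z hz => Subgroup.subset_closure (Or.inl hz)
  have hxE : x ∈ E := Subgroup.subset_closure (Or.inr rfl)
  have hZltE : Z < E := lt_of_le_of_ne hZE (fun h => hxnZ (h ▸ hxE))
  have hcardle : ∀ S : Set W, (∀ a ∈ S, ∀ b ∈ S, a * b = b * a) →
      Nat.card (Subgroup.closure S) ≤ p ^ 2 := by
    intro S hS
    exact hr _ (Subgroup.isMulCommutative_closure hS) (fun a _ => hexp a)
  have hEle : Nat.card E ≤ p ^ 2 := by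
    apply hcardle
    rintro a (ha | ha) b (hb | hb)
    · exact (Subgroup.mem_center_iff.mp hb a)
    · exact (Subgroup.mem_center_iff.mp ha b).symm
    · exact (Subgroup.mem_center_iff.mp hb a)
    · rw [Set.mem_singleton_iff.mp ha, Set.mem_singleton_iff.mp hb]
  obtain ⟨a, ha⟩ := IsPGroup.iff_card.mp (hW.to_subgroup Z)
  obtain ⟨b, hb⟩ := IsPGroup.iff_card.mp (hW.to_subgroup E)
  have hab : a < b := by
    have := card_lt_of_lt hZltE
    rw [ha, hb] at this
    exact (Nat.pow_lt_pow_iff_right hp.out.one_lt).mp this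
  have hb2 : b ≤ 2 := by
    rw [hb] at hEle
    exact (Nat.pow_le_pow_iff_right hp.out.one_lt).mp hEle
  have ha1 : 1 ≤ a := by
    have h := card_lt_of_lt hZbot
    rw [Subgroup.card_bot, ha] at h
    by_contra h'
    have h0 : a = 0 := by omega
    rw [h0, pow_zero] at h
    omega
  have ha' : a = 1 := by omega
  have hb' : b = 2 := by omega
  rw [ha', pow_one] at ha
  rw [hb'] at hb
  -- the centralizer of `x` is `E`
  have hcentE : Subgroup.centralizer ({x} : Set W) = E := by
    apply le_antisymm
    · intro y' hy'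
      have hy'x : y' * x = x * y' := (Subgroup.mem_centralizer_singleton_iff.mp hy')
      set E₂ : Subgroup W := Subgroup.closure ((Z : Set W) ∪ {x} ∪ {y'}) with hE₂
      have hE₂le : Nat.card E₂ ≤ p ^ 2 := by
        apply hcardle
        rintro a ((ha | ha) | ha) b ((hb | hb) | hb)
        · exact (Subgroup.mem_center_iff.mp hb a)
        · exact (Subgroup.mem_center_iff.mp ha b).symm
        · exact (Subgroup.mem_center_iff.mp ha b).symm
        · exact (Subgroup.mem_center_iff.mp hb a)
        · rw [Set.mem_singleton_iff.mp ha, Set.mem_singleton_iff.mp hb]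
        · rw [Set.mem_singleton_iff.mp ha, Set.mem_singleton_iff.mp hb]
          exact hy'x.symm
        · exact (Subgroup.mem_center_iff.mp hb a)
        · rw [Set.mem_singleton_iff.mp ha, Set.mem_singleton_iff.mp hb]
          exact hy'x
        · rw [Set.mem_singleton_iff.mp ha, Set.mem_singleton_iff.mp hb]
      have hEE₂ : E ≤ E₂ := Subgroup.closure_mono Set.subset_union_left
      have : E = E₂ := Subgroup.eq_of_le_of_card_ge hEE₂ (by rw [hb]; exact hE₂le)
      rw [this]
      exact Subgroup.subset_closure (Or.inr rfl)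
    · rw [hE, Subgroup.closure_le]
      rintro a (ha | ha)
      · exact Subgroup.mem_centralizer_singleton_iff.mpr (Subgroup.mem_center_iff.mp ha x).symm
      · rw [Set.mem_singleton_iff.mp ha]
        exact Subgroup.mem_centralizer_singleton_iff.mpr rfl
  -- the commutator map `w ↦ ⁅w, x⁆`
  set f : W →* W := hC2.commL x with hf
  have hfapp : ∀ w, f w = ⁅w, x⁆ := fun w => rfl
  have hker : f.ker = E := by
    rw [← hcentE]
    ext w
    rw [MonoidHom.mem_ker, hfapp, commutatorElement_eq_one_iff_mul_comm,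
      Subgroup.mem_centralizer_singleton_iff]
  have hrangeZ : f.range ≤ Z := by
    rintro _ ⟨w, rfl⟩
    exact hC2.central w x
  have hrange1 : f.range ≠ ⊥ := by
    intro h
    have : f y ∈ f.range := ⟨y, rfl⟩
    rw [h, Subgroup.mem_bot, hfapp, commutatorElement_eq_one_iff_mul_comm] at this
    exact hxy this.symm
  have hrangecard : Nat.card f.range = p := by
    have h1 : Nat.card f.range ∣ p := by
      rw [← ha]
      exact Subgroup.card_dvd_of_le hrangeZ
    rcases (Nat.dvd_prime hp.out).mp h1 with h | h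
    · exact absurd (Subgroup.card_eq_one.mp h) hrange1
    · exact h
  have hrangeeq : f.range = Z :=
    Subgroup.eq_of_le_of_card_ge hrangeZ (by rw [ha, hrangecard])
  have hcardW : Nat.card W = p ^ 3 := by
    have h1 := Subgroup.card_mul_index f.ker
    rw [Subgroup.index_ker, hrangecard, hker, hb] at h1
    rw [← h1]
    ring
  constructor
  · rw [← Subgroup.index_eq_card]
    have h1 := Subgroup.card_mul_index Z
    rw [ha, hcardW] at h1
    have hpos : 0 < p := hp.out.pos
    have : p * Z.index = p * p ^ 2 := by rw [h1]; ring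
    exact Nat.eq_of_mul_eq_mul_left hpos this
  · intro z hz
    rw [← hrangeeq] at hz
    obtain ⟨w, rfl⟩ := hz
    exact ⟨w, x, rfl⟩

end Cfsg.Agent.Lib.H16.RankTwo
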