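import Mathlib
import Cfsg.Prelude
import Cfsg.Agent.Lib.H16.PGroupCenter
import Cfsg.Agent.Lib.H16.RankTwoB
import Cfsg.Agent.Lib.H19.MinNonPClosed

/-! Chief factors inside a normal `p`-subgroup of rank at most two (helper16): basic tools.

`Q` is a normal `p`-subgroup of the finite group `G`, `K < Q` is normal in `G` and there is no
normal subgroup of `G` strictly between `K` and `Q`. -/

set_option autoImplicit false

namespace Cfsg.Agent.Lib.H16.ChiefRank

open scoped commutatorElement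

universe u

variable {G : Type u} [Group G]

/-- Every elementary abelian `p`-subgroup of `Q` has order at most `p ^ 2`. -/
def RankTwo (p : ℕ) (Q : Subgroup G) : Prop :=
  ∀ E : Subgroup G, E ≤ Q → (∀ a ∈ E, ∀ b ∈ E, a * b = b * a) → (∀ a ∈ E, a ^ p = 1) →
    Nat.card E ≤ p ^ 2

theorem RankTwo.mono {p : ℕ} {Q M : Subgroup G} (h : RankTwo p Q) (hMQ : M ≤ Q) : RankTwo p M :=
  fun E hE => h E (hE.trans hMQ)

/-- The elements of `Q` commuting with `Q` modulo the normal subgroup `A`. -/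
def commSub (Q A : Subgroup G) [hA : A.Normal] : Subgroup G where
  carrier := {d | d ∈ Q ∧ ∀ x ∈ Q, ⁅x, d⁆ ∈ A}
  one_mem' := ⟨Q.one_mem, fun x _ => by rw [commutatorElement_one_right]; exact A.one_mem⟩
  mul_mem' := by
    rintro d d' ⟨hd, h1⟩ ⟨hd', h2⟩
    refine ⟨Q.mul_mem hd hd', fun x hx => ?_⟩
    have : ⁅x, d * d'⁆ = ⁅x, d⁆ * (d * ⁅x, d'⁆ * d⁻¹) := by
      simp only [commutatorElement_def]; group
    rw [this]
    exact A.mul_mem (h1 x hx) (hA.conj_mem _ (h2 x hx) d)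
  inv_mem' := by
    rintro d ⟨hd, h1⟩
    refine ⟨Q.inv_mem hd, fun x hx => ?_⟩
    have : ⁅x, d⁻¹⁆ = d⁻¹ * (⁅x, d⁆)⁻¹ * d⁻¹⁻¹ := by
      simp only [commutatorElement_def]; group
    rw [this]
    exact hA.conj_mem _ (A.inv_mem (h1 x hx)) d⁻¹

theorem mem_commSub {Q A : Subgroup G} [A.Normal] {d : G} :
    d ∈ commSub Q A ↔ d ∈ Q ∧ ∀ x ∈ Q, ⁅x, d⁆ ∈ A := Iff.rfl

theorem commSub_le (Q A : Subgroup G) [A.Normal] : commSub Q A ≤ Q := fun _ h => h.1

theorem le_commSub {Q A : Subgroup G} [hA : A.Normal] (hAQ : A ≤ Q) : A ≤ commSub Q A := by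
  intro a ha
  refine ⟨hAQ ha, fun x _ => ?_⟩
  rw [commutatorElement_def]
  have h1 := hA.conj_mem a ha x
  exact A.mul_mem h1 (A.inv_mem ha)

instance commSub_normal (Q A : Subgroup G) [hQ : Q.Normal] [hA : A.Normal] :
    (commSub Q A).Normal := by
  constructor
  rintro d ⟨hd, h1⟩ g
  refine ⟨hQ.conj_mem d hd g, fun x hx => ?_⟩
  have h2 : g⁻¹ * x * g ∈ Q := by
    have := hQ.conj_mem x hx g⁻¹
    simpa using this
  have : ⁅x, g * d * g⁻¹⁆ = g * ⁅g⁻¹ * x * g, d⁆ * g⁻¹ := by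
    simp only [commutatorElement_def]; group
  rw [this]
  exact hA.conj_mem _ (h1 _ h2) g

variable [Finite G] {p : ℕ} [hp : Fact p.Prime]

/-- A central-series step: if the `p`-subgroup `Q` normalizes `L ≤ Q` and `L` is not contained in
the normal subgroup `M`, some element of `L` outside `M` commutes with `Q` modulo `M`. -/
theorem exists_not_mem_comm_mem {Q M L : Subgroup G} [hMn : M.Normal] (hQ : IsPGroup p Q)
    (hLQ : L ≤ Q) (hnorm : Q ≤ Subgroup.normalizer (L : Set G)) (hLM : ¬ L ≤ M) :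
    ∃ l ∈ L, l ∉ M ∧ ∀ x ∈ Q, ⁅x, l⁆ ∈ M := by
  have hP : IsPGroup p (Q.map (QuotientGroup.mk' M)) := hQ.map _
  have hLP : L.map (QuotientGroup.mk' M) ≤ Q.map (QuotientGroup.mk' M) := Subgroup.map_mono hLQ
  have hn : Q.map (QuotientGroup.mk' M) ≤
      Subgroup.normalizer ((L.map (QuotientGroup.mk' M) : Subgroup (G ⧸ M)) : Set (G ⧸ M)) := by
    apply le_normalizer_of_conj_mem
    rintro _ ⟨x, hx, rfl⟩ _ ⟨l, hl, rfl⟩
    refine ⟨x * l * x⁻¹, ?_, by simp⟩
    have := hnorm hx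
    rw [Subgroup.mem_normalizer_iff] at this
    exact (this l).mp hl
  have hne : L.map (QuotientGroup.mk' M) ≠ ⊥ := by
    intro h
    apply hLM
    intro l hl
    have : (QuotientGroup.mk' M) l ∈ L.map (QuotientGroup.mk' M) := Subgroup.mem_map_of_mem _ hl
    rw [h, Subgroup.mem_bot] at this
    exact (QuotientGroup.eq_one_iff l).mp this
  obtain ⟨z, hzL, hz1, hzc⟩ := exists_ne_one_central_of_le_normalizer hp.out
    (Q.map (QuotientGroup.mk' M)) (L.map (QuotientGroup.mk' M)) hP hLP hn hne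
  obtain ⟨l, hl, rfl⟩ := hzL
  refine ⟨l, hl, fun h => hz1 ((QuotientGroup.eq_one_iff l).mpr h), fun x hx => ?_⟩
  have h1 := hzc ((QuotientGroup.mk' M) x) (Subgroup.mem_map_of_mem _ hx)
  rw [← QuotientGroup.eq_one_iff, commutatorElement_def]
  have h2 : ((x * l * x⁻¹ * l⁻¹ : G) : G ⧸ M) =
      (QuotientGroup.mk' M) x * (QuotientGroup.mk' M) l * ((QuotientGroup.mk' M) x)⁻¹ *
        ((QuotientGroup.mk' M) l)⁻¹ := by
    simp
  rw [h2, h1]
  group

/-- A chief factor of `p`-power order is elementary abelian. -/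
theorem chief_elemAb {Q K : Subgroup G} [hQn : Q.Normal] [hKn : K.Normal] (hlt : K < Q)
    (hQ : IsPGroup p Q)
    (hchief : ∀ L : Subgroup G, L.Normal → K ≤ L → L ≤ Q → L = K ∨ L = Q) :
    (∀ x ∈ Q, ∀ y ∈ Q, ⁅x, y⁆ ∈ K) ∧ ∀ x ∈ Q, x ^ p ∈ K := by
  have hπs := QuotientGroup.mk'_surjective K
  have hNn : (Q.map (QuotientGroup.mk' K)).Normal := hQn.map _ hπs
  have hNp : IsPGroup p (Q.map (QuotientGroup.mk' K)) := hQ.map _
  have hcmX : (Q.map (QuotientGroup.mk' K)).comap (QuotientGroup.mk' K) = Q := by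
    rw [QuotientGroup.comap_map_mk', sup_eq_right.2 hlt.le]
  have hminN : ∀ B : Subgroup (G ⧸ K), B.Normal → B ≤ Q.map (QuotientGroup.mk' K) →
      B = ⊥ ∨ B = Q.map (QuotientGroup.mk' K) := by
    intro B hB hBN
    have h1 : (B.comap (QuotientGroup.mk' K)).Normal := hB.comap _
    have h2 : K ≤ B.comap (QuotientGroup.mk' K) := by
      intro y hy
      rw [Subgroup.mem_comap]
      have : (QuotientGroup.mk' K) y = 1 := (QuotientGroup.eq_one_iff y).2 hy
      rw [this]; exact B.one_mem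
    have h3 : B.comap (QuotientGroup.mk' K) ≤ Q := by
      rw [← hcmX]; exact Subgroup.comap_mono hBN
    rcases hchief _ h1 h2 h3 with h4 | h4
    · left
      rw [← Subgroup.map_comap_eq_self_of_surjective hπs B, h4, QuotientGroup.map_mk'_self]
    · right
      rw [← Subgroup.map_comap_eq_self_of_surjective hπs B, h4]
  obtain ⟨hcomm, hexp⟩ := Cfsg.Agent.Lib.H19.isElementaryAbelian_of_minimal_normal _ hNp hminN
  constructor
  · intro x hx y hy
    rw [← QuotientGroup.eq_one_iff, commutatorElement_def]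
    have hx' : (QuotientGroup.mk' K) x ∈ Q.map (QuotientGroup.mk' K) :=
      Subgroup.mem_map_of_mem _ hx
    have hy' : (QuotientGroup.mk' K) y ∈ Q.map (QuotientGroup.mk' K) :=
      Subgroup.mem_map_of_mem _ hy
    have h1 : (QuotientGroup.mk' K) x * (QuotientGroup.mk' K) y =
        (QuotientGroup.mk' K) y * (QuotientGroup.mk' K) x := by
      have := hcomm.is_comm.comm ⟨_, hx'⟩ ⟨_, hy'⟩
      exact congrArg Subtype.val this
    have h2 : ((x * y * x⁻¹ * y⁻¹ : G) : G ⧸ K) =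
        (QuotientGroup.mk' K) x * (QuotientGroup.mk' K) y * ((QuotientGroup.mk' K) x)⁻¹ *
          ((QuotientGroup.mk' K) y)⁻¹ := by
      simp
    rw [h2, h1]
    group
  · intro x hx
    rw [← QuotientGroup.eq_one_iff]
    have hx' : (QuotientGroup.mk' K) x ∈ Q.map (QuotientGroup.mk' K) :=
      Subgroup.mem_map_of_mem _ hx
    have := hexp _ hx'
    simpa using this

/-- If `Q` is generated modulo `K` by one element whose `p`-th power lies in `K`, then
`|Q : K|` divides `p`. -/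
theorem relIndex_dvd_of_gen {Q K : Subgroup G} [K.Normal] {g : G} (hg : g ∈ Q)
    (hgp : g ^ p ∈ K) (hgen : ∀ x ∈ Q, ∃ k : ℤ, x⁻¹ * g ^ k ∈ K) : K.relIndex Q ∣ p := by
  rw [Subgroup.relIndex, Subgroup.index]
  set g' : ↥Q ⧸ K.subgroupOf Q := QuotientGroup.mk' (K.subgroupOf Q) ⟨g, hg⟩ with hg'
  have hall : ∀ z : ↥Q ⧸ K.subgroupOf Q, z ∈ Subgroup.zpowers g' := by
    intro z
    obtain ⟨x, rfl⟩ := QuotientGroup.mk'_surjective (K.subgroupOf Q) z
    obtain ⟨k, hk⟩ := hgen x x.2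
    rw [Subgroup.mem_zpowers_iff]
    refine ⟨k, ?_⟩
    rw [hg', ← map_zpow]
    symm
    rw [QuotientGroup.mk'_apply, QuotientGroup.mk'_apply, QuotientGroup.eq,
      Subgroup.mem_subgroupOf]
    simpa using hk
  rw [← orderOf_eq_card_of_forall_mem_zpowers hall]
  apply orderOf_dvd_of_pow_eq_one
  rw [hg', ← map_pow, QuotientGroup.mk'_apply, QuotientGroup.eq_one_iff, Subgroup.mem_subgroupOf]
  simpa using hgp

/-- Passing to a normal supplement of `K` in `Q`. -/
theorem chief_supplement {Q K M : Subgroup G} [hKn : K.Normal] [hMn : M.Normal]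
    (hsup : M ⊔ K = Q)
    (hchief : ∀ L : Subgroup G, L.Normal → K ≤ L → L ≤ Q → L = K ∨ L = Q) :
    (∀ L : Subgroup G, L.Normal → M ⊓ K ≤ L → L ≤ M → L = M ⊓ K ∨ L = M) ∧
      (M ⊓ K).relIndex M = K.relIndex Q := by
  constructor
  · intro L hLn hKL hLM
    haveI := hLn
    have h1 : (L ⊔ K).Normal := inferInstance
    have h2 : L ⊔ K ≤ Q := by rw [← hsup]; exact sup_le_sup_right hLM K
    rcases hchief _ h1 le_sup_right h2 with h | h
    · left
      apply le_antisymm _ hKL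
      exact le_inf hLM (by rw [← h]; exact le_sup_left)
    · right
      apply le_antisymm hLM
      intro m hm
      have hmQ : m ∈ L ⊔ K := by rw [h, ← hsup]; exact Subgroup.mem_sup_left hm
      rw [← SetLike.mem_coe, Subgroup.mul_normal L K, Set.mem_mul] at hmQ
      obtain ⟨l, hl, k, hk, rfl⟩ := hmQ
      have hkM : k ∈ M := by
        have : k = l⁻¹ * (l * k) := by group
        rw [this]
        exact M.mul_mem (M.inv_mem (hLM hl)) hm
      exact L.mul_mem hl (hKL (Subgroup.mem_inf.mpr ⟨hkM, hk⟩))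
  · rw [Subgroup.inf_relIndex_left, ← hsup, Subgroup.relIndex_sup_right]

end Cfsg.Agent.Lib.H16.ChiefRank
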