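import Mathlib
import Cfsg.Prelude
import Cfsg.Agent.Lib.H16.ChiefRankA
import Cfsg.Agent.Lib.H16.CommHom

/-! Chief factors inside a normal `p`-subgroup of rank at most two (helper16): a normal
elementary abelian subgroup of order `p ^ 2` is central and contains all elements of order `p`. -/

set_option autoImplicit false

namespace Cfsg.Agent.Lib.H16.ChiefRank

open scoped commutatorElement

universe u

variable {G : Type u} [Group G] [Finite G] {p : ℕ} [hp : Fact p.Prime]

/-- Without a proper normal supplement, every proper normal subgroup of `Q` lies in `K`. -/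
theorem le_of_normal_lt {Q K : Subgroup G} [hKn : K.Normal]
    (hchief : ∀ L : Subgroup G, L.Normal → K ≤ L → L ≤ Q → L = K ∨ L = Q)
    (hnosup : ¬ ∃ M : Subgroup G, M.Normal ∧ M < Q ∧ M ⊔ K = Q) (hKQ : K ≤ Q)
    {M : Subgroup G} (hM : M.Normal) (hMQ : M < Q) : M ≤ K := by
  haveI := hM
  have h1 : (M ⊔ K).Normal := inferInstance
  rcases hchief _ h1 le_sup_right (sup_le hMQ.le hKQ) with h | h
  · rw [← h]; exact le_sup_left
  · exact absurd ⟨M, hM, hMQ, h⟩ hnosup

theorem card_eq_sq_of_lt_of_le {A B C : Subgroup G} (hA : Nat.card A = p) (hC : Nat.card C = p ^ 2)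
    (hAB : A < B) (hBC : B ≤ C) : B = C := by
  apply Subgroup.eq_of_le_of_card_ge hBC
  have h1 : Nat.card A < Nat.card B := RankTwo.card_lt_of_lt hAB
  have h2 : Nat.card B ∣ p ^ 2 := hC ▸ Subgroup.card_dvd_of_le hBC
  obtain ⟨i, hi, hBi⟩ := (Nat.dvd_prime_pow hp.out).mp h2
  rw [hC, hBi]
  rw [hA, hBi] at h1
  have hi2 : i = 2 := by
    interval_cases i
    · simp at h1
      have := hp.out.one_lt
      omega
    · simp at h1
    · rfl
  rw [hi2]

/-- A normal abelian subgroup of order `p ^ 2` of `G` inside `Q` is central in `Q`, if every proper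
normal subgroup of `Q` lies in `K` and `|Q : K|` does not divide `p ^ 2`. -/
theorem central_of_normal_sq {Q K R : Subgroup G} [hQn : Q.Normal] [hKn : K.Normal]
    [hRn : R.Normal] (hQ : IsPGroup p Q) (hP : ∀ M : Subgroup G, M.Normal → M < Q → M ≤ K)
    (hRQ : R ≤ Q) (hRcomm : ∀ a ∈ R, ∀ b ∈ R, a * b = b * a) (hRcard : Nat.card R = p ^ 2)
    (hn : ¬ K.relIndex Q ∣ p ^ 2) : ∀ r ∈ R, ∀ x ∈ Q, r * x = x * r := by
  by_contra hcon
  push Not at hcon
  obtain ⟨r₀, hr₀, x₀, hx₀, hne⟩ := hcon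
  set R₀ : Subgroup G := R ⊓ Subgroup.centralizer (Q : Set G) with hR₀
  have hR₀n : R₀.Normal := inferInstance
  have hRne : R ≠ ⊥ := by
    intro h
    rw [h, Subgroup.card_bot] at hRcard
    have := hp.out.one_lt
    nlinarith
  have hnormR : Q ≤ Subgroup.normalizer (R : Set G) := by
    rw [Subgroup.normalizer_eq_top_iff.mpr hRn]; exact le_top
  obtain ⟨a, haR, ha1, hac⟩ := exists_ne_one_central_of_le_normalizer hp.out Q R hQ hRQ hnormR hRne
  have haR₀ : a ∈ R₀ :=
    Subgroup.mem_inf.mpr ⟨haR, Subgroup.mem_centralizer_iff.mpr (fun h hh => hac h hh)⟩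
  have hR₀lt : R₀ < R := by
    refine lt_of_le_of_ne inf_le_left (fun h => hne ?_)
    have : r₀ ∈ R₀ := by rw [h]; exact hr₀
    have h2 := Subgroup.mem_centralizer_iff.mp (Subgroup.mem_inf.mp this).2 x₀ hx₀
    exact h2.symm
  have hcardR₀ : Nat.card R₀ = p := by
    have h2 : Nat.card R₀ ∣ p ^ 2 := hRcard ▸ Subgroup.card_dvd_of_le hR₀lt.le
    obtain ⟨i, hi, hBi⟩ := (Nat.dvd_prime_pow hp.out).mp h2
    have h3 : Nat.card R₀ < p ^ 2 := hRcard ▸ RankTwo.card_lt_of_lt hR₀lt
    have h4 : Nat.card R₀ ≠ 1 := by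
      intro h
      have := (Subgroup.card_eq_one.mp h)
      rw [this, Subgroup.mem_bot] at haR₀
      exact ha1 haR₀
    interval_cases i
    · rw [pow_zero] at hBi; exact absurd hBi h4
    · rw [pow_one] at hBi; exact hBi
    · rw [hBi] at h3; exact absurd h3 (lt_irrefl _)
  obtain ⟨l, hlR, hlR₀, hl⟩ := exists_not_mem_comm_mem (M := R₀) (L := R) hQ hRQ hnormR
    (not_le_of_gt hR₀lt)
  have hidx : (Subgroup.centralizer ({l} : Set G)).relIndex Q ∣ p := by
    have := relIndex_centralizer_dvd_card Q R₀ l hl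
      (fun d hd => hRcomm d (Subgroup.mem_inf.mp hd).1 l hlR)
      (fun d hd k hk => (Subgroup.mem_centralizer_iff.mp (Subgroup.mem_inf.mp hd).2 k hk).symm)
    rwa [hcardR₀] at this
  set C : Subgroup G := Q ⊓ Subgroup.centralizer (R : Set G) with hC
  have hCn : C.Normal := inferInstance
  have hle : Q ⊓ Subgroup.centralizer ({l} : Set G) ≤ C := by
    intro x hx
    obtain ⟨hxQ, hxl⟩ := Subgroup.mem_inf.mp hx
    refine Subgroup.mem_inf.mpr ⟨hxQ, ?_⟩
    set T : Subgroup G := R ⊓ Subgroup.centralizer ({x} : Set G) with hT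
    have hR₀T : R₀ ≤ T := by
      intro r hr
      obtain ⟨hrR, hrc⟩ := Subgroup.mem_inf.mp hr
      refine Subgroup.mem_inf.mpr ⟨hrR, ?_⟩
      rw [Subgroup.mem_centralizer_singleton_iff]
      exact (Subgroup.mem_centralizer_iff.mp hrc x hxQ).symm
    have hlT : l ∈ T := by
      refine Subgroup.mem_inf.mpr ⟨hlR, ?_⟩
      rw [Subgroup.mem_centralizer_singleton_iff]
      rw [Subgroup.mem_centralizer_singleton_iff] at hxl
      exact hxl.symm
    have hlt : R₀ < T := lt_of_le_of_ne hR₀T (fun h => hlR₀ (h ▸ hlT))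
    have hTR : T = R := card_eq_sq_of_lt_of_le hcardR₀ hRcard hlt inf_le_left
    rw [Subgroup.mem_centralizer_iff]
    intro r hr
    have : r ∈ T := by rw [hTR]; exact hr
    have h2 := (Subgroup.mem_inf.mp this).2
    rw [Subgroup.mem_centralizer_singleton_iff] at h2
    exact h2
  have hCidx : C.relIndex Q ∣ p := by
    have h1 := Subgroup.relIndex_dvd_of_le_left Q hle
    rw [Subgroup.inf_relIndex_left (H := Q) (K := Subgroup.centralizer ({l} : Set G))] at h1
    exact h1.trans hidx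
  have hClt : C < Q := by
    refine lt_of_le_of_ne inf_le_left (fun h => hne ?_)
    have : x₀ ∈ C := by rw [h]; exact hx₀
    exact Subgroup.mem_centralizer_iff.mp (Subgroup.mem_inf.mp this).2 r₀ hr₀
  have hCK : C ≤ K := hP C hCn hClt
  apply hn
  exact ((Subgroup.relIndex_dvd_of_le_left Q hCK).trans hCidx).trans (dvd_pow_self p two_ne_zero)

/-- A central elementary abelian subgroup of order `p ^ 2` of a group of rank at most two contains
every element of order dividing `p`. -/
theorem mem_of_pow_eq_one {Q R : Subgroup G} [hRn : R.Normal] (hrk : RankTwo p Q) (hRQ : R ≤ Q)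
    (hRc : ∀ r ∈ R, ∀ x ∈ Q, r * x = x * r) (hRexp : ∀ r ∈ R, r ^ p = 1)
    (hRcard : Nat.card R = p ^ 2) {x : G} (hx : x ∈ Q) (hxp : x ^ p = 1) : x ∈ R := by
  set E : Subgroup G := R ⊔ Subgroup.zpowers x with hE
  have hmem : ∀ e ∈ E, ∃ r ∈ R, ∃ y ∈ Subgroup.zpowers x, r * y = e := by
    intro e he
    rw [← SetLike.mem_coe, hE, Subgroup.normal_mul R (Subgroup.zpowers x), Set.mem_mul] at he
    exact he
  have hzQ : Subgroup.zpowers x ≤ Q := by
    rw [Subgroup.zpowers_le]; exact hx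
  have hEQ : E ≤ Q := sup_le hRQ hzQ
  have hzc : ∀ y ∈ Subgroup.zpowers x, ∀ y' ∈ Subgroup.zpowers x, y * y' = y' * y := by
    intro y hy y' hy'
    obtain ⟨k, rfl⟩ := Subgroup.mem_zpowers_iff.mp hy
    obtain ⟨k', rfl⟩ := Subgroup.mem_zpowers_iff.mp hy'
    exact (Commute.zpow_zpow_self x k k').eq
  have hzp : ∀ y ∈ Subgroup.zpowers x, y ^ p = 1 := by
    intro y hy
    obtain ⟨k, rfl⟩ := Subgroup.mem_zpowers_iff.mp hy
    rw [← zpow_natCast, ← zpow_mul, mul_comm, zpow_mul, zpow_natCast, hxp, one_zpow]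
  have hEc : ∀ a ∈ E, ∀ b ∈ E, a * b = b * a := by
    intro a ha b hb
    obtain ⟨r, hr, y, hy, rfl⟩ := hmem a ha
    obtain ⟨r', hr', y', hy', rfl⟩ := hmem b hb
    have h1 : y * r' = r' * y := (hRc r' hr' y (hzQ hy)).symm
    have h2 : y' * r = r * y' := (hRc r hr y' (hzQ hy')).symm
    have h3 : r * r' = r' * r := hRc r hr r' (hRQ hr')
    have h4 := hzc y hy y' hy'
    calc r * y * (r' * y') = r * (y * r') * y' := by group
      _ = r * (r' * y) * y' := by rw [h1]
      _ = (r * r') * (y * y') := by group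
      _ = (r' * r) * (y' * y) := by rw [h3, h4]
      _ = r' * (r * y') * y := by group
      _ = r' * (y' * r) * y := by rw [h2]
      _ = r' * y' * (r * y) := by group
  have hEe : ∀ a ∈ E, a ^ p = 1 := by
    intro a ha
    obtain ⟨r, hr, y, hy, rfl⟩ := hmem a ha
    have hc : Commute r y := hRc r hr y (hzQ hy)
    rw [hc.mul_pow, hRexp r hr, hzp y hy, one_mul]
  have hcard := hrk E hEQ hEc hEe
  have hRE : R = E := Subgroup.eq_of_le_of_card_ge le_sup_left (by rw [hRcard]; exact hcard)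
  rw [hRE]
  exact Subgroup.mem_sup_right (Subgroup.mem_zpowers x)

end Cfsg.Agent.Lib.H16.ChiefRank
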