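import Mathlib
import Cfsg.Prelude
import Cfsg.Agent.Lib.H3.Thompson
import Cfsg.Agent.Lib.H22.NormalSeries
import Cfsg.Agent.Lib.H22.MaxNormalAbelian
import Cfsg.Agent.Lib.H22.UniqueOrderP
import Cfsg.Agent.Lib.H8.PGroup

set_option autoImplicit false

/-!
# Normal elementary abelian subgroups of order `p ^ 2` (odd `p`)

A copy of the odd part of the helper lemmas of `S1337` (helper9), kept here so that it does not
depend on a statement file.
-/

namespace Cfsg.Agent.Lib.H16.NormalSq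

open Cfsg.Agent.Lib

variable {P : Type*} [Group P]

/-- `Ω₁` of an abelian subgroup. -/
def omegaP (p : ℕ) (A : Subgroup P) (hA : ∀ x ∈ A, ∀ y ∈ A, x * y = y * x) : Subgroup P where
  carrier := {x | x ∈ A ∧ x ^ p = 1}
  mul_mem' := by
    rintro x y ⟨hx, hx2⟩ ⟨hy, hy2⟩
    refine ⟨A.mul_mem hx hy, ?_⟩
    rw [(show Commute x y from hA x hx y hy).mul_pow, hx2, hy2, one_mul]
  one_mem' := ⟨A.one_mem, one_pow _⟩
  inv_mem' := by
    rintro x ⟨hx, hx2⟩
    exact ⟨A.inv_mem hx, by rw [inv_pow, hx2, inv_one]⟩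

theorem mem_omegaP {p : ℕ} {A : Subgroup P} {hA : ∀ x ∈ A, ∀ y ∈ A, x * y = y * x} {x : P} :
    x ∈ omegaP p A hA ↔ x ∈ A ∧ x ^ p = 1 := Iff.rfl

theorem omegaP_normal (p : ℕ) (A : Subgroup P) (hA : ∀ x ∈ A, ∀ y ∈ A, x * y = y * x) [hn : A.Normal] :
    (omegaP p A hA).Normal := by
  constructor
  rintro x ⟨hx, hx2⟩ g
  refine ⟨hn.conj_mem x hx g, ?_⟩
  rw [conj_pow, hx2, mul_one, mul_inv_cancel]

theorem omegaP_elemAb (p : ℕ) (A : Subgroup P) (hA : ∀ x ∈ A, ∀ y ∈ A, x * y = y * x) :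
    Cfsg.IsElementaryAbelian p (omegaP p A hA) := by
  refine ⟨⟨⟨fun a b => Subtype.ext (hA a a.2.1 b b.2.1)⟩⟩, fun a ha => ha.2⟩

theorem card_le_of_isCyclic_of_pow {G : Type*} [Group G] [Finite G] [hc : IsCyclic G] (p : ℕ)
    (hp : 0 < p) (h : ∀ x : G, x ^ p = 1) : Nat.card G ≤ p := by
  obtain ⟨g, hg⟩ := IsCyclic.exists_generator (α := G)
  rw [← orderOf_eq_card_of_forall_mem_zpowers hg]
  exact Nat.le_of_dvd hp (orderOf_dvd_of_pow_eq_one (h g))

variable [Finite P]

theorem card_le_sq_of_cyclic_selfCentralizing {p : ℕ} [hp : Fact p.Prime] (hp2 : p ≠ 2)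
    (hP : IsPGroup p P) (A : Subgroup P) [hAn : A.Normal] (hcyc : IsCyclic A)
    (hCA : Subgroup.centralizer (A : Set P) = A)
    (E : Subgroup P) (hE : Cfsg.IsElementaryAbelian p E) : Nat.card E ≤ p ^ 2 := by
  obtain ⟨m, hm⟩ := IsPGroup.iff_card.mp (hP.to_subgroup A)
  have hAutCyc : IsCyclic (MulAut ↥A) := by
    have h1 : IsCyclic (ZMod (Nat.card ↥A))ˣ := by
      rw [hm]; exact ZMod.isCyclic_units_of_prime_pow p hp.out hp2 m
    exact (IsCyclic.mulAutMulEquiv ↥A).isCyclic.mpr h1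
  let ψ : ↥E →* MulAut ↥A := (MulAut.conjNormal (H := A)).comp E.subtype
  have hker : Nat.card ψ.ker ≤ p := by
    have hcycEA : IsCyclic ↥(E ⊓ A : Subgroup P) := Subgroup.isCyclic_of_le (inf_le_right : E ⊓ A ≤ A)
    have h1 : Nat.card ↥(E ⊓ A : Subgroup P) ≤ p := by
      apply card_le_of_isCyclic_of_pow p hp.out.pos
      intro x
      apply Subtype.ext
      have := hE.2 x x.2.1
      simpa using this
    have hkA : ∀ k : ↥E, ψ k = 1 → (k : P) ∈ A := by
      intro k hk
      have hc : (k : P) ∈ Subgroup.centralizer (A : Set P) := by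
        rw [Subgroup.mem_centralizer_iff]
        intro a ha
        have h2 : ψ k ⟨a, ha⟩ = ⟨a, ha⟩ := by rw [hk]; rfl
        have h3 := congrArg Subtype.val h2
        have h4 : (k : P) * a * (k : P)⁻¹ = a := h3
        calc a * (k : P) = ((k : P) * a * (k : P)⁻¹) * (k : P) := by rw [h4]
          _ = (k : P) * a := by group
      exact hCA.le hc
    refine le_trans ?_ h1
    apply Nat.card_le_card_of_injective
      (fun k : ψ.ker => (⟨((k : ↥E) : P), ⟨(k : ↥E).2, hkA k (MonoidHom.mem_ker.mp k.2)⟩⟩ :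
        ↥(E ⊓ A : Subgroup P)))
    intro k1 k2 h
    have := congrArg (fun c : ↥(E ⊓ A : Subgroup P) => (c : P)) h
    exact Subtype.ext (Subtype.ext this)
  have hrange : Nat.card ψ.range ≤ p := by
    apply card_le_of_isCyclic_of_pow p hp.out.pos
    rintro ⟨_, e, rfl⟩
    apply Subtype.ext
    show (ψ e) ^ p = 1
    rw [← map_pow]
    have : e ^ p = 1 := by
      apply Subtype.ext
      have := hE.2 e e.2
      simpa using this
    rw [this, map_one]
  have hcard : Nat.card E = Nat.card ψ.ker * Nat.card ψ.range := by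
    rw [← Subgroup.index_ker, Subgroup.card_mul_index]
  rw [hcard, pow_two]
  exact Nat.mul_le_mul hker hrange

/-- A finite `p`-group of rank at least 3 has a normal elementary abelian subgroup of order `p²`
(odd `p`). -/
theorem exists_normal_sq_odd {p : ℕ} [hp : Fact p.Prime] (hp2 : p ≠ 2)
    (hP : IsPGroup p P) (E : Subgroup P) (hE : Cfsg.IsElementaryAbelian p E)
    (hEc : p ^ 2 < Nat.card E) :
    ∃ U : Subgroup P, U.Normal ∧ Cfsg.IsElementaryAbelian p U ∧ Nat.card U = p ^ 2 := by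
  have hbotc : IsMulCommutative (⊥ : Subgroup P) := ⟨⟨fun a b => Subsingleton.elim _ _⟩⟩
  obtain ⟨A, -, hAn, hAc, hCA⟩ := H8.exists_normal_selfCentralizing hP ⊥
  have hAcomm : ∀ x ∈ A, ∀ y ∈ A, x * y = y * x := fun x hx y hy =>
    congrArg Subtype.val (hAc.is_comm.comm (⟨x, hx⟩ : A) ⟨y, hy⟩)
  have hΩn := omegaP_normal p A hAcomm
  by_cases hbig : p ^ 2 ≤ Nat.card (omegaP p A hAcomm)
  · obtain ⟨M, hMn, hMle, hMc⟩ := H22.exists_normal_card_pow hP (omegaP p A hAcomm) 2 hbig
    exact ⟨M, hMn, H3.elemAb_mono hMle (omegaP_elemAb p A hAcomm), hMc⟩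
  · exfalso
    push Not at hbig
    -- `Ω₁(A)` has order at most `p`
    have hΩp : Nat.card (omegaP p A hAcomm) ≤ p := by
      obtain ⟨j, hj⟩ := IsPGroup.iff_card.mp (hP.to_subgroup (omegaP p A hAcomm))
      rw [hj] at hbig ⊢
      have : j < 2 := (Nat.pow_lt_pow_iff_right hp.out.one_lt).mp hbig
      calc p ^ j ≤ p ^ 1 := Nat.pow_le_pow_right hp.out.pos (by omega)
        _ = p := pow_one p
    have huniq : H22.AtMostOneOrderP p ↥A := by
      have key : ∀ H : Subgroup ↥A, Nat.card H = p → H.map A.subtype = omegaP p A hAcomm := by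
        intro H hH
        have hle : H.map A.subtype ≤ omegaP p A hAcomm := by
          rintro _ ⟨h, hh, rfl⟩
          refine ⟨h.2, ?_⟩
          have h1 : (⟨h, hh⟩ : ↥H) ^ p = 1 := by
            rw [← hH]; exact pow_card_eq_one'
          have h2 := congrArg (fun x : ↥H => ((x : ↥A) : P)) h1
          simpa using h2
        apply Subgroup.eq_of_le_of_card_ge hle
        rw [H3.card_map_subtype, hH]; exact hΩp
      intro H K hH hK
      have := (key H hH).trans (key K hK).symm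
      exact Subgroup.map_injective A.subtype_injective this
    have hcyc : IsCyclic ↥A :=
      H22.isCyclic_of_comm_of_atMostOne (hP.to_subgroup A) huniq
        (fun a b => Subtype.ext (hAcomm a a.2 b b.2))
    have := card_le_sq_of_cyclic_selfCentralizing hp2 hP A hcyc hCA E hE
    omega

end Cfsg.Agent.Lib.H16.NormalSq
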