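import Mathlib
import Cfsg.Prelude
import Cfsg.Agent.Lib.H16.ChiefRankA
import Cfsg.Agent.Lib.H16.ChiefRankC
import Cfsg.Agent.Lib.H16.ClassTwo
import Cfsg.Agent.Lib.H16.CommHom
import Cfsg.Agent.Lib.H16.NormalSq
import Cfsg.Agent.Lib.H15.RankOne

/-! Chief factors inside a normal `p`-subgroup of rank at most two (helper16): the case in which
`Q` contains no normal elementary abelian subgroup of `G` of order `p ^ 2`. -/

set_option autoImplicit false

namespace Cfsg.Agent.Lib.H16.ChiefRank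

open scoped commutatorElement

universe u

section helpers

variable {X : Type*} [Group X] [Finite X] {p : ℕ} [hp : Fact p.Prime]

/-- For odd `p`, a finite `p`-group of rank at most one is cyclic. -/
theorem isCyclic_of_rankOne (hp2 : p ≠ 2) (hX : IsPGroup p X) (h : Cfsg.PRankLE p 1 X) :
    IsCyclic X := by
  have h1 : IsCyclic ↥(⊤ : Subgroup X) :=
    Cfsg.Agent.Lib.H15.isCyclic_of_pRankLE_one hp2 h (P := ⊤) (hX.to_subgroup _)
  exact (Subgroup.topEquiv (G := X)).isCyclic.mp h1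

/-- A group of order dividing `p ^ 2` is commutative. -/
theorem comm_of_card_dvd_sq (h : Nat.card X ∣ p ^ 2) : ∀ a b : X, a * b = b * a := by
  obtain ⟨i, hi, hXi⟩ := (Nat.dvd_prime_pow hp.out).mp h
  interval_cases i
  · rw [pow_zero] at hXi
    have : Subsingleton X := (Nat.card_eq_one_iff_unique.mp hXi).1
    intro a b
    exact Subsingleton.elim _ _
  · rw [pow_one] at hXi
    have hc : IsCyclic X := isCyclic_of_prime_card hXi
    intro a b
    obtain ⟨g, hg⟩ := hc.exists_generator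
    obtain ⟨k, rfl⟩ := Subgroup.mem_zpowers_iff.mp (hg a)
    obtain ⟨k', rfl⟩ := Subgroup.mem_zpowers_iff.mp (hg b)
    exact (Commute.zpow_zpow_self g k k').eq
  · exact (IsPGroup.isMulCommutative_of_card_eq_prime_sq hXi).is_comm.comm

end helpers

variable {G : Type u} [Group G] [Finite G] {p : ℕ} [hp : Fact p.Prime]

/-- If `Q` has rank at most two and contains no normal elementary abelian subgroup of `G` of order
`p ^ 2`, then every normal abelian subgroup of `G` inside `Q` is cyclic. -/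
theorem isCyclic_of_normal_comm (hp2 : p ≠ 2) {Q : Subgroup G} (hQ : IsPGroup p Q)
    (hrk : RankTwo p Q)
    (hnoR : ∀ R : Subgroup G, R.Normal → R ≤ Q → (∀ a ∈ R, ∀ b ∈ R, a * b = b * a) →
      (∀ a ∈ R, a ^ p = 1) → Nat.card R ≠ p ^ 2)
    (A : Subgroup G) [hAn : A.Normal] (hAQ : A ≤ Q) (hAc : ∀ a ∈ A, ∀ b ∈ A, a * b = b * a) :
    IsCyclic ↥A := by
  set Ω : Subgroup G := NormalSq.omegaP p A hAc with hΩ
  have hΩn : Ω.Normal := NormalSq.omegaP_normal p A hAc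
  have hΩA : Ω ≤ A := fun x hx => hx.1
  have hΩc : ∀ a ∈ Ω, ∀ b ∈ Ω, a * b = b * a := fun a ha b hb => hAc a ha.1 b hb.1
  have hΩe : ∀ a ∈ Ω, a ^ p = 1 := fun a ha => ha.2
  have h1 : Nat.card Ω ≤ p ^ 2 := hrk Ω (hΩA.trans hAQ) hΩc hΩe
  have h2 : Nat.card Ω ≠ p ^ 2 := hnoR Ω hΩn (hΩA.trans hAQ) hΩc hΩe
  have hΩp : IsPGroup p Ω := hQ.to_le (hΩA.trans hAQ)
  obtain ⟨i, hi⟩ := IsPGroup.iff_card.mp hΩp
  have hi2 : i ≤ 2 := by
    rw [hi] at h1
    exact (Nat.pow_le_pow_iff_right hp.out.one_lt).mp h1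
  have hi1 : i ≤ 1 := by
    rcases Nat.lt_or_ge i 2 with h | h
    · omega
    · exfalso; apply h2; rw [hi]; congr 1; omega
  have hΩcard : Nat.card Ω ≤ p := by
    rw [hi]
    calc p ^ i ≤ p ^ 1 := Nat.pow_le_pow_right hp.out.pos hi1
      _ = p := pow_one p
  apply isCyclic_of_rankOne hp2 (hQ.to_le hAQ)
  intro F _ hFe
  rw [pow_one]
  have hle : F.map A.subtype ≤ Ω := by
    rintro _ ⟨f, hf, rfl⟩
    refine ⟨f.2, ?_⟩
    have := hFe f hf
    have h3 := congrArg Subtype.val this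
    simpa using h3
  calc Nat.card F = Nat.card (F.map A.subtype) :=
        (Subgroup.card_map_of_injective A.subtype_injective).symm
    _ ≤ Nat.card Ω := Subgroup.card_le_of_le hle
    _ ≤ p := hΩcard

/-- A cyclic normal subgroup of `G` inside `Q` is central in `Q`, if every proper normal subgroup
of `Q` lies in `K` and `|Q : K|` does not divide `p ^ 2`. -/
theorem central_of_normal_cyclic (hp2 : p ≠ 2) {Q K A : Subgroup G} [hQn : Q.Normal]
    [hKn : K.Normal] [hAn : A.Normal] (hQ : IsPGroup p Q)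
    (hP : ∀ M : Subgroup G, M.Normal → M < Q → M ≤ K)
    (hpow : ∀ x ∈ Q, x ^ p ∈ K) (hAQ : A ≤ Q) (hAcyc : IsCyclic ↥A)
    (hn : ¬ K.relIndex Q ∣ p ^ 2) : ∀ a ∈ A, ∀ x ∈ Q, a * x = x * a := by
  by_contra hcon
  push Not at hcon
  obtain ⟨a₀, ha₀, x₀, hx₀, hne⟩ := hcon
  obtain ⟨m, hm⟩ := IsPGroup.iff_card.mp (hQ.to_le hAQ)
  have hAutCyc : IsCyclic (MulAut ↥A) := by
    have h1 : IsCyclic (ZMod (Nat.card ↥A))ˣ := by
      rw [hm]; exact ZMod.isCyclic_units_of_prime_pow p hp.out hp2 m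
    exact (IsCyclic.mulAutMulEquiv ↥A).isCyclic.mpr h1
  let ψ : ↥Q →* MulAut ↥A := (MulAut.conjNormal (H := A)).comp Q.subtype
  have hψ : ∀ y : ↥Q, ψ y = 1 → (y : G) ∈ Subgroup.centralizer (A : Set G) := by
    intro y hy
    rw [Subgroup.mem_centralizer_iff]
    intro a ha
    have h1 : ψ y ⟨a, ha⟩ = ⟨a, ha⟩ := by rw [hy]; rfl
    have h2 := congrArg Subtype.val h1
    have h3 : ((ψ y ⟨a, ha⟩ : ↥A) : G) = (y : G) * a * (y : G)⁻¹ := MulAut.conjNormal_apply _ _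
    rw [h3] at h2
    calc a * (y : G) = ((y : G) * a * (y : G)⁻¹) * (y : G) := by rw [h2]
      _ = (y : G) * a := by group
  set C : Subgroup G := Q ⊓ Subgroup.centralizer (A : Set G) with hC
  have hCn : C.Normal := inferInstance
  have hClt : C < Q := by
    refine lt_of_le_of_ne inf_le_left (fun h => hne ?_)
    have : x₀ ∈ C := by rw [h]; exact hx₀
    exact Subgroup.mem_centralizer_iff.mp (Subgroup.mem_inf.mp this).2 a₀ ha₀
  have hCK : C ≤ K := hP C hCn hClt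
  obtain ⟨g', hg'⟩ := (inferInstance : IsCyclic ψ.range).exists_generator
  obtain ⟨g₀, hg₀⟩ := g'.2
  apply hn
  refine Dvd.dvd.trans ?_ (dvd_pow_self p two_ne_zero)
  apply relIndex_dvd_of_gen (g := (g₀ : G)) g₀.2 (hpow _ g₀.2)
  intro x hx
  have h1 := hg' ⟨ψ ⟨x, hx⟩, ⟨⟨x, hx⟩, rfl⟩⟩
  obtain ⟨k, hk⟩ := Subgroup.mem_zpowers_iff.mp h1
  refine ⟨k, ?_⟩
  apply hCK
  have h2 : (ψ g₀) ^ k = ψ ⟨x, hx⟩ := by
    have := congrArg Subtype.val hk
    rw [Subgroup.coe_zpow] at this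
    rw [hg₀]
    exact this
  have h3 : ψ (⟨x, hx⟩⁻¹ * g₀ ^ k) = 1 := by
    rw [map_mul, map_inv, map_zpow, h2, inv_mul_cancel]
  have h4 := hψ _ h3
  refine Subgroup.mem_inf.mpr ⟨?_, ?_⟩
  · exact Q.mul_mem (Q.inv_mem hx) (Q.zpow_mem g₀.2 k)
  · simpa using h4

end Cfsg.Agent.Lib.H16.ChiefRank
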