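import Mathlib
import Cfsg.Prelude
import Cfsg.Agent.Lib.H16.ChiefRankD
import Cfsg.Agent.Lib.H16.ClassTwo
import Cfsg.Agent.Lib.H16.NormalSq
import Cfsg.Agent.Lib.H8.PGroup
import Cfsg.Agent.Lib.H22.NormalSeries
import Cfsg.Agent.Lib.H22.CyclicIndexP
import Cfsg.Agent.Lib.H22.OrderPCube

/-! Subgroups of order `p ^ 3` and exponent `p` in `p`-groups with many elements of order `p`
(helper16).

* `exists_normal_sq_of_not_cyclic`: a non-cyclic `p`-group (`p` odd) has a normal elementary
  abelian subgroup of order `p ^ 2`.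
* `commute_commutator_of_card_cube`: groups of order `p ^ 3` have class at most two.
* `exists_card_cube_exp`: if the elements `x` with `x ^ p = 1` generate a subgroup of order greater
  than `p ^ 2` (`p` odd), there is a subgroup of order `p ^ 3` and exponent `p`. -/

set_option autoImplicit false

namespace Cfsg.Agent.Lib.H16.OmegaQuot

open scoped commutatorElement
open Cfsg.Agent.Lib

variable {P : Type*} [Group P] [Finite P] {p : ℕ} [hp : Fact p.Prime]

theorem exists_normal_sq_of_not_cyclic (hp2 : p ≠ 2) (hP : IsPGroup p P) (hnc : ¬ IsCyclic P) :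
    ∃ U : Subgroup P, U.Normal ∧ (∀ a ∈ U, ∀ b ∈ U, a * b = b * a) ∧ (∀ a ∈ U, a ^ p = 1) ∧
      Nat.card U = p ^ 2 := by
  haveI hbotc : IsMulCommutative (⊥ : Subgroup P) := ⟨⟨fun a b => Subsingleton.elim _ _⟩⟩
  obtain ⟨A, -, hAn, hAc, hCA⟩ := H8.exists_normal_selfCentralizing hP ⊥
  haveI := hAn
  have hAcomm : ∀ x ∈ A, ∀ y ∈ A, x * y = y * x := fun x hx y hy =>
    congrArg Subtype.val (hAc.is_comm.comm (⟨x, hx⟩ : A) ⟨y, hy⟩)
  haveI hΩn := NormalSq.omegaP_normal p A hAcomm
  by_cases hbig : p ^ 2 ≤ Nat.card (NormalSq.omegaP p A hAcomm)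
  · obtain ⟨M, hMn, hMle, hMc⟩ :=
      H22.exists_normal_card_pow hP (NormalSq.omegaP p A hAcomm) 2 hbig
    exact ⟨M, hMn, fun a ha b hb => hAcomm a (hMle ha).1 b (hMle hb).1,
      fun a ha => (hMle ha).2, hMc⟩
  · push Not at hbig
    have hΩp : Nat.card (NormalSq.omegaP p A hAcomm) ≤ p := by
      obtain ⟨j, hj⟩ := IsPGroup.iff_card.mp (hP.to_subgroup (NormalSq.omegaP p A hAcomm))
      rw [hj] at hbig ⊢
      have : j < 2 := (Nat.pow_lt_pow_iff_right hp.out.one_lt).mp hbig
      calc p ^ j ≤ p ^ 1 := Nat.pow_le_pow_right hp.out.pos (by omega)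
        _ = p := pow_one p
    have hAcyc : IsCyclic ↥A := by
      apply ChiefRank.isCyclic_of_rankOne hp2 (hP.to_subgroup A)
      intro F _ hFe
      rw [pow_one]
      have hle : F.map A.subtype ≤ NormalSq.omegaP p A hAcomm := by
        rintro _ ⟨f, hf, rfl⟩
        refine ⟨f.2, ?_⟩
        have := hFe f hf
        have h3 := congrArg Subtype.val this
        simpa using h3
      calc Nat.card F = Nat.card (F.map A.subtype) :=
            (Subgroup.card_map_of_injective A.subtype_injective).symm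
        _ ≤ Nat.card (NormalSq.omegaP p A hAcomm) := Subgroup.card_le_of_le hle
        _ ≤ p := hΩp
    have hAtop : A < ⊤ := by
      rw [lt_top_iff_ne_top]
      intro h
      apply hnc
      obtain ⟨g, hg⟩ := hAcyc.exists_generator
      refine ⟨⟨(g : P), fun x => ?_⟩⟩
      have hx : x ∈ A := by rw [h]; exact Subgroup.mem_top x
      obtain ⟨k, hk⟩ := Subgroup.mem_zpowers_iff.mp (hg ⟨x, hx⟩)
      refine ⟨k, ?_⟩
      have := congrArg Subtype.val hk
      simpa using this
    obtain ⟨B, hBn, hAB, -, hBcard, -, -⟩ := H22.exists_normal_step hP A ⊤ hAtop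
    have hcardAB : Nat.card (A.subgroupOf B) = Nat.card A :=
      Nat.card_congr (Subgroup.subgroupOfEquivOfLe hAB).toEquiv
    have hidx : (A.subgroupOf B).index = p := by
      have h1 := Subgroup.card_mul_index (A.subgroupOf B)
      rw [hcardAB, hBcard, mul_comm p] at h1
      exact Nat.eq_of_mul_eq_mul_left Nat.card_pos h1
    have hcycAB : IsCyclic (A.subgroupOf B) :=
      (Subgroup.subgroupOfEquivOfLe hAB).isCyclic.mpr hAcyc
    have hBnc : ¬ IsCyclic ↥B := by
      intro hc
      have hBA : B ≤ A := by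
        rw [← hCA]
        intro b hb
        rw [Subgroup.mem_centralizer_iff]
        intro a ha
        obtain ⟨g, hg⟩ := hc.exists_generator
        obtain ⟨k, hk⟩ := Subgroup.mem_zpowers_iff.mp (hg ⟨b, hb⟩)
        obtain ⟨k', hk'⟩ := Subgroup.mem_zpowers_iff.mp (hg ⟨a, hAB ha⟩)
        have h1 : (g : P) ^ k = b := by
          have := congrArg Subtype.val hk
          simpa using this
        have h2 : (g : P) ^ k' = a := by
          have := congrArg Subtype.val hk'
          simpa using this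
        rw [← h1, ← h2]
        exact (Commute.zpow_zpow_self (g : P) k' k).eq
      have := Subgroup.card_le_of_le hBA
      rw [hBcard] at this
      have hApos : 0 < Nat.card A := Nat.card_pos
      have := hp.out.one_lt
      nlinarith
    set φ := H22.powHomOfCyclicIndexP hp2 (hP.to_subgroup B) (A.subgroupOf B) hcycAB hidx
      with hφ
    have hK : Nat.card φ.ker = p ^ 2 :=
      H22.card_ker_powHomOfCyclicIndexP hp2 (hP.to_subgroup B) hBnc (A.subgroupOf B) hcycAB hidx
    have hmem : ∀ x : P, x ∈ φ.ker.map B.subtype ↔ x ∈ B ∧ x ^ p = 1 := by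
      intro x
      constructor
      · rintro ⟨y, hy, rfl⟩
        refine ⟨y.2, ?_⟩
        rw [SetLike.mem_coe, MonoidHom.mem_ker, hφ, H22.powHomOfCyclicIndexP_apply] at hy
        have := congrArg Subtype.val hy
        simpa using this
      · rintro ⟨hxB, hxp⟩
        refine ⟨⟨x, hxB⟩, ?_, rfl⟩
        rw [SetLike.mem_coe, MonoidHom.mem_ker, hφ, H22.powHomOfCyclicIndexP_apply]
        apply Subtype.ext
        simpa using hxp
    have hUcard : Nat.card (φ.ker.map B.subtype) = p ^ 2 := by
      rw [Subgroup.card_map_of_injective B.subtype_injective, hK]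
    refine ⟨φ.ker.map B.subtype, ?_, H22.comm_of_card_le_sq _ 2 le_rfl hUcard,
      fun a ha => ((hmem a).mp ha).2, hUcard⟩
    constructor
    intro x hx g
    rw [hmem] at hx ⊢
    exact ⟨hBn.conj_mem x hx.1 g, by rw [conj_pow, hx.2, mul_one, mul_inv_cancel]⟩

/-- In a group of order `p ^ 3` every commutator is central. -/
theorem commute_commutator_of_card_cube {X : Type*} [Group X] [Finite X]
    (h : Nat.card X = p ^ 3) (x y z : X) : Commute ⁅x, y⁆ z := by
  have hX : IsPGroup p X := IsPGroup.of_card h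
  haveI : Nontrivial X := by
    apply Finite.one_lt_card_iff_nontrivial.mp
    rw [h]
    exact Nat.one_lt_pow (by norm_num) hp.out.one_lt
  have hZnt : Nontrivial (Subgroup.center X) := hX.center_nontrivial
  obtain ⟨j, hj0, hj⟩ := (IsPGroup.nontrivial_iff_card (hX.to_subgroup _)).mp hZnt
  have h1 := Subgroup.card_eq_card_quotient_mul_card_subgroup (Subgroup.center X)
  rw [h, hj] at h1
  have hq : Nat.card (X ⧸ Subgroup.center X) ∣ p ^ 2 := by
    obtain ⟨i, hi⟩ := IsPGroup.iff_card.mp (hX.to_quotient (Subgroup.center X))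
    rw [hi] at h1 ⊢
    rw [← pow_add] at h1
    have h3 : 3 = i + j := Nat.pow_right_injective hp.out.two_le h1
    exact pow_dvd_pow p (by omega)
  have hc := ChiefRank.comm_of_card_dvd_sq hq
  have hmem : ⁅x, y⁆ ∈ Subgroup.center X := by
    rw [← QuotientGroup.eq_one_iff, commutatorElement_def]
    have h2 : ((x * y * x⁻¹ * y⁻¹ : X) : X ⧸ Subgroup.center X) =
        (QuotientGroup.mk' _ x) * (QuotientGroup.mk' _ y) * (QuotientGroup.mk' _ x)⁻¹ *
          (QuotientGroup.mk' _ y)⁻¹ := by simp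
    rw [h2, hc (QuotientGroup.mk' _ x) (QuotientGroup.mk' _ y)]
    group
  exact (Subgroup.mem_center_iff.mp hmem z).symm

/-- If the elements `x` with `x ^ p = 1` generate a subgroup of order greater than `p ^ 2`
(`p` odd), there is a subgroup of order `p ^ 3` and exponent `p`. -/
theorem exists_card_cube_exp (hp2 : p ≠ 2) (hP : IsPGroup p P)
    (hΩ : p ^ 2 < Nat.card (Cfsg.omegaOne p (⊤ : Subgroup P))) :
    ∃ L : Subgroup P, Nat.card L = p ^ 3 ∧ ∀ x ∈ L, x ^ p = 1 := by
  have hodd : Odd p := hp.out.odd_of_ne_two hp2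
  have hnc : ¬ IsCyclic P := by
    intro hc
    have hcomm : ∀ x ∈ (⊤ : Subgroup P), ∀ y ∈ (⊤ : Subgroup P), x * y = y * x := by
      intro x _ y _
      obtain ⟨g, hg⟩ := hc.exists_generator
      obtain ⟨k, rfl⟩ := Subgroup.mem_zpowers_iff.mp (hg x)
      obtain ⟨k', rfl⟩ := Subgroup.mem_zpowers_iff.mp (hg y)
      exact (Commute.zpow_zpow_self g k k').eq
    have hle : Cfsg.omegaOne p (⊤ : Subgroup P) ≤ NormalSq.omegaP p ⊤ hcomm := by
      unfold Cfsg.omegaOne
      rw [Subgroup.closure_le]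
      intro x hx
      exact hx
    have hcyc : IsCyclic ↥(NormalSq.omegaP p (⊤ : Subgroup P) hcomm) := inferInstance
    have h1 : Nat.card (NormalSq.omegaP p (⊤ : Subgroup P) hcomm) ≤ p := by
      apply NormalSq.card_le_of_isCyclic_of_pow p hp.out.pos
      intro x
      apply Subtype.ext
      rw [Subgroup.coe_pow, Subgroup.coe_one]
      exact x.2.2
    have h2 := Subgroup.card_le_of_le hle
    have := hp.out.one_lt
    nlinarith
  obtain ⟨U, hUn, hUc, hUe, hUcard⟩ := exists_normal_sq_of_not_cyclic hp2 hP hnc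
  haveI := hUn
  -- an element of order `p` outside `U`
  have hex : ∃ y : P, y ^ p = 1 ∧ y ∉ U := by
    by_contra hcon
    push Not at hcon
    have hle : Cfsg.omegaOne p (⊤ : Subgroup P) ≤ U := by
      unfold Cfsg.omegaOne
      rw [Subgroup.closure_le]
      intro x hx
      exact hcon x hx.2
    have := Subgroup.card_le_of_le hle
    omega
  obtain ⟨y, hyp, hyU⟩ := hex
  have hy1 : y ≠ 1 := fun h => hyU (h ▸ U.one_mem)
  have hyo : orderOf y = p := orderOf_eq_prime hyp hy1
  set L : Subgroup P := U ⊔ Subgroup.zpowers y with hL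
  have hinf : U ⊓ Subgroup.zpowers y = ⊥ := by
    rw [eq_bot_iff]
    intro x hx
    obtain ⟨hxU, hxy⟩ := Subgroup.mem_inf.mp hx
    rw [Subgroup.mem_bot]
    by_contra hx1
    -- `x` generates `zpowers y`
    have hxo : orderOf x = p := by
      obtain ⟨k, rfl⟩ := Subgroup.mem_zpowers_iff.mp hxy
      apply orderOf_eq_prime
      · rw [← zpow_natCast, ← zpow_mul, mul_comm, zpow_mul, zpow_natCast, hyp, one_zpow]
      · exact hx1
    have hzx : Subgroup.zpowers x = Subgroup.zpowers y := by
      apply Subgroup.eq_of_le_of_card_ge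
      · rw [Subgroup.zpowers_le]; exact hxy
      · rw [Nat.card_zpowers, Nat.card_zpowers, hxo, hyo]
    apply hyU
    have : y ∈ Subgroup.zpowers x := by rw [hzx]; exact Subgroup.mem_zpowers y
    exact (Subgroup.zpowers_le.mpr hxU) this
  have hLcard : Nat.card L = p ^ 3 := by
    have h1 : U.relIndex L = p := by
      rw [hL, Subgroup.relIndex_sup_left, ← Subgroup.inf_relIndex_right, hinf,
        Subgroup.relIndex_bot_left, Nat.card_zpowers, hyo]
    have h2 := Subgroup.relIndex_mul_relIndex ⊥ U L bot_le le_sup_left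
    rw [Subgroup.relIndex_bot_left, Subgroup.relIndex_bot_left, h1, hUcard] at h2
    rw [← h2]; ring
  refine ⟨L, hLcard, ?_⟩
  intro x hx
  rw [hL, ← SetLike.mem_coe, Subgroup.normal_mul U (Subgroup.zpowers y), Set.mem_mul] at hx
  obtain ⟨e, he, y', hy', rfl⟩ := hx
  have hy'p : y' ^ p = 1 := by
    obtain ⟨k, rfl⟩ := Subgroup.mem_zpowers_iff.mp hy'
    rw [← zpow_natCast, ← zpow_mul, mul_comm, zpow_mul, zpow_natCast, hyp, one_zpow]
  have heL : e ∈ L := Subgroup.mem_sup_left he
  have hy'L : y' ∈ L := Subgroup.mem_sup_right hy'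
  -- work inside `L`
  have hcl := commute_commutator_of_card_cube (X := ↥L) hLcard
  set c : P := (e * y')⁻¹ * (y' * e) with hc
  have hcc : ∀ z ∈ L, Commute c z := by
    intro z hz
    have h1 := hcl ⟨y'⁻¹, L.inv_mem hy'L⟩ ⟨e⁻¹, L.inv_mem heL⟩ ⟨z, hz⟩
    have h2 := congrArg Subtype.val h1.eq
    have h3 : c = y'⁻¹ * e⁻¹ * y'⁻¹⁻¹ * e⁻¹⁻¹ := by rw [hc]; group
    rw [h3]
    show _ * _ = _ * _
    simpa [commutatorElement_def] using h2
  have h : y' * e = e * y' * c := by rw [hc]; group
  exact mul_pow_eq_one_of_central h (hcc e heL) (hcc y' hy'L) hodd (hUe e he) hy'p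

end Cfsg.Agent.Lib.H16.OmegaQuot
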