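import Mathlib

set_option autoImplicit false

/-!
# Groups of automorphisms of coprime order acting on a `p`-group

Elementary facts about a subgroup `𝒳` of `MulAut P`: the subgroup `[P, 𝒳]` (`autComm`), and the
"chain trick" for automorphisms of order prime to `p`.
-/

namespace Cfsg.Agent.Lib.H16.AutAct

universe u

variable {P : Type u} [Group P]

theorem finite_mulAut [Finite P] : Finite (MulAut P) :=
  Finite.of_injective (fun a : MulAut P => (a : P → P)) DFunLike.coe_injective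

theorem pow_apply_of_map_eq_mul (x : MulAut P) {g c : P} (hc : x g = c * g) (hxc : x c = c)
    (k : ℕ) : (x ^ k) g = c ^ k * g := by
  induction k with
  | zero => simp
  | succ k ih =>
    rw [pow_succ', MulAut.mul_apply, ih, map_mul, map_pow, hxc, hc, pow_succ, mul_assoc]

/-- The chain trick: if `x g = c g` with `c` fixed by `x`, and `x` has order prime to `p`, then
`c = 1`. -/
theorem eq_one_of_map_eq_mul {p : ℕ} (hP : IsPGroup p P) (x : MulAut P) {n : ℕ}
    (hn : x ^ n = 1) (hnp : n.Coprime p) {g c : P} (hc : x g = c * g) (hxc : x c = c) : c = 1 := by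
  have h1 := pow_apply_of_map_eq_mul x hc hxc n
  rw [hn, MulAut.one_apply] at h1
  have h2 : c ^ n = 1 := by
    have := congrArg (· * g⁻¹) h1
    simp only [mul_inv_cancel, mul_inv_cancel_right] at this
    exact this.symm
  obtain ⟨k, hk⟩ := hP c
  have h3 : orderOf c ∣ Nat.gcd n (p ^ k) :=
    Nat.dvd_gcd (orderOf_dvd_of_pow_eq_one h2) (orderOf_dvd_of_pow_eq_one hk)
  have h4 : Nat.gcd n (p ^ k) = 1 := Nat.Coprime.pow_right k hnp
  rw [h4, Nat.dvd_one, orderOf_eq_one_iff] at h3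
  exact h3

/-- An exponent prime to `p` killing a given element of a finite group of automorphisms of order
prime to `p`. -/
theorem exists_pow_eq_one [Finite P] {p : ℕ} (𝒳 : Subgroup (MulAut P))
    (hcop : (Nat.card 𝒳).Coprime p) {x : MulAut P} (hx : x ∈ 𝒳) :
    ∃ n : ℕ, x ^ n = 1 ∧ n.Coprime p := by
  haveI := finite_mulAut (P := P)
  refine ⟨orderOf x, pow_orderOf_eq_one x, ?_⟩
  exact Nat.Coprime.coprime_dvd_left (Subgroup.orderOf_dvd_natCard 𝒳 hx) hcop

/-- `[P, 𝒳]`. -/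
def autComm (𝒳 : Subgroup (MulAut P)) : Subgroup P :=
  Subgroup.closure {c | ∃ x ∈ 𝒳, ∃ r : P, c = x r * r⁻¹}

theorem mem_autComm {𝒳 : Subgroup (MulAut P)} {x : MulAut P} (hx : x ∈ 𝒳) (r : P) :
    x r * r⁻¹ ∈ autComm 𝒳 :=
  Subgroup.subset_closure ⟨x, hx, r, rfl⟩

instance autComm_normal (𝒳 : Subgroup (MulAut P)) : (autComm 𝒳).Normal := by
  constructor
  intro n hn g
  unfold autComm at hn ⊢
  induction hn using Subgroup.closure_induction with
  | mem c hc =>
    obtain ⟨x, hx, r, rfl⟩ := hc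
    have : g * (x r * r⁻¹) * g⁻¹ = (x g * g⁻¹)⁻¹ * (x (g * r) * (g * r)⁻¹) := by
      rw [map_mul]; group
    rw [this]
    exact Subgroup.mul_mem _ (Subgroup.inv_mem _ (Subgroup.subset_closure ⟨x, hx, g, rfl⟩))
      (Subgroup.subset_closure ⟨x, hx, g * r, rfl⟩)
  | one => simp
  | mul a b _ _ ha hb =>
    have : g * (a * b) * g⁻¹ = (g * a * g⁻¹) * (g * b * g⁻¹) := by group
    rw [this]
    exact Subgroup.mul_mem _ ha hb
  | inv a _ ha =>
    have : g * a⁻¹ * g⁻¹ = (g * a * g⁻¹)⁻¹ := by group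
    rw [this]
    exact Subgroup.inv_mem _ ha

/-- `[P, 𝒳]` is invariant under any automorphism normalizing `𝒳`. -/
theorem map_mem_autComm {𝒳 : Subgroup (MulAut P)} {y : MulAut P}
    (hy : ∀ x ∈ 𝒳, y * x * y⁻¹ ∈ 𝒳) {c : P} (hc : c ∈ autComm 𝒳) : y c ∈ autComm 𝒳 := by
  unfold autComm at hc ⊢
  induction hc using Subgroup.closure_induction with
  | mem c hc =>
    obtain ⟨x, hx, r, rfl⟩ := hc
    refine Subgroup.subset_closure ⟨y * x * y⁻¹, hy x hx, y r, ?_⟩
    simp [MulAut.mul_apply]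
  | one => simp
  | mul a b _ _ ha hb =>
    rw [map_mul]
    exact Subgroup.mul_mem _ ha hb
  | inv a _ ha =>
    rw [map_inv]
    exact Subgroup.inv_mem _ ha

theorem map_mem_autComm_of_mem {𝒳 : Subgroup (MulAut P)} {y : MulAut P} (hy : y ∈ 𝒳) {c : P}
    (hc : c ∈ autComm 𝒳) : y c ∈ autComm 𝒳 :=
  map_mem_autComm (fun x hx => 𝒳.mul_mem (𝒳.mul_mem hy hx) (𝒳.inv_mem hy)) hc

/-- An automorphism of order prime to `p` in `𝒳` fixing `[P, 𝒳]` elementwise is trivial. -/
theorem eq_one_of_fixes_autComm {p : ℕ} (hP : IsPGroup p P) (𝒳 : Subgroup (MulAut P))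
    {x : MulAut P} (hx : x ∈ 𝒳) {n : ℕ} (hn : x ^ n = 1) (hnp : n.Coprime p)
    (hfix : ∀ c ∈ autComm 𝒳, x c = c) : x = 1 := by
  ext r
  rw [MulAut.one_apply]
  have hc : x r = (x r * r⁻¹) * r := by group
  have := eq_one_of_map_eq_mul hP x hn hnp hc (hfix _ (mem_autComm hx r))
  calc x r = (x r * r⁻¹) * r := hc
    _ = r := by rw [this, one_mul]

/-- A normal subgroup fixed elementwise by `𝒳` centralizes `[P, 𝒳]`. -/
theorem commute_of_fixed_normal (𝒳 : Subgroup (MulAut P)) (N : Subgroup P) [hN : N.Normal]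
    (hfix : ∀ x ∈ 𝒳, ∀ n ∈ N, x n = n) :
    ∀ n ∈ N, ∀ d ∈ autComm 𝒳, n * d = d * n := by
  intro g hg d hd
  unfold autComm at hd
  induction hd using Subgroup.closure_induction with
  | mem c hc =>
    obtain ⟨x, hx, r, rfl⟩ := hc
    have h1 : r⁻¹ * g * r ∈ N := by
      have := hN.conj_mem g hg r⁻¹
      simpa using this
    have h2 := hfix x hx _ h1
    rw [map_mul, map_mul, map_inv, hfix x hx g hg] at h2
    calc g * (x r * r⁻¹) = x r * ((x r)⁻¹ * g * x r) * r⁻¹ := by group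
      _ = x r * (r⁻¹ * g * r) * r⁻¹ := by rw [h2]
      _ = x r * r⁻¹ * g := by group
  | one => simp
  | mul a b _ _ ha hb =>
    rw [← mul_assoc, ha, mul_assoc, hb, mul_assoc]
  | inv a _ ha =>
    have : g * a⁻¹ = a⁻¹ * (a * g) * a⁻¹ := by group
    rw [this, ← ha]
    group

end Cfsg.Agent.Lib.H16.AutAct
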