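import Mathlib
import Cfsg.Prelude
import Cfsg.Agent.Lib.H16.ClassTwo
import Cfsg.Agent.Lib.H16.PGroupCenter
import Cfsg.Agent.Lib.H16.RankTwoB

set_option autoImplicit false

/-!
# Narrow `p`-groups, part 1: generalities

* `normal_card_sq_le_upperCentralSeries_two`: a normal subgroup of order `p ^ 2` of a finite
  `p`-group lies in the second centre.
* `omegaZ2`: the subgroup generated by the elements of order dividing `p` of the second centre;
  it has exponent `p` for odd `p`, and its commutators with `R` lie in `Ω₁(Z(R))`.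
-/

namespace Cfsg.Agent.Lib.H16.Narrow

open scoped commutatorElement
open Cfsg.Agent.Lib.H16

universe u

variable {R : Type u} [Group R]

/-- `Ω₁(Z(R))` as an explicit subgroup. -/
def omegaCenter (R : Type u) [Group R] (p : ℕ) : Subgroup R where
  carrier := {z | z ∈ Subgroup.center R ∧ z ^ p = 1}
  one_mem' := ⟨Subgroup.one_mem _, one_pow _⟩
  mul_mem' := by
    rintro a b ⟨ha, ha'⟩ ⟨hb, hb'⟩
    refine ⟨Subgroup.mul_mem _ ha hb, ?_⟩
    have hc : Commute a b := (Subgroup.mem_center_iff.mp ha b).symm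
    rw [hc.mul_pow, ha', hb', one_mul]
  inv_mem' := by
    rintro a ⟨ha, ha'⟩
    exact ⟨Subgroup.inv_mem _ ha, by rw [inv_pow, ha', inv_one]⟩

theorem mem_omegaCenter {p : ℕ} {z : R} :
    z ∈ omegaCenter R p ↔ z ∈ Subgroup.center R ∧ z ^ p = 1 := Iff.rfl

theorem closure_eq_omegaCenter (p : ℕ) :
    Subgroup.closure {x : R | x ∈ Subgroup.center R ∧ x ^ p = 1} = omegaCenter R p := by
  apply le_antisymm
  · rw [Subgroup.closure_le]
    intro x hx
    exact hx
  · intro x hx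
    exact Subgroup.subset_closure hx

theorem omegaCenter_le_center (p : ℕ) : omegaCenter R p ≤ Subgroup.center R := fun _ hz => hz.1

instance omegaCenter_normal (p : ℕ) : (omegaCenter R p).Normal := by
  constructor
  intro n hn g
  have : g * n * g⁻¹ = n := by
    have := Subgroup.mem_center_iff.mp hn.1 g
    rw [this, mul_inv_cancel_right]
  rw [this]
  exact hn

/-- `Ω₁(Z₂(R))`. -/
def omegaZ2 (R : Type u) [Group R] (p : ℕ) : Subgroup R :=
  Subgroup.closure {x : R | x ∈ Subgroup.upperCentralSeries R 2 ∧ x ^ p = 1}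

theorem commutator_mem_center_of_mem_Z2 {x : R} (hx : x ∈ Subgroup.upperCentralSeries R 2)
    (y : R) : ⁅x, y⁆ ∈ Subgroup.center R := by
  have := (Subgroup.mem_upperCentralSeries_succ_iff (n := 1)).mp hx y
  rwa [Subgroup.upperCentralSeries_one] at this

theorem omegaZ2_le_Z2 (p : ℕ) : omegaZ2 R p ≤ Subgroup.upperCentralSeries R 2 := by
  unfold omegaZ2
  rw [Subgroup.closure_le]
  intro x hx
  exact hx.1

/-- For odd `p`, `Ω₁(Z₂(R))` has exponent dividing `p`. -/
theorem pow_eq_one_of_mem_omegaZ2 {p : ℕ} (hp : Odd p) {g : R} (hg : g ∈ omegaZ2 R p) :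
    g ^ p = 1 := by
  unfold omegaZ2 at hg
  have key : g ∈ Subgroup.upperCentralSeries R 2 ∧ g ^ p = 1 := by
    induction hg using Subgroup.closure_induction with
    | mem x hx => exact hx
    | one => exact ⟨Subgroup.one_mem _, one_pow p⟩
    | mul x y _ _ hx hy =>
      refine ⟨Subgroup.mul_mem _ hx.1 hy.1, ?_⟩
      have h : y * x = x * y * ⁅y⁻¹, x⁻¹⁆ := by rw [commutatorElement_def]; group
      have hc : ⁅y⁻¹, x⁻¹⁆ ∈ Subgroup.center R :=
        commutator_mem_center_of_mem_Z2 (Subgroup.inv_mem _ hy.1) _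
      exact mul_pow_eq_one_of_central h (Subgroup.mem_center_iff.mp hc x).symm
        (Subgroup.mem_center_iff.mp hc y).symm hp hx.2 hy.2
    | inv x _ hx => exact ⟨Subgroup.inv_mem _ hx.1, by rw [inv_pow, hx.2, inv_one]⟩
  exact key.2

/-- Commutators of `Ω₁(Z₂(R))` with `R` lie in `Ω₁(Z(R))`. -/
theorem commutator_mem_omegaCenter {p : ℕ} {w : R} (hw : w ∈ omegaZ2 R p) (r : R) :
    ⁅w, r⁆ ∈ omegaCenter R p := by
  unfold omegaZ2 at hw
  induction hw using Subgroup.closure_induction with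
  | mem x hx =>
    have hc : ⁅x, r⁆ ∈ Subgroup.center R := commutator_mem_center_of_mem_Z2 hx.1 r
    refine ⟨hc, ?_⟩
    -- `r x = x r c'` with `c' = ⁅r⁻¹, x⁻¹⁆`; use the identity for `⁅x, r⁆`
    have h : x * r = r * x * ⁅x⁻¹, r⁻¹⁆ := by rw [commutatorElement_def]; group
    have hc' : ⁅x⁻¹, r⁻¹⁆ ∈ Subgroup.center R :=
      commutator_mem_center_of_mem_Z2 (Subgroup.inv_mem _ hx.1) _
    have h1 : ⁅x⁻¹, r⁻¹⁆ ^ p = 1 :=
      pow_eq_one_of_central_right h (Subgroup.mem_center_iff.mp hc' x).symm hx.2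
    -- `⁅x, r⁆` is a conjugate-inverse of `⁅x⁻¹, r⁻¹⁆`; both central
    have h2 : ⁅x, r⁆ = ⁅x⁻¹, r⁻¹⁆ := by
      have e1 : ⁅x, r⁆ = x * r * ⁅x⁻¹, r⁻¹⁆ * (x * r)⁻¹ := by
        rw [commutatorElement_def, commutatorElement_def]; group
      rw [e1, Subgroup.mem_center_iff.mp hc' (x * r), mul_inv_cancel_right]
    rw [h2]
    exact h1
  | one =>
    rw [commutatorElement_one_left]
    exact Subgroup.one_mem _
  | mul x y _ _ hx hy =>
    have e : ⁅x * y, r⁆ = x * ⁅y, r⁆ * x⁻¹ * ⁅x, r⁆ := by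
      simp only [commutatorElement_def]; group
    rw [e]
    have : x * ⁅y, r⁆ * x⁻¹ = ⁅y, r⁆ := by
      rw [Subgroup.mem_center_iff.mp hy.1 x, mul_inv_cancel_right]
    rw [this]
    exact Subgroup.mul_mem _ hy hx
  | inv x _ hx =>
    have e : ⁅x⁻¹, r⁆ = x⁻¹ * ⁅x, r⁆⁻¹ * x := by
      simp only [commutatorElement_def]; group
    rw [e]
    have h1 : ⁅x, r⁆⁻¹ ∈ omegaCenter R p := Subgroup.inv_mem _ hx
    have : x⁻¹ * ⁅x, r⁆⁻¹ * x = ⁅x, r⁆⁻¹ := by
      rw [mul_assoc, ← Subgroup.mem_center_iff.mp h1.1 x, ← mul_assoc, inv_mul_cancel, one_mul]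
    rw [this]
    exact h1

end Cfsg.Agent.Lib.H16.Narrow
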