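import Mathlib
import Cfsg.Prelude
import Cfsg.Agent.Lib.H16.Narrow

set_option autoImplicit false

/-!
# Narrow `p`-groups, part 2

A normal subgroup of order `p ^ 2` of a finite `p`-group lies in the second centre.
-/

namespace Cfsg.Agent.Lib.H16.Narrow

open scoped commutatorElement
open Cfsg.Agent.Lib.H16

universe u

variable {R : Type u} [Group R] [Finite R] {p : ℕ} [hp : Fact p.Prime]

theorem card_map_mul_card_inf_ker {G H : Type*} [Group G] [Group H] [Finite G] (f : G →* H)
    (N : Subgroup G) : Nat.card (N.map f) * Nat.card (N ⊓ f.ker : Subgroup G) = Nat.card N := by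
  let g : N →* H := f.comp N.subtype
  have hrange : g.range = N.map f := by
    ext y
    constructor
    · rintro ⟨x, rfl⟩
      exact ⟨x.1, x.2, rfl⟩
    · rintro ⟨x, hx, rfl⟩
      exact ⟨⟨x, hx⟩, rfl⟩
  have hker : Nat.card g.ker = Nat.card (N ⊓ f.ker : Subgroup G) := by
    have h1 : g.ker = (f.ker).subgroupOf N := by
      ext x
      simp [g, MonoidHom.mem_ker, Subgroup.mem_subgroupOf]
    rw [h1, ← Subgroup.inf_subgroupOf_left]
    exact Nat.card_congr (Subgroup.subgroupOfEquivOfLe inf_le_left).toEquiv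
  have h2 := Subgroup.card_mul_index g.ker
  rw [Subgroup.index_ker, hrange, hker] at h2
  rw [mul_comm]
  exact h2

/-- A normal subgroup of prime order of a finite `p`-group is central. -/
theorem le_center_of_normal_of_card_le (hR : IsPGroup p R) (N : Subgroup R) [N.Normal]
    (hN : Nat.card N ∣ p) : N ≤ Subgroup.center R := by
  by_cases hbot : N = ⊥
  · rw [hbot]; exact bot_le
  obtain ⟨x, hxN, hx1, hxc⟩ := exists_ne_one_mem_center_of_normal' hp.out hR N hbot
  have hcard : Nat.card N = p := by
    rcases (Nat.dvd_prime hp.out).mp hN with h | h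
    · exact absurd (Subgroup.card_eq_one.mp h) hbot
    · exact h
  have hz : Subgroup.zpowers (⟨x, hxN⟩ : N) = ⊤ :=
    zpowers_eq_top_of_prime_card hcard (fun h => hx1 (congrArg Subtype.val h))
  intro y hy
  have : (⟨y, hy⟩ : N) ∈ Subgroup.zpowers (⟨x, hxN⟩ : N) := by rw [hz]; trivial
  obtain ⟨k, hk⟩ := Subgroup.mem_zpowers_iff.mp this
  have hk' : y = x ^ k := by
    have := congrArg Subtype.val hk
    simpa using this.symm
  rw [hk']
  exact Subgroup.zpow_mem _ hxc k

theorem normal_card_sq_le_upperCentralSeries_two (hR : IsPGroup p R) (N : Subgroup R) [N.Normal]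
    (hN : Nat.card N = p ^ 2) : N ≤ Subgroup.upperCentralSeries R 2 := by
  have hNbot : N ≠ ⊥ := by
    intro h
    rw [h, Subgroup.card_bot] at hN
    have := hp.out.one_lt
    nlinarith
  obtain ⟨x, hxN, hx1, hxc⟩ := exists_ne_one_mem_center_of_normal' hp.out hR N hNbot
  set π : R →* R ⧸ Subgroup.center R := QuotientGroup.mk' (Subgroup.center R) with hπ
  have hsurj : Function.Surjective π := QuotientGroup.mk'_surjective _
  have hprod := card_map_mul_card_inf_ker π N
  rw [hπ, QuotientGroup.ker_mk', ← hπ, hN] at hprod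
  have hinf : p ∣ Nat.card (N ⊓ Subgroup.center R : Subgroup R) := by
    obtain ⟨k, hk⟩ := IsPGroup.iff_card.mp (hR.to_subgroup (N ⊓ Subgroup.center R))
    rw [hk]
    have hk0 : k ≠ 0 := by
      intro h
      rw [h, pow_zero] at hk
      have hb := Subgroup.card_eq_one.mp hk
      have : x ∈ (N ⊓ Subgroup.center R : Subgroup R) := ⟨hxN, hxc⟩
      rw [hb, Subgroup.mem_bot] at this
      exact hx1 this
    exact dvd_pow_self p hk0
  have hmapdvd : Nat.card (N.map π) ∣ p := by
    obtain ⟨m, hm⟩ := hinf
    rw [hm] at hprod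
    have h1 : Nat.card (N.map π) * m * p = p * p := by rw [← pow_two, ← hprod]; ring
    have h2 : Nat.card (N.map π) * m = p := Nat.eq_of_mul_eq_mul_right hp.out.pos h1
    exact Dvd.intro _ h2
  haveI : (N.map π).Normal := Subgroup.Normal.map inferInstance π hsurj
  have hQ : IsPGroup p (R ⧸ Subgroup.center R) := hR.to_quotient _
  have hle := le_center_of_normal_of_card_le hQ (N.map π) hmapdvd
  rw [← Subgroup.comap_upperCentralSeries_quotient_center 1, Subgroup.upperCentralSeries_one]
  intro n hn
  rw [Subgroup.mem_comap]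
  exact hle (Subgroup.mem_map_of_mem π hn)

end Cfsg.Agent.Lib.H16.Narrow
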