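import Mathlib
import Cfsg.Prelude
import Cfsg.Agent.Lib.H16.NarrowB
import Cfsg.Agent.Lib.H16.CommHom

set_option autoImplicit false

/-!
# Narrow `p`-groups, part 3: generalities on maximal elementary abelian subgroups
-/

namespace Cfsg.Agent.Lib.H16.Narrow

open scoped commutatorElement
open Cfsg.Agent.Lib.H16

universe u

variable {R : Type u} [Group R]

/-- If `E` is a maximal elementary abelian subgroup, any commuting set of elements of order
dividing `p` centralizing `E` lies in `E`. -/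
theorem subset_of_max {p : ℕ} (E : Subgroup R) (hE : Cfsg.IsElementaryAbelian p E)
    (hEmax : ∀ B : Subgroup R, Cfsg.IsElementaryAbelian p B → E ≤ B → B = E)
    {S : Set R} (hS : ∀ y ∈ S, y ^ p = 1) (hSS : ∀ x ∈ S, ∀ y ∈ S, x * y = y * x)
    (hSE : ∀ y ∈ S, ∀ e ∈ E, y * e = e * y) : S ⊆ E := by
  have hcomm : ∀ x ∈ (E : Set R) ∪ S, ∀ y ∈ (E : Set R) ∪ S, x * y = y * x := by
    rintro x (hx | hx) y (hy | hy)
    · exact congrArg Subtype.val (hE.1.is_comm.comm (⟨x, hx⟩ : E) ⟨y, hy⟩)
    · exact (hSE y hy x hx).symm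
    · exact hSE x hx y hy
    · exact hSS x hx y hy
  have hBc : IsMulCommutative (Subgroup.closure ((E : Set R) ∪ S)) :=
    Subgroup.isMulCommutative_closure hcomm
  have hBe : ∀ b ∈ Subgroup.closure ((E : Set R) ∪ S), b ^ p = 1 := by
    intro b hb
    induction hb using Subgroup.closure_induction with
    | mem x hx =>
      rcases hx with hx | hx
      · exact hE.2 x hx
      · exact hS x hx
    | one => exact one_pow _
    | mul x y hx hy hx' hy' =>
      have hc : Commute x y := congrArg Subtype.val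
        (hBc.is_comm.comm (⟨x, hx⟩ : Subgroup.closure ((E : Set R) ∪ S)) ⟨y, hy⟩)
      rw [hc.mul_pow, hx', hy', one_mul]
    | inv x _ hx => rw [inv_pow, hx, inv_one]
  have hB := hEmax _ ⟨hBc, hBe⟩ (fun e he => Subgroup.subset_closure (Or.inl he))
  intro y hy
  rw [← hB]
  exact Subgroup.subset_closure (Or.inr hy)

theorem mem_of_max {p : ℕ} (E : Subgroup R) (hE : Cfsg.IsElementaryAbelian p E)
    (hEmax : ∀ B : Subgroup R, Cfsg.IsElementaryAbelian p B → E ≤ B → B = E)
    {y : R} (hy : y ^ p = 1) (hyE : ∀ e ∈ E, y * e = e * y) : y ∈ E := by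
  have := subset_of_max E hE hEmax (S := {y}) (by rintro _ rfl; exact hy)
    (by rintro _ rfl _ rfl; rfl) (by rintro _ rfl e he; exact hyE e he)
  exact this rfl

theorem exists_mem_not_mem_of_card_lt [Finite R] (Z E : Subgroup R)
    (h : Nat.card Z < Nat.card E) : ∃ e ∈ E, e ∉ Z := by
  by_contra hcon
  push Not at hcon
  have : E ≤ Z := hcon
  exact absurd (Subgroup.card_le_of_le this) (not_le.mpr h)

theorem sup_zpowers_eq [Finite R] {p : ℕ} [hp : Fact p.Prime] (Z E : Subgroup R) (hZE : Z ≤ E)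
    (hZ : Nat.card Z = p) (hE : Nat.card E = p ^ 2) {e : R} (he : e ∈ E) (heZ : e ∉ Z) :
    Z ⊔ Subgroup.zpowers e = E := by
  have hle : Z ⊔ Subgroup.zpowers e ≤ E := sup_le hZE (by rwa [Subgroup.zpowers_le])
  apply Subgroup.eq_of_le_of_card_ge hle
  have hlt : Z < Z ⊔ Subgroup.zpowers e := by
    refine lt_of_le_of_ne le_sup_left ?_
    intro h
    apply heZ
    rw [h]
    exact (le_sup_right : Subgroup.zpowers e ≤ _) (Subgroup.mem_zpowers e)
  have hdvd : Nat.card (Z ⊔ Subgroup.zpowers e : Subgroup R) ∣ p ^ 2 := by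
    rw [← hE]
    exact Subgroup.card_dvd_of_le hle
  obtain ⟨k, hk, hkc⟩ := (Nat.dvd_prime_pow hp.out).mp hdvd
  have hcardlt : p < Nat.card (Z ⊔ Subgroup.zpowers e : Subgroup R) := by
    rw [← hZ]
    have hle' : Nat.card Z ≤ Nat.card (Z ⊔ Subgroup.zpowers e : Subgroup R) :=
      Subgroup.card_le_of_le le_sup_left
    rcases lt_or_eq_of_le hle' with h | h
    · exact h
    · exact absurd (Subgroup.eq_of_le_of_card_ge le_sup_left (le_of_eq h.symm)) (ne_of_lt hlt)
  rw [hkc] at hcardlt ⊢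
  rw [hE]
  have h2 : 1 < k := by
    by_contra hcon
    push Not at hcon
    have : p ^ k ≤ p ^ 1 := Nat.pow_le_pow_right hp.out.pos hcon
    rw [pow_one] at this
    omega
  have : k = 2 := by omega
  rw [this]

/-- Something commuting with `Z` and `e` commutes with `Z ⊔ ⟨e⟩`. -/
theorem commute_of_sup_zpowers (Z : Subgroup R) (e x : R) (hZ : ∀ z ∈ Z, x * z = z * x)
    (he : x * e = e * x) : ∀ y ∈ Z ⊔ Subgroup.zpowers e, x * y = y * x := by
  have hle : Z ⊔ Subgroup.zpowers e ≤ Subgroup.centralizer ({x} : Set R) := by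
    apply sup_le
    · intro z hz
      rw [Subgroup.mem_centralizer_singleton_iff]
      exact (hZ z hz).symm
    · rw [Subgroup.zpowers_le, Subgroup.mem_centralizer_singleton_iff]
      exact he.symm
  intro y hy
  have := hle hy
  rw [Subgroup.mem_centralizer_singleton_iff] at this
  exact this.symm

theorem card_inf_mul_relIndex [Finite R] (C W : Subgroup R) :
    Nat.card (C ⊓ W : Subgroup R) * C.relIndex W = Nat.card W := by
  have h := Subgroup.relIndex_mul_relIndex (H := (⊥ : Subgroup R)) (K := C ⊓ W) (L := W)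
    bot_le inf_le_right
  rw [Subgroup.relIndex_bot_left, Subgroup.relIndex_bot_left, Subgroup.inf_relIndex_right] at h
  exact h

theorem card_le_of_lt_of_card_sq [Finite R] {p : ℕ} [hp : Fact p.Prime] (D E : Subgroup R)
    (hE : Nat.card E = p ^ 2) (hlt : D < E) : Nat.card D ≤ p := by
  have hdvd : Nat.card D ∣ p ^ 2 := by
    rw [← hE]
    exact Subgroup.card_dvd_of_le hlt.le
  obtain ⟨k, hk, hkc⟩ := (Nat.dvd_prime_pow hp.out).mp hdvd
  have hk2 : k ≠ 2 := by
    rintro rfl
    exact absurd (Subgroup.eq_of_le_of_card_ge hlt.le (by rw [hE, hkc])) (ne_of_lt hlt)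
  have hk1 : k ≤ 1 := by omega
  rw [hkc]
  calc p ^ k ≤ p ^ 1 := Nat.pow_le_pow_right hp.out.pos hk1
    _ = p := pow_one p

end Cfsg.Agent.Lib.H16.Narrow
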