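import Mathlib
import Cfsg.Prelude
import Cfsg.Agent.Lib.H16.NarrowC
import Cfsg.Agent.Lib.H15.RankOne
import Cfsg.Agent.Lib.H16.NormalSq
import Cfsg.Agent.S1452

set_option autoImplicit false

/-!
# Narrow `p`-groups, part 4: a `p`-group of rank at least 3 with a maximal elementary abelian
subgroup of order `p ^ 2` (Bender--Glauberman, Lemma 5.1)
-/

namespace Cfsg.Agent.Lib.H16.Narrow

open scoped commutatorElement
open Cfsg.Agent.Lib.H16

universe u

/-- The standing hypotheses. -/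
structure MaxSq (R : Type u) [Group R] (p : ℕ) (E : Subgroup R) : Prop where
  hp : p ≠ 2
  hR : IsPGroup p R
  hr : ¬ Cfsg.PRankLE p 2 R
  hE : Cfsg.IsElementaryAbelian p E
  hE2 : Nat.card E = p ^ 2
  hEmax : ∀ B : Subgroup R, Cfsg.IsElementaryAbelian p B → E ≤ B → B = E

variable {R : Type u} [Group R] {p : ℕ} {E : Subgroup R}

theorem omegaCenter_le_omegaZ2 : omegaCenter R p ≤ omegaZ2 R p := by
  intro z hz
  apply Subgroup.subset_closure
  refine ⟨?_, hz.2⟩
  have hle : Subgroup.center R ≤ Subgroup.upperCentralSeries R 2 := by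
    rw [← Subgroup.upperCentralSeries_one]
    exact Subgroup.upperCentralSeries_mono R (by norm_num)
  exact hle hz.1

instance omegaZ2_characteristic : (omegaZ2 R p).Characteristic := by
  rw [Subgroup.characteristic_iff_map_le]
  intro ϕ
  unfold omegaZ2
  rw [MonoidHom.map_closure, Subgroup.closure_le]
  rintro _ ⟨x, hx, rfl⟩
  apply Subgroup.subset_closure
  refine ⟨?_, ?_⟩
  · exact (Subgroup.characteristic_iff_le_comap.mp
      (inferInstance : (Subgroup.upperCentralSeries R 2).Characteristic) ϕ) hx.1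
  · show ϕ x ^ p = 1
    rw [← map_pow, hx.2, map_one]

namespace MaxSq

variable [Finite R] [hp : Fact p.Prime]

theorem omegaCenter_le (h : MaxSq R p E) : omegaCenter R p ≤ E := by
  intro z hz
  exact mem_of_max E h.hE h.hEmax hz.2 (fun e _ => (Subgroup.mem_center_iff.mp hz.1 e).symm)

theorem exists_big (h : MaxSq R p E) :
    ∃ B : Subgroup R, Cfsg.IsElementaryAbelian p B ∧ p ^ 2 < Nat.card B := by
  have hr := h.hr
  unfold Cfsg.PRankLE at hr
  push Not at hr
  obtain ⟨B, hBc, hBe, hB⟩ := hr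
  exact ⟨B, ⟨hBc, hBe⟩, hB⟩

theorem omegaCenter_ne_bot (h : MaxSq R p E) : omegaCenter R p ≠ ⊥ := by
  have hne : (⊤ : Subgroup R) ≠ ⊥ := by
    intro htop
    have h1 : Nat.card E ≤ 1 := by
      have := Subgroup.card_le_of_le (le_top : E ≤ ⊤)
      rw [htop, Subgroup.card_bot] at this
      exact this
    rw [h.hE2] at h1
    have := hp.out.one_lt
    nlinarith
  have hP : IsPGroup p (⊤ : Subgroup R) := h.hR.to_subgroup _
  obtain ⟨z, -, hz, hzc⟩ := H15.exists_central_orderOf_eq_prime hP hne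
  intro hbot
  have hzmem : z ∈ omegaCenter R p := by
    refine ⟨Subgroup.mem_center_iff.mpr (fun g => hzc g (Subgroup.mem_top g)), ?_⟩
    rw [← hz]
    exact pow_orderOf_eq_one z
  rw [hbot, Subgroup.mem_bot] at hzmem
  rw [hzmem, orderOf_one] at hz
  exact hp.out.one_lt.ne hz

theorem omegaCenter_ne (h : MaxSq R p E) : omegaCenter R p ≠ E := by
  intro heq
  obtain ⟨B, hB, hBc⟩ := h.exists_big
  have hsub : (B : Set R) ⊆ E := by
    apply subset_of_max E h.hE h.hEmax (S := (B : Set R)) (fun y hy => hB.2 y hy)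
    · intro x hx y hy
      exact congrArg Subtype.val (hB.1.is_comm.comm (⟨x, hx⟩ : B) ⟨y, hy⟩)
    · intro y _ e he
      have hec : e ∈ Subgroup.center R := by
        rw [← heq] at he
        exact he.1
      exact Subgroup.mem_center_iff.mp hec y
  have hle : Nat.card B ≤ Nat.card E := Subgroup.card_le_of_le hsub
  rw [h.hE2] at hle
  omega

theorem card_omegaCenter (h : MaxSq R p E) : Nat.card (omegaCenter R p) = p := by
  have hlt : omegaCenter R p < E := lt_of_le_of_ne h.omegaCenter_le h.omegaCenter_ne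
  have h1 := card_le_of_lt_of_card_sq _ E h.hE2 hlt
  obtain ⟨k, hk⟩ := IsPGroup.iff_card.mp (h.hR.to_subgroup (omegaCenter R p))
  have hk0 : k ≠ 0 := by
    rintro rfl
    rw [pow_zero] at hk
    exact h.omegaCenter_ne_bot (Subgroup.card_eq_one.mp hk)
  have h2 : p ≤ Nat.card (omegaCenter R p) := by
    rw [hk]
    calc p = p ^ 1 := (pow_one p).symm
      _ ≤ p ^ k := Nat.pow_le_pow_right hp.out.pos (Nat.one_le_iff_ne_zero.mpr hk0)
  omega

theorem p_lt_sq : p < p ^ 2 := by
  have := hp.out.one_lt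
  nlinarith

theorem card_omegaZ2_le (h : MaxSq R p E) :
    Nat.card (omegaZ2 R p) ≤ Nat.card (omegaZ2 R p ⊓ E : Subgroup R) * p := by
  obtain ⟨e₀, he₀, he₀Z⟩ := exists_mem_not_mem_of_card_lt (omegaCenter R p) E
    (by rw [h.card_omegaCenter, h.hE2]; exact p_lt_sq)
  have hsup := sup_zpowers_eq (omegaCenter R p) E h.omegaCenter_le h.card_omegaCenter h.hE2
    he₀ he₀Z
  have hrel : (Subgroup.centralizer ({e₀} : Set R)).relIndex (omegaZ2 R p) ∣
      Nat.card (omegaCenter R p) :=
    relIndex_centralizer_dvd_card (omegaZ2 R p) (omegaCenter R p) e₀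
      (fun k hk => commutator_mem_omegaCenter hk e₀)
      (fun d hd => (Subgroup.mem_center_iff.mp hd.1 e₀).symm)
      (fun d hd k _ => (Subgroup.mem_center_iff.mp hd.1 k).symm)
  rw [h.card_omegaCenter] at hrel
  have hrel_le := Nat.le_of_dvd hp.out.pos hrel
  have hcard := card_inf_mul_relIndex (Subgroup.centralizer ({e₀} : Set R)) (omegaZ2 R p)
  have hinf : (Subgroup.centralizer ({e₀} : Set R) ⊓ omegaZ2 R p) ≤ omegaZ2 R p ⊓ E := by
    rintro w ⟨hwc, hw⟩
    refine ⟨hw, ?_⟩
    apply mem_of_max E h.hE h.hEmax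
      (pow_eq_one_of_mem_omegaZ2 (hp.out.odd_of_ne_two h.hp) hw)
    rw [← hsup]
    apply commute_of_sup_zpowers
    · intro z hz
      exact (Subgroup.mem_center_iff.mp hz.1 w)
    · exact Subgroup.mem_centralizer_singleton_iff.mp hwc
  calc Nat.card (omegaZ2 R p)
      = Nat.card (Subgroup.centralizer ({e₀} : Set R) ⊓ omegaZ2 R p : Subgroup R) *
          (Subgroup.centralizer ({e₀} : Set R)).relIndex (omegaZ2 R p) := hcard.symm
    _ ≤ Nat.card (omegaZ2 R p ⊓ E : Subgroup R) * p :=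
        Nat.mul_le_mul (Subgroup.card_le_of_le hinf) hrel_le

theorem not_le_omegaZ2 (h : MaxSq R p E) : ¬ E ≤ omegaZ2 R p := by
  intro hle
  have hEn : E.Normal := by
    constructor
    intro e he r
    have h1 : ⁅e, r⁆ ∈ omegaCenter R p := commutator_mem_omegaCenter (hle he) r
    have h2 : r * e * r⁻¹ = ⁅e, r⁆⁻¹ * e := by rw [commutatorElement_def]; group
    rw [h2]
    exact E.mul_mem (E.inv_mem (h.omegaCenter_le h1)) he
  obtain ⟨A, hEA, hAn, hCA, hAr⟩ := Cfsg.Agent.S1452.result p h.hp h.hR h.hr E h.hE h.hE2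
  have hAab : ∀ x ∈ A, ∀ y ∈ A, x * y = y * x := by
    intro x hx y hy
    have hxc : x ∈ Subgroup.centralizer (A : Set R) := by rw [hCA]; exact hx
    exact (Subgroup.mem_centralizer_iff.mp hxc y hy).symm
  unfold Cfsg.PRankLE at hAr
  push Not at hAr
  obtain ⟨V, hVc, hVe, hVcard⟩ := hAr
  have hΩ : Cfsg.IsElementaryAbelian p (NormalSq.omegaP p A hAab) :=
    NormalSq.omegaP_elemAb p A hAab
  have hEΩ : E ≤ NormalSq.omegaP p A hAab := fun e he => ⟨hEA he, h.hE.2 e he⟩
  have hΩE := h.hEmax _ hΩ hEΩ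
  have hVΩ : V.map A.subtype ≤ NormalSq.omegaP p A hAab := by
    rintro _ ⟨v, hv, rfl⟩
    refine ⟨v.2, ?_⟩
    have := hVe v hv
    simpa using congrArg Subtype.val this
  have hle2 : Nat.card V ≤ p ^ 2 := by
    rw [← h.hE2, ← hΩE, ← Subgroup.card_map_of_injective A.subtype_injective]
    exact Subgroup.card_le_of_le hVΩ
  omega

theorem card_omegaZ2_le_sq (h : MaxSq R p E) : Nat.card (omegaZ2 R p) ≤ p ^ 2 := by
  have hlt : omegaZ2 R p ⊓ E < E :=
    lt_of_le_of_ne inf_le_right (fun heq => h.not_le_omegaZ2 (by rw [← heq]; exact inf_le_left))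
  have h1 := card_le_of_lt_of_card_sq _ E h.hE2 hlt
  calc Nat.card (omegaZ2 R p) ≤ Nat.card (omegaZ2 R p ⊓ E : Subgroup R) * p := h.card_omegaZ2_le
    _ ≤ p * p := Nat.mul_le_mul_right p h1
    _ = p ^ 2 := (pow_two p).symm

theorem omegaZ2_eq (h : MaxSq R p E) :
    ∃ N : Subgroup R, N.Normal ∧ Cfsg.IsElementaryAbelian p N ∧ Nat.card N = p ^ 2 ∧
      omegaZ2 R p = N := by
  obtain ⟨B, hB, hBc⟩ := h.exists_big
  obtain ⟨N, hNn, hNe, hNc⟩ := NormalSq.exists_normal_sq_odd h.hp h.hR B hB hBc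
  refine ⟨N, hNn, hNe, hNc, ?_⟩
  have hNW : N ≤ omegaZ2 R p := by
    intro n hn
    exact Subgroup.subset_closure
      ⟨normal_card_sq_le_upperCentralSeries_two h.hR N hNc hn, hNe.2 n hn⟩
  exact (Subgroup.eq_of_le_of_card_ge hNW (by rw [hNc]; exact h.card_omegaZ2_le_sq)).symm

theorem omegaZ2_elemAb (h : MaxSq R p E) : Cfsg.IsElementaryAbelian p (omegaZ2 R p) := by
  obtain ⟨N, -, hNe, -, hN⟩ := h.omegaZ2_eq
  rw [hN]
  exact hNe

theorem card_omegaZ2 (h : MaxSq R p E) : Nat.card (omegaZ2 R p) = p ^ 2 := by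
  obtain ⟨N, -, -, hNc, hN⟩ := h.omegaZ2_eq
  rw [hN]
  exact hNc

theorem not_le_centralizer (h : MaxSq R p E) :
    ¬ E ≤ Subgroup.centralizer (omegaZ2 R p : Set R) := by
  intro hle
  have hWE : omegaZ2 R p ≤ E := by
    intro w hw
    apply mem_of_max E h.hE h.hEmax
      (pow_eq_one_of_mem_omegaZ2 (hp.out.odd_of_ne_two h.hp) hw)
    intro e he
    exact Subgroup.mem_centralizer_iff.mp (hle he) w hw
  have heq : omegaZ2 R p = E :=
    Subgroup.eq_of_le_of_card_ge hWE (by rw [h.hE2, h.card_omegaZ2])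
  exact h.not_le_omegaZ2 (by rw [heq])

theorem index_centralizer (h : MaxSq R p E) :
    (Subgroup.centralizer (omegaZ2 R p : Set R)).index = p := by
  obtain ⟨w₀, hw₀, hw₀Z⟩ := exists_mem_not_mem_of_card_lt (omegaCenter R p) (omegaZ2 R p)
    (by rw [h.card_omegaCenter, h.card_omegaZ2]; exact p_lt_sq)
  have hsup := sup_zpowers_eq (omegaCenter R p) (omegaZ2 R p) omegaCenter_le_omegaZ2
    h.card_omegaCenter h.card_omegaZ2 hw₀ hw₀Z
  have hcent : Subgroup.centralizer (omegaZ2 R p : Set R) =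
      Subgroup.centralizer ({w₀} : Set R) := by
    apply le_antisymm
    · exact Subgroup.centralizer_le (by simpa using hw₀)
    · intro x hx
      rw [Subgroup.mem_centralizer_iff]
      intro w hw
      rw [← hsup] at hw
      have := commute_of_sup_zpowers (omegaCenter R p) w₀ x
        (fun z hz => (Subgroup.mem_center_iff.mp hz.1 x))
        (Subgroup.mem_centralizer_singleton_iff.mp hx) w hw
      exact this.symm
  have hne : ∃ k ∈ (⊤ : Subgroup R), k * w₀ ≠ w₀ * k := by
    by_contra hcon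
    push Not at hcon
    apply h.not_le_centralizer
    rw [hcent]
    intro e _
    rw [Subgroup.mem_centralizer_singleton_iff]
    exact hcon e (Subgroup.mem_top e)
  rw [hcent]
  have := relIndex_centralizer_eq_prime hp.out (⊤ : Subgroup R) (omegaCenter R p) w₀
    h.card_omegaCenter
    (fun k _ => by
      rw [← commutatorElement_inv]
      exact Subgroup.inv_mem _ (commutator_mem_omegaCenter hw₀ k))
    (fun d hd => (Subgroup.mem_center_iff.mp hd.1 w₀).symm)
    (fun d hd k _ => (Subgroup.mem_center_iff.mp hd.1 k).symm)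
    hne
  rwa [Subgroup.relIndex_top_right] at this

end MaxSq

end Cfsg.Agent.Lib.H16.Narrow
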