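import Mathlib
import Cfsg.Prelude
import Cfsg.Agent.Lib.H16.NarrowD

set_option autoImplicit false

/-!
# Narrow `p`-groups, part 5: elements of order `p` of `T = C_R(Ω₁(Z₂(R)))` commuting with an
element of `E` outside `T` lie in `Ω₁(Z(R))`.
-/

namespace Cfsg.Agent.Lib.H16.Narrow

open scoped commutatorElement
open Cfsg.Agent.Lib.H16

universe u

variable {R : Type u} [Group R] {p : ℕ} {E : Subgroup R}

theorem omegaCenter_le_centralizer (S : Set R) :
    omegaCenter R p ≤ Subgroup.centralizer S := by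
  intro z hz
  rw [Subgroup.mem_centralizer_iff]
  intro g _
  exact Subgroup.mem_center_iff.mp hz.1 g

namespace MaxSq

variable [Finite R] [hp : Fact p.Prime]

theorem inf_centralizer (h : MaxSq R p E) :
    E ⊓ Subgroup.centralizer (omegaZ2 R p : Set R) = omegaCenter R p := by
  have hle : omegaCenter R p ≤ E ⊓ Subgroup.centralizer (omegaZ2 R p : Set R) :=
    le_inf h.omegaCenter_le (omegaCenter_le_centralizer _)
  have hlt : E ⊓ Subgroup.centralizer (omegaZ2 R p : Set R) < E :=
    lt_of_le_of_ne inf_le_left (fun heq => h.not_le_centralizer (by rw [← heq]; exact inf_le_right))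
  have hc := card_le_of_lt_of_card_sq _ E h.hE2 hlt
  exact (Subgroup.eq_of_le_of_card_ge hle (by rw [h.card_omegaCenter]; exact hc)).symm

theorem exists_mem_not_mem (h : MaxSq R p E) :
    ∃ s ∈ E, s ∉ Subgroup.centralizer (omegaZ2 R p : Set R) := by
  by_contra hcon
  push Not at hcon
  exact h.not_le_centralizer hcon

theorem sup_zpowers (h : MaxSq R p E) {s : R} (hs : s ∈ E)
    (hsT : s ∉ Subgroup.centralizer (omegaZ2 R p : Set R)) :
    omegaCenter R p ⊔ Subgroup.zpowers s = E :=
  sup_zpowers_eq (omegaCenter R p) E h.omegaCenter_le h.card_omegaCenter h.hE2 hs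
    (fun hsZ => hsT (omegaCenter_le_centralizer _ hsZ))

/-- The key consequence of the maximality of `E`. -/
theorem mem_omegaCenter_of_commute (h : MaxSq R p E) {s : R} (hs : s ∈ E)
    (hsT : s ∉ Subgroup.centralizer (omegaZ2 R p : Set R)) {m : R}
    (hmT : m ∈ Subgroup.centralizer (omegaZ2 R p : Set R)) (hmp : m ^ p = 1)
    (hms : m * s = s * m) : m ∈ omegaCenter R p := by
  have hmE : m ∈ E := by
    apply mem_of_max E h.hE h.hEmax hmp
    rw [← h.sup_zpowers hs hsT]
    apply commute_of_sup_zpowers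
    · intro z hz
      exact (Subgroup.mem_center_iff.mp hz.1 m)
    · exact hms
  rw [← h.inf_centralizer]
  exact ⟨hmE, hmT⟩

theorem pow_eq_one_of_mem (h : MaxSq R p E) {s : R} (hs : s ∈ E) : s ^ p = 1 := h.hE.2 s hs

end MaxSq

end Cfsg.Agent.Lib.H16.Narrow
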