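import Mathlib
import Cfsg.Prelude
import Cfsg.Agent.Lib.H16.NarrowE
import Cfsg.Agent.Lib.H16.AutAct
import Cfsg.Agent.Lib.H16.PGroupCenter

set_option autoImplicit false

/-!
# Automorphisms of order prime to `p` of a narrow `p`-group of rank at least 3, part A

Setting: `MaxSq P p E`, `s ∈ E` outside `T = C_P(Ω₁(Z₂(P)))`, and a group `𝒳` of automorphisms of
order prime to `p` centralizing `P / T` and `Ω₁(Z(P))`.  With `D = [P, 𝒳]` we show that `𝒳`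
centralizes `Z(D)`.
-/

namespace Cfsg.Agent.Lib.H16.Narrow

open scoped commutatorElement
open Cfsg.Agent.Lib.H16 Cfsg.Agent.Lib.H16.AutAct

universe u

variable {P : Type u} [Group P]


theorem zpowers_le_normalizer_of_conj_mem {X : Type*} [Group X] [Finite X] (M : Subgroup X) (s : X)
    (h : ∀ m ∈ M, s * m * s⁻¹ ∈ M) : Subgroup.zpowers s ≤ Subgroup.normalizer (M : Set X) := by
  apply le_normalizer_of_conj_mem
  intro g hg
  rw [← mem_powers_iff_mem_zpowers] at hg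
  obtain ⟨n, rfl⟩ := hg
  induction n with
  | zero => intro b hb; simpa using hb
  | succ n ih =>
    intro b hb
    have : s ^ (n + 1) * b * (s ^ (n + 1))⁻¹ = s ^ n * (s * b * s⁻¹) * (s ^ n)⁻¹ := by
      rw [pow_succ]; group
    rw [this]
    exact ih _ (h b hb)

/-- The centre of a subgroup, as a subgroup of the ambient group. -/
def zOf (D : Subgroup P) : Subgroup P := D ⊓ Subgroup.centralizer (D : Set P)

theorem mem_zOf {D : Subgroup P} {z : P} : z ∈ zOf D ↔ z ∈ D ∧ ∀ d ∈ D, d * z = z * d := by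
  unfold zOf
  rw [Subgroup.mem_inf, Subgroup.mem_centralizer_iff]
  rfl

instance zOf_normal (D : Subgroup P) [D.Normal] : (zOf D).Normal := by
  unfold zOf
  infer_instance

theorem zOf_le (D : Subgroup P) : zOf D ≤ D := inf_le_left

theorem zOf_comm (D : Subgroup P) : ∀ a ∈ zOf D, ∀ b ∈ zOf D, a * b = b * a := by
  intro a ha b hb
  exact (mem_zOf.mp hb).2 a (mem_zOf.mp ha).1

/-- Invariance of a subgroup under a set of automorphisms. -/
def Inv (𝒴 : Subgroup (MulAut P)) (H : Subgroup P) : Prop := ∀ y ∈ 𝒴, ∀ h ∈ H, y h ∈ H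

theorem Inv.zOf {𝒴 : Subgroup (MulAut P)} {D : Subgroup P} (hD : Inv 𝒴 D) : Inv 𝒴 (zOf D) := by
  intro y hy z hz
  rw [mem_zOf] at hz ⊢
  refine ⟨hD y hy z hz.1, fun d hd => ?_⟩
  have h1 : y⁻¹ d ∈ D := hD y⁻¹ (𝒴.inv_mem hy) d hd
  have h2 := hz.2 _ h1
  have h3 := congrArg y h2
  rw [map_mul, map_mul, MulAut.apply_inv_self] at h3
  exact h3

theorem Inv.autComm {𝒴 𝒳 : Subgroup (MulAut P)} (hn : ∀ y ∈ 𝒴, ∀ x ∈ 𝒳, y * x * y⁻¹ ∈ 𝒳) :
    Inv 𝒴 (autComm 𝒳) := fun y hy _ hc => map_mem_autComm (hn y hy) hc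

/-- The standing hypotheses. -/
structure AutSetup (P : Type u) [Group P] (p : ℕ) (E : Subgroup P) (𝒳 : Subgroup (MulAut P))
    (s : P) : Prop where
  h : MaxSq P p E
  hs : s ∈ E
  hsT : s ∉ Subgroup.centralizer (omegaZ2 P p : Set P)
  hcop : (Nat.card 𝒳).Coprime p
  hT : ∀ x ∈ 𝒳, ∀ r : P, x r * r⁻¹ ∈ Subgroup.centralizer (omegaZ2 P p : Set P)
  hZ : ∀ x ∈ 𝒳, ∀ z ∈ omegaCenter P p, x z = z

namespace AutSetup

variable [Finite P] {p : ℕ} [hp : Fact p.Prime] {E : Subgroup P} {𝒳 : Subgroup (MulAut P)} {s : P}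

theorem autComm_le (S : AutSetup P p E 𝒳 s) :
    autComm 𝒳 ≤ Subgroup.centralizer (omegaZ2 P p : Set P) := by
  unfold AutAct.autComm
  rw [Subgroup.closure_le]
  rintro c ⟨x, hx, r, rfl⟩
  exact S.hT x hx r

theorem inv_self (_S : AutSetup P p E 𝒳 s) : Inv 𝒳 (autComm 𝒳) :=
  Inv.autComm (fun y hy x hx => 𝒳.mul_mem (𝒳.mul_mem hy hx) (𝒳.inv_mem hy))

/-- The key commutation: on `Z(D)`, conjugation by `s` commutes with `𝒳`. -/
theorem conj_comm (_S : AutSetup P p E 𝒳 s) {x : MulAut P} (hx : x ∈ 𝒳) {a : P}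
    (ha : a ∈ zOf (autComm 𝒳)) : x (s * a * s⁻¹) = s * x a * s⁻¹ := by
  have hd : x s * s⁻¹ ∈ autComm 𝒳 := mem_autComm hx s
  have hxa : x a ∈ zOf (autComm 𝒳) := _S.inv_self.zOf x hx a ha
  have hconj : s * x a * s⁻¹ ∈ zOf (autComm 𝒳) := (zOf_normal _).conj_mem _ hxa s
  have hc := (mem_zOf.mp hconj).2 _ hd
  -- `x (s a s⁻¹) = (x s s⁻¹) (s x a s⁻¹) (x s s⁻¹)⁻¹`
  calc x (s * a * s⁻¹) = (x s * s⁻¹) * (s * x a * s⁻¹) * (x s * s⁻¹)⁻¹ := by
        rw [map_mul, map_mul, map_inv]; group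
    _ = (s * x a * s⁻¹) * (x s * s⁻¹) * (x s * s⁻¹)⁻¹ := by rw [hc]
    _ = s * x a * s⁻¹ := by group

/-- Elements of order `p` of `D` commuting with `s` are fixed by `𝒳`. -/
theorem fixed_of_commute (S : AutSetup P p E 𝒳 s) {m : P} (hm : m ∈ autComm 𝒳) (hmp : m ^ p = 1)
    (hms : m * s = s * m) : m ∈ omegaCenter P p :=
  S.h.mem_omegaCenter_of_commute S.hs S.hsT (S.autComm_le hm) hmp hms

/-- `𝒳` centralizes the elements of order `p` of `Z(D)`. -/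
theorem fixes_omega_zOf (S : AutSetup P p E 𝒳 s) {x : MulAut P} (hx : x ∈ 𝒳) {a : P}
    (ha : a ∈ zOf (autComm 𝒳)) (hap : a ^ p = 1) : x a = a := by
  classical
  -- `M = {x b b⁻¹ : b ∈ Ω₁(Z(D))}` is a subgroup normalized by `s`
  let M : Subgroup P :=
    { carrier := {m | ∃ b ∈ zOf (autComm 𝒳), b ^ p = 1 ∧ m = x b * b⁻¹}
      one_mem' := ⟨1, Subgroup.one_mem _, one_pow _, by simp⟩
      mul_mem' := by
        rintro m₁ m₂ ⟨b₁, hb₁, hb₁p, rfl⟩ ⟨b₂, hb₂, hb₂p, rfl⟩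
        refine ⟨b₁ * b₂, Subgroup.mul_mem _ hb₁ hb₂, ?_, ?_⟩
        · rw [(show Commute b₁ b₂ from zOf_comm _ b₁ hb₁ b₂ hb₂).mul_pow, hb₁p, hb₂p, one_mul]
        · have hx1 := S.inv_self.zOf x hx b₁ hb₁
          have hx2 := S.inv_self.zOf x hx b₂ hb₂
          have c1 : b₁⁻¹ * x b₂ = x b₂ * b₁⁻¹ := by
            have := zOf_comm _ _ hx2 _ ((zOf _).inv_mem hb₁)
            exact this.symm
          rw [map_mul, mul_inv_rev]
          calc x b₁ * b₁⁻¹ * (x b₂ * b₂⁻¹) = x b₁ * (b₁⁻¹ * x b₂) * b₂⁻¹ := by group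
            _ = x b₁ * (x b₂ * b₁⁻¹) * b₂⁻¹ := by rw [c1]
            _ = x b₁ * x b₂ * (b₁⁻¹ * b₂⁻¹) := by group
            _ = x b₁ * x b₂ * (b₂⁻¹ * b₁⁻¹) := by
                rw [zOf_comm _ _ ((zOf _).inv_mem hb₁) _ ((zOf _).inv_mem hb₂)]
      inv_mem' := by
        rintro m ⟨b, hb, hbp, rfl⟩
        refine ⟨b⁻¹, Subgroup.inv_mem _ hb, by rw [inv_pow, hbp, inv_one], ?_⟩
        have hx1 := S.inv_self.zOf x hx b hb
        rw [map_inv, inv_inv, mul_inv_rev, inv_inv]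
        exact zOf_comm _ _ hb _ ((zOf _).inv_mem hx1) }
  have hMD : M ≤ autComm 𝒳 := by
    rintro m ⟨b, hb, -, rfl⟩
    exact Subgroup.mul_mem _ (zOf_le _ (S.inv_self.zOf x hx b hb))
      (Subgroup.inv_mem _ (zOf_le _ hb))
  have hMp : ∀ m ∈ M, m ^ p = 1 := by
    rintro m ⟨b, hb, hbp, rfl⟩
    have hx1 := S.inv_self.zOf x hx b hb
    have hc : Commute (x b) b⁻¹ := zOf_comm _ _ hx1 _ ((zOf _).inv_mem hb)
    rw [hc.mul_pow, ← map_pow, hbp, map_one, inv_pow, hbp, inv_one, one_mul]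
  have hMs : ∀ m ∈ M, s * m * s⁻¹ ∈ M := by
    rintro m ⟨b, hb, hbp, rfl⟩
    refine ⟨s * b * s⁻¹, (zOf_normal _).conj_mem _ hb s, ?_, ?_⟩
    · rw [conj_pow, hbp, mul_one, mul_inv_cancel]
    · rw [S.conj_comm hx hb]
      group
  by_contra hne
  have hMne : M ≠ ⊥ := by
    intro hbot
    have : x a * a⁻¹ ∈ M := ⟨a, ha, hap, rfl⟩
    rw [hbot, Subgroup.mem_bot] at this
    apply hne
    calc x a = x a * a⁻¹ * a := by group
      _ = a := by rw [this, one_mul]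
  -- a nontrivial element of `M` commuting with `s`
  have hQp : IsPGroup p ↥(M ⊔ Subgroup.zpowers s) := S.h.hR.to_subgroup _
  have hnorm : M ⊔ Subgroup.zpowers s ≤ Subgroup.normalizer (M : Set P) :=
    sup_le Subgroup.le_normalizer (zpowers_le_normalizer_of_conj_mem M s hMs)
  obtain ⟨m, hmM, hm1, hmc⟩ :=
    exists_ne_one_central_of_le_normalizer hp.out (M ⊔ Subgroup.zpowers s) M hQp le_sup_left
      hnorm hMne
  have hms : m * s = s * m :=
    (hmc s (Subgroup.mem_sup_right (Subgroup.mem_zpowers s))).symm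
  have hmZ : m ∈ omegaCenter P p := S.fixed_of_commute (hMD hmM) (hMp m hmM) hms
  have hxm : x m = m := S.hZ x hx m hmZ
  obtain ⟨b, hb, hbp, rfl⟩ := hmM
  obtain ⟨n, hn, hnp⟩ := exists_pow_eq_one 𝒳 S.hcop hx
  have hc : x b = (x b * b⁻¹) * b := by group
  exact hm1 (eq_one_of_map_eq_mul S.h.hR x hn hnp hc hxm)

end AutSetup

end Cfsg.Agent.Lib.H16.Narrow
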