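import Mathlib
import Cfsg.Prelude
import Cfsg.Agent.Lib.H16.NarrowAutA

set_option autoImplicit false

/-!
# Automorphisms of order prime to `p` of a narrow `p`-group of rank at least 3, part B

`𝒳` centralizes `Z(D)`; `D` is not abelian; the subgroup `N / Z(D) = Ω₁(Z(P / Z(D))) ∩ D / Z(D)`.
-/

namespace Cfsg.Agent.Lib.H16.Narrow

open scoped commutatorElement
open Cfsg.Agent.Lib.H16 Cfsg.Agent.Lib.H16.AutAct

universe u

variable {P : Type u} [Group P]

/-- The preimage in `D` of `Ω₁(Z(P / Z(D)))`. -/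
def nOf (D : Subgroup P) [D.Normal] (p : ℕ) : Subgroup P :=
  D ⊓ (omegaCenter (P ⧸ zOf D) p).comap (QuotientGroup.mk' (zOf D))

theorem mem_nOf {D : Subgroup P} [D.Normal] {p : ℕ} {g : P} :
    g ∈ nOf D p ↔ g ∈ D ∧ g ^ p ∈ zOf D ∧ ∀ r : P, ⁅g, r⁆ ∈ zOf D := by
  unfold nOf
  rw [Subgroup.mem_inf, Subgroup.mem_comap, mem_omegaCenter, Subgroup.mem_center_iff]
  constructor
  · rintro ⟨hD, hc, hp⟩
    refine ⟨hD, ?_, ?_⟩
    · rw [← QuotientGroup.eq_one_iff]
      simpa using hp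
    · intro r
      have h1 := hc (QuotientGroup.mk' _ r)
      rw [← QuotientGroup.eq_one_iff, commutatorElement_def]
      simp only [QuotientGroup.mk'_apply] at h1
      simp only [QuotientGroup.mk_mul, QuotientGroup.mk_inv]
      rw [← h1]
      group
  · rintro ⟨hD, hp, hc⟩
    refine ⟨hD, ?_, ?_⟩
    · intro q
      induction q using QuotientGroup.induction_on with
      | H r =>
        have h1 := hc r
        rw [← QuotientGroup.eq_one_iff, commutatorElement_def] at h1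
        simp only [QuotientGroup.mk_mul, QuotientGroup.mk_inv] at h1
        simp only [QuotientGroup.mk'_apply]
        calc (r : P ⧸ zOf D) * (g : P ⧸ zOf D)
            = ((g : P ⧸ zOf D) * (r : P ⧸ zOf D) * (g : P ⧸ zOf D)⁻¹ * (r : P ⧸ zOf D)⁻¹)⁻¹ *
                ((g : P ⧸ zOf D) * (r : P ⧸ zOf D)) := by group
          _ = (g : P ⧸ zOf D) * (r : P ⧸ zOf D) := by rw [h1, inv_one, one_mul]
    · have := (QuotientGroup.eq_one_iff (N := zOf D) (g ^ p)).mpr hp
      simpa using this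

instance nOf_normal (D : Subgroup P) [D.Normal] (p : ℕ) : (nOf D p).Normal := by
  unfold nOf
  have : ((omegaCenter (P ⧸ zOf D) p).comap (QuotientGroup.mk' (zOf D))).Normal :=
    Subgroup.Normal.comap inferInstance _
  infer_instance

theorem zOf_le_nOf (D : Subgroup P) [D.Normal] (p : ℕ) : zOf D ≤ nOf D p := by
  intro z hz
  rw [mem_nOf]
  refine ⟨zOf_le D hz, Subgroup.pow_mem _ hz p, fun r => ?_⟩
  rw [commutatorElement_def]
  have h1 : r * z⁻¹ * r⁻¹ ∈ zOf D := (zOf_normal D).conj_mem _ (Subgroup.inv_mem _ hz) r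
  have : z * r * z⁻¹ * r⁻¹ = z * (r * z⁻¹ * r⁻¹) := by group
  rw [this]
  exact Subgroup.mul_mem _ hz h1

theorem nOf_le (D : Subgroup P) [D.Normal] (p : ℕ) : nOf D p ≤ D := inf_le_left

theorem Inv.nOf {𝒴 : Subgroup (MulAut P)} {D : Subgroup P} [D.Normal] (hD : Inv 𝒴 D) (p : ℕ) :
    Inv 𝒴 (nOf D p) := by
  intro y hy g hg
  rw [mem_nOf] at hg ⊢
  refine ⟨hD y hy g hg.1, ?_, fun r => ?_⟩
  · rw [← map_pow]
    exact hD.zOf y hy _ hg.2.1
  · have h1 := hD.zOf y hy _ (hg.2.2 (y⁻¹ r))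
    rw [commutatorElement_def, map_mul, map_mul, map_mul, map_inv, map_inv,
      MulAut.apply_inv_self] at h1
    rw [commutatorElement_def]
    exact h1

/-- Elements of `N` commute with `Z(D)`-valued commutators. -/
theorem commute_of_mem_zOf {D : Subgroup P} {c g : P} (hc : c ∈ zOf D) (hg : g ∈ D) :
    Commute c g := ((mem_zOf.mp hc).2 g hg).symm

namespace AutSetup

variable [Finite P] {p : ℕ} [hp : Fact p.Prime] {E : Subgroup P} {𝒳 : Subgroup (MulAut P)} {s : P}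

/-- `𝒳` centralizes `Z(D)`. -/
theorem fixes_zOf (S : AutSetup P p E 𝒳 s) {x : MulAut P} (hx : x ∈ 𝒳) {b : P}
    (hb : b ∈ zOf (autComm 𝒳)) : x b = b := by
  obtain ⟨k, hk⟩ := S.h.hR b
  induction k generalizing b with
  | zero =>
    rw [pow_zero, pow_one] at hk
    rw [hk, map_one]
  | succ k ih =>
    have hbp : b ^ p ∈ zOf (autComm 𝒳) := Subgroup.pow_mem _ hb p
    have h1 : x (b ^ p) = b ^ p := ih hbp (by rw [← pow_mul, ← pow_succ']; exact hk)
    have hxb : x b ∈ zOf (autComm 𝒳) := S.inv_self.zOf x hx b hb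
    have hc : Commute (x b) b⁻¹ := zOf_comm _ _ hxb _ ((zOf _).inv_mem hb)
    have hcz : x b * b⁻¹ ∈ zOf (autComm 𝒳) := Subgroup.mul_mem _ hxb (Subgroup.inv_mem _ hb)
    have hcp : (x b * b⁻¹) ^ p = 1 := by
      rw [hc.mul_pow, ← map_pow, h1, inv_pow, mul_inv_cancel]
    have hfix : x (x b * b⁻¹) = x b * b⁻¹ := S.fixes_omega_zOf hx hcz hcp
    obtain ⟨n, hn, hnp⟩ := exists_pow_eq_one 𝒳 S.hcop hx
    have h2 : x b = (x b * b⁻¹) * b := by group
    have h3 := eq_one_of_map_eq_mul S.h.hR x hn hnp h2 hfix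
    calc x b = (x b * b⁻¹) * b := h2
      _ = b := by rw [h3, one_mul]

/-- If `𝒳 ≠ 1` then `D` is not abelian. -/
theorem exists_not_mem_zOf (S : AutSetup P p E 𝒳 s) (h𝒳 : 𝒳 ≠ ⊥) :
    ∃ d ∈ autComm 𝒳, d ∉ zOf (autComm 𝒳) := by
  by_contra hcon
  push Not at hcon
  apply h𝒳
  rw [eq_bot_iff]
  intro x hx
  rw [Subgroup.mem_bot]
  obtain ⟨n, hn, hnp⟩ := exists_pow_eq_one 𝒳 S.hcop hx
  exact eq_one_of_fixes_autComm S.h.hR 𝒳 hx hn hnp (fun c hc => S.fixes_zOf hx (hcon c hc))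

end AutSetup

end Cfsg.Agent.Lib.H16.Narrow
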