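import Mathlib
import Cfsg.Prelude
import Cfsg.Agent.Lib.H16.NarrowAutB

set_option autoImplicit false

/-!
# Automorphisms of order prime to `p` of a narrow `p`-group of rank at least 3, part C

The subgroup `oN` of elements of order dividing `p` of `N`, and the bound
`|oN| ≤ p · |Ω₁(Z(D))|` coming from the maximality of `E`.
-/

namespace Cfsg.Agent.Lib.H16.Narrow

open scoped commutatorElement
open Cfsg.Agent.Lib.H16 Cfsg.Agent.Lib.H16.AutAct

universe u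

variable {P : Type u} [Group P]

section general

variable {D : Subgroup P} [D.Normal] {p : ℕ}

theorem commutator_mem_zOf_of_mem_nOf {g : P} (hg : g ∈ nOf D p) (r : P) : ⁅g, r⁆ ∈ zOf D :=
  (mem_nOf.mp hg).2.2 r

theorem mul_pow_eq_one_of_mem_nOf (hp : Odd p) {a b : P} (ha : a ∈ nOf D p) (hb : b ∈ nOf D p)
    (hap : a ^ p = 1) (hbp : b ^ p = 1) : (a * b) ^ p = 1 := by
  have hc : ⁅b⁻¹, a⁻¹⁆ ∈ zOf D := commutator_mem_zOf_of_mem_nOf (Subgroup.inv_mem _ hb) _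
  have h : b * a = a * b * ⁅b⁻¹, a⁻¹⁆ := by rw [commutatorElement_def]; group
  exact mul_pow_eq_one_of_central h (commute_of_mem_zOf hc (nOf_le D p ha))
    (commute_of_mem_zOf hc (nOf_le D p hb)) hp hap hbp

/-- The elements of order dividing `p` of `N`. -/
def oN (D : Subgroup P) [D.Normal] (p : ℕ) (hp : Odd p) : Subgroup P where
  carrier := {g | g ∈ nOf D p ∧ g ^ p = 1}
  one_mem' := ⟨Subgroup.one_mem _, one_pow _⟩
  mul_mem' := by
    rintro a b ⟨ha, hap⟩ ⟨hb, hbp⟩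
    exact ⟨Subgroup.mul_mem _ ha hb, mul_pow_eq_one_of_mem_nOf hp ha hb hap hbp⟩
  inv_mem' := by
    rintro a ⟨ha, hap⟩
    exact ⟨Subgroup.inv_mem _ ha, by rw [inv_pow, hap, inv_one]⟩

theorem mem_oN {hp : Odd p} {g : P} : g ∈ oN D p hp ↔ g ∈ nOf D p ∧ g ^ p = 1 := Iff.rfl

theorem commutator_pow_eq_one {g : P} (hg : g ∈ nOf D p) (hgp : g ^ p = 1) (r : P) :
    ⁅g, r⁆ ^ p = 1 := by
  have hc : ⁅g, r⁆ ∈ zOf D := commutator_mem_zOf_of_mem_nOf hg r
  have h : g⁻¹ * r⁻¹ = r⁻¹ * g⁻¹ * ⁅g, r⁆ := by rw [commutatorElement_def]; group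
  have hcy : Commute ⁅g, r⁆ g⁻¹ := (commute_of_mem_zOf hc (nOf_le D p hg)).inv_right
  exact pow_eq_one_of_central_right h hcy (by rw [inv_pow, hgp, inv_one])

theorem commutator_mul_of_mem_nOf {a b : P} (ha : a ∈ nOf D p) (hb : b ∈ nOf D p) (r : P) :
    ⁅a * b, r⁆ = ⁅a, r⁆ * ⁅b, r⁆ := by
  have hcb : ⁅b, r⁆ ∈ zOf D := commutator_mem_zOf_of_mem_nOf hb r
  have hca : ⁅a, r⁆ ∈ zOf D := commutator_mem_zOf_of_mem_nOf ha r
  have h1 : Commute ⁅b, r⁆ a := commute_of_mem_zOf hcb (nOf_le D p ha)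
  have h2 : ⁅a, r⁆ * ⁅b, r⁆ = ⁅b, r⁆ * ⁅a, r⁆ := zOf_comm D _ hca _ hcb
  calc ⁅a * b, r⁆ = a * ⁅b, r⁆ * a⁻¹ * ⁅a, r⁆ := by
        simp only [commutatorElement_def]; group
    _ = ⁅b, r⁆ * a * a⁻¹ * ⁅a, r⁆ := by rw [h1.eq]
    _ = ⁅b, r⁆ * ⁅a, r⁆ := by group
    _ = ⁅a, r⁆ * ⁅b, r⁆ := h2.symm

/-- `g ↦ ⁅g, r⁆` as a homomorphism from `oN` to `Ω₁(Z(D))`. -/
def commHomON (D : Subgroup P) [D.Normal] (p : ℕ) (hp : Odd p) (r : P) :
    ↥(oN D p hp) →* ↥(NormalSq.omegaP p (zOf D) (zOf_comm D)) :=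
  MonoidHom.mk' (fun g => ⟨⁅(g : P), r⁆,
      ⟨commutator_mem_zOf_of_mem_nOf g.2.1 r, commutator_pow_eq_one g.2.1 g.2.2 r⟩⟩) (by
    intro a b
    apply Subtype.ext
    exact commutator_mul_of_mem_nOf a.2.1 b.2.1 r)

theorem commHomON_apply (hp : Odd p) (r : P) (g : ↥(oN D p hp)) :
    ((commHomON D p hp r g : ↥(NormalSq.omegaP p (zOf D) (zOf_comm D))) : P) = ⁅(g : P), r⁆ := rfl

theorem Inv.oN {𝒴 : Subgroup (MulAut P)} (hD : Inv 𝒴 D) (hp : Odd p) : Inv 𝒴 (oN D p hp) := by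
  intro y hy g hg
  exact ⟨hD.nOf p y hy g hg.1, by rw [← map_pow, hg.2, map_one]⟩

theorem oN_le_nOf (hp : Odd p) : oN D p hp ≤ nOf D p := fun _ hg => hg.1

/-- Every subgroup between `Z(D)` and `N` is normal. -/
theorem normal_of_between {H : Subgroup P} (h1 : zOf D ≤ H) (h2 : H ≤ nOf D p) : H.Normal := by
  constructor
  intro n hn r
  have hc : ⁅r, n⁆ ∈ zOf D := by
    rw [← commutatorElement_inv]
    exact Subgroup.inv_mem _ (commutator_mem_zOf_of_mem_nOf (h2 hn) r)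
  have : r * n * r⁻¹ = ⁅r, n⁆ * n := by rw [commutatorElement_def]; group
  rw [this]
  exact H.mul_mem (h1 hc) hn

theorem zOf_inf_oN (hp : Odd p) :
    zOf D ⊓ oN D p hp = NormalSq.omegaP p (zOf D) (zOf_comm D) := by
  ext g
  rw [Subgroup.mem_inf, NormalSq.mem_omegaP, mem_oN]
  constructor
  · rintro ⟨h1, -, h2⟩
    exact ⟨h1, h2⟩
  · rintro ⟨h1, h2⟩
    exact ⟨h1, zOf_le_nOf D p h1, h2⟩

end general

namespace AutSetup

variable [Finite P] {p : ℕ} [hp : Fact p.Prime] {E : Subgroup P} {𝒳 : Subgroup (MulAut P)} {s : P}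

theorem odd (S : AutSetup P p E 𝒳 s) : Odd p := hp.out.odd_of_ne_two S.h.hp

/-- The main bound. -/
theorem card_oN_le (S : AutSetup P p E 𝒳 s) :
    Nat.card (oN (autComm 𝒳) p S.odd) ≤
      p * Nat.card (NormalSq.omegaP p (zOf (autComm 𝒳)) (zOf_comm (autComm 𝒳))) := by
  set κ := commHomON (autComm 𝒳) p S.odd s with hκ
  have hker : Nat.card κ.ker ≤ p := by
    refine le_of_le_of_eq ?_ S.h.card_omegaCenter
    have hmem : ∀ g : κ.ker, ((g : ↥(oN (autComm 𝒳) p S.odd)) : P) ∈ omegaCenter P p := by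
      intro g
      have h1 : κ (g : ↥(oN (autComm 𝒳) p S.odd)) = 1 := MonoidHom.mem_ker.mp g.2
      have h2 : ⁅((g : ↥(oN (autComm 𝒳) p S.odd)) : P), s⁆ = 1 := by
        have := congrArg Subtype.val h1
        rwa [commHomON_apply] at this
      have h3 : ((g : ↥(oN (autComm 𝒳) p S.odd)) : P) * s =
          s * ((g : ↥(oN (autComm 𝒳) p S.odd)) : P) :=
        (commutatorElement_eq_one_iff_commute.mp h2).eq
      exact S.fixed_of_commute (nOf_le _ p (g : ↥(oN (autComm 𝒳) p S.odd)).2.1)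
        (g : ↥(oN (autComm 𝒳) p S.odd)).2.2 h3
    apply Nat.card_le_card_of_injective
      (fun g : κ.ker => (⟨((g : ↥(oN (autComm 𝒳) p S.odd)) : P), hmem g⟩ : omegaCenter P p))
    intro a b hab
    have := congrArg (fun c : omegaCenter P p => (c : P)) hab
    exact Subtype.ext (Subtype.ext this)
  have hrange : Nat.card κ.range ≤
      Nat.card (NormalSq.omegaP p (zOf (autComm 𝒳)) (zOf_comm (autComm 𝒳))) :=
    Subgroup.card_le_card_group κ.range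
  have hcard : Nat.card (oN (autComm 𝒳) p S.odd) = Nat.card κ.ker * Nat.card κ.range := by
    rw [← Subgroup.index_ker, Subgroup.card_mul_index]
  rw [hcard]
  exact Nat.mul_le_mul hker hrange

end AutSetup

end Cfsg.Agent.Lib.H16.Narrow
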