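import Mathlib
import Cfsg.Prelude
import Cfsg.Agent.Lib.H16.NarrowAutC

set_option autoImplicit false

/-!
# Automorphisms of order prime to `p` of a narrow `p`-group of rank at least 3, part D

The key lemma: a group `𝒳` of automorphisms of order prime to `p`, normalized by a group `𝒴` of
automorphisms, that acts trivially on every `𝒴`-invariant normal section of order `p`, is trivial.
-/

namespace Cfsg.Agent.Lib.H16.Narrow

open scoped commutatorElement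
open Cfsg.Agent.Lib.H16 Cfsg.Agent.Lib.H16.AutAct

universe u

variable {P : Type u} [Group P]

theorem Inv.sup {𝒴 : Subgroup (MulAut P)} {A B : Subgroup P} (hA : Inv 𝒴 A) (hB : Inv 𝒴 B) :
    Inv 𝒴 (A ⊔ B) := by
  intro y hy m hm
  have h1 : (A ⊔ B).map y.toMonoidHom ≤ A ⊔ B := by
    rw [Subgroup.map_sup]
    apply sup_le_sup
    · rintro _ ⟨a, ha, rfl⟩
      exact hA y hy a ha
    · rintro _ ⟨b, hb, rfl⟩
      exact hB y hy b hb
  exact h1 (Subgroup.mem_map_of_mem _ hm)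

theorem Inv.of_characteristic (𝒴 : Subgroup (MulAut P)) (H : Subgroup P) [hH : H.Characteristic] :
    Inv 𝒴 H := by
  intro y _ h hh
  exact (Subgroup.characteristic_iff_map_le.mp hH y) (Subgroup.mem_map_of_mem _ hh)

theorem Inv.omegaCenter (𝒴 : Subgroup (MulAut P)) (p : ℕ) : Inv 𝒴 (omegaCenter P p) := by
  intro y hy z hz
  refine ⟨Inv.of_characteristic 𝒴 (Subgroup.center P) y hy z hz.1, ?_⟩
  rw [← map_pow, hz.2, map_one]

namespace AutSetup

variable [Finite P] {p : ℕ} [hp : Fact p.Prime] {E : Subgroup P} {𝒳 : Subgroup (MulAut P)} {s : P}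

theorem exists_mem_nOf_not_mem_zOf (S : AutSetup P p E 𝒳 s) (h𝒳 : 𝒳 ≠ ⊥) :
    ∃ g ∈ nOf (autComm 𝒳) p, g ∉ zOf (autComm 𝒳) := by
  obtain ⟨d, hd, hdZ⟩ := S.exists_not_mem_zOf h𝒳
  set π := QuotientGroup.mk' (zOf (autComm 𝒳)) with hπ
  have hsurj : Function.Surjective π := QuotientGroup.mk'_surjective _
  haveI : ((autComm 𝒳).map π).Normal := Subgroup.Normal.map inferInstance π hsurj
  have hQ : IsPGroup p (P ⧸ zOf (autComm 𝒳)) := S.h.hR.to_quotient _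
  have hne : (autComm 𝒳).map π ≠ ⊥ := by
    intro hbot
    have h1 : π d ∈ (autComm 𝒳).map π := Subgroup.mem_map_of_mem π hd
    rw [hbot, Subgroup.mem_bot] at h1
    exact hdZ ((QuotientGroup.eq_one_iff d).mp h1)
  obtain ⟨q, hqD, hq1, hqc⟩ := exists_ne_one_mem_center_of_normal' hp.out hQ _ hne
  -- the subgroup of central elements of `D / Z(D)`
  set K : Subgroup (P ⧸ zOf (autComm 𝒳)) :=
    (autComm 𝒳).map π ⊓ Subgroup.center (P ⧸ zOf (autComm 𝒳)) with hK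
  have hKne : K ≠ ⊥ := by
    intro hbot
    have : q ∈ K := ⟨hqD, hqc⟩
    rw [hbot, Subgroup.mem_bot] at this
    exact hq1 this
  have hKp : IsPGroup p K := hQ.to_subgroup K
  obtain ⟨k, hk⟩ := IsPGroup.iff_card.mp hKp
  have hk0 : k ≠ 0 := by
    rintro rfl
    rw [pow_zero] at hk
    exact hKne (Subgroup.card_eq_one.mp hk)
  have hdvd : p ∣ Nat.card K := by rw [hk]; exact dvd_pow_self p hk0
  obtain ⟨y, hy⟩ := exists_prime_orderOf_dvd_card' p hdvd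
  obtain ⟨g, hg, hgy⟩ := y.2.1
  refine ⟨g, ?_, ?_⟩
  · unfold nOf
    refine Subgroup.mem_inf.mpr ⟨hg, Subgroup.mem_comap.mpr ?_⟩
    rw [← hπ, hgy]
    refine ⟨y.2.2, ?_⟩
    have h1 : y ^ p = 1 := by rw [← hy]; exact pow_orderOf_eq_one y
    have h2 := congrArg Subtype.val h1
    simpa using h2
  · intro hgZ
    have h1 : π g = 1 := (QuotientGroup.eq_one_iff g).mpr hgZ
    rw [hgy] at h1
    have h2 : y = 1 := Subtype.ext h1
    rw [h2, orderOf_one] at hy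
    exact hp.out.one_lt.ne hy

theorem not_fixes_nOf (S : AutSetup P p E 𝒳 s) (h𝒳 : 𝒳 ≠ ⊥) :
    ¬ ∀ x ∈ 𝒳, ∀ g ∈ nOf (autComm 𝒳) p, x g = g := by
  intro hfix
  obtain ⟨g, hg, hgZ⟩ := S.exists_mem_nOf_not_mem_zOf h𝒳
  apply hgZ
  rw [mem_zOf]
  refine ⟨nOf_le _ p hg, fun d hd => ?_⟩
  exact (commute_of_fixed_normal 𝒳 (nOf (autComm 𝒳) p) hfix g hg d hd).symm

theorem mem_oN_of (S : AutSetup P p E 𝒳 s) {x : MulAut P} (hx : x ∈ 𝒳) {g : P}
    (hg : g ∈ nOf (autComm 𝒳) p) : x g * g⁻¹ ∈ oN (autComm 𝒳) p S.odd := by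
  have hxg : x g ∈ nOf (autComm 𝒳) p := S.inv_self.nOf p x hx g hg
  refine ⟨Subgroup.mul_mem _ hxg (Subgroup.inv_mem _ hg), ?_⟩
  have hgp : g ^ p ∈ zOf (autComm 𝒳) := (mem_nOf.mp hg).2.1
  have hc : ⁅g, (x g)⁻¹⁆ ∈ zOf (autComm 𝒳) := commutator_mem_zOf_of_mem_nOf hg _
  have h : g⁻¹ * x g = x g * g⁻¹ * ⁅g, (x g)⁻¹⁆ := by rw [commutatorElement_def]; group
  have hcx : Commute ⁅g, (x g)⁻¹⁆ (x g) := commute_of_mem_zOf hc (nOf_le _ p hxg)
  have hcy : Commute ⁅g, (x g)⁻¹⁆ g⁻¹ := (commute_of_mem_zOf hc (nOf_le _ p hg)).inv_right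
  have hpow : Commute (g⁻¹ ^ p) (x g) := by
    rw [inv_pow]
    exact commute_of_mem_zOf (Subgroup.inv_mem _ hgp) (nOf_le _ p hxg)
  have hcp : ⁅g, (x g)⁻¹⁆ ^ p = 1 := pow_eq_one_of_pow_commute h hcy hpow
  rw [mul_pow_eq_of_central h hcx hcy S.odd hcp, ← map_pow, S.fixes_zOf hx hgp, inv_pow,
    mul_inv_cancel]

end AutSetup

/-- The key lemma. -/
theorem eq_bot_of_sections [Finite P] {p : ℕ} [hp : Fact p.Prime] {E : Subgroup P}
    (h : MaxSq P p E) (𝒴 𝒳 : Subgroup (MulAut P))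
    (hn : ∀ y ∈ 𝒴, ∀ x ∈ 𝒳, y * x * y⁻¹ ∈ 𝒳) (hcop : (Nat.card 𝒳).Coprime p)
    (hsec : ∀ M N : Subgroup P, M ≤ N → M.Normal → N.Normal → Inv 𝒴 M → Inv 𝒴 N →
      Nat.card N = p * Nat.card M → ∀ x ∈ 𝒳, ∀ n ∈ N, x n * n⁻¹ ∈ M) : 𝒳 = ⊥ := by
  obtain ⟨s, hs, hsT⟩ := h.exists_mem_not_mem
  have hTchar : (Subgroup.centralizer (omegaZ2 P p : Set P)).Characteristic :=
    Subgroup.characteristic_centralizer
  have hT : ∀ x ∈ 𝒳, ∀ r : P, x r * r⁻¹ ∈ Subgroup.centralizer (omegaZ2 P p : Set P) := by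
    intro x hx r
    refine hsec _ ⊤ le_top inferInstance inferInstance (Inv.of_characteristic 𝒴 _)
      (fun _ _ _ _ => Subgroup.mem_top _) ?_ x hx r (Subgroup.mem_top r)
    rw [Subgroup.card_top, ← Subgroup.card_mul_index (Subgroup.centralizer (omegaZ2 P p : Set P)),
      h.index_centralizer, mul_comm]
  have hZ : ∀ x ∈ 𝒳, ∀ z ∈ omegaCenter P p, x z = z := by
    intro x hx z hz
    have h1 := hsec ⊥ (omegaCenter P p) bot_le inferInstance inferInstance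
      (fun y _ m hm => by rw [Subgroup.mem_bot] at hm ⊢; rw [hm, map_one])
      (Inv.omegaCenter 𝒴 p) (by rw [h.card_omegaCenter, Subgroup.card_bot, mul_one]) x hx z hz
    rw [Subgroup.mem_bot] at h1
    calc x z = x z * z⁻¹ * z := by group
      _ = z := by rw [h1, one_mul]
  have S : AutSetup P p E 𝒳 s := ⟨h, hs, hsT, hcop, hT, hZ⟩
  by_contra h𝒳
  have hInvD : Inv 𝒴 (autComm 𝒳) := Inv.autComm hn
  have hInvZ : Inv 𝒴 (zOf (autComm 𝒳)) := hInvD.zOf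
  have hInvO : Inv 𝒴 (oN (autComm 𝒳) p S.odd) := hInvD.oN S.odd
  set M := zOf (autComm 𝒳) ⊔ oN (autComm 𝒳) p S.odd with hM
  have hMle : M ≤ nOf (autComm 𝒳) p := sup_le (zOf_le_nOf _ p) (oN_le_nOf S.odd)
  have hMn : M.Normal := normal_of_between le_sup_left hMle
  -- the index of `Z(D)` in `M`
  have hc1 := card_inf_mul_relIndex (zOf (autComm 𝒳)) M
  rw [inf_eq_left.mpr (le_sup_left : zOf (autComm 𝒳) ≤ M), hM, Subgroup.relIndex_sup_left,
    ← hM] at hc1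
  have hc2 := card_inf_mul_relIndex (zOf (autComm 𝒳)) (oN (autComm 𝒳) p S.odd)
  rw [zOf_inf_oN S.odd] at hc2
  have hc3 := S.card_oN_le
  have hpos : 0 < Nat.card (NormalSq.omegaP p (zOf (autComm 𝒳)) (zOf_comm (autComm 𝒳))) :=
    Nat.card_pos
  have hrle : (zOf (autComm 𝒳)).relIndex (oN (autComm 𝒳) p S.odd) ≤ p := by
    rw [← hc2, mul_comm p] at hc3
    exact Nat.le_of_mul_le_mul_left hc3 hpos
  -- the relative index is a power of `p`
  have hrdvd : (zOf (autComm 𝒳)).relIndex (oN (autComm 𝒳) p S.odd) ∣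
      Nat.card (oN (autComm 𝒳) p S.odd) := Subgroup.relIndex_dvd_card _ _
  obtain ⟨k, hk⟩ := IsPGroup.iff_card.mp (h.hR.to_subgroup (oN (autComm 𝒳) p S.odd))
  rw [hk] at hrdvd
  obtain ⟨j, -, hj⟩ := (Nat.dvd_prime_pow hp.out).mp hrdvd
  -- the elements `x g g⁻¹`
  have hfixM : (∀ x ∈ 𝒳, ∀ m ∈ M, x m * m⁻¹ ∈ zOf (autComm 𝒳)) →
      ∀ x ∈ 𝒳, ∀ g ∈ nOf (autComm 𝒳) p, x g = g := by
    intro hMfix x hx g hg
    obtain ⟨n, hn', hnp⟩ := exists_pow_eq_one 𝒳 hcop hx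
    have hω : x g * g⁻¹ ∈ M := Subgroup.mem_sup_right (S.mem_oN_of hx hg)
    have hc := hMfix x hx _ hω
    have hcfix := S.fixes_zOf hx hc
    have e1 : x (x g * g⁻¹) = (x (x g * g⁻¹) * (x g * g⁻¹)⁻¹) * (x g * g⁻¹) := by group
    have hc1' := eq_one_of_map_eq_mul h.hR x hn' hnp e1 hcfix
    have hωfix : x (x g * g⁻¹) = x g * g⁻¹ := by
      calc x (x g * g⁻¹) = (x (x g * g⁻¹) * (x g * g⁻¹)⁻¹) * (x g * g⁻¹) := e1
        _ = x g * g⁻¹ := by rw [hc1', one_mul]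
    have e2 : x g = (x g * g⁻¹) * g := by group
    have hω1 := eq_one_of_map_eq_mul h.hR x hn' hnp e2 hωfix
    calc x g = (x g * g⁻¹) * g := e2
      _ = g := by rw [hω1, one_mul]
  have hj1 : j = 1 := by
    have hjle : j ≤ 1 := by
      by_contra hcon
      push Not at hcon
      have : p ^ 2 ≤ p ^ j := Nat.pow_le_pow_right hp.out.pos hcon
      rw [← hj] at this
      have := hp.out.one_lt
      nlinarith
    rcases Nat.eq_zero_or_pos j with h0 | hpos'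
    · exfalso
      rw [h0, pow_zero, Subgroup.relIndex_eq_one] at hj
      apply S.not_fixes_nOf h𝒳
      apply hfixM
      intro x hx m hm
      have hMeq : M = zOf (autComm 𝒳) := by
        rw [hM]
        exact sup_eq_left.mpr hj
      rw [hMeq] at hm
      exact Subgroup.mul_mem _ (S.inv_self.zOf x hx m hm) (Subgroup.inv_mem _ hm)
    · omega
  rw [hj1, pow_one] at hj
  have hcardM : Nat.card M = p * Nat.card (zOf (autComm 𝒳)) := by
    rw [← hc1, hj, mul_comm]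
  apply S.not_fixes_nOf h𝒳
  apply hfixM
  exact hsec (zOf (autComm 𝒳)) M le_sup_left inferInstance hMn hInvZ (hInvZ.sup hInvO) hcardM

end Cfsg.Agent.Lib.H16.Narrow
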