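import Mathlib
import Cfsg.Prelude
import Cfsg.Agent.Lib.H16.NarrowAutD

set_option autoImplicit false

/-!
# Automorphisms of order prime to `p` of a narrow `p`-group of rank at least 3, part E

Consequences of the key lemma: the action on an invariant section of order `p` is through an
abelian group of exponent dividing `p - 1`.  Hence a `p'`-group of automorphisms normalized by
`𝒴` is centralized by `𝒴`, and every `p'`-automorphism has order dividing `p - 1`.
-/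

namespace Cfsg.Agent.Lib.H16.Narrow

open scoped commutatorElement
open Cfsg.Agent.Lib.H16 Cfsg.Agent.Lib.H16.AutAct

universe u

variable {P : Type u} [Group P]

/-- Restriction of a group of automorphisms to an invariant subgroup. -/
def resAut (𝒴 : Subgroup (MulAut P)) (N : Subgroup P) (hN : Inv 𝒴 N) : ↥𝒴 →* MulAut ↥N where
  toFun y :=
    { toFun := fun n => ⟨(y : MulAut P) n, hN y y.2 n n.2⟩
      invFun := fun n => ⟨(y : MulAut P)⁻¹ n, hN _ (inv_mem y.2) n n.2⟩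
      left_inv := by
        intro n
        apply Subtype.ext
        show (y : MulAut P)⁻¹ ((y : MulAut P) n) = n
        rw [← MulAut.mul_apply, inv_mul_cancel, MulAut.one_apply]
      right_inv := by
        intro n
        apply Subtype.ext
        show (y : MulAut P) ((y : MulAut P)⁻¹ n) = n
        rw [← MulAut.mul_apply, mul_inv_cancel, MulAut.one_apply]
      map_mul' := by
        intro a b
        apply Subtype.ext
        show (y : MulAut P) ((a : P) * (b : P)) = (y : MulAut P) a * (y : MulAut P) b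
        rw [map_mul] }
  map_one' := by
    ext n
    rfl
  map_mul' := by
    intro a b
    ext n
    rfl

theorem resAut_apply (𝒴 : Subgroup (MulAut P)) (N : Subgroup P) (hN : Inv 𝒴 N) (y : ↥𝒴) (n : ↥N) :
    ((resAut 𝒴 N hN y n : ↥N) : P) = (y : MulAut P) n := rfl

/-- The action induced on a quotient by an invariant normal subgroup. -/
def quotAut {Y X : Type*} [Group Y] [Group X] (φ : Y →* MulAut X) (K : Subgroup X) [K.Normal]
    (hK : ∀ y : Y, ∀ k ∈ K, φ y k ∈ K) : Y →* MulAut (X ⧸ K) where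
  toFun y :=
    { toFun := QuotientGroup.map K K (φ y).toMonoidHom
        (fun k hk => Subgroup.mem_comap.mpr (hK y k hk))
      invFun := QuotientGroup.map K K (φ y⁻¹).toMonoidHom
        (fun k hk => Subgroup.mem_comap.mpr (hK y⁻¹ k hk))
      left_inv := by
        intro q
        induction q using QuotientGroup.induction_on with
        | H x =>
          show ((φ y⁻¹ (φ y x) : X) : X ⧸ K) = (x : X ⧸ K)
          rw [← MulAut.mul_apply, ← map_mul, inv_mul_cancel, map_one, MulAut.one_apply]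
      right_inv := by
        intro q
        induction q using QuotientGroup.induction_on with
        | H x =>
          show ((φ y (φ y⁻¹ x) : X) : X ⧸ K) = (x : X ⧸ K)
          rw [← MulAut.mul_apply, ← map_mul, mul_inv_cancel, map_one, MulAut.one_apply]
      map_mul' := by
        intro a b
        rw [map_mul] }
  map_one' := by
    ext q
    induction q using QuotientGroup.induction_on with
    | H x =>
      show ((φ 1 x : X) : X ⧸ K) = (x : X ⧸ K)
      rw [map_one, MulAut.one_apply]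
  map_mul' := by
    intro a b
    ext q
    induction q using QuotientGroup.induction_on with
    | H x =>
      show ((φ (a * b) x : X) : X ⧸ K) = ((φ a (φ b x) : X) : X ⧸ K)
      rw [map_mul, MulAut.mul_apply]

theorem quotAut_mk {Y X : Type*} [Group Y] [Group X] (φ : Y →* MulAut X) (K : Subgroup X)
    [K.Normal] (hK : ∀ y : Y, ∀ k ∈ K, φ y k ∈ K) (y : Y) (x : X) :
    quotAut φ K hK y (x : X ⧸ K) = ((φ y x : X) : X ⧸ K) := rfl

/-- The automorphism group of a group of prime order `p` is abelian of exponent `p - 1`. -/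
theorem mulAut_comm_of_card_prime {Q : Type*} [Group Q] {p : ℕ} [hp : Fact p.Prime]
    (hQ : Nat.card Q = p) : (∀ a b : MulAut Q, a * b = b * a) ∧ ∀ a : MulAut Q, a ^ (p - 1) = 1 := by
  have hfin : Finite Q := Nat.finite_of_card_ne_zero (by rw [hQ]; exact hp.out.ne_zero)
  have hcyc : IsCyclic Q := isCyclic_of_prime_card hQ
  refine ⟨?_, ?_⟩
  · intro a b
    apply (IsCyclic.mulAutMulEquiv Q).injective
    rw [map_mul, map_mul, mul_comm]
  · intro a
    have hfinA : Finite (MulAut Q) := finite_mulAut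
    have h1 : Nat.card (MulAut Q) = p - 1 := by
      rw [IsCyclic.card_mulAut, hQ, Nat.totient_prime hp.out]
    rw [← h1]
    exact pow_card_eq_one'

/-- The key lemma with the hypothesis on sections replaced by a hypothesis on homomorphisms to
abelian groups of exponent dividing `p - 1`. -/
theorem eq_bot_of_comm_homs [Finite P] {p : ℕ} [hp : Fact p.Prime] {E : Subgroup P}
    (h : MaxSq P p E) (𝒴 𝒳 : Subgroup (MulAut P)) (hle : 𝒳 ≤ 𝒴)
    (hn : ∀ y ∈ 𝒴, ∀ x ∈ 𝒳, y * x * y⁻¹ ∈ 𝒳) (hcop : (Nat.card 𝒳).Coprime p)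
    (hk : ∀ (H : Type u) [Group H], (∀ a b : H, a * b = b * a) → (∀ a : H, a ^ (p - 1) = 1) →
      ∀ ψ : ↥𝒴 →* H, ∀ x : ↥𝒴, (x : MulAut P) ∈ 𝒳 → ψ x = 1) : 𝒳 = ⊥ := by
  apply eq_bot_of_sections h 𝒴 𝒳 hn hcop
  intro M N hMN hMn hNn hiM hiN hcard x hx n hnN
  have hK : ∀ y : ↥𝒴, ∀ k ∈ M.subgroupOf N, resAut 𝒴 N hiN y k ∈ M.subgroupOf N := by
    intro y k hk'
    rw [Subgroup.mem_subgroupOf] at hk' ⊢
    rw [resAut_apply]
    exact hiM y y.2 _ hk'
  have hKn : (M.subgroupOf N).Normal := inferInstance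
  set ψ : ↥𝒴 →* MulAut (↥N ⧸ M.subgroupOf N) := quotAut (resAut 𝒴 N hiN) (M.subgroupOf N) hK
    with hψ
  have hQ : Nat.card (↥N ⧸ M.subgroupOf N) = p := by
    have h1 := Subgroup.card_eq_card_quotient_mul_card_subgroup (M.subgroupOf N)
    have h2 : Nat.card (M.subgroupOf N) = Nat.card M :=
      Nat.card_congr (Subgroup.subgroupOfEquivOfLe hMN).toEquiv
    rw [h2, hcard] at h1
    have hMpos : 0 < Nat.card M := Nat.card_pos
    exact (Nat.eq_of_mul_eq_mul_right hMpos h1).symm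
  obtain ⟨hc, he⟩ := mulAut_comm_of_card_prime hQ
  have h1 : ψ ⟨x, hle hx⟩ = 1 := hk _ hc he ψ ⟨x, hle hx⟩ hx
  have h2 := congrArg (fun β : MulAut (↥N ⧸ M.subgroupOf N) => β ((⟨n, hnN⟩ : ↥N) : ↥N ⧸ _)) h1
  simp only [MulAut.one_apply] at h2
  rw [hψ, quotAut_mk, eq_comm, QuotientGroup.eq, Subgroup.mem_subgroupOf] at h2
  have h3 : n⁻¹ * x n ∈ M := h2
  have h4 := hMn.conj_mem _ h3 n
  have h5 : n * (n⁻¹ * x n) * n⁻¹ = x n * n⁻¹ := by group
  rw [h5] at h4
  exact h4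

/-- A `p'`-group of automorphisms normalized by `𝒴` is centralized by `𝒴`. -/
theorem commute_of_normalized [Finite P] {p : ℕ} [hp : Fact p.Prime] {E : Subgroup P}
    (h : MaxSq P p E) (𝒴 𝒬 : Subgroup (MulAut P)) (hle : 𝒬 ≤ 𝒴)
    (hn : ∀ y ∈ 𝒴, ∀ x ∈ 𝒬, y * x * y⁻¹ ∈ 𝒬) (hcop : (Nat.card 𝒬).Coprime p) :
    ∀ x ∈ 𝒬, ∀ y ∈ 𝒴, x * y = y * x := by
  have hfin : Finite (MulAut P) := finite_mulAut
  have hQn : (𝒬.subgroupOf 𝒴).Normal := by
    constructor
    intro x hx y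
    rw [Subgroup.mem_subgroupOf] at hx ⊢
    exact hn y y.2 x hx
  set 𝒳' : Subgroup ↥𝒴 := ⁅𝒬.subgroupOf 𝒴, (⊤ : Subgroup ↥𝒴)⁆ with h𝒳'
  have h𝒳'n : 𝒳'.Normal := by
    rw [h𝒳']
    infer_instance
  have h𝒳'le : 𝒳' ≤ 𝒬.subgroupOf 𝒴 := Subgroup.commutator_le_left _ _
  set 𝒳 : Subgroup (MulAut P) := 𝒳'.map 𝒴.subtype with h𝒳
  have h𝒳le𝒬 : 𝒳 ≤ 𝒬 := by
    rintro _ ⟨x, hx, rfl⟩
    exact h𝒳'le hx
  have h𝒳le : 𝒳 ≤ 𝒴 := h𝒳le𝒬.trans hle
  have h𝒳bot : 𝒳 = ⊥ := by
    apply eq_bot_of_comm_homs h 𝒴 𝒳 h𝒳le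
    · rintro y hy _ ⟨x, hx, rfl⟩
      refine ⟨⟨y, hy⟩ * x * ⟨y, hy⟩⁻¹, h𝒳'n.conj_mem x hx _, rfl⟩
    · exact Nat.Coprime.of_dvd_left (Subgroup.card_dvd_of_le h𝒳le𝒬) hcop
    · intro H _ hc _ ψ x hx
      obtain ⟨x', hx', hxx'⟩ := hx
      have hxeq : x' = x := Subtype.ext hxx'
      rw [← hxeq]
      have hker : 𝒳' ≤ ψ.ker := by
        rw [h𝒳', Subgroup.commutator_le]
        intro g₁ _ g₂ _
        rw [MonoidHom.mem_ker, map_commutatorElement, commutatorElement_eq_one_iff_mul_comm]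
        exact hc _ _
      exact MonoidHom.mem_ker.mp (hker hx')
  intro x hx y hy
  have h1 : ⁅(⟨x, hle hx⟩ : ↥𝒴), ⟨y, hy⟩⁆ ∈ 𝒳' :=
    Subgroup.commutator_mem_commutator (Subgroup.mem_subgroupOf.mpr hx) (Subgroup.mem_top _)
  have h2 : 𝒴.subtype ⁅(⟨x, hle hx⟩ : ↥𝒴), ⟨y, hy⟩⁆ ∈ 𝒳 := ⟨_, h1, rfl⟩
  rw [h𝒳bot, Subgroup.mem_bot, map_commutatorElement] at h2
  exact commutatorElement_eq_one_iff_mul_comm.mp h2

/-- A `p'`-automorphism has order dividing `p - 1`. -/
theorem pow_pred_eq_one [Finite P] {p : ℕ} [hp : Fact p.Prime] {E : Subgroup P}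
    (h : MaxSq P p E) (α : MulAut P) {m : ℕ} (hm : α ^ m = 1) (hmp : m.Coprime p) :
    α ^ (p - 1) = 1 := by
  have hfin : Finite (MulAut P) := finite_mulAut
  set 𝒴 : Subgroup (MulAut P) := Subgroup.zpowers α with h𝒴
  set 𝒳 : Subgroup (MulAut P) := Subgroup.zpowers (α ^ (p - 1)) with h𝒳
  have hα𝒴 : α ∈ 𝒴 := Subgroup.mem_zpowers α
  have h𝒳le : 𝒳 ≤ 𝒴 := by
    rw [h𝒳, Subgroup.zpowers_le]
    exact pow_mem hα𝒴 _
  have hcomm : ∀ a ∈ 𝒴, ∀ b ∈ 𝒴, a * b = b * a := by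
    intro a ha b hb
    obtain ⟨i, rfl⟩ := Subgroup.mem_zpowers_iff.mp ha
    obtain ⟨j, rfl⟩ := Subgroup.mem_zpowers_iff.mp hb
    rw [← zpow_add, ← zpow_add, add_comm]
  have h𝒳bot : 𝒳 = ⊥ := by
    apply eq_bot_of_comm_homs h 𝒴 𝒳 h𝒳le
    · intro y hy x hx
      rw [hcomm y hy x (h𝒳le hx), mul_inv_cancel_right]
      exact hx
    · rw [h𝒳, Nat.card_zpowers]
      have h1 : orderOf (α ^ (p - 1)) ∣ m := by
        apply orderOf_dvd_of_pow_eq_one
        rw [← pow_mul, mul_comm, pow_mul, hm, one_pow]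
      exact Nat.Coprime.of_dvd_left h1 hmp
    · intro H _ _ he ψ x hx
      obtain ⟨k, hk⟩ := Subgroup.mem_zpowers_iff.mp hx
      have hxeq : x = (⟨α, hα𝒴⟩ : ↥𝒴) ^ ((p - 1 : ℕ) * k : ℤ) := by
        apply Subtype.ext
        rw [Subgroup.coe_zpow, ← hk, zpow_mul, zpow_natCast]
      rw [hxeq, map_zpow, zpow_mul, zpow_natCast, he, one_zpow]
  have : α ^ (p - 1) ∈ 𝒳 := Subgroup.mem_zpowers _
  rw [h𝒳bot, Subgroup.mem_bot] at this
  exact this

end Cfsg.Agent.Lib.H16.Narrow
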