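import Mathlib
import Cfsg.Prelude
import Cfsg.Agent.Lib.H16.NarrowAutE
import Cfsg.Agent.Lib.H16.NarrowB

set_option autoImplicit false

/-!
# Automorphism groups of order prime to `p (p - 1)` of `p`-groups of rank at most two, part A

The standing hypotheses (`Good`): `P` is a `p`-group (`p` odd) of rank at most two, `𝒳` is a
group of automorphisms of `P` of order prime to `p (p - 1)`, and `[P, 𝒳] = P`.  We prove that
`𝒳` acts trivially on every invariant normal section of order `p`, and derive the basic tools.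
-/

namespace Cfsg.Agent.Lib.H16.R2A

open scoped commutatorElement
open Cfsg.Agent.Lib.H16 Cfsg.Agent.Lib.H16.AutAct Cfsg.Agent.Lib.H16.Narrow

universe u

/-- The standing hypotheses. -/
structure Good (P : Type u) [Group P] (p : ℕ) (𝒳 : Subgroup (MulAut P)) : Prop where
  hp2 : p ≠ 2
  hP : IsPGroup p P
  hr : Cfsg.PRankLE p 2 P
  hcop : (Nat.card 𝒳).Coprime p
  hcop1 : (Nat.card 𝒳).Coprime (p - 1)
  hfull : autComm 𝒳 = ⊤

variable {P : Type u} [Group P] [Finite P] {p : ℕ} [hp : Fact p.Prime]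
  {𝒳 : Subgroup (MulAut P)}

/-- A group of automorphisms of order prime to `p - 1` acts trivially on every invariant normal
section of order `p`. -/
theorem sections_of_coprime (hcop1 : (Nat.card 𝒳).Coprime (p - 1)) (M N : Subgroup P)
    (hMN : M ≤ N) (hMn : M.Normal) (hNn : N.Normal) (hiM : Inv 𝒳 M) (hiN : Inv 𝒳 N)
    (hcard : Nat.card N = p * Nat.card M) : ∀ x ∈ 𝒳, ∀ n ∈ N, x n * n⁻¹ ∈ M := by
  have hfin : Finite (MulAut P) := finite_mulAut
  intro x hx n hnN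
  have hK : ∀ y : ↥𝒳, ∀ k ∈ M.subgroupOf N, resAut 𝒳 N hiN y k ∈ M.subgroupOf N := by
    intro y k hk'
    rw [Subgroup.mem_subgroupOf] at hk' ⊢
    rw [resAut_apply]
    exact hiM y y.2 _ hk'
  have hKn : (M.subgroupOf N).Normal := inferInstance
  set ψ : ↥𝒳 →* MulAut (↥N ⧸ M.subgroupOf N) := quotAut (resAut 𝒳 N hiN) (M.subgroupOf N) hK
    with hψ
  have hQ : Nat.card (↥N ⧸ M.subgroupOf N) = p := by
    have h1 := Subgroup.card_eq_card_quotient_mul_card_subgroup (M.subgroupOf N)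
    have h2 : Nat.card (M.subgroupOf N) = Nat.card M :=
      Nat.card_congr (Subgroup.subgroupOfEquivOfLe hMN).toEquiv
    rw [h2, hcard] at h1
    have hMpos : 0 < Nat.card M := Nat.card_pos
    exact (Nat.eq_of_mul_eq_mul_right hMpos h1).symm
  obtain ⟨-, he⟩ := mulAut_comm_of_card_prime hQ
  have h1 : ψ ⟨x, hx⟩ = 1 := by
    have ha : (ψ ⟨x, hx⟩) ^ (p - 1) = 1 := he _
    have hb : (ψ ⟨x, hx⟩) ^ (Nat.card 𝒳) = 1 := by
      rw [← map_pow, pow_card_eq_one', map_one]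
    have hc : orderOf (ψ ⟨x, hx⟩) = 1 :=
      Nat.eq_one_of_dvd_coprimes hcop1 (orderOf_dvd_of_pow_eq_one hb)
        (orderOf_dvd_of_pow_eq_one ha)
    exact orderOf_eq_one_iff.mp hc
  have h2 := congrArg (fun β : MulAut (↥N ⧸ M.subgroupOf N) => β ((⟨n, hnN⟩ : ↥N) : ↥N ⧸ _)) h1
  simp only [MulAut.one_apply] at h2
  rw [hψ, quotAut_mk, eq_comm, QuotientGroup.eq, Subgroup.mem_subgroupOf] at h2
  have h3 : n⁻¹ * x n ∈ M := h2
  have h4 := hMn.conj_mem _ h3 n
  have h5 : n * (n⁻¹ * x n) * n⁻¹ = x n * n⁻¹ := by group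
  rw [h5] at h4
  exact h4

namespace Good

theorem hsec (G : Good P p 𝒳) (M N : Subgroup P)
    (hMN : M ≤ N) (hMn : M.Normal) (hNn : N.Normal) (hiM : Inv 𝒳 M) (hiN : Inv 𝒳 N)
    (hcard : Nat.card N = p * Nat.card M) : ∀ x ∈ 𝒳, ∀ n ∈ N, x n * n⁻¹ ∈ M :=
  sections_of_coprime G.hcop1 M N hMN hMn hNn hiM hiN hcard

/-- If `𝒳` fixes `M` elementwise and `N / M` has order `p`, then `𝒳` fixes `N` elementwise. -/
theorem step (G : Good P p 𝒳) {M N : Subgroup P}
    (hMN : M ≤ N) (hMn : M.Normal) (hNn : N.Normal) (hiM : Inv 𝒳 M) (hiN : Inv 𝒳 N)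
    (hcard : Nat.card N = p * Nat.card M) (hfix : ∀ x ∈ 𝒳, ∀ m ∈ M, x m = m) :
    ∀ x ∈ 𝒳, ∀ n ∈ N, x n = n := by
  intro x hx n hn
  obtain ⟨k, hk, hkp⟩ := exists_pow_eq_one 𝒳 G.hcop hx
  have hcM : x n * n⁻¹ ∈ M := G.hsec M N hMN hMn hNn hiM hiN hcard x hx n hn
  have hc : x n = (x n * n⁻¹) * n := by group
  have h1 := eq_one_of_map_eq_mul G.hP x hk hkp hc (hfix x hx _ hcM)
  rw [hc, h1, one_mul]

/-- `𝒳` fixes every invariant normal subgroup of order `p` elementwise. -/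
theorem step_bot (G : Good P p 𝒳) {N : Subgroup P} (hNn : N.Normal) (hiN : Inv 𝒳 N)
    (hcard : Nat.card N = p) : ∀ x ∈ 𝒳, ∀ n ∈ N, x n = n := by
  apply G.step bot_le inferInstance hNn _ hiN
  · rw [Subgroup.card_bot, mul_one, hcard]
  · intro x _ m hm
    rw [Subgroup.mem_bot.mp hm, map_one]
  · intro x _ m hm
    rw [Subgroup.mem_bot] at hm ⊢
    rw [hm, map_one]

/-- A normal subgroup fixed elementwise by `𝒳` is central. -/
theorem central_of_fixed (G : Good P p 𝒳) (N : Subgroup P) [N.Normal]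
    (hfix : ∀ x ∈ 𝒳, ∀ n ∈ N, x n = n) : ∀ n ∈ N, ∀ g : P, n * g = g * n := by
  intro n hn g
  apply commute_of_fixed_normal 𝒳 N hfix n hn g
  rw [G.hfull]
  exact Subgroup.mem_top g

/-- If `𝒳` acts trivially then `P` is trivial. -/
theorem comm_of_fix_all (G : Good P p 𝒳) (h : ∀ x ∈ 𝒳, ∀ r : P, x r = r) :
    ∀ a b : P, a * b = b * a := by
  have hbot : autComm 𝒳 = ⊥ := by
    unfold autComm
    rw [Subgroup.closure_eq_bot_iff]
    rintro c ⟨x, hx, r, rfl⟩
    rw [h x hx r, mul_inv_cancel]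
    rfl
  have htop : (⊤ : Subgroup P) = ⊥ := by rw [← G.hfull, hbot]
  intro a b
  have ha : a ∈ (⊥ : Subgroup P) := htop ▸ Subgroup.mem_top a
  have hb : b ∈ (⊥ : Subgroup P) := htop ▸ Subgroup.mem_top b
  rw [Subgroup.mem_bot.mp ha, Subgroup.mem_bot.mp hb]

/-- `𝒳` has no invariant normal subgroup of index `p`. -/
theorem not_index_p (G : Good P p 𝒳) (M : Subgroup P) (hMn : M.Normal) (hiM : Inv 𝒳 M)
    (hidx : M.index = p) : False := by
  have hcard : Nat.card (⊤ : Subgroup P) = p * Nat.card M := by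
    rw [Subgroup.card_top, ← Subgroup.card_mul_index M, hidx, mul_comm]
  have h1 := G.hsec M ⊤ le_top hMn inferInstance hiM (fun _ _ _ _ => Subgroup.mem_top _) hcard
  have h2 : autComm 𝒳 ≤ M := by
    unfold autComm
    rw [Subgroup.closure_le]
    rintro c ⟨x, hx, r, rfl⟩
    exact h1 x hx r (Subgroup.mem_top r)
  rw [G.hfull, top_le_iff] at h2
  rw [h2, Subgroup.index_top] at hidx
  exact hp.out.one_lt.ne hidx

end Good

/-- The group of automorphisms induced on the quotient by an invariant normal subgroup. -/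
def qAut (𝒳 : Subgroup (MulAut P)) (K : Subgroup P) [K.Normal] (hK : Inv 𝒳 K) :
    Subgroup (MulAut (P ⧸ K)) :=
  (quotAut 𝒳.subtype K (fun y k hk => hK y y.2 k hk)).range

theorem mem_qAut {K : Subgroup P} [K.Normal] (hK : Inv 𝒳 K) {x : MulAut P} (hx : x ∈ 𝒳) :
    quotAut 𝒳.subtype K (fun y k hk => hK y y.2 k hk) ⟨x, hx⟩ ∈ qAut 𝒳 K hK :=
  ⟨⟨x, hx⟩, rfl⟩

theorem qAut_apply_mk {K : Subgroup P} [K.Normal] (hK : Inv 𝒳 K) {x : MulAut P} (hx : x ∈ 𝒳)
    (r : P) : quotAut 𝒳.subtype K (fun y k hk => hK y y.2 k hk) ⟨x, hx⟩ (r : P ⧸ K) =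
      ((x r : P) : P ⧸ K) := rfl

theorem card_comap_mk' (K : Subgroup P) [K.Normal] (N : Subgroup (P ⧸ K)) :
    Nat.card (N.comap (QuotientGroup.mk' K)) = Nat.card N * Nat.card K := by
  have h1 := card_map_mul_card_inf_ker (QuotientGroup.mk' K) (N.comap (QuotientGroup.mk' K))
  rw [Subgroup.map_comap_eq_self_of_surjective (QuotientGroup.mk'_surjective K),
    QuotientGroup.ker_mk'] at h1
  have h2 : N.comap (QuotientGroup.mk' K) ⊓ K = K := by
    apply inf_eq_right.mpr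
    intro k hk
    rw [Subgroup.mem_comap, QuotientGroup.mk'_apply, (QuotientGroup.eq_one_iff k).mpr hk]
    exact Subgroup.one_mem _
  rw [h2] at h1
  exact h1.symm

theorem inv_comap_mk' {K : Subgroup P} [K.Normal] (hK : Inv 𝒳 K) {N : Subgroup (P ⧸ K)}
    (hN : Inv (qAut 𝒳 K hK) N) : Inv 𝒳 (N.comap (QuotientGroup.mk' K)) := by
  intro x hx n hn
  rw [Subgroup.mem_comap] at hn ⊢
  have := hN _ (mem_qAut hK hx) _ hn
  exact this

/-- The hypotheses pass to the quotient by an invariant normal subgroup, provided the quotient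
has rank at most two. -/
theorem Good.quotient (G : Good P p 𝒳) (K : Subgroup P) [K.Normal] (hK : Inv 𝒳 K)
    (hrK : Cfsg.PRankLE p 2 (P ⧸ K)) : Good (P ⧸ K) p (qAut 𝒳 K hK) := by
  have hfin : Finite (MulAut P) := finite_mulAut
  have hdvd : Nat.card (qAut 𝒳 K hK) ∣ Nat.card 𝒳 := Subgroup.card_range_dvd _
  refine ⟨G.hp2, G.hP.to_quotient K, hrK, Nat.Coprime.coprime_dvd_left hdvd G.hcop,
    Nat.Coprime.coprime_dvd_left hdvd G.hcop1, ?_⟩
  rw [eq_top_iff]
  have h1 : (autComm 𝒳).map (QuotientGroup.mk' K) ≤ autComm (qAut 𝒳 K hK) := by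
    rw [Subgroup.map_le_iff_le_comap]
    unfold autComm
    rw [Subgroup.closure_le]
    rintro c ⟨x, hx, r, rfl⟩
    rw [SetLike.mem_coe, Subgroup.mem_comap]
    apply Subgroup.subset_closure
    refine ⟨_, mem_qAut hK hx, (r : P ⧸ K), ?_⟩
    rw [qAut_apply_mk hK hx]
    rfl
  rw [G.hfull, Subgroup.map_top_of_surjective _ (QuotientGroup.mk'_surjective K)] at h1
  exact h1

end Cfsg.Agent.Lib.H16.R2A
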