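import Mathlib
import Cfsg.Prelude
import Cfsg.Agent.Lib.H16.R2ActA
import Cfsg.Agent.Lib.H16.ClassTwo
import Cfsg.Agent.Lib.H16.PGroupCenter

set_option autoImplicit false

/-!
# Automorphism groups of order prime to `p (p - 1)` of `p`-groups of rank at most two, part B

Case A: the characteristic subgroup `W` (of exponent `p`, on which `𝒳` acts faithfully) is
abelian.  Then `W` is central of order `p ^ 2`, contains all elements of order `p`, has no
nontrivial `𝒳`-fixed points, and `P ⧸ W` has rank at most two.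
-/

namespace Cfsg.Agent.Lib.H16.R2A

open scoped commutatorElement
open Cfsg.Agent.Lib.H16 Cfsg.Agent.Lib.H16.AutAct Cfsg.Agent.Lib.H16.Narrow

universe u

theorem inv_inf {P : Type u} [Group P] {𝒳 : Subgroup (MulAut P)} {A B : Subgroup P}
    (hA : Inv 𝒳 A) (hB : Inv 𝒳 B) : Inv 𝒳 (A ⊓ B) :=
  fun x hx m hm => ⟨hA x hx m hm.1, hB x hx m hm.2⟩

/-- If `W` is central of exponent `p` and contains all elements of order dividing `p`, then the
rank of `P ⧸ W` is at most the rank of `W`. -/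
theorem pRankLE_quotient_central {P : Type u} [Group P] [Finite P] {p : ℕ} [hp : Fact p.Prime]
    (hp2 : p ≠ 2) (W : Subgroup P) [W.Normal] (hWz : W ≤ Subgroup.center P)
    (hΩ : ∀ x : P, x ^ p = 1 → x ∈ W) (hcard : Nat.card W ≤ p ^ 2) :
    Cfsg.PRankLE p 2 (P ⧸ W) := by
  intro Ē hĒc hĒe
  set E : Subgroup P := Ē.comap (QuotientGroup.mk' W) with hE
  have hodd : Odd p := hp.out.odd_of_ne_two hp2
  have hWE : W ≤ E := by
    intro w hw
    rw [hE, Subgroup.mem_comap, QuotientGroup.mk'_apply, (QuotientGroup.eq_one_iff w).mpr hw]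
    exact Subgroup.one_mem _
  have hpow_mem : ∀ a ∈ E, a ^ p ∈ W := by
    intro a ha
    have h1 : ((a : P) : P ⧸ W) ^ p = 1 := hĒe _ ha
    rw [← QuotientGroup.mk_pow] at h1
    exact (QuotientGroup.eq_one_iff _).mp h1
  have hcomm_mem : ∀ a ∈ E, ∀ b ∈ E, (a * b)⁻¹ * (b * a) ∈ W := by
    intro a ha b hb
    have h1 := hĒc.is_comm.comm (⟨((a : P) : P ⧸ W), ha⟩ : Ē) ⟨((b : P) : P ⧸ W), hb⟩
    have h2 : ((a : P) : P ⧸ W) * ((b : P) : P ⧸ W) = ((b : P) : P ⧸ W) * ((a : P) : P ⧸ W) :=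
      congrArg Subtype.val h1
    rw [← QuotientGroup.mk_mul, ← QuotientGroup.mk_mul] at h2
    exact QuotientGroup.eq.mp h2
  have hmulpow : ∀ a ∈ E, ∀ b ∈ E, (a * b) ^ p = a ^ p * b ^ p := by
    intro a ha b hb
    have hc := hcomm_mem a ha b hb
    have hcz := hWz hc
    have h : b * a = a * b * ((a * b)⁻¹ * (b * a)) := by group
    have hca : Commute ((a * b)⁻¹ * (b * a)) a := (Subgroup.mem_center_iff.mp hcz a).symm
    have hcb : Commute ((a * b)⁻¹ * (b * a)) b := (Subgroup.mem_center_iff.mp hcz b).symm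
    have hcp : ((a * b)⁻¹ * (b * a)) ^ p = 1 := by
      have h3 := pow_mul_comm_of_central h hcb p
      -- use that `b ^ p` is central
      have hbz : b ^ p ∈ Subgroup.center P := hWz (hpow_mem b hb)
      have h4 : b ^ p * a = a * b ^ p := Subgroup.mem_center_iff.mp hbz a |>.symm
      rw [h4] at h3
      have h5 : (a * b ^ p)⁻¹ * (a * b ^ p) = (a * b ^ p)⁻¹ * (a * b ^ p * ((a * b)⁻¹ * (b * a)) ^ p) := by
        rw [← h3]
      rw [inv_mul_cancel, inv_mul_cancel_left] at h5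
      exact h5.symm
    exact mul_pow_eq_of_central h hca hcb hodd hcp
  let π : ↥E →* ↥W := MonoidHom.mk' (fun a => ⟨(a : P) ^ p, hpow_mem a a.2⟩)
    (fun a b => Subtype.ext (hmulpow a a.2 b b.2))
  have hker : π.ker ≤ W.subgroupOf E := by
    intro a ha
    rw [Subgroup.mem_subgroupOf]
    apply hΩ
    have h1 : π a = 1 := MonoidHom.mem_ker.mp ha
    exact congrArg Subtype.val h1
  have h1 : Nat.card π.ker * Nat.card π.range = Nat.card ↥E := by
    rw [← Subgroup.index_ker]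
    exact Subgroup.card_mul_index π.ker
  have h2 : Nat.card π.ker ≤ Nat.card W := by
    have := Subgroup.card_le_of_le hker
    rwa [Nat.card_congr (Subgroup.subgroupOfEquivOfLe hWE).toEquiv] at this
  have h3 : Nat.card π.range ≤ Nat.card W := Subgroup.card_le_card_group _
  have h4 : Nat.card ↥E = Nat.card Ē * Nat.card W := card_comap_mk' W Ē
  have hWpos : 0 < Nat.card W := Nat.card_pos
  have h5 : Nat.card Ē * Nat.card W ≤ Nat.card W * Nat.card W := by
    rw [← h4, ← h1]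
    exact Nat.mul_le_mul h2 h3
  exact (Nat.le_of_mul_le_mul_right h5 hWpos).trans hcard

/-- The hypotheses of Case A. -/
structure CaseA (P : Type u) [Group P] (p : ℕ) (𝒳 : Subgroup (MulAut P)) (W : Subgroup P) :
    Prop where
  good : Good P p 𝒳
  hWchar : W.Characteristic
  hWexp : ∀ w ∈ W, w ^ p = 1
  hWc : ∀ a ∈ W, ∀ b ∈ W, a * b = b * a
  hnt : ¬ ∀ x ∈ 𝒳, ∀ w ∈ W, x w = w

namespace CaseA

variable {P : Type u} [Group P] [Finite P] {p : ℕ} [hp : Fact p.Prime]
  {𝒳 : Subgroup (MulAut P)} {W : Subgroup P}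

theorem elemAb (S : CaseA P p 𝒳 W) : Cfsg.IsElementaryAbelian p W :=
  ⟨⟨⟨fun a b => Subtype.ext (S.hWc a a.2 b b.2)⟩⟩, S.hWexp⟩

theorem card_le (S : CaseA P p 𝒳 W) : Nat.card W ≤ p ^ 2 :=
  S.good.hr W S.elemAb.1 S.elemAb.2

theorem inv (S : CaseA P p 𝒳 W) : Inv 𝒳 W := by
  haveI := S.hWchar
  exact Inv.of_characteristic 𝒳 W

theorem normal (S : CaseA P p 𝒳 W) : W.Normal := by
  haveI := S.hWchar
  infer_instance

theorem center_and_card (S : CaseA P p 𝒳 W) : W ≤ Subgroup.center P ∧ Nat.card W = p ^ 2 := by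
  have hWn : W.Normal := S.normal
  have hG := S.good
  obtain ⟨e, he⟩ := IsPGroup.iff_card.mp (hG.hP.to_subgroup W)
  have he2 : e ≤ 2 := by
    have := S.card_le
    rw [he] at this
    exact (Nat.pow_le_pow_iff_right hp.out.one_lt).mp this
  have hWne : W ≠ ⊥ := by
    intro h
    apply S.hnt
    intro x _ w hw
    rw [h, Subgroup.mem_bot] at hw
    rw [hw, map_one]
  set Z₀ : Subgroup P := W ⊓ Subgroup.center P with hZ₀
  have hZ₀n : Z₀.Normal := inferInstance
  have hZ₀i : Inv 𝒳 Z₀ := inv_inf S.inv (Inv.of_characteristic 𝒳 _)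
  have hZ₀ne : Z₀ ≠ ⊥ := by
    obtain ⟨x, hxW, hx1, hxc⟩ := exists_ne_one_mem_center_of_normal' hp.out hG.hP W hWne
    intro h
    have : x ∈ Z₀ := ⟨hxW, hxc⟩
    rw [h, Subgroup.mem_bot] at this
    exact hx1 this
  obtain ⟨f, hf⟩ := IsPGroup.iff_card.mp (hG.hP.to_subgroup Z₀)
  have hf1 : 1 ≤ f := by
    by_contra h
    have h0 : f = 0 := by omega
    rw [h0, pow_zero] at hf
    exact hZ₀ne (Subgroup.card_eq_one.mp hf)
  have hfe : f ≤ e := by
    have := Subgroup.card_le_of_le (inf_le_left : Z₀ ≤ W)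
    rw [hf, he] at this
    exact (Nat.pow_le_pow_iff_right hp.out.one_lt).mp this
  have hcases : (e = 1) ∨ (e = 2 ∧ f = 1) ∨ (e = 2 ∧ f = 2) := by omega
  rcases hcases with h | ⟨h1, h2⟩ | ⟨h1, h2⟩
  · exfalso
    apply S.hnt
    apply hG.step_bot hWn S.inv
    rw [he, h, pow_one]
  · exfalso
    apply S.hnt
    have hfix := hG.step_bot hZ₀n hZ₀i (by rw [hf, h2, pow_one])
    apply hG.step (inf_le_left : Z₀ ≤ W) hZ₀n hWn hZ₀i S.inv _ hfix
    rw [he, hf, h1, h2, pow_one, sq]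
  · have hZW : Z₀ = W := by
      apply Subgroup.eq_of_le_of_card_ge inf_le_left
      rw [he, hf, h1, h2]
    refine ⟨?_, by rw [he, h1]⟩
    rw [← hZW]
    exact inf_le_right

theorem omega (S : CaseA P p 𝒳 W) {x : P} (hx : x ^ p = 1) : x ∈ W := by
  obtain ⟨hWz, hcard⟩ := S.center_and_card
  apply mem_of_max W S.elemAb _ hx
  · intro e he
    exact (Subgroup.mem_center_iff.mp (hWz he) x)
  · intro B hB hWB
    apply (Subgroup.eq_of_le_of_card_ge hWB _).symm
    rw [hcard]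
    exact S.good.hr B hB.1 hB.2

theorem no_fixed (S : CaseA P p 𝒳 W) {w : P} (hw : w ∈ W) (hfix : ∀ x ∈ 𝒳, x w = w) : w = 1 := by
  obtain ⟨hWz, hcard⟩ := S.center_and_card
  have hWn : W.Normal := S.normal
  by_contra hw1
  apply S.hnt
  set L : Subgroup P := Subgroup.zpowers w with hL
  have hLW : L ≤ W := by
    rw [hL, Subgroup.zpowers_le]
    exact hw
  have hLn : L.Normal := by
    constructor
    intro n hn g
    have hnz : n ∈ Subgroup.center P := hWz (hLW hn)
    rw [Subgroup.mem_center_iff.mp hnz g, mul_inv_cancel_right]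
    exact hn
  have hLfix : ∀ x ∈ 𝒳, ∀ n ∈ L, x n = n := by
    intro x hx n hn
    obtain ⟨i, rfl⟩ := Subgroup.mem_zpowers_iff.mp hn
    rw [map_zpow, hfix x hx]
  have hLi : Inv 𝒳 L := by
    intro x hx n hn
    rw [hLfix x hx n hn]
    exact hn
  have hLcard : Nat.card L = p := by
    rw [hL, Nat.card_zpowers]
    have h1 : orderOf w ∣ p := orderOf_dvd_of_pow_eq_one (S.hWexp w hw)
    rcases (Nat.dvd_prime hp.out).mp h1 with h | h
    · exact absurd (orderOf_eq_one_iff.mp h) hw1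
    · exact h
  apply S.good.step hLW hLn hWn hLi S.inv _ hLfix
  rw [hcard, hLcard, sq]

theorem rank_quotient (S : CaseA P p 𝒳 W) [W.Normal] : Cfsg.PRankLE p 2 (P ⧸ W) := by
  obtain ⟨hWz, hcard⟩ := S.center_and_card
  exact pRankLE_quotient_central S.good.hp2 W hWz (fun x hx => S.omega hx) hcard.le

end CaseA

end Cfsg.Agent.Lib.H16.R2A
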