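import Mathlib
import Cfsg.Prelude
import Cfsg.Agent.Lib.H16.R2ActB
import Cfsg.Agent.Lib.H16.RankTwoB

set_option autoImplicit false

/-!
# Automorphism groups of order prime to `p (p - 1)` of `p`-groups of rank at most two, part C

Case A, first subcase: if `P ⧸ W` is abelian then `P` is abelian.
-/

namespace Cfsg.Agent.Lib.H16.R2A

open scoped commutatorElement
open Cfsg.Agent.Lib.H16 Cfsg.Agent.Lib.H16.AutAct Cfsg.Agent.Lib.H16.Narrow

universe u

section commHomTop

variable {P : Type u} [Group P]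

/-- `k ↦ ⁅k, g⁆` as an endomorphism, when all these commutators are central. -/
def commHomTop (g : P) (hmem : ∀ k : P, ⁅k, g⁆ ∈ Subgroup.center P) : P →* P :=
  MonoidHom.mk' (fun k => ⁅k, g⁆) (by
    intro k₁ k₂
    have h2 := Subgroup.mem_center_iff.mp (hmem k₂)
    calc ⁅k₁ * k₂, g⁆ = k₁ * ⁅k₂, g⁆ * k₁⁻¹ * ⁅k₁, g⁆ := by
          simp only [commutatorElement_def]; group
      _ = ⁅k₂, g⁆ * k₁ * k₁⁻¹ * ⁅k₁, g⁆ := by rw [h2 k₁]
      _ = ⁅k₂, g⁆ * ⁅k₁, g⁆ := by group
      _ = ⁅k₁, g⁆ * ⁅k₂, g⁆ := (h2 _).symm)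

theorem commHomTop_apply (g : P) (hmem : ∀ k : P, ⁅k, g⁆ ∈ Subgroup.center P) (k : P) :
    commHomTop g hmem k = ⁅k, g⁆ := rfl

end commHomTop

namespace CaseA

variable {P : Type u} [Group P] [Finite P] {p : ℕ} [hp : Fact p.Prime]
  {𝒳 : Subgroup (MulAut P)} {W : Subgroup P}

/-- If all commutators lie in `W`, the `p`-th power map is an endomorphism with kernel `W` and
central image; hence the centre has index at most `p ^ 2`. -/
theorem card_le_of_comm_mem (S : CaseA P p 𝒳 W) (hq : ∀ a b : P, ⁅a, b⁆ ∈ W) :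
    Nat.card P ≤ p ^ 2 * Nat.card (Subgroup.center P) := by
  obtain ⟨hWz, hcard⟩ := S.center_and_card
  have hodd : Odd p := hp.out.odd_of_ne_two S.good.hp2
  -- the basic relation `b * a = a * b * c`
  have hrel : ∀ a b : P, b * a = a * b * ⁅b⁻¹, a⁻¹⁆ := by
    intro a b
    rw [commutatorElement_def]
    group
  have hcz : ∀ a b : P, ⁅b⁻¹, a⁻¹⁆ ∈ Subgroup.center P := fun a b => hWz (hq _ _)
  have hcp : ∀ a b : P, ⁅b⁻¹, a⁻¹⁆ ^ p = 1 := fun a b => S.hWexp _ (hq _ _)
  have hmulpow : ∀ a b : P, (a * b) ^ p = a ^ p * b ^ p := by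
    intro a b
    exact mul_pow_eq_of_central (hrel a b) (Subgroup.mem_center_iff.mp (hcz a b) a).symm
      (Subgroup.mem_center_iff.mp (hcz a b) b).symm hodd (hcp a b)
  have hpowZ : ∀ a : P, a ^ p ∈ Subgroup.center P := by
    intro a
    rw [Subgroup.mem_center_iff]
    intro g
    have h1 := pow_mul_comm_of_central (hrel g a)
      (Subgroup.mem_center_iff.mp (hcz g a) a).symm p
    rw [hcp g a, mul_one] at h1
    exact h1.symm
  let π : P →* P := MonoidHom.mk' (fun a => a ^ p) hmulpow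
  have hker : π.ker = W := by
    ext a
    rw [MonoidHom.mem_ker]
    constructor
    · intro h
      exact S.omega h
    · intro h
      exact S.hWexp a h
  have hrange : π.range ≤ Subgroup.center P := by
    rintro _ ⟨a, rfl⟩
    exact hpowZ a
  have h1 : Nat.card π.ker * Nat.card π.range = Nat.card P := by
    rw [← Subgroup.index_ker]
    exact Subgroup.card_mul_index π.ker
  rw [hker, hcard] at h1
  rw [← h1]
  exact Nat.mul_le_mul_left _ (Subgroup.card_le_of_le hrange)

/-- Case A, first subcase. -/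
theorem comm_of_comm_mem (S : CaseA P p 𝒳 W) (hq : ∀ a b : P, ⁅a, b⁆ ∈ W) :
    ∀ a b : P, a * b = b * a := by
  obtain ⟨hWz, hcard⟩ := S.center_and_card
  have hG := S.good
  by_contra hnc
  push Not at hnc
  obtain ⟨x, y, hxy⟩ := hnc
  have hle := S.card_le_of_comm_mem hq
  set Z : Subgroup P := Subgroup.center P with hZ
  have hcz : ∀ a b : P, ⁅a, b⁆ ∈ Subgroup.center P := fun a b => hWz (hq a b)
  set c : P := ⁅x, y⁆ with hc
  have hc1 : c ≠ 1 := by
    intro h
    exact hxy (commutatorElement_eq_one_iff_mul_comm.mp h)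
  set L : Subgroup P := Subgroup.zpowers c with hL
  have hcL : c ∈ L := Subgroup.mem_zpowers c
  -- `P` is generated by `Z`, `x` and `y`
  set T₁ : Subgroup P := Z ⊔ Subgroup.zpowers x with hT₁
  set T : Subgroup P := T₁ ⊔ Subgroup.zpowers y with hT
  have hxT₁ : x ∈ T₁ := (le_sup_right : Subgroup.zpowers x ≤ T₁) (Subgroup.mem_zpowers x)
  have hyT : y ∈ T := (le_sup_right : Subgroup.zpowers y ≤ T) (Subgroup.mem_zpowers y)
  have hxZ : x ∉ Z := by
    intro h
    exact hxy (Subgroup.mem_center_iff.mp h y).symm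
  have hT₁cent : T₁ ≤ Subgroup.centralizer ({x} : Set P) := by
    apply sup_le
    · intro z hz
      rw [Subgroup.mem_centralizer_singleton_iff]
      exact (Subgroup.mem_center_iff.mp hz x).symm
    · rw [Subgroup.zpowers_le, Subgroup.mem_centralizer_singleton_iff]
  have hyT₁ : y ∉ T₁ := by
    intro h
    have := hT₁cent h
    rw [Subgroup.mem_centralizer_singleton_iff] at this
    exact hxy this.symm
  have hZT₁ : Z < T₁ := lt_of_le_of_ne le_sup_left (fun h => hxZ (h ▸ hxT₁))
  have hT₁T : T₁ < T := lt_of_le_of_ne le_sup_left (fun h => hyT₁ (h ▸ hyT))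
  have hTtop : T = ⊤ := by
    obtain ⟨a, ha⟩ := IsPGroup.iff_card.mp (hG.hP.to_subgroup Z)
    obtain ⟨b, hb⟩ := IsPGroup.iff_card.mp (hG.hP.to_subgroup T₁)
    obtain ⟨d, hd⟩ := IsPGroup.iff_card.mp (hG.hP.to_subgroup T)
    have h1 := RankTwo.card_lt_of_lt hZT₁
    have h2 := RankTwo.card_lt_of_lt hT₁T
    rw [ha, hb] at h1
    rw [hb, hd] at h2
    have hab : a < b := (Nat.pow_lt_pow_iff_right hp.out.one_lt).mp h1
    have hbd : b < d := (Nat.pow_lt_pow_iff_right hp.out.one_lt).mp h2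
    apply Subgroup.eq_top_of_le_card
    rw [hd]
    calc Nat.card P ≤ p ^ 2 * Nat.card Z := hle
      _ = p ^ (2 + a) := by rw [ha, pow_add]
      _ ≤ p ^ d := Nat.pow_le_pow_right hp.out.pos (by omega)
  -- all commutators lie in `L`
  have hsub : ∀ g : P, (∀ z ∈ Z, ⁅z, g⁆ ∈ L) := by
    intro g z hz
    have : ⁅z, g⁆ = 1 := by
      rw [commutatorElement_eq_one_iff_mul_comm]
      exact (Subgroup.mem_center_iff.mp hz g).symm
    rw [this]
    exact Subgroup.one_mem _
  have hgen : ∀ g : P, ⁅x, g⁆ ∈ L → ⁅y, g⁆ ∈ L → ∀ k : P, ⁅k, g⁆ ∈ L := by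
    intro g hxg hyg k
    have hk : k ∈ T := hTtop ▸ Subgroup.mem_top k
    have hle' : T ≤ L.comap (commHomTop g (fun k => hcz k g)) := by
      rw [hT, hT₁]
      apply sup_le
      · apply sup_le
        · intro z hz
          rw [Subgroup.mem_comap, commHomTop_apply]
          exact hsub g z hz
        · rw [Subgroup.zpowers_le, Subgroup.mem_comap, commHomTop_apply]
          exact hxg
      · rw [Subgroup.zpowers_le, Subgroup.mem_comap, commHomTop_apply]
        exact hyg
    have := hle' hk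
    rwa [Subgroup.mem_comap, commHomTop_apply] at this
  have hinvL : ∀ a b : P, ⁅a, b⁆ ∈ L → ⁅b, a⁆ ∈ L := by
    intro a b h
    rw [← commutatorElement_inv]
    exact Subgroup.inv_mem _ h
  have hxx : ⁅x, x⁆ ∈ L := by
    rw [commutatorElement_self]
    exact Subgroup.one_mem _
  have hyy : ⁅y, y⁆ ∈ L := by
    rw [commutatorElement_self]
    exact Subgroup.one_mem _
  have hkx : ∀ k : P, ⁅k, x⁆ ∈ L := hgen x hxx (hinvL x y hcL)
  have hky : ∀ k : P, ⁅k, y⁆ ∈ L := hgen y hcL hyy
  have hall : ∀ k g : P, ⁅k, g⁆ ∈ L := by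
    intro k g
    exact hgen g (hinvL g x (hkx g)) (hinvL g y (hky g)) k
  -- `L` is a normal invariant subgroup of order `p`
  have hLW : L ≤ W := by
    rw [hL, Subgroup.zpowers_le]
    exact hq x y
  have hLn : L.Normal := by
    constructor
    intro n hn g
    have hnz : n ∈ Subgroup.center P := hWz (hLW hn)
    rw [Subgroup.mem_center_iff.mp hnz g, mul_inv_cancel_right]
    exact hn
  have hLi : Inv 𝒳 L := by
    intro t ht n hn
    obtain ⟨i, rfl⟩ := Subgroup.mem_zpowers_iff.mp hn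
    rw [map_zpow]
    apply Subgroup.zpow_mem
    rw [hc, map_commutatorElement]
    exact hall _ _
  have hLcard : Nat.card L = p := by
    rw [hL, Nat.card_zpowers]
    have h1 : orderOf c ∣ p := orderOf_dvd_of_pow_eq_one (S.hWexp c (hq x y))
    rcases (Nat.dvd_prime hp.out).mp h1 with h | h
    · exact absurd (orderOf_eq_one_iff.mp h) hc1
    · exact h
  have hfix := hG.step_bot hLn hLi hLcard
  exact hc1 (S.no_fixed (hq x y) (fun t ht => hfix t ht c hcL))

end CaseA

end Cfsg.Agent.Lib.H16.R2A
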