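import Mathlib
import Cfsg.Prelude
import Cfsg.Agent.Lib.H16.R2ActC

set_option autoImplicit false

/-!
# Automorphism groups of order prime to `p (p - 1)` of `p`-groups of rank at most two, part D

Case A, second subcase (`P ⧸ W` nonabelian of order `p ^ 3` is impossible), and the conclusion
of Case A: `P` is abelian.
-/

namespace Cfsg.Agent.Lib.H16.R2A

open scoped commutatorElement
open Cfsg.Agent.Lib.H16 Cfsg.Agent.Lib.H16.AutAct Cfsg.Agent.Lib.H16.Narrow

universe u

/-- The centre of a nonabelian group of order `p ^ 3` has order `p`. -/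
theorem card_center_of_card_cube {Q : Type u} [Group Q] [Finite Q] {p : ℕ} [hp : Fact p.Prime]
    (hcard : Nat.card Q = p ^ 3) (hnc : ¬ ∀ a b : Q, a * b = b * a) :
    Nat.card (Subgroup.center Q) = p := by
  have hQp : IsPGroup p Q := IsPGroup.of_card hcard
  haveI : Nontrivial Q := by
    apply Finite.one_lt_card_iff_nontrivial.mp
    rw [hcard]
    exact Nat.one_lt_pow (by norm_num) hp.out.one_lt
  obtain ⟨f, hf⟩ := IsPGroup.iff_card.mp (hQp.to_subgroup (Subgroup.center Q))
  have hf1 : 1 ≤ f := by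
    by_contra h
    have h0 : f = 0 := by omega
    rw [h0, pow_zero] at hf
    have hbot : Subgroup.center Q = ⊥ := Subgroup.card_eq_one.mp hf
    exact (ne_of_gt hQp.bot_lt_center) hbot
  have hf3 : f ≤ 3 := by
    have := Subgroup.card_le_card_group (Subgroup.center Q)
    rw [hf, hcard] at this
    exact (Nat.pow_le_pow_iff_right hp.out.one_lt).mp this
  have hfne3 : f ≠ 3 := by
    intro h
    apply hnc
    have htop : Subgroup.center Q = ⊤ := by
      apply Subgroup.eq_top_of_card_eq
      rw [hf, h, hcard]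
    intro a b
    have : b ∈ Subgroup.center Q := htop ▸ Subgroup.mem_top b
    exact Subgroup.mem_center_iff.mp this a
  have hfne2 : f ≠ 2 := by
    intro h
    apply hnc
    have hidx : (Subgroup.center Q).index = p := by
      have h1 := Subgroup.card_mul_index (Subgroup.center Q)
      rw [hf, h, hcard] at h1
      have hpos : 0 < p ^ 2 := pow_pos hp.out.pos 2
      have : p ^ 2 * (Subgroup.center Q).index = p ^ 2 * p := by rw [h1]; ring
      exact Nat.eq_of_mul_eq_mul_left hpos this
    have hcyc : IsCyclic (Q ⧸ Subgroup.center Q) := by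
      apply isCyclic_of_prime_card (p := p)
      rw [← Subgroup.index_eq_card, hidx]
    have hker : (QuotientGroup.mk' (Subgroup.center Q)).ker ≤ Subgroup.center Q := by
      rw [QuotientGroup.ker_mk']
    have := (QuotientGroup.mk' (Subgroup.center Q)).isMulCommutative_of_isCyclic_of_ker_le_center
      hker
    intro a b
    exact this.is_comm.comm a b
  have : f = 1 := by omega
  rw [hf, this, pow_one]

namespace CaseA

variable {P : Type u} [Group P] [Finite P] {p : ℕ} [hp : Fact p.Prime]
  {𝒳 : Subgroup (MulAut P)} {W : Subgroup P}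

/-- Case A, second subcase. -/
theorem false_of_card_cube (S : CaseA P p 𝒳 W) [W.Normal]
    (hnc : ¬ ∀ a b : P ⧸ W, a * b = b * a) (hcardQ : Nat.card (P ⧸ W) = p ^ 3) : False := by
  obtain ⟨hWz, hcard⟩ := S.center_and_card
  have hG := S.good
  have hZc : Nat.card (Subgroup.center (P ⧸ W)) = p := card_center_of_card_cube hcardQ hnc
  set Z₁ : Subgroup P := (Subgroup.center (P ⧸ W)).comap (QuotientGroup.mk' W) with hZ₁
  have hZ₁card : Nat.card Z₁ = p * p ^ 2 := by
    rw [hZ₁, card_comap_mk', hZc, hcard]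
  have hWZ₁ : W ≤ Z₁ := by
    intro w hw
    rw [hZ₁, Subgroup.mem_comap, QuotientGroup.mk'_apply, (QuotientGroup.eq_one_iff w).mpr hw]
    exact Subgroup.one_mem _
  have hZ₁n : Z₁.Normal := by
    rw [hZ₁]
    infer_instance
  have hZ₁i : Inv 𝒳 Z₁ :=
    inv_comap_mk' S.inv (Inv.of_characteristic (qAut 𝒳 W S.inv) (Subgroup.center (P ⧸ W)))
  -- `Z₁` is abelian
  have hZ₁c : ∀ a ∈ Z₁, ∀ b ∈ Z₁, a * b = b * a := by
    have hcyc : IsCyclic ↥(Subgroup.center (P ⧸ W)) := isCyclic_of_prime_card hZc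
    let f : ↥Z₁ →* ↥(Subgroup.center (P ⧸ W)) :=
      (QuotientGroup.mk' W).subgroupComap (Subgroup.center (P ⧸ W))
    have hker : f.ker ≤ Subgroup.center ↥Z₁ := by
      intro k hk
      have h1 : f k = 1 := MonoidHom.mem_ker.mp hk
      have h2 : (((k : ↥Z₁) : P) : P ⧸ W) = 1 := congrArg Subtype.val h1
      have h3 : ((k : ↥Z₁) : P) ∈ W := (QuotientGroup.eq_one_iff _).mp h2
      rw [Subgroup.mem_center_iff]
      intro g
      apply Subtype.ext
      exact Subgroup.mem_center_iff.mp (hWz h3) (g : P)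
    have hc := f.isMulCommutative_of_isCyclic_of_ker_le_center hker
    intro a ha b hb
    exact congrArg Subtype.val (hc.is_comm.comm (⟨a, ha⟩ : ↥Z₁) ⟨b, hb⟩)
  -- the `p`-th power map on `Z₁`
  let π₁ : ↥Z₁ →* P := MonoidHom.mk' (fun z => (z : P) ^ p) (by
    intro a b
    have hc : Commute (a : P) (b : P) := hZ₁c a a.2 b b.2
    exact hc.mul_pow p)
  set V : Subgroup P := π₁.range with hV
  have hkerπ : π₁.ker = W.subgroupOf Z₁ := by
    ext a
    rw [MonoidHom.mem_ker, Subgroup.mem_subgroupOf]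
    constructor
    · intro h
      exact S.omega h
    · intro h
      exact S.hWexp _ h
  have hVcard : Nat.card V = p := by
    have h1 : Nat.card π₁.ker * Nat.card π₁.range = Nat.card ↥Z₁ := by
      rw [← Subgroup.index_ker]
      exact Subgroup.card_mul_index π₁.ker
    rw [hkerπ, Nat.card_congr (Subgroup.subgroupOfEquivOfLe hWZ₁).toEquiv, hcard, hZ₁card,
      mul_comm p (p ^ 2)] at h1
    exact Nat.eq_of_mul_eq_mul_left (pow_pos hp.out.pos 2) h1
  have hVW : V ≤ W := by
    rintro _ ⟨z, rfl⟩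
    have hz : (((z : ↥Z₁) : P) : P ⧸ W) ∈ Subgroup.center (P ⧸ W) := z.2
    have h1 : (⟨_, hz⟩ : ↥(Subgroup.center (P ⧸ W))) ^ p = 1 := by
      rw [← hZc]
      exact pow_card_eq_one'
    have h2 : (((z : ↥Z₁) : P) : P ⧸ W) ^ p = 1 := by
      have := congrArg Subtype.val h1
      simpa using this
    rw [← QuotientGroup.mk_pow] at h2
    exact (QuotientGroup.eq_one_iff _).mp h2
  have hVn : V.Normal := by
    constructor
    intro n hn g
    have hnz : n ∈ Subgroup.center P := hWz (hVW hn)
    rw [Subgroup.mem_center_iff.mp hnz g, mul_inv_cancel_right]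
    exact hn
  have hVi : Inv 𝒳 V := by
    rintro t ht _ ⟨z, rfl⟩
    refine ⟨⟨t (z : P), hZ₁i t ht _ z.2⟩, ?_⟩
    show (t (z : P)) ^ p = t ((z : P) ^ p)
    rw [map_pow]
  have hfix := hG.step_bot hVn hVi hVcard
  have hVbot : V = ⊥ := by
    rw [eq_bot_iff]
    intro v hv
    rw [Subgroup.mem_bot]
    exact S.no_fixed (hVW hv) (fun t ht => hfix t ht v hv)
  rw [hVbot, Subgroup.card_bot] at hVcard
  exact hp.out.one_lt.ne hVcard

/-- Case A: `P` is abelian. -/
theorem comm (S : CaseA P p 𝒳 W)
    (IH : ∀ (Q : Type u) [Group Q] [Finite Q] (𝒴 : Subgroup (MulAut Q)),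
      Nat.card Q < Nat.card P → Good Q p 𝒴 →
        ((∀ a b : Q, a * b = b * a) ∨ Nat.card Q = p ^ 3)) :
    ∀ a b : P, a * b = b * a := by
  haveI hWn : W.Normal := S.normal
  obtain ⟨hWz, hcard⟩ := S.center_and_card
  have hlt : Nat.card (P ⧸ W) < Nat.card P := by
    have h1 := Subgroup.card_eq_card_quotient_mul_card_subgroup W
    rw [hcard] at h1
    have hpos : 0 < Nat.card (P ⧸ W) := Nat.card_pos
    have h2 : 1 < p ^ 2 := Nat.one_lt_pow (by norm_num) hp.out.one_lt
    rw [h1]
    nlinarith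
  have hGQ := S.good.quotient W S.inv S.rank_quotient
  have hfromcomm : (∀ a b : P ⧸ W, a * b = b * a) → ∀ a b : P, a * b = b * a := by
    intro hc
    apply S.comm_of_comm_mem
    intro a b
    apply (QuotientGroup.eq_one_iff _).mp
    rw [← QuotientGroup.mk'_apply, map_commutatorElement, commutatorElement_eq_one_iff_mul_comm]
    exact hc _ _
  by_cases hc : ∀ a b : P ⧸ W, a * b = b * a
  · exact hfromcomm hc
  · rcases IH (P ⧸ W) (qAut 𝒳 W S.inv) hlt hGQ with h | h
    · exact absurd h hc
    · exact (S.false_of_card_cube hc h).elim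

end CaseA

end Cfsg.Agent.Lib.H16.R2A
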