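import Mathlib

/-!
# S3174 (2-groups of Rudvalis type): shared definitions (helper16)

`UT3` = Heisenberg group over `F₂` (order 8, isomorphic to `DihedralGroup 4`), `Ctx` = the data available
after the numerical part of the proof, `Coord` = coordinates `T/W ≅ UT3` coming from the action on `Z₃(T)`.
-/

set_option autoImplicit false

namespace Cfsg.Agent.Lib.H16.RTW

open scoped commutatorElement

/-- The Heisenberg group over `F₂` (upper unitriangular `3 × 3` matrices), of order 8. The element `⟨a, b, c⟩`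
acts on `F₂³ = ⟨x₁, x₂, x₃⟩` by `x₁ ↦ x₁`, `x₂ ↦ x₂ x₁^a`, `x₃ ↦ x₃ x₂^b x₁^c`. -/
structure UT3 where
  a : ZMod 2
  b : ZMod 2
  c : ZMod 2
deriving DecidableEq, Fintype

namespace UT3

instance : Mul UT3 := ⟨fun x y => ⟨x.a + y.a, x.b + y.b, x.c + y.c + x.a * y.b⟩⟩
instance : One UT3 := ⟨⟨0, 0, 0⟩⟩
instance : Inv UT3 := ⟨fun x => ⟨x.a, x.b, x.c + x.a * x.b⟩⟩

theorem mul_def (x y : UT3) : x * y = ⟨x.a + y.a, x.b + y.b, x.c + y.c + x.a * y.b⟩ := rfl
theorem one_def : (1 : UT3) = ⟨0, 0, 0⟩ := rfl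
theorem inv_def (x : UT3) : x⁻¹ = ⟨x.a, x.b, x.c + x.a * x.b⟩ := rfl

instance : Group UT3 := Group.ofLeftAxioms (by decide) (by decide) (by decide)

theorem card_eq : Nat.card UT3 = 8 := by
  rw [Nat.card_eq_fintype_card]; decide

end UT3

/-- The data available after the numerical part of S3174 (`Zᵢ = upperCentralSeries T i`):
`|T| = 2¹⁴`, `W = C_T(Z₃)` of index 8 (so `|W| = 2¹¹`, `|W : Z₃| = 2⁸`), `Φ(W) = W' = Z₃` elementary abelian of order 8 and central in `W`, and a maximal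
subgroup `M` of `W` whose `T`-core is `Z₃`; `hd` is hypothesis (d) of the statement. -/
structure Ctx (T : Type*) [Group T] [Finite T] where
  W : Subgroup T
  M : Subgroup T
  hT : IsPGroup 2 T
  hcard : Nat.card T = 2 ^ 14
  hWn : W.Normal
  hW : W = Subgroup.centralizer ((Subgroup.upperCentralSeries T 3 : Subgroup T) : Set T)
  c1 : Nat.card ↥(Subgroup.upperCentralSeries T 1) = 2
  c2 : Nat.card ↥(Subgroup.upperCentralSeries T 2) = 4
  c3 : Nat.card ↥(Subgroup.upperCentralSeries T 3) = 8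
  c4 : Nat.card ↥(Subgroup.upperCentralSeries T 4) = 16
  hidx : W.index = 8
  hZW : Subgroup.upperCentralSeries T 3 ≤ W
  hsq : ∀ u ∈ W, u ^ 2 ∈ Subgroup.upperCentralSeries T 3
  hcomm : ∀ u ∈ W, ∀ v ∈ W, ⁅u, v⁆ ∈ Subgroup.upperCentralSeries T 3
  hexp : ∀ z ∈ Subgroup.upperCentralSeries T 3, z ^ 2 = 1
  hM1 : Subgroup.upperCentralSeries T 3 ≤ M
  hM2 : M ≤ W
  hM3 : M.relIndex W = 2
  hcore : ∀ u ∈ W, (∀ t : T, t * u * t⁻¹ ∈ M) → u ∈ Subgroup.upperCentralSeries T 3
  hd : ∀ U : Subgroup T, U ≤ W → U.relIndex W ≤ 16 → Subgroup.upperCentralSeries T 3 ≤ U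

/-- Coordinates on `T/W`: a surjective homomorphism `T → UT3` with kernel `W` such that every element whose
image is nontrivial with `a = 0` (i.e. lies in the four-group `C_T(Z₂)/W`) has `C_{Z₃}(t) ≤ Z₂`. -/
structure Coord {T : Type*} [Group T] [Finite T] (c : Ctx T) where
  φ : T →* UT3
  hker : φ.ker = c.W
  hsurj : Function.Surjective φ
  hfix : ∀ t : T, (φ t).a = 0 → φ t ≠ 1 → ∀ x ∈ Subgroup.upperCentralSeries T 3,
    t * x = x * t → x ∈ Subgroup.upperCentralSeries T 2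

end Cfsg.Agent.Lib.H16.RTW
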