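import Cfsg.Agent.Lib.H5.S3797MLDefs

/-!
# S3797, main lemma piece (M3) (helper16)

If `W` acts non-trivially then `κ` maps `M = [U,W]` bijectively onto `V`: `κ` is additive on the isotropic
`M` and injective (anisotropy), `M` is invariant under every `a i` (`Winv` on the generators), and the
image of `κ` on `M` contains a non-zero value, hence every value by `E`-transitivity.
-/

set_option autoImplicit false

namespace Cfsg.Agent.Lib.H16.S3797M3

open Cfsg.Agent.Lib.H5.S3797ML

universe u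

theorem m3 : M3Stmt.{u} := by
  intro U V _ _ _ _ κ β W I a b hQ hW hA hiso hnt
  have hβ0 : ∀ z : U, β 0 z = 0 := by
    intro z
    have h := hQ.add_left 0 0 z
    rw [add_zero, hQ.two_V (β 0 z)] at h
    exact h
  have hκ0 : κ 0 = 0 := by
    have h := hQ.polar 0 0
    rw [add_zero, hβ0, add_zero, hQ.two_V] at h
    exact h
  have hnegU : ∀ x : U, -x = x := fun x => neg_eq_of_add_eq_zero_left (hQ.two_U x)
  have hκadd : ∀ m ∈ Mof W, ∀ m' ∈ Mof W, κ (m + m') = κ m + κ m' := by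
    intro m hm m' hm'
    rw [hQ.polar, hiso m hm m' hm', add_zero]
  have hai0 : ∀ i, a i 0 = 0 := by
    intro i
    have h := hA.a_add i 0 0
    rw [add_zero] at h
    have h2 : a i 0 + 0 = a i 0 + a i 0 := by rw [add_zero]; exact h
    exact (add_left_cancel h2).symm
  have hinv : ∀ i, ∀ m ∈ Mof W, a i m ∈ Mof W := by
    intro i m hm
    refine AddSubgroup.closure_induction (p := fun m _ => a i m ∈ Mof W) ?_ ?_ ?_ ?_ hm
    · rintro y ⟨g, hg, x, rfl⟩
      obtain ⟨h, hh, hgh⟩ := hA.Winv i g hg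
      rw [hA.a_add, hgh]
      exact AddSubgroup.subset_closure ⟨h, hh, a i x, rfl⟩
    · rw [hai0]; exact (Mof W).zero_mem
    · intro x y _ _ hx hy
      rw [hA.a_add]; exact (Mof W).add_mem hx hy
    · intro x _ hx
      rw [hnegU]; exact hx
  obtain ⟨g, hg, x, hgx⟩ := hnt
  have hy : x + g x ∈ Mof W := AddSubgroup.subset_closure ⟨g, hg, x, rfl⟩
  have hy0 : x + g x ≠ 0 := by
    intro h0
    apply hgx
    have h1 : g x = -x := (neg_eq_of_add_eq_zero_right h0).symm
    rw [h1, hnegU]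
  have hκy : κ (x + g x) ≠ 0 := fun h => hy0 (hQ.anis _ h)
  have hsurj : ∀ v : V, ∃ m ∈ Mof W, κ m = v := by
    intro v
    by_cases hv : v = 0
    · exact ⟨0, (Mof W).zero_mem, by rw [hκ0, hv]⟩
    · obtain ⟨i, hi⟩ := hA.trans _ v hκy hv
      exact ⟨a i (x + g x), hinv i _ hy, by rw [hA.equiv, hi]⟩
  refine ⟨hsurj, ?_⟩
  have hinj : ∀ m ∈ Mof W, ∀ m' ∈ Mof W, κ m = κ m' → m = m' := by
    intro m hm m' hm' h
    have h1 : κ (m + m') = 0 := by rw [hκadd m hm m' hm', h, hQ.two_V]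
    have h2 := hQ.anis _ h1
    have h3 : m = -m' := eq_neg_of_add_eq_zero_left h2
    rw [h3, hnegU]
  apply Nat.card_eq_of_bijective (fun m : Mof W => κ (m : U))
  constructor
  · intro m m' h
    exact Subtype.ext (hinj m m.2 m' m'.2 h)
  · intro v
    obtain ⟨m, hm, rfl⟩ := hsurj v
    exact ⟨⟨m, hm⟩, rfl⟩

example : M3Stmt.{0} := m3

end Cfsg.Agent.Lib.H16.S3797M3
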