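import Cfsg.Agent.Lib.H1.S77.Hyp

/-!
# S0429, piece (CARD): `hcard : HI2 G v0 → HCard G v0`

Every class `cls b` has exactly four elements: `b` and its three mates.
Counting with `sum_inter = 56`, `sum_inter_sq = 24`, `card_adj_nB = 12`, `card_nB = 60`
(blueprint `tools/blueprints/S0429.md`).
-/

set_option autoImplicit false
set_option linter.unusedSectionVars false
open Cfsg

namespace Cfsg.Agent.Lib.H16.S77

open Cfsg.Agent.Lib.H1.S77 Finset

section
variable {V : Type*} [Fintype V] [DecidableEq V] {G : SimpleGraph V} [DecidableRel G.Adj]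
variable {v0 : V}

/-- pure arithmetic: a function with values `≤ 2` on a finset of 59 elements, with sum 56 and
`∑ (i² - i) = 24`, vanishes at exactly 15 elements -/
theorem card_zero_of_sums {α : Type*} [DecidableEq α] (E : Finset α) (i : α → ℕ)
    (hle : ∀ x ∈ E, i x ≤ 2) (hE : E.card = 59) (h1 : ∑ x ∈ E, i x = 56)
    (h2 : ∑ x ∈ E, (i x * i x - i x) = 24) :
    (E.filter (fun x => i x = 0)).card = 15 := by
  have k0 : ∀ x ∈ E, (1 : ℕ) = (if i x = 0 then 1 else 0) + (if i x = 1 then 1 else 0)
      + (if i x = 2 then 1 else 0) := by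
    intro x hx
    have := hle x hx
    obtain h | h | h : i x = 0 ∨ i x = 1 ∨ i x = 2 := by omega
    all_goals rw [h]; simp
  have k1 : ∀ x ∈ E, i x = (if i x = 1 then 1 else 0) + 2 * (if i x = 2 then 1 else 0) := by
    intro x hx
    have := hle x hx
    obtain h | h | h : i x = 0 ∨ i x = 1 ∨ i x = 2 := by omega
    all_goals rw [h]; simp
  have k2 : ∀ x ∈ E, i x * i x - i x = 2 * (if i x = 2 then 1 else 0) := by
    intro x hx
    have := hle x hx
    obtain h | h | h : i x = 0 ∨ i x = 1 ∨ i x = 2 := by omega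
    all_goals rw [h]; simp
  have s0 : E.card = (E.filter (fun x => i x = 0)).card + (E.filter (fun x => i x = 1)).card
      + (E.filter (fun x => i x = 2)).card := by
    rw [Finset.card_eq_sum_ones, Finset.sum_congr rfl k0, Finset.sum_add_distrib,
      Finset.sum_add_distrib, ← Finset.card_filter, ← Finset.card_filter, ← Finset.card_filter]
  have s1 : ∑ x ∈ E, i x = (E.filter (fun x => i x = 1)).card
      + 2 * (E.filter (fun x => i x = 2)).card := by
    rw [Finset.sum_congr rfl k1, Finset.sum_add_distrib, ← Finset.mul_sum,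
      ← Finset.card_filter, ← Finset.card_filter]
  have s2 : ∑ x ∈ E, (i x * i x - i x) = 2 * (E.filter (fun x => i x = 2)).card := by
    rw [Finset.sum_congr rfl k2, ← Finset.mul_sum, ← Finset.card_filter]
  omega

/-- (CARD) counting with `sum_inter`, `sum_inter_sq`, `card_adj_nB`, `card_nB` -/
theorem hcard (hG : G.IsSRGWith 77 16 0 4) (h : HI2 G v0) : HCard G v0 := by
  intro b hb
  set E := (nB G v0).erase b with hE
  set i : V → ℕ := fun b' => (blk G v0 b ∩ blk G v0 b').card with hi
  have hEcard : E.card = 59 := by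
    rw [hE, Finset.card_erase_of_mem hb, card_nB hG]
  have hle : ∀ x ∈ E, i x ≤ 2 := by
    intro x hx
    have hx' := Finset.mem_erase.mp hx
    exact h b hb x hx'.2 hx'.1
  have h15 : (E.filter (fun x => i x = 0)).card = 15 :=
    card_zero_of_sums E i hle hEcard (sum_inter hG hb) (sum_inter_sq hG hb)
  -- the neighbours of `b` among the block vertices all have `i = 0`
  have hN : (E.filter (fun x => i x = 0)).filter (fun x => G.Adj b x)
      = (nB G v0).filter (fun x => G.Adj b x) := by
    ext x
    simp only [Finset.mem_filter, hE, Finset.mem_erase, hi]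
    constructor
    · rintro ⟨⟨⟨-, hx⟩, -⟩, hadj⟩
      exact ⟨hx, hadj⟩
    · rintro ⟨hx, hadj⟩
      refine ⟨⟨⟨fun hxb => G.irrefl (hxb ▸ hadj), hx⟩, ?_⟩, hadj⟩
      rw [Finset.card_eq_zero, ← Finset.disjoint_iff_inter_eq_empty]
      exact disjoint_of_adj hG hadj
  have h3 : ((E.filter (fun x => i x = 0)).filter (fun x => ¬ G.Adj b x)).card = 3 := by
    have := Finset.card_filter_add_card_filter_not (s := E.filter (fun x => i x = 0))
      (fun x => G.Adj b x)
    rw [hN, card_adj_nB hG hb, h15] at this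
    omega
  have hcls : cls G v0 b = insert b ((E.filter (fun x => i x = 0)).filter (fun x => ¬ G.Adj b x)) := by
    ext x
    simp only [mem_cls, Finset.mem_insert, Finset.mem_filter, hE, Finset.mem_erase, hi,
      Finset.card_eq_zero, ← Finset.disjoint_iff_inter_eq_empty]
    constructor
    · rintro ⟨hx, rfl | ⟨hna, hd⟩⟩
      · exact Or.inl rfl
      · by_cases hxb : x = b
        · exact Or.inl hxb
        · exact Or.inr ⟨⟨⟨hxb, hx⟩, hd⟩, hna⟩
    · rintro (rfl | ⟨⟨⟨-, hx⟩, hd⟩, hna⟩)
      · exact ⟨hb, Or.inl rfl⟩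
      · exact ⟨hx, Or.inr ⟨hna, hd⟩⟩
  rw [hcls, Finset.card_insert_of_notMem, h3]
  intro hmem
  have := (Finset.mem_filter.mp (Finset.mem_filter.mp hmem).1).1
  rw [hE] at this
  exact (Finset.mem_erase.mp this).1 rfl

end

end Cfsg.Agent.Lib.H16.S77
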