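import Mathlib

/-!
# S4561 piece PRIMEIDX (helper16): a nontrivial finite solvable group has a normal subgroup of prime index.
Mathlib only.
-/

set_option autoImplicit false

open scoped commutatorElement

namespace Cfsg.Agent.Lib.H16.GAG

/-- a normal maximal subgroup of a finite group has prime index -/
theorem index_prime_of_normal_isCoatom' {G : Type*} [Group G] [Finite G] {M : Subgroup G}
    [hMn : M.Normal] (hM : IsCoatom M) : M.index.Prime := by
  have h1 : M.index ≠ 1 := fun h => hM.1 (Subgroup.index_eq_one.1 h)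
  have hp := Nat.minFac_prime h1
  have : Fact (Nat.minFac M.index).Prime := ⟨hp⟩
  have hdvd : Nat.minFac M.index ∣ Nat.card (G ⧸ M) := by
    rw [← Subgroup.index_eq_card]; exact Nat.minFac_dvd _
  obtain ⟨xb, hxb⟩ := exists_prime_orderOf_dvd_card' (Nat.minFac M.index) hdvd
  obtain ⟨x, rfl⟩ := QuotientGroup.mk_surjective xb
  have hxM : x ∉ M := by
    intro hx
    have : ((x : G) : G ⧸ M) = 1 := (QuotientGroup.eq_one_iff x).2 hx
    rw [this, orderOf_one] at hxb
    exact hp.one_lt.ne hxb
  have htop : M ⊔ Subgroup.zpowers x = ⊤ := by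
    apply hM.2
    refine lt_of_le_of_ne le_sup_left ?_
    intro h
    apply hxM
    rw [h]
    exact Subgroup.mem_sup_right (Subgroup.mem_zpowers x)
  have hz : Subgroup.zpowers (QuotientGroup.mk' M x) = ⊤ := by
    have := congrArg (Subgroup.map (QuotientGroup.mk' M)) htop
    rwa [Subgroup.map_sup, MonoidHom.map_zpowers,
      Subgroup.map_top_of_surjective _ (QuotientGroup.mk'_surjective M),
      (Subgroup.map_eq_bot_iff _).2 (by rw [QuotientGroup.ker_mk']), bot_sup_eq] at this
  have hcard : orderOf (QuotientGroup.mk' M x) = Nat.card (G ⧸ M) :=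
    orderOf_eq_card_of_forall_mem_zpowers (fun y => by rw [hz]; trivial)
  rw [Subgroup.index_eq_card, ← hcard]
  exact hxb ▸ hp

/-- PRIMEIDX.  A nontrivial finite solvable group has a normal subgroup of prime index. -/
theorem exists_normal_prime_index {G : Type*} [Group G] [Finite G] [Group.IsSolvable G] [Nontrivial G] :
    ∃ (M : Subgroup G) (p : ℕ), M.Normal ∧ p.Prime ∧ M.index = p := by
  have hlt := Group.IsSolvable.commutator_lt_top_of_nontrivial G
  rcases eq_top_or_exists_le_coatom (commutator G) with h | ⟨M, hM, hle⟩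
  · exact absurd h hlt.ne
  · have hMn : M.Normal := by
      constructor
      intro m hm g
      have h1 : ⁅g, m⁆ ∈ M := hle (Subgroup.commutator_mem_commutator (Subgroup.mem_top g)
        (Subgroup.mem_top m))
      have h2 : g * m * g⁻¹ = ⁅g, m⁆ * m := by rw [commutatorElement_def]; group
      rw [h2]
      exact M.mul_mem h1 hm
    exact ⟨M, M.index, hMn, index_prime_of_normal_isCoatom' hM, rfl⟩

end Cfsg.Agent.Lib.H16.GAG
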