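import Mathlib
import Cfsg.Prelude.Def_OddOrderLocal
import Cfsg.Agent.Lib.H7.BG7f
import Cfsg.Agent.Lib.H10.SylowIn

/-! # Bender–Glauberman local analysis: basic facts on minimal simple groups of odd order and
relative Sylow subgroups (helper16) -/

set_option autoImplicit false
set_option linter.style.haveILetI false
set_option linter.unusedSectionVars false
set_option linter.unusedVariables false
set_option linter.deprecated false
open Cfsg

namespace Cfsg.Agent.Lib.H16.BG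

open Cfsg.Agent.Lib.H19 (IsPiCard)
open Cfsg.Agent.Lib.H7.BG7

universe u
variable {G : Type u} [Group G]

/-! ### generalities -/

theorem ne_bot_of_le_ne_bot {U V : Subgroup G} (hU : U ≠ ⊥) (hUV : U ≤ V) : V ≠ ⊥ := by
  intro hV
  apply hU
  rw [hV] at hUV
  exact le_bot_iff.1 hUV

theorem inf_centralizer_le_centralizer (X Y : Subgroup G) :
    X ⊓ Subgroup.centralizer (Y : Set G) ≤ Subgroup.centralizer (Y : Set G) := inf_le_right

/-- `X ≤ C_G(Y)` iff `Y ≤ C_G(X)`. -/
theorem le_centralizer_comm {X Y : Subgroup G} (h : X ≤ Subgroup.centralizer (Y : Set G)) :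
    Y ≤ Subgroup.centralizer (X : Set G) := Subgroup.le_centralizer_iff.1 h

theorem commutator_eq_bot_of_le_centralizer {X Y : Subgroup G}
    (h : X ≤ Subgroup.centralizer (Y : Set G)) : ⁅X, Y⁆ = ⊥ :=
  Subgroup.commutator_eq_bot_iff_le_centralizer.2 h

theorem le_centralizer_of_commutator_eq_bot {X Y : Subgroup G} (h : ⁅X, Y⁆ = ⊥) :
    X ≤ Subgroup.centralizer (Y : Set G) :=
  Subgroup.commutator_eq_bot_iff_le_centralizer.1 h

/-- two subgroups normalizing each other and meeting trivially commute. -/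
theorem le_centralizer_of_inf_eq_bot {X Y : Subgroup G}
    (hXY : X ≤ Subgroup.normalizer (Y : Set G)) (hYX : Y ≤ Subgroup.normalizer (X : Set G))
    (h : X ⊓ Y = ⊥) : X ≤ Subgroup.centralizer (Y : Set G) := by
  apply le_centralizer_of_commutator_eq_bot
  rw [eq_bot_iff, ← h]
  exact le_inf (Subgroup.le_normalizer_iff_commutator_le_left.1 hYX)
    (Subgroup.le_normalizer_iff_commutator_le_right.1 hXY)

/-! ### minimal simple groups of odd order -/

section MinSimple

variable [Finite G]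

theorem odd_card_subgroup (hG : IsMinSimpleOddOrder G) (H : Subgroup G) : Odd (Nat.card H) :=
  hG.1.of_dvd_nat (Subgroup.card_subgroup_dvd_card H)

theorem prime_ne_two (hG : IsMinSimpleOddOrder G) {p : ℕ} (hp : p ∣ Nat.card G) : p ≠ 2 := by
  rintro rfl
  have := hG.1
  rw [Nat.odd_iff] at this
  omega

theorem prime_ne_two_of_dvd_card (hG : IsMinSimpleOddOrder G) {p : ℕ} {H : Subgroup G}
    (hp : p ∣ Nat.card H) : p ≠ 2 :=
  prime_ne_two hG (hp.trans (Subgroup.card_subgroup_dvd_card H))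

theorem exists_coatom_ge {H : Subgroup G} (hH : H ≠ ⊤) : ∃ M : Subgroup G, IsCoatom M ∧ H ≤ M := by
  rcases eq_top_or_exists_le_coatom H with h | h
  · exact absurd h hH
  · exact h

theorem normalizer_eq_of_coatom (hG : IsMinSimpleOddOrder G) {M X : Subgroup G} (hM : IsCoatom M)
    (hXM : X ≤ M) (hX : X ≠ ⊥) (hMX : M ≤ Subgroup.normalizer (X : Set G)) :
    Subgroup.normalizer (X : Set G) = M := by
  have hXt : X ≠ ⊤ := by
    rintro rfl
    exact hM.1 (top_le_iff.1 hXM)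
  have hN := normalizer_ne_top hG hX hXt
  by_contra hne
  exact hN (hM.2 _ (lt_of_le_of_ne hMX (Ne.symm hne)))

theorem centralizer_le_of_coatom (hG : IsMinSimpleOddOrder G) {M X : Subgroup G} (hM : IsCoatom M)
    (hXM : X ≤ M) (hX : X ≠ ⊥) (hMX : M ≤ Subgroup.normalizer (X : Set G)) :
    Subgroup.centralizer (X : Set G) ≤ M := by
  rw [← normalizer_eq_of_coatom hG hM hXM hX hMX]
  exact Subgroup.centralizer_le_normalizer _

/-- a coatom containing `N_G(X)`-normalizing `M` equals `M`. -/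
theorem eq_of_coatom_of_le (hG : IsMinSimpleOddOrder G) {M H : Subgroup G} (hM : IsCoatom M)
    (hH : H ≠ ⊤) (hMH : M ≤ H) : H = M := by
  by_contra hne
  exact hH (hM.2 _ (lt_of_le_of_ne hMH (Ne.symm hne)))

theorem solvable_of_coatom (hG : IsMinSimpleOddOrder G) {M : Subgroup G} (hM : IsCoatom M) :
    Group.IsSolvable M := solvable_of_ne_top hG hM.1

theorem inUniqueMaximal_iff {X : Subgroup G} :
    InUniqueMaximal X ↔ ∃ M : Subgroup G, IsCoatom M ∧ X ≤ M ∧
      ∀ H : Subgroup G, IsCoatom H → X ≤ H → H = M := by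
  constructor
  · rintro ⟨M, ⟨hM, hXM⟩, huniq⟩
    exact ⟨M, hM, hXM, fun H hH hXH => huniq H ⟨hH, hXH⟩⟩
  · rintro ⟨M, hM, hXM, huniq⟩
    exact ⟨M, ⟨hM, hXM⟩, fun H hH => huniq H hH.1 hH.2⟩

theorem InUniqueMaximal.mono {X Y : Subgroup G} (hX : InUniqueMaximal X) (hXY : X ≤ Y)
    (hY : Y ≠ ⊤) : InUniqueMaximal Y := by
  rw [inUniqueMaximal_iff] at hX ⊢
  obtain ⟨M, hM, hXM, huniq⟩ := hX
  obtain ⟨H, hH, hYH⟩ := exists_coatom_ge hY
  have : H = M := huniq H hH (hXY.trans hYH)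
  subst this
  exact ⟨H, hM, hYH, fun H' hH' hYH' => huniq H' hH' (hXY.trans hYH')⟩

/-- a nontrivial subgroup in a unique maximal subgroup: its normalizer lies in it. -/
theorem normalizer_le_of_unique (hG : IsMinSimpleOddOrder G) {X M : Subgroup G}
    (hX1 : X ≠ ⊥) (hM : IsCoatom M) (hXM : X ≤ M)
    (huniq : ∀ H : Subgroup G, IsCoatom H → X ≤ H → H = M) :
    Subgroup.normalizer (X : Set G) ≤ M := by
  have hXt : X ≠ ⊤ := by
    rintro rfl
    exact hM.1 (top_le_iff.1 hXM)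
  obtain ⟨H, hH, hNH⟩ := exists_coatom_ge (normalizer_ne_top hG hX1 hXt)
  have := huniq H hH (Subgroup.le_normalizer.trans hNH)
  rwa [this] at hNH

end MinSimple

/-! ### relative Sylow subgroups -/

/-- `P` is a Sylow `p`-subgroup of the subgroup `K`. -/
def SylIn (p : ℕ) (P K : Subgroup G) : Prop :=
  P ≤ K ∧ IsPGroup p P ∧ ¬ p ∣ P.relIndex K

namespace SylIn

variable {p : ℕ} [hp : Fact p.Prime] [Finite G] {P Q K : Subgroup G}

theorem le (h : SylIn p P K) : P ≤ K := h.1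

theorem isPGroup (h : SylIn p P K) : IsPGroup p P := h.2.1

theorem of_sylow (S : Sylow p K) : SylIn p ((S : Subgroup K).map K.subtype) K := by
  refine ⟨Subgroup.map_subtype_le _, S.2.map _, ?_⟩
  have h1 : ((S : Subgroup K).map K.subtype).relIndex K = (S : Subgroup K).index := by
    rw [Subgroup.relIndex]
    congr 1
    ext x
    rw [Subgroup.mem_subgroupOf]
    constructor
    · rintro ⟨y, hy, hyx⟩
      have : y = x := Subtype.ext hyx
      rwa [← this]
    · intro hx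
      exact ⟨x, hx, rfl⟩
  rw [h1]
  exact S.not_dvd_index

theorem exists_ge (hQ : IsPGroup p Q) (hQK : Q ≤ K) : ∃ P, SylIn p P K ∧ Q ≤ P := by
  obtain ⟨R, hQR, hRK, hR, hRi⟩ := Cfsg.Agent.Lib.H10.exists_sylowIn hQ hQK
  exact ⟨R, ⟨hRK, hR, hRi⟩, hQR⟩

theorem exists_sylIn (p : ℕ) [Fact p.Prime] (K : Subgroup G) : ∃ P, SylIn p P K := by
  obtain ⟨P, hP, -⟩ := exists_ge (p := p) (Q := ⊥) (K := K) IsPGroup.of_bot bot_le
  exact ⟨P, hP⟩

theorem eq_of_le (h : SylIn p P K) (hPQ : P ≤ Q) (hQK : Q ≤ K) (hQ : IsPGroup p Q) : P = Q :=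
  Cfsg.Agent.Lib.H10.eq_of_le_of_not_dvd_relIndex hPQ hQK hQ h.2.2

theorem exists_conj_le (h : SylIn p P K) (hQ : IsPGroup p Q) (hQK : Q ≤ K) :
    ∃ m ∈ K, Q.map (MulAut.conj m).toMonoidHom ≤ P :=
  Cfsg.Agent.Lib.H10.exists_mem_map_conj_le_of_sylowIn h.2.1 h.1 h.2.2 hQ hQK

theorem card_mul_relIndex (h : P ≤ K) : Nat.card P * P.relIndex K = Nat.card K := by
  have := Subgroup.relIndex_mul_relIndex ⊥ P K bot_le h
  rwa [Subgroup.relIndex_bot_left, Subgroup.relIndex_bot_left] at this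

theorem card_eq (h : SylIn p P K) : Nat.card P = p ^ (Nat.card K).factorization p := by
  obtain ⟨k, hk⟩ := IsPGroup.iff_card.1 h.2.1
  have h1 := card_mul_relIndex h.1
  have hK0 : Nat.card K ≠ 0 := Nat.card_pos.ne'
  have hr0 : P.relIndex K ≠ 0 := by
    intro h0; rw [h0, mul_zero] at h1; exact hK0 h1.symm
  have h2 : (Nat.card K).factorization p = k := by
    rw [← h1, hk, Nat.factorization_mul (pow_ne_zero _ hp.out.ne_zero) hr0]
    simp [hp.out.factorization_pow, Nat.factorization_eq_zero_of_not_dvd h.2.2]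
  rw [h2, hk]

theorem card_le (h : SylIn p P K) (hQ : IsPGroup p Q) (hQK : Q ≤ K) : Nat.card Q ≤ Nat.card P := by
  obtain ⟨m, -, hm⟩ := h.exists_conj_le hQ hQK
  rw [← Cfsg.Agent.Lib.H10.card_map_conj m Q]
  exact Subgroup.card_le_of_le hm

/-- a `p`-subgroup of `K` of the order of a Sylow `p`-subgroup is one. -/
theorem of_card_ge (h : SylIn p P K) (hQ : IsPGroup p Q) (hQK : Q ≤ K)
    (hc : Nat.card P ≤ Nat.card Q) : SylIn p Q K := by
  obtain ⟨R, hR, hQR⟩ := exists_ge hQ hQK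
  have h1 : Nat.card R = Nat.card P := by rw [hR.card_eq, h.card_eq]
  have : Q = R := Subgroup.eq_of_le_of_card_ge hQR (by rw [h1]; exact hc)
  rw [this]; exact hR

theorem mono (h : SylIn p P K) {K' : Subgroup G} (hPK' : P ≤ K') (hK'K : K' ≤ K) :
    SylIn p P K' := by
  refine ⟨hPK', h.2.1, fun hd => h.2.2 ?_⟩
  rw [← Subgroup.relIndex_mul_relIndex P K' K hPK' hK'K]
  exact Dvd.dvd.mul_right hd _

theorem top_not_dvd_index (h : SylIn p P ⊤) : ¬ p ∣ P.index := by
  have := h.2.2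
  rwa [Subgroup.relIndex_top_right] at this

theorem of_not_dvd_index (hP : IsPGroup p P) (h : ¬ p ∣ P.index) : SylIn p P ⊤ :=
  ⟨le_top, hP, by rwa [Subgroup.relIndex_top_right]⟩

theorem exists_sylow_top (h : SylIn p P ⊤) : ∃ S : Sylow p G, (S : Subgroup G) = P :=
  ⟨h.2.1.toSylow h.top_not_dvd_index, h.2.1.toSylow_coe h.top_not_dvd_index⟩

theorem of_sylow_top (S : Sylow p G) : SylIn p (S : Subgroup G) ⊤ :=
  of_not_dvd_index S.2 S.not_dvd_index

theorem exists_sylow (h : SylIn p P K) :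
    ∃ S : Sylow p K, (S : Subgroup K).map K.subtype = P := by
  have hP' : IsPGroup p (P.subgroupOf K) := h.2.1.comap_subtype
  refine ⟨hP'.toSylow h.2.2, ?_⟩
  rw [hP'.toSylow_coe h.2.2, Subgroup.map_subgroupOf_eq_of_le h.1]

theorem ne_bot (h : SylIn p P K) (hd : p ∣ Nat.card K) : P ≠ ⊥ := by
  rintro rfl
  have h1 := h.card_eq
  rw [Subgroup.card_bot] at h1
  have h2 : (Nat.card K).factorization p = 0 := by
    by_contra h0
    have : 1 < p ^ (Nat.card K).factorization p := Nat.one_lt_pow h0 hp.out.one_lt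
    omega
  rcases (Nat.factorization_eq_zero_iff _ _).1 h2 with h3 | h3 | h3
  · exact h3 hp.out
  · exact h3 hd
  · exact Nat.card_pos.ne' h3

/-- if `N_{K'}(P) ≤ K` then a Sylow `p`-subgroup `P` of `K` is one of `K' ≥ K`. -/
theorem of_normalizer_le (h : SylIn p P K) {K' : Subgroup G} (hKK' : K ≤ K')
    (hN : K' ⊓ Subgroup.normalizer (P : Set G) ≤ K) : SylIn p P K' := by
  obtain ⟨R, hR, hPR⟩ := exists_ge h.2.1 (h.1.trans hKK')
  by_cases hne : P = R
  · rw [hne]; exact hR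
  · exfalso
    have hlt : P < R := lt_of_le_of_ne hPR hne
    have h1 := Cfsg.Agent.Lib.H10.lt_inf_normalizer_of_lt hR.2.1 hlt
    have h2 : R ⊓ Subgroup.normalizer (P : Set G) ≤ K :=
      (inf_le_inf_right _ hR.1).trans hN
    have h3 := h.eq_of_le h1.le h2 (hR.2.1.to_le inf_le_left)
    exact h1.ne h3

theorem map_conj (h : SylIn p P K) (g : G) :
    SylIn p (P.map (MulAut.conj g).toMonoidHom) (K.map (MulAut.conj g).toMonoidHom) := by
  refine ⟨Subgroup.map_mono h.1, h.2.1.map _, ?_⟩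
  rw [Cfsg.Agent.Lib.H10.relIndex_map_conj]
  exact h.2.2

end SylIn

end Cfsg.Agent.Lib.H16.BG
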