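import Mathlib
import Cfsg.Agent.Lib.H16.BGa
import Cfsg.Agent.Lib.H1.NilpotentBasic
import Cfsg.Agent.Lib.H7.DihedralLemma2
import Cfsg.Agent.Lib.H7.CoprimeGen

/-! # Bender–Glauberman local analysis: relative cores and Fitting subgroups (helper16) -/

set_option autoImplicit false
set_option linter.style.haveILetI false
set_option linter.unusedSectionVars false
set_option linter.unusedVariables false
set_option linter.deprecated false
open Cfsg

namespace Cfsg.Agent.Lib.H16.BG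

open Cfsg.Agent.Lib.H19 (IsPiCard)
open Cfsg.Agent.Lib.H7.BG7

universe u
variable {G : Type u} [Group G]

/-! ### `IsPiCard` -/

theorem isPiCard_one (π : Set ℕ) : IsPiCard π 1 := by
  intro p hp h
  exact absurd (Nat.dvd_one.1 h) hp.ne_one

theorem isPiCard_mono {π σ : Set ℕ} (h : π ⊆ σ) {n : ℕ} (hn : IsPiCard π n) : IsPiCard σ n :=
  fun p hp hpn => h (hn p hp hpn)

theorem isPiCard_inter {π σ : Set ℕ} {n : ℕ} (h1 : IsPiCard π n) (h2 : IsPiCard σ n) :
    IsPiCard (π ∩ σ) n := fun p hp hpn => ⟨h1 p hp hpn, h2 p hp hpn⟩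

theorem eq_one_of_isPiCard_empty {n : ℕ} (h : IsPiCard (∅ : Set ℕ) n) : n = 1 := by
  by_contra hne
  obtain ⟨p, hp, hpn⟩ := Nat.exists_prime_and_dvd hne
  exact h p hp hpn

theorem eq_bot_of_isPiCard_of_disjoint [Finite G] {π σ : Set ℕ} (hd : Disjoint π σ)
    {Y : Subgroup G} (h1 : IsPiCard π (Nat.card Y)) (h2 : IsPiCard σ (Nat.card Y)) : Y = ⊥ := by
  rw [← Subgroup.card_eq_one]
  apply eq_one_of_isPiCard_empty
  intro p hp hpn
  exact Set.disjoint_left.1 hd (h1 p hp hpn) (h2 p hp hpn)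

theorem isPiCard_primesNotDvd_iff {m n : ℕ} (hn : n ≠ 0) :
    IsPiCard (primesNotDvd m) n ↔ m.Coprime n := by
  constructor
  · exact coprime_of_isPiCard m
  · intro h p hp hpn
    refine ⟨hp, fun hpm => ?_⟩
    have := Nat.eq_one_of_dvd_coprimes h hpm hpn
    exact hp.ne_one this

theorem isPiCard_card_of_isPGroup [Finite G] {q : ℕ} [Fact q.Prime] {π : Set ℕ} (hq : q ∈ π)
    {Q : Subgroup G} (hQ : IsPGroup q Q) : IsPiCard π (Nat.card Q) :=
  isPiCard_of_isPGroup (Fact.out : q.Prime) hq hQ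

/-- coprimality of a `π`-number and a `σ`-number for disjoint sets. -/
theorem coprime_of_isPiCard_of_disjoint {π σ : Set ℕ} (hd : Disjoint π σ) {m n : ℕ}
    (hm : IsPiCard π m) (hn : IsPiCard σ n) : m.Coprime n := by
  apply Nat.coprime_of_dvd
  intro k hk hkm hkn
  exact Set.disjoint_left.1 hd (hm k hk hkm) (hn k hk hkn)

/-! ### relative cores -/

theorem normalizer_le_normalizer_piCoreOf (π : Set ℕ) (X : Subgroup G) :
    Subgroup.normalizer (X : Set G) ≤ Subgroup.normalizer ((piCoreOf π X : Subgroup G) : Set G) :=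
  Cfsg.Agent.Lib.H7.normalizer_le_normalizer_charMap
    (fun Y _ => piCore π Y) (fun Y Y' _ _ e => Cfsg.Agent.Lib.H19.piCore_map_equiv _ e) X

theorem piCoreOf_mono_set [Finite G] {π σ : Set ℕ} (h : π ⊆ σ) (X : Subgroup G) :
    piCoreOf π X ≤ piCoreOf σ X :=
  le_piCoreOf (piCoreOf_le _ _) (le_normalizer_piCoreOf _ _)
    (isPiCard_mono h (piCoreOf_isPiCard _ _))

/-- `O_π` of a normal subgroup `Y` of `X` lies in `O_π(X)`. -/
theorem piCoreOf_le_piCoreOf_of_normal [Finite G] (π : Set ℕ) {X Y : Subgroup G} (hYX : Y ≤ X)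
    (hXY : X ≤ Subgroup.normalizer (Y : Set G)) : piCoreOf π Y ≤ piCoreOf π X :=
  le_piCoreOf ((piCoreOf_le _ _).trans hYX)
    (hXY.trans (normalizer_le_normalizer_piCoreOf π Y)) (piCoreOf_isPiCard _ _)

theorem piCoreOf_inf_piCoreOf_eq_bot [Finite G] {π σ : Set ℕ} (hd : Disjoint π σ)
    (X Y : Subgroup G) : piCoreOf π X ⊓ piCoreOf σ Y = ⊥ :=
  eq_bot_of_isPiCard_of_disjoint hd (isPiCard_of_le inf_le_left (piCoreOf_isPiCard _ _))
    (isPiCard_of_le inf_le_right (piCoreOf_isPiCard _ _))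

/-- cores of `X` for disjoint sets of primes commute. -/
theorem piCoreOf_le_centralizer_piCoreOf [Finite G] {π σ : Set ℕ} (hd : Disjoint π σ)
    (X : Subgroup G) : piCoreOf π X ≤ Subgroup.centralizer ((piCoreOf σ X : Subgroup G) : Set G) :=
  le_centralizer_of_inf_eq_bot ((piCoreOf_le _ _).trans (le_normalizer_piCoreOf _ _))
    ((piCoreOf_le _ _).trans (le_normalizer_piCoreOf _ _)) (piCoreOf_inf_piCoreOf_eq_bot hd X X)

theorem isPGroup_piCoreOf_singleton [Finite G] (q : ℕ) [hq : Fact q.Prime] (X : Subgroup G) :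
    IsPGroup q (piCoreOf {q} X) :=
  isPGroup_of_isPiCard_singleton hq.out (piCoreOf_isPiCard _ _)

/-- `O_{p'}(X)` as a relative core. -/
theorem piCoreOf_primesNotDvd_eq [Finite G] (p : ℕ) (X : Subgroup G) :
    piCoreOf (primesNotDvd p) X = (pPrimeCore p X).map X.subtype := by
  unfold piCoreOf
  congr 1
  unfold piCore pPrimeCore
  congr 1
  ext N
  simp only [Set.mem_setOf_eq]
  constructor
  · rintro ⟨hn, h⟩
    exact ⟨hn, (coprime_of_isPiCard p h).symm⟩
  · rintro ⟨hn, h⟩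
    exact ⟨hn, (isPiCard_primesNotDvd_iff Nat.card_pos.ne').2 h.symm⟩

theorem card_piCoreOf_primesNotDvd_coprime [Finite G] (p : ℕ) (X : Subgroup G) :
    (Nat.card (piCoreOf (primesNotDvd p) X)).Coprime p :=
  (coprime_of_isPiCard p (piCoreOf_isPiCard _ _)).symm

/-- a `p'`-subgroup of `X` normalized by `X` lies in `O_{p'}(X)`. -/
theorem le_piCoreOf_primesNotDvd [Finite G] {p : ℕ} {X N : Subgroup G} (hNX : N ≤ X)
    (hXN : X ≤ Subgroup.normalizer (N : Set G)) (hN : (Nat.card N).Coprime p) :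
    N ≤ piCoreOf (primesNotDvd p) X :=
  le_piCoreOf hNX hXN ((isPiCard_primesNotDvd_iff Nat.card_pos.ne').2 hN.symm)

/-! ### the Fitting subgroup of a subgroup -/

theorem fittingOf_le (M : Subgroup G) : fittingOf M ≤ M := Subgroup.map_subtype_le _

theorem normalizer_le_normalizer_fittingOf [Finite G] (M : Subgroup G) :
    Subgroup.normalizer (M : Set G) ≤ Subgroup.normalizer ((fittingOf M : Subgroup G) : Set G) :=
  Cfsg.Agent.Lib.H7.normalizer_le_normalizer_fittingG M

theorem le_normalizer_fittingOf [Finite G] (M : Subgroup G) :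
    M ≤ Subgroup.normalizer ((fittingOf M : Subgroup G) : Set G) :=
  Subgroup.le_normalizer.trans (normalizer_le_normalizer_fittingOf M)

theorem fittingOf_isNilpotent [Finite G] (M : Subgroup G) : Group.IsNilpotent (fittingOf M) := by
  have h : Group.IsNilpotent (fittingSubgroup ↥M) := Cfsg.Agent.Lib.H7.fittingSubgroup_isNilpotent
  exact (Group.isNilpotent_congr ((fittingSubgroup ↥M).equivMapOfInjective M.subtype
    (Subgroup.subtype_injective M))).1 h

theorem inf_centralizer_fittingOf_le [Finite G] {M : Subgroup G} (hs : Group.IsSolvable M) :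
    M ⊓ Subgroup.centralizer ((fittingOf M : Subgroup G) : Set G) ≤ fittingOf M :=
  Cfsg.Agent.Lib.H7.inf_centralizer_fittingG_le M hs

/-- a nilpotent subgroup of `M` normalized by `M` lies in `F(M)`. -/
theorem le_fittingOf {N M : Subgroup G} (hNM : N ≤ M)
    (hMN : M ≤ Subgroup.normalizer (N : Set G)) (hN : Group.IsNilpotent N) : N ≤ fittingOf M := by
  have hn : (N.subgroupOf M).Normal := (Subgroup.normal_subgroupOf_iff_le_normalizer hNM).2 hMN
  have hnil : Group.IsNilpotent (N.subgroupOf M) :=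
    (Group.isNilpotent_congr (Subgroup.subgroupOfEquivOfLe hNM)).2 hN
  have h1 : N.subgroupOf M ≤ fittingSubgroup ↥M := Cfsg.Agent.Lib.H7.le_fittingSubgroup hn hnil
  have h2 := Subgroup.map_mono (f := M.subtype) h1
  rwa [Subgroup.map_subgroupOf_eq_of_le hNM] at h2

theorem fittingOf_ne_bot [Finite G] {M : Subgroup G} (hs : Group.IsSolvable M) (hM : M ≠ ⊥) :
    fittingOf M ≠ ⊥ := by
  intro h
  have h1 := inf_centralizer_fittingOf_le hs
  rw [h] at h1
  have h2 : M ≤ ⊥ := by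
    refine le_trans (le_inf le_rfl ?_) h1
    intro x _
    rw [Subgroup.mem_centralizer_iff]
    intro y hy
    have : y = 1 := by simpa using hy
    rw [this]; simp
  exact hM (le_bot_iff.1 h2)

/-- a `q`-subgroup of `M` normalized by `M` lies in `F(M)`. -/
theorem le_fittingOf_of_isPGroup [Finite G] {q : ℕ} [Fact q.Prime] {N M : Subgroup G} (hNM : N ≤ M)
    (hMN : M ≤ Subgroup.normalizer (N : Set G)) (hN : IsPGroup q N) : N ≤ fittingOf M :=
  le_fittingOf hNM hMN hN.isNilpotent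

theorem piCoreOf_singleton_le_fittingOf [Finite G] (q : ℕ) [Fact q.Prime] (M : Subgroup G) :
    piCoreOf {q} M ≤ fittingOf M :=
  le_fittingOf_of_isPGroup (piCoreOf_le _ _) (le_normalizer_piCoreOf _ _)
    (isPGroup_piCoreOf_singleton q M)

/-! ### nilpotent subgroups -/

/-- in a nilpotent subgroup `F`, every `π`-subgroup lies in `O_π(F)`. -/
theorem le_piCoreOf_of_nilpotent [Finite G] {F Y : Subgroup G} (hF : Group.IsNilpotent F)
    (hYF : Y ≤ F) {π : Set ℕ} (hY : IsPiCard π (Nat.card Y)) : Y ≤ piCoreOf π F := by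
  have hsn : (Y.subgroupOf F).IsSubnormal :=
    (Cfsg.Agent.Lib.H1.isNilpotent_iff_forall_isSubnormal.1 hF) _
  have hc : Nat.card (Y.subgroupOf F) = Nat.card Y :=
    Nat.card_congr (Subgroup.subgroupOfEquivOfLe hYF).toEquiv
  have h1 : Y.subgroupOf F ≤ piCore π F :=
    Cfsg.Agent.Lib.H19.subnormal_le_piCore hsn (by rw [hc]; exact hY)
  have h2 := Subgroup.map_mono (f := F.subtype) h1
  rwa [Subgroup.map_subgroupOf_eq_of_le hYF] at h2

/-- a subgroup of `F` containing a Sylow `q`-subgroup of `F` for every prime `q` is `F`. -/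
theorem eq_of_forall_sylIn_le [Finite G] {F U : Subgroup G} (hUF : U ≤ F)
    (h : ∀ q : ℕ, ∀ _ : Fact q.Prime, ∃ Q : Subgroup G, SylIn q Q F ∧ Q ≤ U) : U = F := by
  apply Subgroup.eq_of_le_of_card_ge hUF
  apply Nat.le_of_dvd Nat.card_pos
  apply Cfsg.Agent.Lib.H7.le_of_forall_sylow_le
  intro q hq
  haveI : Fact q.Prime := ⟨hq⟩
  obtain ⟨Q, hQ, hQU⟩ := h q ⟨hq⟩
  exact ⟨Q, hQU, hQ.card_eq⟩

/-- a nilpotent subgroup is generated by its `π`-core and its `π'`-core. -/
theorem piCoreOf_sup_compl [Finite G] {F : Subgroup G} (hF : Group.IsNilpotent F) (π : Set ℕ) :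
    piCoreOf π F ⊔ piCoreOf πᶜ F = F := by
  apply eq_of_forall_sylIn_le (sup_le (piCoreOf_le _ _) (piCoreOf_le _ _))
  intro q hq
  obtain ⟨Q, hQ⟩ := SylIn.exists_sylIn q F
  refine ⟨Q, hQ, ?_⟩
  by_cases hqπ : q ∈ π
  · exact (le_piCoreOf_of_nilpotent hF hQ.le (isPiCard_card_of_isPGroup hqπ hQ.isPGroup)).trans
      le_sup_left
  · exact (le_piCoreOf_of_nilpotent hF hQ.le
      (isPiCard_card_of_isPGroup (π := πᶜ) hqπ hQ.isPGroup)).trans le_sup_right

/-- a nilpotent subgroup is generated by its Sylow subgroups `O_q(F)`. -/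
theorem le_iSup_piCoreOf_singleton [Finite G] {F : Subgroup G} (hF : Group.IsNilpotent F) :
    F ≤ ⨆ q : Nat.Primes, piCoreOf {(q : ℕ)} F := by
  have hle : (⨆ q : Nat.Primes, piCoreOf {(q : ℕ)} F) ≤ F := iSup_le fun q => piCoreOf_le _ _
  have := eq_of_forall_sylIn_le hle (by
    intro q hq
    obtain ⟨Q, hQ⟩ := SylIn.exists_sylIn q F
    refine ⟨Q, hQ, ?_⟩
    exact (le_piCoreOf_of_nilpotent hF hQ.le
      (isPiCard_card_of_isPGroup (Set.mem_singleton q) hQ.isPGroup)).trans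
      (le_iSup (fun q : Nat.Primes => piCoreOf {(q : ℕ)} F) ⟨q, hq.out⟩))
  rw [this]

/-- to centralize a nilpotent subgroup it suffices to centralize each `O_q(F)`. -/
theorem le_centralizer_of_forall_piCoreOf [Finite G] {F W : Subgroup G}
    (hF : Group.IsNilpotent F)
    (h : ∀ q : ℕ, q.Prime → piCoreOf {q} F ≤ Subgroup.centralizer (W : Set G)) :
    F ≤ Subgroup.centralizer (W : Set G) :=
  (le_iSup_piCoreOf_singleton hF).trans (iSup_le fun q => h q q.2)

theorem piCoreOf_singleton_ne_bot [Finite G] {F : Subgroup G} (hF : Group.IsNilpotent F)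
    {q : ℕ} [Fact q.Prime] (hq : q ∣ Nat.card F) : piCoreOf {q} F ≠ ⊥ := by
  obtain ⟨Q, hQ⟩ := SylIn.exists_sylIn q F
  exact ne_bot_of_le_ne_bot (hQ.ne_bot hq) (le_piCoreOf_of_nilpotent hF hQ.le
    (isPiCard_card_of_isPGroup (Set.mem_singleton q) hQ.isPGroup))

/-- the centre of a nontrivial `q`-subgroup, as `Q ⊓ C_G(Q)`, is nontrivial. -/
theorem inf_centralizer_self_ne_bot [Finite G] {q : ℕ} [Fact q.Prime] {Q : Subgroup G}
    (hQ : IsPGroup q Q) (hQ1 : Q ≠ ⊥) : Q ⊓ Subgroup.centralizer (Q : Set G) ≠ ⊥ := by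
  have : Nontrivial Q := (Subgroup.nontrivial_iff_ne_bot _).2 hQ1
  have := hQ.center_nontrivial
  obtain ⟨z, hz⟩ := exists_ne (1 : Subgroup.center Q)
  intro hbot
  apply hz
  have hz' : ((z : Q) : G) ∈ Q ⊓ Subgroup.centralizer (Q : Set G) := by
    refine ⟨(z : Q).2, ?_⟩
    refine Subgroup.mem_centralizer_iff.2 ?_
    intro y hy
    have := Subgroup.mem_center_iff.1 z.2 ⟨y, hy⟩
    exact congrArg Subtype.val this
  rw [hbot, Subgroup.mem_bot] at hz'
  apply Subtype.ext
  apply Subtype.ext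
  exact hz'

theorem normalizer_le_normalizer_inf_centralizer [Finite G] (Q : Subgroup G) :
    Subgroup.normalizer (Q : Set G) ≤
      Subgroup.normalizer ((Q ⊓ Subgroup.centralizer (Q : Set G) : Subgroup G) : Set G) := by
  exact Cfsg.Agent.Lib.H7.le_normalizer_inf le_rfl (normalizer_le_normalizer_centralizer Q)

end Cfsg.Agent.Lib.H16.BG
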