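import Mathlib
import Cfsg.Prelude.Def_OddOrderLocal
import Cfsg.Agent.S1466
import Cfsg.Agent.S1467

/-!
# The Puig series of a subgroup, inside the ambient group

`stepIn Q X`, `seqIn Q n`, `lowerIn Q`, `upperIn Q`: the Puig step/series/`L_*`/`L` of the subgroup
`Q`, as subgroups of `G`; comparison with the type-level `Cfsg.puigSeq ↥Q`; invariance under
automorphisms; the stable-pair lemma: `upperIn S ≤ R ≤ S → upperIn R = upperIn S`.
-/

set_option autoImplicit false

namespace Cfsg.Agent.Lib.H16.Puig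

variable {G : Type*} [Group G]

/-- the subgroup generated by the abelian subgroups of `Q` normalized by `X`. -/
def stepIn (Q X : Subgroup G) : Subgroup G :=
  sSup {A : Subgroup G | A ≤ Q ∧ IsMulCommutative A ∧ X ≤ Subgroup.normalizer (A : Set G)}

theorem stepIn_le (Q X : Subgroup G) : stepIn Q X ≤ Q :=
  sSup_le (fun _ hA => hA.1)

theorem le_stepIn {Q X A : Subgroup G} (hAQ : A ≤ Q) (hA : IsMulCommutative A)
    (hX : X ≤ Subgroup.normalizer (A : Set G)) : A ≤ stepIn Q X :=
  le_sSup ⟨hAQ, hA, hX⟩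

theorem stepIn_anti (Q : Subgroup G) {X Y : Subgroup G} (h : X ≤ Y) : stepIn Q Y ≤ stepIn Q X :=
  sSup_le_sSup (fun _ hA => ⟨hA.1, hA.2.1, h.trans hA.2.2⟩)

theorem stepIn_mono_left {Q Q' : Subgroup G} (h : Q ≤ Q') (X : Subgroup G) :
    stepIn Q X ≤ stepIn Q' X :=
  sSup_le_sSup (fun _ hA => ⟨hA.1.trans h, hA.2.1, hA.2.2⟩)

/-- the Puig series of `Q` inside `G` -/
def seqIn (Q : Subgroup G) : ℕ → Subgroup G
  | 0 => ⊥
  | n + 1 => stepIn Q (seqIn Q n)

theorem seqIn_zero (Q : Subgroup G) : seqIn Q 0 = ⊥ := rfl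

theorem seqIn_succ (Q : Subgroup G) (n : ℕ) : seqIn Q (n + 1) = stepIn Q (seqIn Q n) := rfl

theorem seqIn_le (Q : Subgroup G) (n : ℕ) : seqIn Q n ≤ Q := by
  cases n with
  | zero => exact bot_le
  | succ n => exact stepIn_le _ _

/-- `L_*(Q)` inside `G` -/
def lowerIn (Q : Subgroup G) : Subgroup G := ⨆ n : ℕ, seqIn Q (2 * n)

/-- `L(Q)` inside `G` -/
def upperIn (Q : Subgroup G) : Subgroup G := ⨅ n : ℕ, seqIn Q (2 * n + 1)

theorem seqIn_even_le_lowerIn (Q : Subgroup G) (n : ℕ) : seqIn Q (2 * n) ≤ lowerIn Q :=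
  le_iSup (fun n => seqIn Q (2 * n)) n

theorem upperIn_le_seqIn_odd (Q : Subgroup G) (n : ℕ) : upperIn Q ≤ seqIn Q (2 * n + 1) :=
  iInf_le (fun n => seqIn Q (2 * n + 1)) n

theorem upperIn_le (Q : Subgroup G) : upperIn Q ≤ Q :=
  (upperIn_le_seqIn_odd Q 0).trans (seqIn_le Q _)

theorem lowerIn_le (Q : Subgroup G) : lowerIn Q ≤ Q :=
  iSup_le (fun n => seqIn_le Q _)

/-! ### comparison with the type-level series -/

theorem map_puigStep (Q : Subgroup G) (X : Subgroup Q) :
    (Cfsg.puigStep X).map Q.subtype = stepIn Q (X.map Q.subtype) := by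
  apply le_antisymm
  · rw [Subgroup.map_le_iff_le_comap]
    unfold Cfsg.puigStep
    apply sSup_le
    rintro A ⟨hA, hXA⟩
    rw [← Subgroup.map_le_iff_le_comap]
    refine le_stepIn (Subgroup.map_subtype_le A) ?_ ?_
    · haveI := hA
      exact Subgroup.map_isMulCommutative A Q.subtype
    · exact (Subgroup.map_mono hXA).trans (Subgroup.le_normalizer_map Q.subtype)
  · unfold stepIn
    apply sSup_le
    rintro A ⟨hAQ, hA, hXA⟩
    have h1 : A.subgroupOf Q ≤ Cfsg.puigStep X := by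
      unfold Cfsg.puigStep
      apply le_sSup
      refine ⟨?_, ?_⟩
      · haveI := hA
        exact Subgroup.subgroupOf_isMulCommutative Q A
      · intro x hx
        have hxN : (x : G) ∈ Subgroup.normalizer (A : Set G) :=
          hXA (Subgroup.mem_map_of_mem Q.subtype hx)
        rw [Subgroup.mem_normalizer_iff] at hxN ⊢
        intro y
        rw [Subgroup.mem_subgroupOf, Subgroup.mem_subgroupOf]
        exact hxN (y : G)
    have h2 := Subgroup.map_mono (f := Q.subtype) h1
    rwa [Subgroup.map_subgroupOf_eq_of_le hAQ] at h2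

theorem map_puigSeq (Q : Subgroup G) (n : ℕ) :
    (Cfsg.puigSeq ↥Q n).map Q.subtype = seqIn Q n := by
  induction n with
  | zero =>
    change (⊥ : Subgroup Q).map Q.subtype = ⊥
    exact Subgroup.map_bot _
  | succ n ih =>
    change (Cfsg.puigStep (Cfsg.puigSeq ↥Q n)).map Q.subtype = stepIn Q (seqIn Q n)
    rw [map_puigStep, ih]

theorem map_puigLower (Q : Subgroup G) : (Cfsg.puigLower ↥Q).map Q.subtype = lowerIn Q := by
  unfold Cfsg.puigLower lowerIn
  rw [Subgroup.map_iSup]
  exact iSup_congr (fun n => map_puigSeq Q (2 * n))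

theorem map_puigSubgroup (Q : Subgroup G) : (Cfsg.puigSubgroup ↥Q).map Q.subtype = upperIn Q := by
  unfold Cfsg.puigSubgroup upperIn
  rw [Subgroup.map_iInf _ Q.subtype_injective]
  exact iInf_congr (fun n => map_puigSeq Q (2 * n + 1))

section Finite

variable [Finite G]

theorem lowerIn_le_upperIn (Q : Subgroup G) : lowerIn Q ≤ upperIn Q := by
  rw [← map_puigLower, ← map_puigSubgroup]
  exact Subgroup.map_mono (Cfsg.Agent.S1467.result (G := ↥Q)).2.2.2.2.1

theorem stepIn_lowerIn (Q : Subgroup G) : stepIn Q (lowerIn Q) = upperIn Q := by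
  rw [← map_puigLower, ← map_puigStep, (Cfsg.Agent.S1467.result (G := ↥Q)).2.2.2.2.2.1,
    map_puigSubgroup]

theorem stepIn_upperIn (Q : Subgroup G) : stepIn Q (upperIn Q) = lowerIn Q := by
  rw [← map_puigSubgroup, ← map_puigStep, (Cfsg.Agent.S1467.result (G := ↥Q)).2.2.2.2.2.2,
    map_puigLower]

theorem seqIn_even_le_odd (Q : Subgroup G) (n m : ℕ) : seqIn Q (2 * n) ≤ seqIn Q (2 * m + 1) := by
  rw [← map_puigSeq, ← map_puigSeq]
  exact Subgroup.map_mono (Cfsg.Agent.S1467.even_le_odd n m)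

/-- for a finite `p`-group `Q`, terms of positive index contain their centralizers in `Q`. -/
theorem inf_centralizer_seqIn_le {p : ℕ} [Fact p.Prime] (Q : Subgroup G) (hQ : IsPGroup p Q)
    (i : ℕ) (hi : 0 < i) : Q ⊓ Subgroup.centralizer (seqIn Q i : Set G) ≤ seqIn Q i := by
  rcases subsingleton_or_nontrivial ↥Q with hs | hn
  · intro x hx
    have : (⟨x, hx.1⟩ : Q) = 1 := Subsingleton.elim _ _
    have hx1 : x = 1 := congrArg Subtype.val this
    rw [hx1]; exact Subgroup.one_mem _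
  · intro x hx
    have h1 := ((Cfsg.Agent.S1466.result (R := ↥Q) p hQ).1 i hi).2
    have h2 : (⟨x, hx.1⟩ : Q) ∈ Subgroup.centralizer ((Cfsg.puigSeq ↥Q i : Subgroup Q) : Set Q) := by
      rw [Subgroup.mem_centralizer_iff]
      intro y hy
      apply Subtype.ext
      have hyG : (y : G) ∈ seqIn Q i := by
        rw [← map_puigSeq]; exact Subgroup.mem_map_of_mem Q.subtype hy
      exact (Subgroup.mem_centralizer_iff.1 hx.2) (y : G) hyG
    have h3 := h1 h2
    rw [← map_puigSeq]
    exact ⟨_, h3, rfl⟩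

theorem inf_centralizer_upperIn_le {p : ℕ} [Fact p.Prime] (Q : Subgroup G) (hQ : IsPGroup p Q) :
    Q ⊓ Subgroup.centralizer (upperIn Q : Set G) ≤ upperIn Q := by
  rcases subsingleton_or_nontrivial ↥Q with hs | hn
  · intro x hx
    have : (⟨x, hx.1⟩ : Q) = 1 := Subsingleton.elim _ _
    have hx1 : x = 1 := congrArg Subtype.val this
    rw [hx1]; exact Subgroup.one_mem _
  · intro x hx
    have h1 := (Cfsg.Agent.S1466.result (R := ↥Q) p hQ).2.2.1.2
    have h2 : (⟨x, hx.1⟩ : Q) ∈
        Subgroup.centralizer ((Cfsg.puigSubgroup ↥Q : Subgroup Q) : Set Q) := by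
      rw [Subgroup.mem_centralizer_iff]
      intro y hy
      apply Subtype.ext
      have hyG : (y : G) ∈ upperIn Q := by
        rw [← map_puigSubgroup]; exact Subgroup.mem_map_of_mem Q.subtype hy
      exact (Subgroup.mem_centralizer_iff.1 hx.2) (y : G) hyG
    have h3 := h1 h2
    rw [← map_puigSubgroup]
    exact ⟨_, h3, rfl⟩

end Finite

/-! ### invariance under automorphisms -/

theorem map_stepIn_le (φ : G ≃* G) (Q X : Subgroup G) :
    (stepIn Q X).map φ.toMonoidHom ≤ stepIn (Q.map φ.toMonoidHom) (X.map φ.toMonoidHom) := by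
  rw [Subgroup.map_le_iff_le_comap]
  unfold stepIn
  apply sSup_le
  rintro A ⟨hAQ, hA, hXA⟩
  rw [← Subgroup.map_le_iff_le_comap]
  refine le_sSup ⟨Subgroup.map_mono hAQ, ?_, ?_⟩
  · haveI := hA
    exact Subgroup.map_isMulCommutative A φ.toMonoidHom
  · exact (Subgroup.map_mono hXA).trans (Subgroup.le_normalizer_map φ.toMonoidHom)

theorem map_symm_map (φ : G ≃* G) (K : Subgroup G) :
    (K.map φ.toMonoidHom).map φ.symm.toMonoidHom = K := by
  rw [Subgroup.map_map]
  convert Subgroup.map_id K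
  ext x
  simp

theorem map_map_symm (φ : G ≃* G) (K : Subgroup G) :
    (K.map φ.symm.toMonoidHom).map φ.toMonoidHom = K := by
  rw [Subgroup.map_map]
  convert Subgroup.map_id K
  ext x
  simp

theorem map_stepIn (φ : G ≃* G) (Q X : Subgroup G) :
    (stepIn Q X).map φ.toMonoidHom = stepIn (Q.map φ.toMonoidHom) (X.map φ.toMonoidHom) := by
  apply le_antisymm (map_stepIn_le φ Q X)
  have h := map_stepIn_le φ.symm (Q.map φ.toMonoidHom) (X.map φ.toMonoidHom)
  rw [map_symm_map, map_symm_map] at h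
  have h2 := Subgroup.map_mono (f := φ.toMonoidHom) h
  rwa [map_map_symm] at h2

theorem map_seqIn (φ : G ≃* G) (Q : Subgroup G) (n : ℕ) :
    (seqIn Q n).map φ.toMonoidHom = seqIn (Q.map φ.toMonoidHom) n := by
  induction n with
  | zero =>
    change (⊥ : Subgroup G).map φ.toMonoidHom = ⊥
    exact Subgroup.map_bot _
  | succ n ih =>
    change (stepIn Q (seqIn Q n)).map φ.toMonoidHom = stepIn _ (seqIn _ n)
    rw [map_stepIn, ih]

theorem map_upperIn (φ : G ≃* G) (Q : Subgroup G) :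
    (upperIn Q).map φ.toMonoidHom = upperIn (Q.map φ.toMonoidHom) := by
  unfold upperIn
  rw [Subgroup.map_iInf _ φ.injective]
  exact iInf_congr (fun n => map_seqIn φ Q (2 * n + 1))

theorem map_lowerIn (φ : G ≃* G) (Q : Subgroup G) :
    (lowerIn Q).map φ.toMonoidHom = lowerIn (Q.map φ.toMonoidHom) := by
  unfold lowerIn
  rw [Subgroup.map_iSup]
  exact iSup_congr (fun n => map_seqIn φ Q (2 * n))

/-- the normalizer of `Q` normalizes every subgroup functorially attached to `Q`. -/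
theorem normalizer_le_of_map_eq (F : Subgroup G → Subgroup G)
    (hF : ∀ (φ : G ≃* G) (Q : Subgroup G), (F Q).map φ.toMonoidHom = F (Q.map φ.toMonoidHom))
    (Q : Subgroup G) :
    Subgroup.normalizer (Q : Set G) ≤ Subgroup.normalizer (F Q : Set G) := by
  intro g hg
  rw [Subgroup.mem_normalizer_iff_map_conj_eq] at hg ⊢
  have h1 := hF (MulAut.conj g) Q
  have h2 : Q.map (MulAut.conj g).toMonoidHom = Q := hg
  rw [h2] at h1
  exact h1

theorem normalizer_le_normalizer_upperIn (Q : Subgroup G) :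
    Subgroup.normalizer (Q : Set G) ≤ Subgroup.normalizer (upperIn Q : Set G) :=
  normalizer_le_of_map_eq upperIn map_upperIn Q

theorem normalizer_le_normalizer_seqIn (Q : Subgroup G) (n : ℕ) :
    Subgroup.normalizer (Q : Set G) ≤ Subgroup.normalizer (seqIn Q n : Set G) :=
  normalizer_le_of_map_eq (fun Q => seqIn Q n) (fun φ Q => map_seqIn φ Q n) Q

theorem seqIn_normal (Q : Subgroup G) [hQ : Q.Normal] (n : ℕ) : (seqIn Q n).Normal := by
  rw [← Subgroup.normalizer_eq_top_iff, eq_top_iff]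
  have := normalizer_le_normalizer_seqIn Q n
  rwa [Subgroup.normalizer_eq_top_iff.2 hQ] at this

theorem upperIn_normal (Q : Subgroup G) [hQ : Q.Normal] : (upperIn Q).Normal := by
  rw [← Subgroup.normalizer_eq_top_iff, eq_top_iff]
  have := normalizer_le_normalizer_upperIn Q
  rwa [Subgroup.normalizer_eq_top_iff.2 hQ] at this

/-! ### comparison of the series of `R ≤ S` -/

/-- comparison lemma -/
theorem seqIn_compare {R S : Subgroup G} (hRS : R ≤ S)
    (hyp : ∀ n : ℕ, seqIn R (2 * n + 1) ≤ seqIn S (2 * n + 1) → ∀ A : Subgroup G, A ≤ S →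
      IsMulCommutative A → seqIn S (2 * n + 1) ≤ Subgroup.normalizer (A : Set G) → A ≤ R) :
    ∀ n : ℕ, seqIn S (2 * n) ≤ seqIn R (2 * n) ∧ seqIn R (2 * n + 1) ≤ seqIn S (2 * n + 1) := by
  intro n
  induction n with
  | zero =>
    refine ⟨le_rfl, ?_⟩
    change stepIn R (seqIn R 0) ≤ stepIn S (seqIn S 0)
    rw [seqIn_zero, seqIn_zero]
    exact stepIn_mono_left hRS _
  | succ n ih =>
    have h1 : seqIn S (2 * (n + 1)) ≤ seqIn R (2 * (n + 1)) := by
      change stepIn S (seqIn S (2 * n + 1)) ≤ stepIn R (seqIn R (2 * n + 1))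
      unfold stepIn
      apply sSup_le
      rintro A ⟨hAS, hA, hN⟩
      exact le_sSup ⟨hyp n ih.2 A hAS hA hN, hA, ih.2.trans hN⟩
    refine ⟨h1, ?_⟩
    change stepIn R (seqIn R (2 * (n + 1))) ≤ stepIn S (seqIn S (2 * (n + 1)))
    exact (stepIn_mono_left hRS _).trans (stepIn_anti S h1)

theorem lower_upper_compare [Finite G] {R S : Subgroup G} (hRS : R ≤ S)
    (hyp : ∀ n : ℕ, seqIn R (2 * n + 1) ≤ seqIn S (2 * n + 1) → ∀ A : Subgroup G, A ≤ S →
      IsMulCommutative A → seqIn S (2 * n + 1) ≤ Subgroup.normalizer (A : Set G) → A ≤ R) :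
    lowerIn S ≤ lowerIn R ∧ upperIn R ≤ upperIn S := by
  have h := seqIn_compare hRS hyp
  refine ⟨?_, ?_⟩
  · exact iSup_le (fun n => (h n).1.trans (seqIn_even_le_lowerIn R n))
  · exact le_iInf (fun n => (upperIn_le_seqIn_odd R n).trans (h n).2)

/-- stable pairs lie between `L_*` and `L` -/
theorem stable_pair (R x y : Subgroup G) (hxy : stepIn R x = y) (hyx : stepIn R y = x) :
    lowerIn R ≤ x ∧ y ≤ upperIn R := by
  have h : ∀ n : ℕ, seqIn R (2 * n) ≤ x ∧ y ≤ seqIn R (2 * n + 1) := by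
    intro n
    induction n with
    | zero =>
      refine ⟨bot_le, ?_⟩
      change y ≤ stepIn R (seqIn R 0)
      rw [← hxy]
      exact stepIn_anti R bot_le
    | succ n ih =>
      have h1 : seqIn R (2 * (n + 1)) ≤ x := by
        change stepIn R (seqIn R (2 * n + 1)) ≤ x
        rw [← hyx]
        exact stepIn_anti R ih.2
      refine ⟨h1, ?_⟩
      change y ≤ stepIn R (seqIn R (2 * (n + 1)))
      rw [← hxy]
      exact stepIn_anti R h1
  exact ⟨iSup_le (fun n => (h n).1), le_iInf (fun n => (h n).2)⟩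

/-- **Invariance of the Puig subgroup**: if `L(S) ≤ R ≤ S` then `L(R) = L(S)`. -/
theorem upperIn_eq_of_le [Finite G] {R S : Subgroup G} (hRS : R ≤ S) (hLR : upperIn S ≤ R) :
    upperIn R = upperIn S ∧ lowerIn R = lowerIn S := by
  have hlow : lowerIn S ≤ R := (lowerIn_le_upperIn S).trans hLR
  have hcmp := lower_upper_compare hRS (by
    intro n _ A hAS hA hN
    have h1 : A ≤ seqIn S (2 * n + 2) := le_stepIn hAS hA hN
    exact h1.trans ((seqIn_even_le_lowerIn S (n + 1)).trans hlow))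
  -- `stepIn R X = stepIn S X` for `lowerIn S ≤ X`
  have hstep : ∀ X : Subgroup G, lowerIn S ≤ X → stepIn R X = stepIn S X := by
    intro X hX
    apply le_antisymm (stepIn_mono_left hRS X)
    unfold stepIn
    apply sSup_le
    rintro A ⟨hAS, hA, hN⟩
    have h1 : A ≤ stepIn S X := le_stepIn hAS hA hN
    have h2 : A ≤ R := h1.trans ((stepIn_anti S hX).trans ((stepIn_lowerIn S).le.trans hLR))
    exact le_sSup ⟨h2, hA, hN⟩
  have hsp := stable_pair R (lowerIn S) (upperIn S)
    (by rw [hstep _ le_rfl, stepIn_lowerIn])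
    (by rw [hstep _ (lowerIn_le_upperIn S), stepIn_upperIn])
  exact ⟨le_antisymm hcmp.2 hsp.2, le_antisymm hsp.1 hcmp.1⟩

end Cfsg.Agent.Lib.H16.Puig
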