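import Mathlib
import Cfsg.Agent.Lib.H16.ConjSub
import Cfsg.Agent.Lib.H1.CoprimeAction
import Cfsg.Agent.Lib.H1.CoprimeSylow
import Cfsg.Agent.Lib.H1.Complement
import Cfsg.Agent.Lib.H9.CoprimeGeneration

set_option autoImplicit false
open scoped Pointwise commutatorElement

/-!
# Wielandt's order formula for a group of order `p ^ 2` and exponent `p` acting coprimely

For an abelian group `A` of exponent `p` and order `p ^ 2` normalizing a `p'`-subgroup `K`:
`|K| ^ (p-1) * |C_K(A)| ^ (p (p-1)) = ∏_{a ∈ A, a ≠ 1} |C_K(a)|`.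
-/

namespace Cfsg.Agent.Lib.H16

open Cfsg.Agent.Lib.H1

variable {H : Type*} [Group H]

/-- The non-identity elements of a subgroup, as a finset of the ambient (finite) group. -/
noncomputable def nz [Finite H] (A : Subgroup H) : Finset H := by
  classical exact (Set.toFinite (A : Set H)).toFinset.erase 1

theorem mem_nz [Finite H] {A : Subgroup H} {a : H} : a ∈ nz A ↔ a ≠ 1 ∧ a ∈ A := by
  classical
  unfold nz
  rw [Finset.mem_erase, Set.Finite.mem_toFinset]
  rfl

theorem card_nz [Finite H] (A : Subgroup H) : (nz A).card = Nat.card A - 1 := by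
  classical
  unfold nz
  rw [Finset.card_erase_of_mem]
  · congr 1
    rw [← Set.ncard_eq_toFinset_card]
    exact (Nat.card_coe_set_eq (A : Set H)).symm
  · rw [Set.Finite.mem_toFinset]
    exact A.one_mem

theorem nz_filter_mem [Finite H] {A T : Subgroup H} (hTA : T ≤ A) [DecidablePred (· ∈ T)] :
    (nz A).filter (· ∈ T) = nz T := by
  ext a
  rw [Finset.mem_filter, mem_nz, mem_nz]
  constructor
  · rintro ⟨⟨h1, _⟩, h2⟩
    exact ⟨h1, h2⟩
  · rintro ⟨h1, h2⟩
    exact ⟨⟨h1, hTA h2⟩, h2⟩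

/-- Product formula for the set product of two subgroups. -/
theorem card_mul_set [Finite H] (S T : Subgroup H) :
    Nat.card ((S : Set H) * (T : Set H) : Set H) * Nat.card (S ⊓ T : Subgroup H)
      = Nat.card S * Nat.card T := by
  classical
  have hch : ∀ z : ((S : Set H) * (T : Set H) : Set H), ∃ st : S × T,
      (st.1 : H) * (st.2 : H) = z := by
    rintro ⟨z, hz⟩
    obtain ⟨s, hs, t, ht, rfl⟩ := Set.mem_mul.1 hz
    exact ⟨(⟨s, hs⟩, ⟨t, ht⟩), rfl⟩
  choose f hf using hch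
  rw [← Nat.card_prod, ← Nat.card_prod]
  let g : ((S : Set H) * (T : Set H) : Set H) × (S ⊓ T : Subgroup H) → S × T := fun zu =>
    (⟨(f zu.1).1 * zu.2, S.mul_mem (f zu.1).1.2 (Subgroup.mem_inf.1 zu.2.2).1⟩,
     ⟨(zu.2 : H)⁻¹ * (f zu.1).2, T.mul_mem (T.inv_mem (Subgroup.mem_inf.1 zu.2.2).2) (f zu.1).2.2⟩)
  refine Nat.card_eq_of_bijective g ⟨?_, ?_⟩
  · rintro ⟨z, u⟩ ⟨z', u'⟩ h
    have h1 : ((f z).1 : H) * u = (f z').1 * u' := congrArg (fun x => ((x.1 : S) : H)) h
    have h2 : (u : H)⁻¹ * (f z).2 = (u' : H)⁻¹ * (f z').2 := congrArg (fun x => ((x.2 : T) : H)) h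
    have hz : (z : H) = z' := by
      rw [← hf z, ← hf z']
      calc ((f z).1 : H) * (f z).2 = (((f z).1 : H) * u) * ((u : H)⁻¹ * (f z).2) := by group
        _ = (((f z').1 : H) * u') * ((u' : H)⁻¹ * (f z').2) := by rw [h1, h2]
        _ = ((f z').1 : H) * (f z').2 := by group
    have hz' : z = z' := Subtype.ext hz
    subst hz'
    have hu : (u : H) = u' := mul_left_cancel h1
    rw [Subtype.ext hu]
  · rintro ⟨s, t⟩
    have hz : (s : H) * t ∈ ((S : Set H) * (T : Set H) : Set H) := Set.mul_mem_mul s.2 t.2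
    set z : ((S : Set H) * (T : Set H) : Set H) := ⟨(s : H) * t, hz⟩ with hzdef
    have hfz : ((f z).1 : H) * (f z).2 = s * t := hf z
    have hu1 : ((f z).1 : H)⁻¹ * s ∈ S := S.mul_mem (S.inv_mem (f z).1.2) s.2
    have hu2 : ((f z).1 : H)⁻¹ * s ∈ T := by
      have : ((f z).1 : H)⁻¹ * s = (f z).2 * (t : H)⁻¹ := by
        have := hfz
        calc ((f z).1 : H)⁻¹ * s = ((f z).1 : H)⁻¹ * (s * t) * (t : H)⁻¹ := by group
          _ = ((f z).1 : H)⁻¹ * (((f z).1 : H) * (f z).2) * (t : H)⁻¹ := by rw [hfz]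
          _ = (f z).2 * (t : H)⁻¹ := by group
      rw [this]
      exact T.mul_mem (f z).2.2 (T.inv_mem t.2)
    refine ⟨(z, ⟨((f z).1 : H)⁻¹ * s, Subgroup.mem_inf.2 ⟨hu1, hu2⟩⟩), ?_⟩
    apply Prod.ext
    · apply Subtype.ext
      show ((f z).1 : H) * (((f z).1 : H)⁻¹ * s) = s
      group
    · apply Subtype.ext
      show (((f z).1 : H)⁻¹ * s)⁻¹ * ((f z).2 : H) = t
      calc (((f z).1 : H)⁻¹ * s)⁻¹ * ((f z).2 : H) = (s : H)⁻¹ * (((f z).1 : H) * (f z).2) := by group
        _ = (s : H)⁻¹ * (s * t) := by rw [hfz]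
        _ = t := by group

/-- If `a` normalizes `X` and `Y` then it normalizes `X ⊓ Y`. -/
theorem mem_normalizer_inf {X Y : Subgroup H} {a : H} (hX : a ∈ Subgroup.normalizer (X : Set H))
    (hY : a ∈ Subgroup.normalizer (Y : Set H)) : a ∈ Subgroup.normalizer ((X ⊓ Y : Subgroup H) : Set H) := by
  rw [Subgroup.mem_normalizer_iff] at hX hY ⊢
  intro x
  rw [Subgroup.mem_inf, Subgroup.mem_inf, hX x, hY x]

/-- If `a` normalizes `X` and `Y` then it normalizes `X ⊔ Y`. -/
theorem mem_normalizer_sup {X Y : Subgroup H} {a : H} (hX : a ∈ Subgroup.normalizer (X : Set H))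
    (hY : a ∈ Subgroup.normalizer (Y : Set H)) : a ∈ Subgroup.normalizer ((X ⊔ Y : Subgroup H) : Set H) := by
  rw [mem_normalizer_iff_cj_eq] at hX hY ⊢
  unfold cj at hX hY ⊢
  rw [Subgroup.map_sup, hX, hY]

/-- An element commuting with every element of `S` normalizes the centralizer of `S`. -/
theorem mem_normalizer_centralizer {S : Set H} {a : H} (ha : ∀ s ∈ S, s * a = a * s) :
    a ∈ Subgroup.normalizer ((Subgroup.centralizer S : Subgroup H) : Set H) :=
  Subgroup.le_normalizer (Subgroup.mem_centralizer_iff.2 ha)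

/-- Under coprime action of an abelian group `A`, for `S ⊆ A` and an `A`-invariant Sylow
`q`-subgroup `Q` of `K`, `C_Q(S)` is a Sylow `q`-subgroup of `C_K(S)`. -/
theorem card_sylow_centralizer [Finite H] {A K Q : Subgroup H} {q : ℕ} [Fact q.Prime]
    (h : CoprimeAction A K) (hAc : ∀ a ∈ A, ∀ b ∈ A, a * b = b * a)
    (hQ : IsSylowOf q K Q) (hQA : A ≤ Subgroup.normalizer (Q : Set H))
    (S : Set H) (hS : S ⊆ (A : Set H)) :
    Nat.card (Q ⊓ Subgroup.centralizer S : Subgroup H)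
      = q ^ (Nat.card (K ⊓ Subgroup.centralizer S : Subgroup H)).factorization q := by
  have hq : q.Prime := Fact.out
  set C : Subgroup H := K ⊓ Subgroup.centralizer S with hC
  have hCA : A ≤ Subgroup.normalizer (C : Set H) := by
    intro a ha
    exact mem_normalizer_inf (h.normalizes ha)
      (mem_normalizer_centralizer (fun s hs => hAc s (hS hs) a ha))
  have hCK : C ≤ K := inf_le_left
  have hcop : CoprimeAction A C := h.mono hCK hCA
  obtain ⟨T, hT, hTA⟩ := coprime_exists_invariant_sylow hcop q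
  obtain ⟨Q', hQ', hTQ', hQ'A⟩ := coprime_invariant_psubgroup_le_sylow h (hT.le.trans hCK)
    hT.isPGroup hTA
  obtain ⟨c, hc, hcQ⟩ := coprime_invariant_sylow_conj h hQ' hQ hQ'A hQA
  -- the conjugate of `T` by `c` lies in `Q ⊓ C(S)`
  have hle : MulAut.conj c • T ≤ Q ⊓ Subgroup.centralizer S := by
    rw [conj_smul_le_iff]
    intro t ht
    refine Subgroup.mem_inf.2 ⟨?_, ?_⟩
    · rw [← hcQ]
      exact conj_mem_conj_smul (hTQ' ht)
    · have htS : t ∈ Subgroup.centralizer S := (Subgroup.mem_inf.1 (hT.le ht)).2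
      have hcA : c ∈ Subgroup.centralizer (A : Set H) := (Subgroup.mem_inf.1 hc).2
      rw [Subgroup.mem_centralizer_iff]
      intro s hs
      have h1 : s * t = t * s := Subgroup.mem_centralizer_iff.1 htS s hs
      have h2 : s * c = c * s := Subgroup.mem_centralizer_iff.1 hcA s (hS hs)
      have h3 : s * c⁻¹ = c⁻¹ * s := by
        calc s * c⁻¹ = c⁻¹ * (c * s) * c⁻¹ := by group
          _ = c⁻¹ * (s * c) * c⁻¹ := by rw [h2]
          _ = c⁻¹ * s := by group
      calc s * (c * t * c⁻¹) = (s * c) * t * c⁻¹ := by group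
        _ = c * (s * t) * c⁻¹ := by rw [h2]; group
        _ = c * t * (s * c⁻¹) := by rw [h1]; group
        _ = c * t * c⁻¹ * s := by rw [h3]; group
  have hdvd : q ^ (Nat.card C).factorization q ∣ Nat.card (Q ⊓ Subgroup.centralizer S : Subgroup H) := by
    rw [← hT.card_eq, ← card_conj_smul T c]
    exact Subgroup.card_dvd_of_le hle
  have hpg : IsPGroup q (Q ⊓ Subgroup.centralizer S : Subgroup H) :=
    hQ.isPGroup.to_le inf_le_left
  obtain ⟨k, hk⟩ := hpg.exists_card_eq
  have hleC : (Q ⊓ Subgroup.centralizer S : Subgroup H) ≤ C := inf_le_inf_right _ hQ.le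
  have hk1 : q ^ k ∣ Nat.card C := hk ▸ Subgroup.card_dvd_of_le hleC
  have hCpos : Nat.card C ≠ 0 := Nat.card_pos.ne'
  have hk2 : k ≤ (Nat.card C).factorization q :=
    (hq.pow_dvd_iff_le_factorization hCpos).1 hk1
  rw [hk] at hdvd ⊢
  have hk3 : (Nat.card C).factorization q ≤ k := (Nat.pow_dvd_pow_iff_le_right hq.one_lt).1 hdvd
  rw [le_antisymm hk2 hk3]

/-- Hypotheses on the acting group: abelian of exponent `p` and order `p ^ 2`. -/
structure IsEpp (p : ℕ) (A : Subgroup H) : Prop where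
  comm : ∀ a ∈ A, ∀ b ∈ A, a * b = b * a
  exp : ∀ a ∈ A, a ^ p = 1
  card : Nat.card A = p ^ 2

theorem IsEpp.isSolvable {p : ℕ} {A : Subgroup H} (hA : IsEpp p A) : Group.IsSolvable A := by
  exact isSolvable_of_comm (fun a b => Subtype.ext (hA.comm a a.2 b b.2))

theorem IsEpp.coprimeAction [Finite H] {p : ℕ} [Fact p.Prime] {A K : Subgroup H} (hA : IsEpp p A)
    (hK : ¬ p ∣ Nat.card K) (hAK : A ≤ Subgroup.normalizer (K : Set H)) : CoprimeAction A K where
  normalizes := hAK
  coprime := by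
    rw [hA.card]
    exact Nat.Coprime.pow_left 2 ((Nat.Prime.coprime_iff_not_dvd Fact.out).2 hK)
  solvable := Or.inl hA.isSolvable

/-- There are `x ≠ 1` and `y ∉ ⟨x⟩` in `A`. -/
theorem IsEpp.exists_gens [Finite H] {p : ℕ} [Fact p.Prime] {A : Subgroup H} (hA : IsEpp p A) :
    ∃ x ∈ A, ∃ y ∈ A, x ≠ 1 ∧ y ∉ Subgroup.zpowers x := by
  have hp : p.Prime := Fact.out
  have hcard : 1 < Nat.card A := by
    rw [hA.card]; exact Nat.one_lt_pow (by norm_num) hp.one_lt
  haveI : Nontrivial A := (Finite.one_lt_card_iff_nontrivial).1 hcard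
  obtain ⟨⟨x, hxA⟩, hx1⟩ := exists_ne (1 : A)
  have hx1' : x ≠ 1 := fun h => hx1 (Subtype.ext h)
  refine ⟨x, hxA, ?_⟩
  by_contra hcon
  push Not at hcon
  have hle : A ≤ Subgroup.zpowers x := fun y hy => by
    by_contra hy'
    exact hy' (hcon y hy hx1')
  have h1 : Nat.card A ≤ Nat.card (Subgroup.zpowers x) := Subgroup.card_le_of_le hle
  rw [Nat.card_zpowers, hA.card] at h1
  have h2 : orderOf x ≤ p := Nat.le_of_dvd hp.pos (orderOf_dvd_of_pow_eq_one (hA.exp x hxA))
  have h3 : p < p ^ 2 := by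
    calc p = p ^ 1 := (pow_one p).symm
      _ < p ^ 2 := Nat.pow_lt_pow_right hp.one_lt (by norm_num)
  omega

/-- A subgroup of `A` that is neither trivial nor everything has order `p`. -/
theorem IsEpp.card_of_ne [Finite H] {p : ℕ} [Fact p.Prime] {A T : Subgroup H} (hA : IsEpp p A)
    (hTA : T ≤ A) (hT1 : T ≠ ⊥) (hT2 : T ≠ A) : Nat.card T = p := by
  have hp : p.Prime := Fact.out
  have hdvd : Nat.card T ∣ p ^ 2 := hA.card ▸ Subgroup.card_dvd_of_le hTA
  obtain ⟨k, hk, hkc⟩ := (Nat.dvd_prime_pow hp).1 hdvd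
  interval_cases k
  · exfalso
    apply hT1
    rw [pow_zero] at hkc
    exact Subgroup.card_eq_one.1 hkc
  · rw [hkc, pow_one]
  · exfalso
    apply hT2
    exact Subgroup.eq_of_le_of_card_ge hTA (by rw [hkc, hA.card])

/-- **Wielandt's order formula** for a `q`-group `Q` (`q ≠ p`) normalized by `A`. -/
theorem wielandt_pgroup [Finite H] {p q : ℕ} [Fact p.Prime] [Fact q.Prime] (hqp : q ≠ p)
    {A : Subgroup H} (hA : IsEpp p A) :
    ∀ (n : ℕ) (Q : Subgroup H), Nat.card Q = n → IsPGroup q Q →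
      A ≤ Subgroup.normalizer (Q : Set H) →
      Nat.card Q ^ (p - 1) *
          Nat.card (Q ⊓ Subgroup.centralizer (A : Set H) : Subgroup H) ^ (p * (p - 1))
        = ∏ a ∈ nz A, Nat.card (Q ⊓ Subgroup.centralizer {a} : Subgroup H) := by
  classical
  intro n
  induction n using Nat.strong_induction_on with
  | _ n ih =>
  intro Q hn hQ hAQ
  have hp : p.Prime := Fact.out
  have hq : q.Prime := Fact.out
  by_cases hQ1 : Q = ⊥
  · subst hQ1
    simp
  have hQp : ¬ p ∣ Nat.card Q := by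
    obtain ⟨k, hk⟩ := hQ.exists_card_eq
    rw [hk]
    intro hdvd
    exact hqp.symm ((Nat.prime_dvd_prime_iff_eq hp hq).1 (hp.dvd_of_dvd_pow hdvd))
  have hcop : CoprimeAction A Q := hA.coprimeAction hQp hAQ
  haveI hQnil : Group.IsNilpotent Q := hQ.isNilpotent
  have hQsolv : Group.IsSolvable Q := inferInstance
  -- the derived subgroup is proper
  have hQ' : ⁅Q, Q⁆ ≠ Q := by
    haveI : Nontrivial Q := (Subgroup.nontrivial_iff_ne_bot Q).2 hQ1
    have h1 : commutator Q < ⊤ := Group.IsSolvable.commutator_lt_top_of_nontrivial Q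
    intro h2
    apply h1.ne
    have h3 : (commutator Q).map Q.subtype = ⁅Q, Q⁆ := Subgroup.map_subtype_commutator Q
    apply Subgroup.map_injective Q.subtype_injective
    rw [h3, h2, ← MonoidHom.range_eq_map, Subgroup.range_subtype]
  have hQ'Q : ⁅Q, Q⁆ ≤ Q := by
    rw [Subgroup.commutator_le]
    intro x hx y hy
    rw [commutatorElement_def]
    exact Q.mul_mem (Q.mul_mem (Q.mul_mem hx hy) (Q.inv_mem hx)) (Q.inv_mem hy)
  have hQ'A : A ≤ Subgroup.normalizer ((⁅Q, Q⁆ : Subgroup H) : Set H) := by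
    intro a ha
    have h1 := (mem_normalizer_iff_cj_eq a Q).1 (hAQ ha)
    rw [mem_normalizer_iff_cj_eq]
    unfold cj at h1 ⊢
    rw [Subgroup.map_commutator, h1]
  obtain ⟨M, hQ'M, hM⟩ := Finite.exists_le_maximal
    (p := fun M : Subgroup H => ⁅Q, Q⁆ ≤ M ∧ M ≤ Q ∧ M ≠ Q ∧ A ≤ Subgroup.normalizer (M : Set H))
    (a := ⁅Q, Q⁆) ⟨le_rfl, hQ'Q, hQ', hQ'A⟩
  obtain ⟨⟨_, hMQ, hMne, hMA⟩, hMmax⟩ := hM
  have hdich : ∀ L : Subgroup H, M ≤ L → L ≤ Q → A ≤ Subgroup.normalizer (L : Set H) →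
      L = M ∨ L = Q := by
    intro L h1 h2 h3
    by_cases h4 : L = Q
    · exact Or.inr h4
    · exact Or.inl (le_antisymm (hMmax ⟨hQ'M.trans h1, h2, h4, h3⟩ h1) h1)
  have hQM : Q ≤ Subgroup.normalizer (M : Set H) := by
    intro x hx
    apply mem_normalizer_of_conj_mem
    intro m hm
    have h1 : ⁅x, m⁆ ∈ M := hQ'M (Subgroup.commutator_mem_commutator hx (hMQ hm))
    have h2 : x * m * x⁻¹ = ⁅x, m⁆ * m := by rw [commutatorElement_def]; group
    rw [h2]
    exact M.mul_mem h1 hm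
  set r := Nat.card Q / Nat.card M with hrdef
  have hr : Nat.card Q = Nat.card M * r := (Nat.mul_div_cancel' (Subgroup.card_dvd_of_le hMQ)).symm
  have hMpos : 0 < Nat.card M := Nat.card_pos
  have hMlt : Nat.card M < n := by
    rw [← hn]
    by_contra hcon
    push Not at hcon
    exact hMne (Subgroup.eq_of_le_of_card_ge hMQ hcon)
  have key : ∀ S : Set H, (Q ⊓ Subgroup.centralizer S) ⊔ M = Q →
      Nat.card (Q ⊓ Subgroup.centralizer S : Subgroup H)
        = Nat.card (M ⊓ Subgroup.centralizer S : Subgroup H) * r := by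
    intro S hS
    have hset : (((Q ⊓ Subgroup.centralizer S) ⊔ M : Subgroup H) : Set H)
        = ((Q ⊓ Subgroup.centralizer S : Subgroup H) : Set H) * (M : Set H) :=
      Subgroup.coe_mul_of_left_le_normalizer_right (Q ⊓ Subgroup.centralizer S) M
        (inf_le_left.trans hQM)
    have hc := card_mul_set (Q ⊓ Subgroup.centralizer S) M
    rw [← hset, hS] at hc
    have hinf : (Q ⊓ Subgroup.centralizer S) ⊓ M = M ⊓ Subgroup.centralizer S := by
      rw [inf_comm, ← inf_assoc, inf_eq_left.2 hMQ]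
    rw [hinf] at hc
    have hc' : Nat.card Q * Nat.card (M ⊓ Subgroup.centralizer S : Subgroup H)
        = Nat.card (Q ⊓ Subgroup.centralizer S : Subgroup H) * Nat.card M := hc
    rw [hr] at hc'
    apply Nat.eq_of_mul_eq_mul_right hMpos
    rw [← hc']
    ring
  -- the kernel of the action on `Q / M`
  let T : Subgroup H :=
    { carrier := {a | a ∈ A ∧ ∀ x ∈ Q, a * x * a⁻¹ * x⁻¹ ∈ M}
      mul_mem' := by
        rintro a b ⟨ha, hax⟩ ⟨hb, hbx⟩
        refine ⟨A.mul_mem ha hb, fun x hx => ?_⟩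
        have h1 : a * (b * x * b⁻¹ * x⁻¹) * a⁻¹ ∈ M :=
          (Subgroup.mem_normalizer_iff.1 (hMA ha) _).1 (hbx x hx)
        have h2 : a * b * x * (a * b)⁻¹ * x⁻¹
            = a * (b * x * b⁻¹ * x⁻¹) * a⁻¹ * (a * x * a⁻¹ * x⁻¹) := by group
        rw [h2]
        exact M.mul_mem h1 (hax x hx)
      one_mem' := ⟨A.one_mem, fun x hx => by simp⟩
      inv_mem' := by
        rintro a ⟨ha, hax⟩
        refine ⟨A.inv_mem ha, fun x hx => ?_⟩
        have h1 : a⁻¹ * (a * x * a⁻¹ * x⁻¹)⁻¹ * a⁻¹⁻¹ ∈ M :=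
          (Subgroup.mem_normalizer_iff.1 (Subgroup.inv_mem _ (hMA ha)) _).1 (M.inv_mem (hax x hx))
        have h2 : a⁻¹ * x * a⁻¹⁻¹ * x⁻¹ = a⁻¹ * (a * x * a⁻¹ * x⁻¹)⁻¹ * a⁻¹⁻¹ := by group
        rw [h2]
        exact h1 }
  have hTmem : ∀ a, a ∈ T ↔ a ∈ A ∧ ∀ x ∈ Q, a * x * a⁻¹ * x⁻¹ ∈ M := fun a => Iff.rfl
  have hTA : T ≤ A := fun a ha => ha.1
  have hT1 : ∀ B : Subgroup H, B ≤ T → (Q ⊓ Subgroup.centralizer (B : Set H)) ⊔ M = Q := by
    intro B hB
    apply le_antisymm (sup_le inf_le_left hMQ)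
    intro x hx
    have hcopB : CoprimeAction B Q :=
      { normalizes := (hB.trans hTA).trans hAQ
        coprime := Nat.Coprime.coprime_dvd_left (Subgroup.card_dvd_of_le (hB.trans hTA)) hcop.coprime
        solvable := Or.inr hQsolv }
    obtain ⟨c, hc, hcx⟩ := coprime_centralizer_quotient hcopB hMQ hQM ((hB.trans hTA).trans hMA) hx
      (fun a ha => (hB ha).2 x hx)
    have h1 : x = c * (x⁻¹ * c)⁻¹ := by group
    rw [h1]
    exact Subgroup.mul_mem_sup hc (M.inv_mem hcx)
  have hT2 : ∀ a ∈ A, a ∉ T → Q ⊓ Subgroup.centralizer {a} ≤ M := by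
    intro a ha haT
    by_contra hcon
    have hLA : A ≤ Subgroup.normalizer (((Q ⊓ Subgroup.centralizer {a}) ⊔ M : Subgroup H) : Set H) :=
      fun b hb => mem_normalizer_sup (mem_normalizer_inf (hAQ hb)
        (mem_normalizer_centralizer (fun s hs => by
          rw [Set.mem_singleton_iff.1 hs]; exact hA.comm a ha b hb))) (hMA hb)
    rcases hdich _ le_sup_right (sup_le inf_le_left hMQ) hLA with h | h
    · exact hcon (h ▸ le_sup_left)
    · apply haT
      refine ⟨ha, fun x hx => ?_⟩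
      have hxL : x ∈ M ⊔ (Q ⊓ Subgroup.centralizer {a}) := by
        rw [sup_comm, h]; exact hx
      obtain ⟨m, hm, c, hc, rfl⟩ := mem_sup_of_le_normalizer (inf_le_left.trans hQM) hxL
      have hca : c * a = a * c := Subgroup.mem_centralizer_singleton_iff.1 (Subgroup.mem_inf.1 hc).2
      have h1 : a * (m * c) * a⁻¹ * (m * c)⁻¹ = (a * m * a⁻¹) * m⁻¹ := by
        calc a * (m * c) * a⁻¹ * (m * c)⁻¹
            = a * m * (a⁻¹ * (a * c) * a⁻¹) * c⁻¹ * m⁻¹ := by group
          _ = a * m * (a⁻¹ * (c * a) * a⁻¹) * c⁻¹ * m⁻¹ := by rw [hca]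
          _ = (a * m * a⁻¹) * m⁻¹ := by group
      rw [h1]
      exact M.mul_mem ((Subgroup.mem_normalizer_iff.1 (hMA ha) _).1 hm) (M.inv_mem hm)
  have hcard_a : ∀ a ∈ nz A, Nat.card (Q ⊓ Subgroup.centralizer {a} : Subgroup H)
      = Nat.card (M ⊓ Subgroup.centralizer {a} : Subgroup H) * (if a ∈ T then r else 1) := by
    intro a ha
    obtain ⟨ha1, haA⟩ := mem_nz.1 ha
    by_cases haT : a ∈ T
    · rw [if_pos haT]
      apply key
      have h1 := hT1 (Subgroup.zpowers a) ((Subgroup.zpowers_le).2 haT)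
      rwa [Subgroup.zpowers_eq_closure, Subgroup.centralizer_closure] at h1
    · rw [if_neg haT, mul_one]
      rw [show Q ⊓ Subgroup.centralizer {a} = M ⊓ Subgroup.centralizer {a} from
        le_antisymm (le_inf (hT2 a haA haT) inf_le_right) (inf_le_inf_right _ hMQ)]
  have hprod : ∏ a ∈ nz A, Nat.card (Q ⊓ Subgroup.centralizer {a} : Subgroup H)
      = (∏ a ∈ nz A, Nat.card (M ⊓ Subgroup.centralizer {a} : Subgroup H)) * r ^ (nz T).card := by
    rw [Finset.prod_congr rfl hcard_a, Finset.prod_mul_distrib, Finset.prod_ite,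
      Finset.prod_const_one, mul_one, Finset.prod_const, nz_filter_mem hTA]
  have ih' := ih (Nat.card M) hMlt M rfl (hQ.to_le hMQ) hMA
  rw [hprod, ← ih']
  by_cases hTeq : T = A
  · have hcA : Nat.card (Q ⊓ Subgroup.centralizer (A : Set H) : Subgroup H)
        = Nat.card (M ⊓ Subgroup.centralizer (A : Set H) : Subgroup H) * r :=
      key _ (hT1 A hTeq.ge)
    have hnzT : (nz T).card = p ^ 2 - 1 := by rw [hTeq, card_nz, hA.card]
    have hexp : (p - 1) + p * (p - 1) = p ^ 2 - 1 := by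
      obtain ⟨k, hk⟩ : ∃ k, p = k + 1 := ⟨p - 1, (Nat.sub_add_cancel hp.one_le).symm⟩
      rw [hk]
      simp only [Nat.add_sub_cancel]
      have : (k + 1) ^ 2 = k + (k + 1) * k + 1 := by ring
      omega
    rw [hnzT, ← hexp, hr, hcA, mul_pow, mul_pow, pow_add]
    ring
  · have hex : ∃ b ∈ A, b ∉ T := by
      by_contra hcon
      push Not at hcon
      exact hTeq (le_antisymm hTA hcon)
    obtain ⟨b, hbA, hbT⟩ := hex
    have hcA : Q ⊓ Subgroup.centralizer (A : Set H) = M ⊓ Subgroup.centralizer (A : Set H) := by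
      apply le_antisymm _ (inf_le_inf_right _ hMQ)
      apply le_inf _ inf_le_right
      exact (inf_le_inf_left Q (Subgroup.centralizer_le (Set.singleton_subset_iff.2 hbA))).trans
        (hT2 b hbA hbT)
    have hT0 : T ≠ ⊥ := by
      intro hT0
      have hnot : ∀ a ∈ A, a ≠ 1 → a ∉ T := by
        intro a _ ha1 haT
        rw [hT0, Subgroup.mem_bot] at haT
        exact ha1 haT
      obtain ⟨x, hxA, y, hyA, hx1, hyx⟩ := hA.exists_gens
      have hKp : (Nat.card Q).Coprime p := ((Nat.Prime.coprime_iff_not_dvd hp).2 hQp).symm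
      have hQleM : Q ≤ M := by
        apply Cfsg.Agent.Lib.H9.le_of_centralizers_le hcop hKp hxA hyA (hA.comm x hxA y hyA)
          (hA.exp x hxA) (hA.exp y hyA) (hT2 x hxA (hnot x hxA hx1))
        intro i
        apply hT2 _ (A.mul_mem (A.pow_mem hxA i) hyA)
        apply hnot _ (A.mul_mem (A.pow_mem hxA i) hyA)
        intro h1
        apply hyx
        have h2 : y = (x ^ i)⁻¹ := by
          calc y = (x ^ i)⁻¹ * (x ^ i * y) := by group
            _ = (x ^ i)⁻¹ := by rw [h1, mul_one]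
        rw [h2]
        exact Subgroup.inv_mem _ (Subgroup.pow_mem _ (Subgroup.mem_zpowers x) i)
      exact hMne (le_antisymm hMQ hQleM)
    have hnzT : (nz T).card = p - 1 := by rw [card_nz, hA.card_of_ne hTA hT0 hTeq]
    rw [hnzT, hr, hcA, mul_pow]
    ring

/-- **Wielandt's order formula** for a `p'`-subgroup `K` normalized by `A` (abelian of exponent
`p` and order `p ^ 2`); no solvability of `K` is needed. -/
theorem wielandt_formula [Finite H] {p : ℕ} [Fact p.Prime] {A : Subgroup H} (hA : IsEpp p A)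
    (K : Subgroup H) (hK : ¬ p ∣ Nat.card K) (hAK : A ≤ Subgroup.normalizer (K : Set H)) :
    Nat.card K ^ (p - 1) *
        Nat.card (K ⊓ Subgroup.centralizer (A : Set H) : Subgroup H) ^ (p * (p - 1))
      = ∏ a ∈ nz A, Nat.card (K ⊓ Subgroup.centralizer {a} : Subgroup H) := by
  classical
  have hp : p.Prime := Fact.out
  have hcop : CoprimeAction A K := hA.coprimeAction hK hAK
  have hpos : ∀ S : Set H, Nat.card (K ⊓ Subgroup.centralizer S : Subgroup H) ≠ 0 :=
    fun S => Nat.card_pos.ne'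
  have hKpos : Nat.card K ≠ 0 := Nat.card_pos.ne'
  have hL0 : Nat.card K ^ (p - 1) *
      Nat.card (K ⊓ Subgroup.centralizer (A : Set H) : Subgroup H) ^ (p * (p - 1)) ≠ 0 :=
    mul_ne_zero (pow_ne_zero _ hKpos) (pow_ne_zero _ (hpos _))
  have hR0 : ∏ a ∈ nz A, Nat.card (K ⊓ Subgroup.centralizer {a} : Subgroup H) ≠ 0 :=
    Finset.prod_ne_zero_iff.2 (fun a _ => hpos _)
  apply Nat.eq_of_factorization_eq hL0 hR0
  intro q
  rw [Nat.factorization_mul (pow_ne_zero _ hKpos) (pow_ne_zero _ (hpos _)),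
    Nat.factorization_pow, Nat.factorization_pow,
    Nat.factorization_prod (fun a _ => hpos _)]
  simp only [Finsupp.coe_add, Finsupp.coe_smul, Pi.add_apply, Pi.smul_apply, smul_eq_mul,
    Finsupp.coe_finset_sum, Finset.sum_apply]
  by_cases hq : q.Prime
  swap
  · simp [Nat.factorization_eq_zero_of_not_prime _ hq]
  haveI : Fact q.Prime := ⟨hq⟩
  by_cases hqp : q = p
  · subst hqp
    have hz : ∀ S : Set H, (Nat.card (K ⊓ Subgroup.centralizer S : Subgroup H)).factorization q = 0 :=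
      fun S => Nat.factorization_eq_zero_of_not_dvd
        (fun hd => hK (hd.trans (Subgroup.card_dvd_of_le inf_le_left)))
    rw [hz, Nat.factorization_eq_zero_of_not_dvd hK, mul_zero, mul_zero, add_zero]
    symm
    apply Finset.sum_eq_zero
    intro a _
    exact hz _
  obtain ⟨Q, hQ, hQA⟩ := coprime_exists_invariant_sylow hcop q
  have hcs : ∀ S : Set H, S ⊆ (A : Set H) →
      Nat.card (Q ⊓ Subgroup.centralizer S : Subgroup H)
        = q ^ (Nat.card (K ⊓ Subgroup.centralizer S : Subgroup H)).factorization q :=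
    fun S hS => card_sylow_centralizer hcop hA.comm hQ hQA S hS
  have hform := wielandt_pgroup hqp hA (Nat.card Q) Q rfl hQ.isPGroup hQA
  rw [hQ.card_eq, hcs _ subset_rfl] at hform
  have hform2 : ∏ a ∈ nz A, Nat.card (Q ⊓ Subgroup.centralizer {a} : Subgroup H)
      = ∏ a ∈ nz A, q ^ (Nat.card (K ⊓ Subgroup.centralizer {a} : Subgroup H)).factorization q := by
    apply Finset.prod_congr rfl
    intro a ha
    exact hcs _ (Set.singleton_subset_iff.2 (mem_nz.1 ha).2)
  rw [hform2, Finset.prod_pow_eq_pow_sum, ← pow_mul, ← pow_mul, ← pow_add] at hform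
  have := Nat.pow_right_injective hq.two_le hform
  rw [← this]
  ring

end Cfsg.Agent.Lib.H16
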