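import Mathlib
import Cfsg.Agent.Lib.H16.Puig
import Cfsg.Agent.Lib.H16.OddStable
import Cfsg.Agent.S1465
import Cfsg.Agent.Lib.H15.SylowNormal
import Cfsg.Agent.Lib.H16.WielandtFormula
import Cfsg.Agent.Lib.H22.PPrimeCore

/-!
# The Puig subgroup in solvable groups of odd order (BG Appendix B)

* `puig_sandwich`: `L_*(S) ≤ L_*(T) ≤ L(T) ≤ L(S)` for `T = O_p(G)`, `O_{p'}(G) = 1`.
-/

set_option autoImplicit false

namespace Cfsg.Agent.Lib.H16.Puig

variable {G : Type*} [Group G] [Finite G]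

theorem puig_sandwich [Group.IsSolvable G] (hodd : Odd (Nat.card G)) (p : ℕ) [Fact p.Prime]
    (hp : p ≠ 2) (hO : Cfsg.pPrimeCore p G = ⊥) (S : Sylow p G) :
    lowerIn (S : Subgroup G) ≤ lowerIn (Cfsg.pCore p G) ∧
      lowerIn (Cfsg.pCore p G) ≤ upperIn (Cfsg.pCore p G) ∧
      upperIn (Cfsg.pCore p G) ≤ upperIn (S : Subgroup G) := by
  classical
  haveI hTn : (Cfsg.pCore p G).Normal := Cfsg.Agent.Lib.H1.pCore_normal p G
  have hTp : IsPGroup p (Cfsg.pCore p G) := Cfsg.Agent.Lib.H1.pCore_isPGroup p G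
  have hTS : Cfsg.pCore p G ≤ (S : Subgroup G) := Cfsg.Agent.Lib.H1.pCore_le_sylow S
  have hcmp := lower_upper_compare hTS (by
    intro n hb A hAS hA hN
    haveI : (seqIn (Cfsg.pCore p G) (2 * n + 1)).Normal := seqIn_normal _ _
    have hPp : IsPGroup p (seqIn (Cfsg.pCore p G) (2 * n + 1)) := hTp.to_le (seqIn_le _ _)
    have h := (Cfsg.Agent.S1465.result hodd p hp (seqIn (Cfsg.pCore p G) (2 * n + 1)) hPp {A} (by
      intro B hB
      rw [Set.mem_singleton_iff] at hB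
      subst hB
      exact ⟨hA, S.isPGroup'.to_le hAS, hb.trans hN⟩)).2 hO
      (inf_centralizer_seqIn_le (Cfsg.pCore p G) hTp (2 * n + 1) (by omega))
    rwa [sSup_singleton] at h)
  exact ⟨hcmp.1, lowerIn_le_upperIn _, hcmp.2⟩

section ZL

open Cfsg.Agent.Lib.H5 Cfsg.Agent.Lib.H15

/-- the centre of the Puig subgroup of `Q`, inside `G` -/
def zl (Q : Subgroup G) : Subgroup G :=
  upperIn Q ⊓ Subgroup.centralizer (upperIn Q : Set G)

omit [Finite G] in
theorem map_center_puigSubgroup (Q : Subgroup G) :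
    ((Subgroup.center ↥(Cfsg.puigSubgroup ↥Q)).map (Cfsg.puigSubgroup ↥Q).subtype).map Q.subtype
      = zl Q := by
  ext x
  constructor
  · rintro ⟨y, ⟨z, hz, rfl⟩, rfl⟩
    refine Subgroup.mem_inf.2 ⟨?_, ?_⟩
    · rw [← map_puigSubgroup]
      exact ⟨(z : ↥Q), z.2, rfl⟩
    · refine Subgroup.mem_centralizer_iff.2 ?_
      intro w hw
      rw [SetLike.mem_coe, ← map_puigSubgroup] at hw
      obtain ⟨w', hw', rfl⟩ := hw
      have h1 := (Subgroup.mem_center_iff.1 hz) ⟨w', hw'⟩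
      have h2 := congrArg (fun u : ↥(Cfsg.puigSubgroup ↥Q) => ((u : ↥Q) : G)) h1
      exact h2
  · intro hx
    obtain ⟨hx1, hx2⟩ := Subgroup.mem_inf.1 hx
    rw [← map_puigSubgroup] at hx1
    obtain ⟨y, hy, rfl⟩ := hx1
    refine ⟨y, ⟨⟨y, hy⟩, ?_, rfl⟩, rfl⟩
    refine Subgroup.mem_center_iff.2 ?_
    intro w
    apply Subtype.ext
    apply Subtype.ext
    have hw : ((w : ↥Q) : G) ∈ upperIn Q := by
      rw [← map_puigSubgroup]
      exact ⟨(w : ↥Q), w.2, rfl⟩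
    exact (Subgroup.mem_centralizer_iff.1 hx2) _ hw

omit [Finite G] in
theorem normalizer_le_normalizer_zl (Q : Subgroup G) :
    Subgroup.normalizer (upperIn Q : Set G) ≤ Subgroup.normalizer (zl Q : Set G) := by
  intro g hg
  unfold zl
  refine Cfsg.Agent.Lib.H16.mem_normalizer_inf hg ?_
  rw [Subgroup.mem_normalizer_iff] at hg ⊢
  intro c
  rw [Subgroup.mem_centralizer_iff, Subgroup.mem_centralizer_iff]
  constructor
  · intro hc y hy
    have hy' : g⁻¹ * y * g ∈ upperIn Q := by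
      have := (hg (g⁻¹ * y * g)).2
      apply this
      have e : g * (g⁻¹ * y * g) * g⁻¹ = y := by group
      rw [e]; exact hy
    have h1 := hc _ hy'
    calc y * (g * c * g⁻¹) = g * ((g⁻¹ * y * g) * c) * g⁻¹ := by group
      _ = g * (c * (g⁻¹ * y * g)) * g⁻¹ := by rw [h1]
      _ = g * c * g⁻¹ * y := by group
  · intro hc y hy
    have hy' : g * y * g⁻¹ ∈ upperIn Q := (hg y).1 hy
    have h1 := hc _ hy'
    calc y * c = g⁻¹ * ((g * y * g⁻¹) * (g * c * g⁻¹)) * g := by group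
      _ = g⁻¹ * ((g * c * g⁻¹) * (g * y * g⁻¹)) * g := by rw [h1]
      _ = c * y := by group

/-- **Puig**: in a solvable group of odd order with `O_{p'}(G) = 1`, `Z(L(S))` is normal. -/
theorem zl_normal [Group.IsSolvable G] (hodd : Odd (Nat.card G)) (p : ℕ) [Fact p.Prime]
    (hp : p ≠ 2) (hO : Cfsg.pPrimeCore p G = ⊥) (S : Sylow p G) :
    (zl (S : Subgroup G)).Normal := by
  classical
  have hs : Group.IsSolvable G := inferInstance
  haveI hTn : (Cfsg.pCore p G).Normal := Cfsg.Agent.Lib.H1.pCore_normal p G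
  have hTp : IsPGroup p (Cfsg.pCore p G) := Cfsg.Agent.Lib.H1.pCore_isPGroup p G
  have hTS : Cfsg.pCore p G ≤ (S : Subgroup G) := Cfsg.Agent.Lib.H1.pCore_le_sylow S
  obtain ⟨-, -, h3⟩ := puig_sandwich hodd p hp hO S
  obtain ⟨LT, hLT⟩ : ∃ LT : Subgroup G, LT = upperIn (Cfsg.pCore p G) := ⟨_, rfl⟩
  rw [← hLT] at h3
  haveI hLTn : LT.Normal := hLT ▸ upperIn_normal _
  have hLT_T : LT ≤ Cfsg.pCore p G := hLT ▸ upperIn_le _
  have hLTp : IsPGroup p LT := hTp.to_le hLT_T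
  have hCT : Cfsg.pCore p G ⊓ Subgroup.centralizer (LT : Set G) ≤ LT :=
    hLT ▸ inf_centralizer_upperIn_le _ hTp
  -- the abelian normal subgroup `QZ = Z(L(T))`
  obtain ⟨QZ, hQZ⟩ : ∃ QZ : Subgroup G, QZ = LT ⊓ Subgroup.centralizer (LT : Set G) := ⟨_, rfl⟩
  haveI hQZn : QZ.Normal := by
    rw [hQZ]; exact Subgroup.normal_inf_normal _ _
  have hQZc : IsMulCommutative QZ := by
    constructor
    constructor
    rintro ⟨a, ha⟩ ⟨b, hb⟩
    rw [hQZ] at ha hb
    apply Subtype.ext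
    exact (Subgroup.mem_centralizer_iff.1 hb.2 a ha.1)
  have hQZp : IsPGroup p QZ := hLTp.to_le (hQZ ▸ inf_le_left)
  have hQZS : QZ ≤ (S : Subgroup G) := (hQZ ▸ inf_le_left : QZ ≤ LT).trans (hLT_T.trans hTS)
  -- `C_G(L(T))` is a `p`-group, hence inside `T`
  have hCLTp : IsPGroup p (Subgroup.centralizer (LT : Set G)) :=
    isPGroup_centralizer_of_inf_le (p := p) hs LT hO hCT
  have hCLT_T : Subgroup.centralizer (LT : Set G) ≤ Cfsg.pCore p G :=
    Cfsg.Agent.Lib.H1.le_pCore inferInstance hCLTp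
  have hZQ : zl (S : Subgroup G) ≤ QZ := by
    intro z hz
    have hzc : z ∈ Subgroup.centralizer (LT : Set G) := Subgroup.centralizer_le h3 hz.2
    rw [hQZ]
    exact ⟨hCT ⟨hCLT_T hzc, hzc⟩, hzc⟩
  -- `QZ ≤ L_*(S)`
  have hQZ_low : QZ ≤ lowerIn (S : Subgroup G) := by
    refine le_trans ?_ (seqIn_even_le_lowerIn (S : Subgroup G) 1)
    change QZ ≤ stepIn (S : Subgroup G) (seqIn (S : Subgroup G) 1)
    refine le_stepIn hQZS hQZc ?_
    rw [Subgroup.normalizer_eq_top_iff.2 hQZn]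
    exact le_top
  -- BG B.1 applied to the generators of `L(S)`
  have hsup : sSup {A : Subgroup G | A ≤ (S : Subgroup G) ∧ IsMulCommutative A ∧
      lowerIn (S : Subgroup G) ≤ Subgroup.normalizer (A : Set G)} = upperIn (S : Subgroup G) :=
    stepIn_lowerIn (S : Subgroup G)
  have hB1 := (Cfsg.Agent.S1465.result hodd p hp QZ hQZp
    {A : Subgroup G | A ≤ (S : Subgroup G) ∧ IsMulCommutative A ∧
      lowerIn (S : Subgroup G) ≤ Subgroup.normalizer (A : Set G)}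
    (fun A hA => ⟨hA.2.1, S.isPGroup'.to_le hA.1, hQZ_low.trans hA.2.2⟩)).1
  rw [hsup, Subgroup.map_le_iff_le_comap] at hB1
  obtain ⟨C, hC⟩ : ∃ C : Subgroup G, C = Subgroup.centralizer (QZ : Set G) := ⟨_, rfl⟩
  haveI hCn : C.Normal := hC ▸ inferInstance
  have hkey : ∀ (C' : Subgroup G) [C'.Normal], C' = Subgroup.centralizer (QZ : Set G) →
      upperIn (S : Subgroup G) ≤ (Cfsg.pCore p (G ⧸ C')).comap (QuotientGroup.mk' C') := by
    intro C' _ hC'
    subst hC'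
    exact hB1
  have hLD := hkey C hC
  obtain ⟨D, hD⟩ : ∃ D : Subgroup G, D = (Cfsg.pCore p (G ⧸ C)).comap (QuotientGroup.mk' C) :=
    ⟨_, rfl⟩
  rw [← hD] at hLD
  haveI hDn : D.Normal := by
    haveI := Cfsg.Agent.Lib.H1.pCore_normal p (G ⧸ C)
    rw [hD]
    exact Subgroup.Normal.comap inferInstance _
  have hCD : C ≤ D := by
    intro c hc
    rw [hD, Subgroup.mem_comap]
    have : (QuotientGroup.mk' C) c = 1 := (QuotientGroup.eq_one_iff c).2 hc
    rw [this]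
    exact Subgroup.one_mem _
  obtain ⟨R, hR⟩ : ∃ R : Subgroup G, R = (S : Subgroup G) ⊓ D := ⟨_, rfl⟩
  have hRS : R ≤ (S : Subgroup G) := hR ▸ inf_le_left
  have hLR : upperIn (S : Subgroup G) ≤ R := hR ▸ le_inf (upperIn_le _) hLD
  have hLeq : upperIn R = upperIn (S : Subgroup G) := (upperIn_eq_of_le hRS hLR).1
  -- `D = R C`
  have hD_le : ∀ d ∈ D, ∃ r ∈ R, ∃ c ∈ C, d = r * c := by
    intro d hd
    have h4 : Cfsg.pCore p (G ⧸ C) ≤ (S : Subgroup G).map (QuotientGroup.mk' C) := by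
      have := Cfsg.Agent.Lib.H1.pCore_le_sylow
        (S.mapSurjective (QuotientGroup.mk'_surjective C))
      rwa [Sylow.coe_mapSurjective] at this
    have hd' : (QuotientGroup.mk' C) d ∈ Cfsg.pCore p (G ⧸ C) := by
      rw [hD] at hd; exact hd
    obtain ⟨s, hs, hsd⟩ := h4 hd'
    have hc : s⁻¹ * d ∈ C := QuotientGroup.eq.1 hsd
    refine ⟨s, ?_, s⁻¹ * d, hc, by group⟩
    rw [hR]
    refine ⟨hs, ?_⟩
    have e : s = d * (s⁻¹ * d)⁻¹ := by group
    rw [e]
    exact D.mul_mem hd (D.inv_mem (hCD hc))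
  -- Frattini
  have hSyl : IsSylowIn p R D := hR ▸ isSylowIn_inf_normal S D
  have hfrat : ∀ g : G, ∃ z ∈ D, z⁻¹ * g ∈ Subgroup.normalizer (R : Set G) := by
    intro g
    have h5 : IsSylowIn p (R.map (MulAut.conj g).toMonoidHom) D := by
      have h6 := hSyl.conj g
      have h7 : D.map (MulAut.conj g).toMonoidHom = D := by
        have : g ∈ Subgroup.normalizer (D : Set G) := by
          rw [Subgroup.normalizer_eq_top_iff.2 hDn]; trivial
        exact Subgroup.mem_normalizer_iff_map_conj_eq.1 this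
      rwa [h7] at h6
    obtain ⟨z, hz, hzR⟩ := hSyl.exists_conj h5
    refine ⟨z, hz, ?_⟩
    have hzR' : Cfsg.Agent.Lib.H16.cj g R = Cfsg.Agent.Lib.H16.cj z R := hzR
    rw [Cfsg.Agent.Lib.H16.mem_normalizer_iff_cj_eq, Cfsg.Agent.Lib.H16.cj_mul, hzR',
      Cfsg.Agent.Lib.H16.cj_inv_cj]
  -- the normalizer of `Z(L(S))` is everything
  have hNR : Subgroup.normalizer (R : Set G) ≤ Subgroup.normalizer (zl (S : Subgroup G) : Set G) := by
    refine le_trans (normalizer_le_normalizer_upperIn R) ?_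
    rw [hLeq]
    exact normalizer_le_normalizer_zl _
  have hCN : C ≤ Subgroup.normalizer (zl (S : Subgroup G) : Set G) := by
    intro c hc
    rw [hC] at hc
    rw [Subgroup.mem_normalizer_iff]
    intro y
    constructor
    · intro hy
      have h1 := (Subgroup.mem_centralizer_iff.1 hc) y (hZQ hy)
      have e : c * y * c⁻¹ = y := by rw [← h1]; group
      rw [e]; exact hy
    · intro hy
      have h1 := (Subgroup.mem_centralizer_iff.1 hc) _ (hZQ hy)
      have e : y = c * y * c⁻¹ := by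
        calc y = c⁻¹ * (c * y * c⁻¹ * c) := by group
          _ = c⁻¹ * (c * (c * y * c⁻¹)) := by rw [h1]
          _ = c * y * c⁻¹ := by group
      rw [e]; exact hy
  rw [← Subgroup.normalizer_eq_top_iff, eq_top_iff]
  intro g _
  obtain ⟨z, hz, hzg⟩ := hfrat g
  obtain ⟨r, hr, c, hc, rfl⟩ := hD_le z hz
  have e : g = r * c * ((r * c)⁻¹ * g) := by group
  rw [e]
  exact Subgroup.mul_mem _ (Subgroup.mul_mem _ (hNR (Subgroup.le_normalizer hr)) (hCN hc))
    (hNR hzg)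

end ZL

section InjOn

open Cfsg.Agent.Lib.H5 Cfsg.Agent.Lib.H15

variable {G' : Type*} [Group G'] [Finite G']

theorem map_stepIn_of_injOn (f : G →* G') (Q X : Subgroup G) (hf : Set.InjOn f (Q : Set G))
    (hXQ : X ≤ Q) : (stepIn Q X).map f = stepIn (Q.map f) (X.map f) := by
  apply le_antisymm
  · rw [Subgroup.map_le_iff_le_comap]
    unfold stepIn
    apply sSup_le
    rintro A ⟨hAQ, hA, hXA⟩
    rw [← Subgroup.map_le_iff_le_comap]
    refine le_sSup ⟨Subgroup.map_mono hAQ, ?_, ?_⟩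
    · haveI := hA
      exact Subgroup.map_isMulCommutative A f
    · exact (Subgroup.map_mono hXA).trans (Subgroup.le_normalizer_map f)
  · unfold stepIn
    apply sSup_le
    rintro A' ⟨hA'Q, hA', hN⟩
    have hmap : (A'.comap f ⊓ Q).map f = A' := by
      apply le_antisymm
      · rintro _ ⟨x, hx, rfl⟩
        exact hx.1
      · intro a' ha'
        obtain ⟨q, hq, rfl⟩ := hA'Q ha'
        exact ⟨q, ⟨ha', hq⟩, rfl⟩
    rw [← hmap]
    apply Subgroup.map_mono
    refine le_sSup ⟨inf_le_right, ?_, ?_⟩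
    · constructor
      constructor
      rintro ⟨a, ha⟩ ⟨b, hb⟩
      apply Subtype.ext
      apply hf (Q.mul_mem ha.2 hb.2) (Q.mul_mem hb.2 ha.2)
      rw [map_mul, map_mul]
      exact congrArg Subtype.val (hA'.is_comm.comm ⟨f a, ha.1⟩ ⟨f b, hb.1⟩)
    · intro x hx
      apply Cfsg.Agent.Lib.H16.mem_normalizer_of_conj_mem
      intro a ha
      refine Subgroup.mem_inf.2
        ⟨?_, Q.mul_mem (Q.mul_mem (hXQ hx) ha.2) (Q.inv_mem (hXQ hx))⟩
      rw [Subgroup.mem_comap, map_mul, map_mul, map_inv]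
      exact (Subgroup.mem_normalizer_iff.1 (hN (Subgroup.mem_map_of_mem f hx)) (f a)).1 ha.1

theorem map_seqIn_of_injOn (f : G →* G') (Q : Subgroup G) (hf : Set.InjOn f (Q : Set G)) (n : ℕ) :
    (seqIn Q n).map f = seqIn (Q.map f) n := by
  induction n with
  | zero =>
    change (⊥ : Subgroup G).map f = ⊥
    exact Subgroup.map_bot _
  | succ n ih =>
    change (stepIn Q (seqIn Q n)).map f = stepIn _ (seqIn _ n)
    rw [map_stepIn_of_injOn f Q _ hf (seqIn_le Q n), ih]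

omit [Finite G] [Finite G'] in
theorem map_iInf_of_injOn (f : G →* G') (Q : Subgroup G) (hf : Set.InjOn f (Q : Set G))
    (s : ℕ → Subgroup G) (hs : ∀ n, s n ≤ Q) : (⨅ n, s n).map f = ⨅ n, (s n).map f := by
  apply le_antisymm
  · exact le_iInf (fun n => Subgroup.map_mono (iInf_le s n))
  · intro y hy
    rw [Subgroup.mem_iInf] at hy
    obtain ⟨x0, hx0, hx0y⟩ := hy 0
    refine ⟨x0, ?_, hx0y⟩
    refine Subgroup.mem_iInf.2 ?_
    intro n
    obtain ⟨xn, hxn, hxny⟩ := hy n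
    have : xn = x0 := hf (hs n hxn) (hs 0 hx0) (hxny.trans hx0y.symm)
    rw [← this]
    exact hxn

theorem map_upperIn_of_injOn (f : G →* G') (Q : Subgroup G) (hf : Set.InjOn f (Q : Set G)) :
    (upperIn Q).map f = upperIn (Q.map f) := by
  unfold upperIn
  rw [map_iInf_of_injOn f Q hf _ (fun n => seqIn_le Q _)]
  exact iInf_congr (fun n => map_seqIn_of_injOn f Q hf (2 * n + 1))

theorem map_zl_of_injOn (f : G →* G') (Q : Subgroup G) (hf : Set.InjOn f (Q : Set G)) :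
    (zl Q).map f = zl (Q.map f) := by
  unfold zl
  rw [← map_upperIn_of_injOn f Q hf]
  ext y
  constructor
  · rintro ⟨x, hx, rfl⟩
    refine Subgroup.mem_inf.2 ⟨Subgroup.mem_map_of_mem f hx.1, ?_⟩
    refine Subgroup.mem_centralizer_iff.2 ?_
    rintro _ ⟨w, hw, rfl⟩
    rw [← map_mul, ← map_mul, (Subgroup.mem_centralizer_iff.1 hx.2) w hw]
  · intro hy
    obtain ⟨hy1, hy2⟩ := Subgroup.mem_inf.1 hy
    obtain ⟨z, hz, rfl⟩ := hy1
    refine ⟨z, Subgroup.mem_inf.2 ⟨hz, ?_⟩, rfl⟩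
    refine Subgroup.mem_centralizer_iff.2 ?_
    intro w hw
    have h1 := (Subgroup.mem_centralizer_iff.1 hy2) (f w) (Subgroup.mem_map_of_mem f hw)
    rw [← map_mul, ← map_mul] at h1
    exact hf (Q.mul_mem (upperIn_le Q hw) (upperIn_le Q hz))
      (Q.mul_mem (upperIn_le Q hz) (upperIn_le Q hw)) h1

omit [Finite G] in
/-- a `p`-subgroup meets a `p'`-subgroup trivially -/
theorem eq_one_of_mem_pGroup_of_mem_coprime {p : ℕ} [Fact p.Prime] {Q K : Subgroup G}
    (hQ : IsPGroup p Q) (hK : (Nat.card K).Coprime p) {x : G} (hxQ : x ∈ Q) (hxK : x ∈ K) :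
    x = 1 := by
  obtain ⟨j, hj⟩ := hQ ⟨x, hxQ⟩
  have hj' : x ^ (p ^ j) = 1 := by simpa using congrArg Subtype.val hj
  have h1 : orderOf x ∣ p ^ j := orderOf_dvd_of_pow_eq_one hj'
  have h2 : orderOf x ∣ Nat.card K := by
    have := orderOf_dvd_natCard (⟨x, hxK⟩ : K)
    rwa [Subgroup.orderOf_mk] at this
  have h3 : (Nat.card K).Coprime (p ^ j) := Nat.Coprime.pow_right j hK
  have h4 : orderOf x ∣ 1 := by
    rw [← Nat.Coprime.gcd_eq_one h3]
    exact Nat.dvd_gcd h2 h1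
  exact orderOf_eq_one_iff.1 (Nat.dvd_one.1 h4)

/-- **Puig**, general form: `G = O_{p'}(G) N_G(Z(L(S)))`. -/
theorem pPrimeCore_sup_normalizer_zl [Group.IsSolvable G] (hodd : Odd (Nat.card G)) (p : ℕ)
    [Fact p.Prime] (hp : p ≠ 2) (S : Sylow p G) :
    Cfsg.pPrimeCore p G ⊔ Subgroup.normalizer (zl (S : Subgroup G) : Set G) = ⊤ := by
  classical
  obtain ⟨K, hK⟩ : ∃ K : Subgroup G, K = Cfsg.pPrimeCore p G := ⟨_, rfl⟩
  rw [← hK]
  haveI hKn : K.Normal := hK ▸ Cfsg.Agent.Lib.H22.pPrimeCore_normal p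
  have hKc : (Nat.card K).Coprime p := hK ▸ Cfsg.Agent.Lib.H22.card_pPrimeCore_coprime p
  obtain ⟨π, hπ⟩ : ∃ π : G →* G ⧸ K, π = QuotientGroup.mk' K := ⟨_, rfl⟩
  have hπs : Function.Surjective π := hπ ▸ QuotientGroup.mk'_surjective K
  have hπk : ∀ x y : G, π x = π y → x⁻¹ * y ∈ K := by
    intro x y hxy
    rw [hπ] at hxy
    exact QuotientGroup.eq.1 hxy
  have hinj : Set.InjOn π ((S : Subgroup G) : Set G) := by
    intro x hx y hy hxy
    have h1 := hπk x y hxy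
    have h2 : x⁻¹ * y ∈ (S : Subgroup G) := Subgroup.mul_mem _ (Subgroup.inv_mem _ hx) hy
    have h3 := eq_one_of_mem_pGroup_of_mem_coprime S.isPGroup' hKc h2 h1
    exact inv_mul_eq_one.1 h3
  -- the quotient
  have hoddq : Odd (Nat.card (G ⧸ K)) := Odd.of_dvd_nat hodd (Subgroup.card_quotient_dvd_card K)
  have hObot : Cfsg.pPrimeCore p (G ⧸ K) = ⊥ := by
    subst hK
    exact Cfsg.Agent.Lib.H9.pPrimeCore_quotient_eq_bot p
  have hZn := zl_normal hoddq p hp hObot (S.mapSurjective hπs)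
  rw [Sylow.coe_mapSurjective, ← map_zl_of_injOn π _ hinj] at hZn
  obtain ⟨Z, hZ⟩ : ∃ Z : Subgroup G, Z = zl (S : Subgroup G) := ⟨_, rfl⟩
  rw [← hZ] at hZn ⊢
  have hZS : Z ≤ (S : Subgroup G) := hZ ▸ (inf_le_left.trans (upperIn_le _))
  have hZp : IsPGroup p Z := S.isPGroup'.to_le hZS
  -- the preimage `M = Z K`
  obtain ⟨M, hM⟩ : ∃ M : Subgroup G, M = (Z.map π).comap π := ⟨_, rfl⟩
  haveI hMn : M.Normal := by
    rw [hM]; exact Subgroup.Normal.comap hZn π
  have hZM : Z ≤ M := by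
    rw [hM, ← Subgroup.map_le_iff_le_comap]
  have hMdec : ∀ m ∈ M, ∃ z ∈ Z, z⁻¹ * m ∈ K := by
    intro m hm
    rw [hM, Subgroup.mem_comap] at hm
    obtain ⟨z, hz, hzm⟩ := hm
    exact ⟨z, hz, hπk z m hzm⟩
  have hSyl : IsSylowIn p Z M := by
    refine ⟨hZM, hZp, ?_⟩
    intro Q hQ hZQ hQM
    apply le_antisymm _ hZQ
    intro q hq
    obtain ⟨z, hz, hzq⟩ := hMdec q (hQM hq)
    have h1 : z⁻¹ * q ∈ Q := Q.mul_mem (Q.inv_mem (hZQ hz)) hq
    have h2 := eq_one_of_mem_pGroup_of_mem_coprime hQ hKc h1 hzq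
    have : q = z := (inv_mul_eq_one.1 h2).symm
    rw [this]; exact hz
  rw [eq_top_iff]
  intro g _
  have h5 : IsSylowIn p (Z.map (MulAut.conj g).toMonoidHom) M := by
    have h6 := hSyl.conj g
    have h7 : M.map (MulAut.conj g).toMonoidHom = M := by
      have : g ∈ Subgroup.normalizer (M : Set G) := by
        rw [Subgroup.normalizer_eq_top_iff.2 hMn]; trivial
      exact Subgroup.mem_normalizer_iff_map_conj_eq.1 this
    rwa [h7] at h6
  obtain ⟨m, hm, hmZ⟩ := hSyl.exists_conj h5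
  have hmg : m⁻¹ * g ∈ Subgroup.normalizer (Z : Set G) := by
    have hmZ' : Cfsg.Agent.Lib.H16.cj g Z = Cfsg.Agent.Lib.H16.cj m Z := hmZ
    rw [Cfsg.Agent.Lib.H16.mem_normalizer_iff_cj_eq, Cfsg.Agent.Lib.H16.cj_mul, hmZ',
      Cfsg.Agent.Lib.H16.cj_inv_cj]
  obtain ⟨z, hz, hzm⟩ := hMdec m hm
  have e : g = z * (z⁻¹ * m) * (m⁻¹ * g) := by group
  rw [e]
  exact Subgroup.mul_mem _ (Subgroup.mul_mem _
    (Subgroup.mem_sup_right (Subgroup.le_normalizer hz)) (Subgroup.mem_sup_left hzm))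
    (Subgroup.mem_sup_right hmg)

end InjOn

end Cfsg.Agent.Lib.H16.Puig
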