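import Mathlib
import Cfsg.Prelude
import Cfsg.Agent.Lib.H1.PCore
import Cfsg.Agent.Lib.H22.PPrimeCore

/-! A Sylow `p`-subgroup `P ≤ G'` of a group of `p`-length one satisfies `P = [P, A]` for a
`p'`-complement `A` of `P` in `N_G(P)` (helper16). -/

set_option autoImplicit false

namespace Cfsg.Agent.Lib.H16.SylComm

open scoped commutatorElement

variable {M : Type*} [Group M]

theorem conj_comm_left (a x y : M) : a * ⁅x, y⁆ * a⁻¹ = ⁅a * x, y⁆ * ⁅a, y⁆⁻¹ := by
  simp only [commutatorElement_def]; group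

theorem conj_comm_right (b x y : M) : b * ⁅x, y⁆ * b⁻¹ = ⁅x, b⁆⁻¹ * ⁅x, b * y⁆ := by
  simp only [commutatorElement_def]; group

/-- A subgroup `A` normalizes `H` as soon as it conjugates `H` into `H`. -/
theorem le_normalizer_of_conj_mem {A H : Subgroup M} (h : ∀ a ∈ A, ∀ x ∈ H, a * x * a⁻¹ ∈ H) :
    A ≤ Subgroup.normalizer (H : Set M) := by
  intro a ha
  rw [Subgroup.mem_normalizer_iff]
  intro x
  refine ⟨h a ha x, fun hx => ?_⟩
  have h1 := h a⁻¹ (A.inv_mem ha) _ hx
  have h2 : a⁻¹ * (a * x * a⁻¹) * a⁻¹⁻¹ = x := by group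
  rwa [h2] at h1

theorem left_le_normalizer_commutator (A B : Subgroup M) :
    A ≤ Subgroup.normalizer ((⁅A, B⁆ : Subgroup M) : Set M) := by
  apply le_normalizer_of_conj_mem
  intro a ha
  have h1 : ⁅A, B⁆ ≤ (⁅A, B⁆ : Subgroup M).comap (MulAut.conj a).toMonoidHom := by
    rw [Subgroup.commutator_le]
    intro x hx y hy
    rw [Subgroup.mem_comap]
    show a * ⁅x, y⁆ * a⁻¹ ∈ ⁅A, B⁆
    rw [conj_comm_left]
    exact Subgroup.mul_mem _ (Subgroup.commutator_mem_commutator (A.mul_mem ha hx) hy)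
      (Subgroup.inv_mem _ (Subgroup.commutator_mem_commutator ha hy))
  intro z hz
  exact h1 hz

theorem right_le_normalizer_commutator (A B : Subgroup M) :
    B ≤ Subgroup.normalizer ((⁅A, B⁆ : Subgroup M) : Set M) := by
  apply le_normalizer_of_conj_mem
  intro b hb
  have h1 : ⁅A, B⁆ ≤ (⁅A, B⁆ : Subgroup M).comap (MulAut.conj b).toMonoidHom := by
    rw [Subgroup.commutator_le]
    intro x hx y hy
    rw [Subgroup.mem_comap]
    show b * ⁅x, y⁆ * b⁻¹ ∈ ⁅A, B⁆
    rw [conj_comm_right]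
    exact Subgroup.mul_mem _ (Subgroup.inv_mem _ (Subgroup.commutator_mem_commutator hx hb))
      (Subgroup.commutator_mem_commutator hx (B.mul_mem hb hy))
  intro z hz
  exact h1 hz

/-- If `B` normalizes `A` then `[A, B] ≤ A`. -/
theorem commutator_le_left_of_le_normalizer {A B : Subgroup M}
    (h : B ≤ Subgroup.normalizer (A : Set M)) : ⁅A, B⁆ ≤ A := by
  rw [Subgroup.commutator_le]
  intro x hx y hy
  have h1 : y * x⁻¹ * y⁻¹ ∈ A := (Subgroup.mem_normalizer_iff.mp (h hy) x⁻¹).mp (A.inv_mem hx)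
  have h2 : ⁅x, y⁆ = x * (y * x⁻¹ * y⁻¹) := by simp only [commutatorElement_def]; group
  rw [h2]
  exact A.mul_mem hx h1

theorem card_sup_dvd_of_le_normalizer {H N : Subgroup M} (h : H ≤ Subgroup.normalizer (N : Set M)) :
    Nat.card (H ⊔ N : Subgroup M) ∣ Nat.card H * Nat.card N := by
  have := Subgroup.normal_subgroupOf_of_le_normalizer h
  have := Subgroup.normal_subgroupOf_sup_of_le_normalizer h
  have h0 : N.relIndex (H ⊔ N) = N.relIndex H := by
    unfold Subgroup.relIndex Subgroup.index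
    exact (Nat.card_congr (QuotientGroup.quotientInfEquivProdNormalizerQuotient H N h).toEquiv).symm
  have h1 : Nat.card N * N.relIndex (H ⊔ N) = Nat.card (H ⊔ N : Subgroup M) := by
    have := Subgroup.relIndex_mul_relIndex ⊥ N (H ⊔ N) bot_le le_sup_right
    rwa [Subgroup.relIndex_bot_left, Subgroup.relIndex_bot_left] at this
  rw [← h1, h0, mul_comm]
  exact Nat.mul_dvd_mul_right (Subgroup.relIndex_dvd_card N H) _

end Cfsg.Agent.Lib.H16.SylComm
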