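import Mathlib
import Cfsg.Agent.Lib.H16.BGb
import Cfsg.Agent.Lib.H16.PuigOdd
import Cfsg.Agent.Lib.H7.PConstrained
import Cfsg.Agent.Lib.H7.Coprime
import Cfsg.Agent.Lib.H16.SylCommA
import Cfsg.Agent.S1466

/-! # Bender–Glauberman local analysis: the core lemma, Puig's theorem in relative form, coprime
action (helper16) -/

set_option autoImplicit false
set_option linter.style.haveILetI false
set_option linter.unusedSectionVars false
set_option linter.unusedVariables false
set_option linter.deprecated false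
open Cfsg

namespace Cfsg.Agent.Lib.H16.BG

open Cfsg.Agent.Lib.H19 (IsPiCard)
open Cfsg.Agent.Lib.H7.BG7
open Cfsg.Agent.Lib.H16.Puig

universe u
variable {G : Type u} [Group G] [Finite G]

/-- **Core lemma.** For a `q`-subgroup `P` of the solvable subgroup `H`, a `q'`-subgroup of
`C_H(P)` normalized by `C_H(P)` lies in `O_{q'}(H)`. -/
theorem le_piCoreOf_of_le_centralizer (q : ℕ) [Fact q.Prime] {H P W : Subgroup G}
    (hs : Group.IsSolvable H) (hPH : P ≤ H) (hP : IsPGroup q P) (hWH : W ≤ H)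
    (hW : (Nat.card W).Coprime q) (hWP : W ≤ Subgroup.centralizer (P : Set G))
    (hn : H ⊓ Subgroup.centralizer (P : Set G) ≤ Subgroup.normalizer (W : Set G)) :
    W ≤ piCoreOf (primesNotDvd q) H := by
  rw [piCoreOf_primesNotDvd_eq]
  have hF := Cfsg.Agent.Lib.H7.centralizer_pCore_quotient_le_of_isSolvable (Y := ↥H) q hs
  have hP' : IsPGroup q (P.subgroupOf H) := hP.comap_subtype
  have hW' : (Nat.card (W.subgroupOf H)).Coprime q := by
    rw [Nat.card_congr (Subgroup.subgroupOfEquivOfLe hWH).toEquiv]; exact hW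
  have hWP' : W.subgroupOf H ≤ Subgroup.centralizer ((P.subgroupOf H : Subgroup H) : Set H) := by
    intro w hw
    rw [Subgroup.mem_centralizer_iff]
    intro x hx
    apply Subtype.ext
    exact Subgroup.mem_centralizer_iff.1 (hWP (Subgroup.mem_subgroupOf.1 hw)) _
      (Subgroup.mem_subgroupOf.1 hx)
  have hn' : Subgroup.centralizer ((P.subgroupOf H : Subgroup H) : Set H) ≤
      Subgroup.normalizer ((W.subgroupOf H : Subgroup H) : Set H) := by
    intro c hc
    have hcG : (c : G) ∈ H ⊓ Subgroup.centralizer (P : Set G) := by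
      refine ⟨c.2, ?_⟩
      refine Subgroup.mem_centralizer_iff.2 ?_
      intro x hx
      have := Subgroup.mem_centralizer_iff.1 hc ⟨x, hPH hx⟩ (Subgroup.mem_subgroupOf.2 hx)
      exact congrArg Subtype.val this
    have h1 := hn hcG
    rw [Subgroup.mem_normalizer_iff] at h1 ⊢
    intro x
    rw [Subgroup.mem_subgroupOf, Subgroup.mem_subgroupOf]
    exact h1 (x : G)
  have h := Cfsg.Agent.Lib.H7.le_pPrimeCore_of_le_centralizer q hF hP' hW' hWP' hn'
  have h2 := Subgroup.map_mono (f := H.subtype) h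
  rwa [Subgroup.map_subgroupOf_eq_of_le hWH] at h2

/-! ### Puig's theorem in relative form -/

theorem zl_le (Q : Subgroup G) : zl Q ≤ Q := inf_le_left.trans (upperIn_le Q)

theorem normalizer_le_normalizer_zl' (Q : Subgroup G) :
    Subgroup.normalizer (Q : Set G) ≤ Subgroup.normalizer (zl Q : Set G) :=
  (normalizer_le_normalizer_upperIn Q).trans (normalizer_le_normalizer_zl Q)

/-- the centre of the Puig subgroup of a nontrivial `p`-group is nontrivial. -/
theorem zl_ne_bot {p : ℕ} [Fact p.Prime] {Q : Subgroup G} (hQ : IsPGroup p Q) (hQ1 : Q ≠ ⊥) :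
    zl Q ≠ ⊥ := by
  have : Nontrivial ↥Q := (Subgroup.nontrivial_iff_ne_bot _).2 hQ1
  have h := Cfsg.Agent.S1466.result (R := ↥Q) p (hQ.of_equiv (MulEquiv.refl _))
  have hL : Cfsg.puigSubgroup ↥Q ≠ ⊥ := h.2.2.2.1
  have hU : upperIn Q ≠ ⊥ := by
    rw [← map_puigSubgroup]
    intro h0
    exact hL ((Subgroup.map_eq_bot_iff_of_injective _ (Subgroup.subtype_injective Q)).1 h0)
  exact inf_centralizer_self_ne_bot (hQ.to_le (upperIn_le Q)) hU

/-- **Puig's theorem** for a solvable subgroup `H` of a group of odd order. -/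
theorem puig_rel (hodd : Odd (Nat.card G)) {p : ℕ} [Fact p.Prime] (hp2 : p ≠ 2)
    {H S : Subgroup G} (hs : Group.IsSolvable H) (hS : SylIn p S H) :
    ∀ h ∈ H, ∃ k ∈ piCoreOf (primesNotDvd p) H,
      ∃ n ∈ H ⊓ Subgroup.normalizer (zl S : Set G), h = k * n := by
  obtain ⟨S', hS'⟩ := hS.exists_sylow
  have hoddH : Odd (Nat.card H) := hodd.of_dvd_nat (Subgroup.card_subgroup_dvd_card H)
  have h1 := pPrimeCore_sup_normalizer_zl hoddH p hp2 S'
  have hzl : (zl (S' : Subgroup H)).map H.subtype = zl S := by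
    rw [map_zl_of_injOn H.subtype _ (Subgroup.subtype_injective H).injOn, hS']
  haveI : (Cfsg.pPrimeCore p ↥H).Normal := Cfsg.Agent.Lib.H22.pPrimeCore_normal p
  intro h hh
  have hmem : (⟨h, hh⟩ : H) ∈ Cfsg.pPrimeCore p ↥H ⊔
      Subgroup.normalizer ((zl (S' : Subgroup H) : Subgroup H) : Set H) := by
    rw [h1]; exact Subgroup.mem_top _
  obtain ⟨k, hk, n, hn, hkn⟩ := Cfsg.Agent.Lib.H1.mem_sup_of_le_normalizer
    (X := Cfsg.pPrimeCore p ↥H) (by
      rw [Subgroup.normalizer_eq_top_iff.2 this]; exact le_top) hmem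
  refine ⟨(k : G), ?_, (n : G), ⟨n.2, ?_⟩, ?_⟩
  · rw [piCoreOf_primesNotDvd_eq]
    exact Subgroup.mem_map_of_mem _ hk
  · rw [← hzl]
    have hsub : Subgroup.zpowers (n : G) ≤ Subgroup.normalizer
        (((zl (S' : Subgroup H)).map H.subtype : Subgroup G) : Set G) := by
      apply Cfsg.Agent.Lib.H16.SylComm.le_normalizer_of_conj_mem
      intro a ha
      rintro _ ⟨y, hy, rfl⟩
      obtain ⟨i, rfl⟩ := Subgroup.mem_zpowers_iff.1 ha
      have hni : n ^ i ∈ Subgroup.normalizer ((zl (S' : Subgroup H) : Subgroup H) : Set H) :=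
        Subgroup.zpow_mem _ hn i
      have := (Subgroup.mem_normalizer_iff.1 hni y).1 hy
      refine ⟨_, this, ?_⟩
      simp
    exact hsub (Subgroup.mem_zpowers _)
  · have := congrArg Subtype.val hkn
    simpa using this

/-- if `O_{p'}(H) = 1` then `Z(L(S))` is normal in `H`. -/
theorem puig_rel_normal (hodd : Odd (Nat.card G)) {p : ℕ} [Fact p.Prime] (hp2 : p ≠ 2)
    {H S : Subgroup G} (hs : Group.IsSolvable H) (hS : SylIn p S H)
    (hO : piCoreOf (primesNotDvd p) H = ⊥) : H ≤ Subgroup.normalizer (zl S : Set G) := by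
  intro h hh
  obtain ⟨k, hk, n, hn, rfl⟩ := puig_rel hodd hp2 hs hS h hh
  rw [hO, Subgroup.mem_bot] at hk
  rw [hk, one_mul]
  exact hn.2

/-! ### coprime action -/

open Cfsg.Agent.Lib.H1 in
/-- a coprime action without fixed points: `K = [K, A]`. -/
theorem commutator_eq_of_centralizer_eq_bot {A K : Subgroup G} (h : CoprimeAction A K)
    (hC : K ⊓ Subgroup.centralizer (A : Set G) = ⊥) : ⁅K, A⁆ = K := by
  have := coprime_commutator_sup_centralizer h
  rwa [hC, sup_bot_eq] at this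

/-- a nontrivial subgroup all of whose Sylow subgroups are trivial does not exist. -/
theorem eq_bot_of_forall_sylIn_eq_bot {Y : Subgroup G}
    (h : ∀ q : ℕ, ∀ _ : Fact q.Prime, ∀ Q : Subgroup G, SylIn q Q Y → Q = ⊥) : Y = ⊥ := by
  have := eq_of_forall_sylIn_le (F := Y) (U := ⊥) bot_le (by
    intro q hq
    obtain ⟨Q, hQ⟩ := SylIn.exists_sylIn q Y
    exact ⟨Q, hQ, (h q hq Q hQ).le⟩)
  exact this.symm

open Cfsg.Agent.Lib.H1 in
/-- if every `A`-invariant Sylow subgroup of `Y` is trivial (coprime action), then `Y = 1`. -/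
theorem eq_bot_of_forall_invariant_sylow {A Y : Subgroup G} (h : CoprimeAction A Y)
    (hq : ∀ q : ℕ, ∀ _ : Fact q.Prime, ∀ Q : Subgroup G, Q ≤ Y → IsPGroup q Q →
      A ≤ Subgroup.normalizer (Q : Set G) → Q = ⊥) : Y = ⊥ := by
  rw [← Subgroup.card_eq_one]
  by_contra hne
  obtain ⟨q, hqp, hqY⟩ := Nat.exists_prime_and_dvd hne
  haveI : Fact q.Prime := ⟨hqp⟩
  obtain ⟨Q, hQ, hQA⟩ := coprime_exists_invariant_sylow h q
  have hQ1 := hq q ⟨hqp⟩ Q hQ.le hQ.isPGroup hQA
  have hc := hQ.card_eq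
  rw [hQ1, Subgroup.card_bot] at hc
  have : 0 < (Nat.card Y).factorization q :=
    hqp.factorization_pos_of_dvd Nat.card_pos.ne' hqY
  have : 1 < q ^ (Nat.card Y).factorization q := Nat.one_lt_pow this.ne' hqp.one_lt
  omega

end Cfsg.Agent.Lib.H16.BG
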