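import Mathlib
import Cfsg.Agent.Lib.H16.BGc

/-! # Bender–Glauberman §8: killing signalizers (helper16) -/

set_option autoImplicit false
set_option linter.style.haveILetI false
set_option linter.unusedSectionVars false
set_option linter.unusedVariables false
set_option linter.deprecated false
open Cfsg

namespace Cfsg.Agent.Lib.H16.BG

open Cfsg.Agent.Lib.H19 (IsPiCard)
open Cfsg.Agent.Lib.H7.BG7
open Cfsg.Agent.Lib.H7 (map_conj_one)

universe u
variable {G : Type u} [Group G] [Finite G]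

/-- the prime divisors of the order of a nontrivial `q`-group. -/
theorem dvd_card_of_isPGroup_ne_bot {q : ℕ} [hq : Fact q.Prime] {Q : Subgroup G} (hQ : IsPGroup q Q)
    (hQ1 : Q ≠ ⊥) : q ∣ Nat.card Q := by
  obtain ⟨k, hk⟩ := IsPGroup.iff_card.1 hQ
  have hk0 : k ≠ 0 := by
    rintro rfl
    rw [pow_zero] at hk
    exact hQ1 (Subgroup.card_eq_one.1 hk)
  rw [hk]
  exact dvd_pow_self q hk0

/-- **Killing signalizers.** `A ≤ F ≤ M` with `M = N_G(F)` maximal, `F` nilpotent with the same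
prime divisors as `A`; `A` satisfies the transitivity hypothesis and its centre has rank at
least three; `C_G(A) ≤ M` and `M` has no nontrivial `A`-invariant `π(A)'`-subgroup. Then `G` has
no nontrivial `A`-invariant `π(A)'`-subgroup. -/
theorem eq_bot_of_invariant (hG : IsMinSimpleOddOrder G) {M F A : Subgroup G} (hM : IsCoatom M)
    (hAF : A ≤ F) (hFM : F ≤ M) (hMF : M ≤ Subgroup.normalizer (F : Set G))
    (hF : Group.IsNilpotent F) (hπ : ∀ r : ℕ, r.Prime → r ∣ Nat.card F → r ∣ Nat.card A)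
    (hTH : TransitivityHypothesis A) {p : ℕ} [Fact p.Prime] {B : Subgroup G}
    (hBZ : B ≤ A ⊓ Subgroup.centralizer (A : Set G)) (hB : IsElementaryAbelian p B)
    (hB3 : p ^ 3 ≤ Nat.card B) (hCA : Subgroup.centralizer (A : Set G) ≤ M)
    (hM1 : ∀ W : Subgroup G, W ≤ M → IsPiCard (primesNotDvd (Nat.card A)) (Nat.card W) →
      A ≤ Subgroup.normalizer (W : Set G) → W = ⊥) :
    ∀ Y : Subgroup G, IsPiCard (primesNotDvd (Nat.card A)) (Nat.card Y) →
      A ≤ Subgroup.normalizer (Y : Set G) → Y = ⊥ := by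
  have hFt : F ≠ ⊤ := by
    rintro rfl
    exact hM.1 (top_le_iff.1 hFM)
  -- `K = 1`
  have hK : KK A = ⊥ := by
    apply hM1 _ ((KK_le_centralizer A).trans hCA) (piCoreOf_isPiCard _ _)
    exact (le_centralizer_comm (KK_le_centralizer A)).trans (Subgroup.centralizer_le_normalizer _)
  -- no invariant `r`-subgroups
  have key : ∀ r : ℕ, ∀ _ : Fact r.Prime, ¬ r ∣ Nat.card A → ∀ R : Subgroup G, IsPGroup r R →
      A ≤ Subgroup.normalizer (R : Set G) → R = ⊥ := by
    intro r hr hrA R hRr hRA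
    have hrπ : r ∈ primesNotDvd (Nat.card A) := ⟨hr.out, hrA⟩
    have huniq : ∀ Q₁ Q₂ : Subgroup G, IsMaxInv A r Q₁ → IsMaxInv A r Q₂ → Q₁ = Q₂ := by
      intro Q₁ Q₂ h₁ h₂
      obtain ⟨k, hk, hkQ⟩ := trans_rank3 hG hTH hBZ hB hB3 hrA h₁ h₂
      rw [hK, Subgroup.mem_bot] at hk
      rw [hk, map_conj_one] at hkQ
      exact hkQ
    have htr : Trans A r := by
      intro Q₁ Q₂ h₁ h₂
      exact trans_rank3 hG hTH hBZ hB hB3 hrA h₁ h₂
    have hsn : (A.subgroupOf F).IsSubnormal :=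
      (Cfsg.Agent.Lib.H1.isNilpotent_iff_forall_isSubnormal.1 hF) _
    obtain ⟨hmax, -⟩ := subnormal_step hG hFt (q := r) (A.subgroupOf F) hsn A
      (Subgroup.map_subgroupOf_eq_of_le hAF).symm hTH hπ hrA htr
    obtain ⟨QF, hQF, -⟩ := exists_isMaxInv_ge (A := F) (q := r) (S := ⊥) IsPGroup.of_bot
      (by intro x _; rw [Subgroup.mem_normalizer_iff]; intro y; simp)
    have hQFA : IsMaxInv A r QF := hmax QF hQF
    have hMQ : M ≤ Subgroup.normalizer (QF : Set G) := by
      intro m hm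
      rw [Subgroup.mem_normalizer_iff_map_conj_eq]
      have h1 := isMaxInv_map_conj_of_mem_normalizer hQF (hMF hm)
      exact huniq _ _ (hmax _ h1) hQFA
    have hQF1 : QF = ⊥ := by
      by_contra hne
      have hN := normalizer_ne_top_of_isPGroup hG hQF.1 hne
      have hNM : Subgroup.normalizer (QF : Set G) = M := eq_of_coatom_of_le hG hM hN hMQ
      have hQM : QF ≤ M := hNM ▸ Subgroup.le_normalizer
      exact hne (hM1 QF hQM (isPiCard_card_of_isPGroup hrπ hQF.1) hQFA.2.1)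
    obtain ⟨Q, hQ, hRQ⟩ := exists_isMaxInv_ge hRr hRA
    have : Q = QF := huniq _ _ hQ hQFA
    rw [this, hQF1] at hRQ
    exact le_bot_iff.1 hRQ
  intro Y hY hAY
  have hAs : Group.IsSolvable A := solvable_of_le_ne_top hG hM.1 (hAF.trans hFM)
  have hact : Cfsg.Agent.Lib.H1.CoprimeAction A Y :=
    ⟨hAY, coprime_of_isPiCard _ hY, Or.inl hAs⟩
  apply eq_bot_of_forall_invariant_sylow hact
  intro q hq Q hQY hQq hAQ
  by_contra hne
  have hqY : q ∣ Nat.card Y := (dvd_card_of_isPGroup_ne_bot hQq hne).trans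
    (Subgroup.card_dvd_of_le hQY)
  exact hne (key q hq (hY q hq.out hqY).2 Q hQq hAQ)

end Cfsg.Agent.Lib.H16.BG
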