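import Mathlib
import Cfsg.Agent.Lib.H16.BGd

/-! # Bender–Glauberman §8: the Fitting subgroup of a maximal subgroup, setup (helper16) -/

set_option autoImplicit false
set_option linter.style.haveILetI false
set_option linter.unusedSectionVars false
set_option linter.unusedVariables false
set_option linter.deprecated false
open Cfsg

namespace Cfsg.Agent.Lib.H16.BG

open Cfsg.Agent.Lib.H19 (IsPiCard)
open Cfsg.Agent.Lib.H7.BG7

universe u
variable {G : Type u} [Group G] [Finite G]

/-- `X` normalizes an intersection of subgroups it normalizes. -/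
theorem le_normalizer_iInf {ι : Sort*} {X : Subgroup G} {f : ι → Subgroup G}
    (h : ∀ i, X ≤ Subgroup.normalizer (f i : Set G)) :
    X ≤ Subgroup.normalizer ((⨅ i, f i : Subgroup G) : Set G) := by
  intro x hx
  rw [Subgroup.mem_normalizer_iff]
  intro y
  simp only [Subgroup.mem_iInf]
  constructor
  · intro hy i
    exact (Subgroup.mem_normalizer_iff.1 (h i hx) y).1 (hy i)
  · intro hy i
    exact (Subgroup.mem_normalizer_iff.1 (h i hx) y).2 (hy i)

theorem le_normalizer_inf' {X Y Z : Subgroup G} (hY : X ≤ Subgroup.normalizer (Y : Set G))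
    (hZ : X ≤ Subgroup.normalizer (Z : Set G)) :
    X ≤ Subgroup.normalizer ((Y ⊓ Z : Subgroup G) : Set G) := by
  intro x hx
  rw [Subgroup.mem_normalizer_iff]
  intro y
  rw [Subgroup.mem_inf, Subgroup.mem_inf, ← Subgroup.mem_normalizer_iff.1 (hY hx) y,
    ← Subgroup.mem_normalizer_iff.1 (hZ hx) y]

/-- `[Y, X] ≤ N` when `Y ≤ H`, `X ≤ N`, and `H` normalizes `N`. -/
theorem commutator_le_of_le_normalizer {Y X N : Subgroup G}
    (hYN : Y ≤ Subgroup.normalizer (N : Set G)) (hXN : X ≤ N) : ⁅Y, X⁆ ≤ N :=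
  (Subgroup.commutator_mono le_rfl hXN).trans
    (Subgroup.le_normalizer_iff_commutator_le_right.1 hYN)

/-- centralizers are antitone. -/
theorem centralizer_anti {X Y : Subgroup G} (h : X ≤ Y) :
    Subgroup.centralizer (Y : Set G) ≤ Subgroup.centralizer (X : Set G) :=
  Subgroup.centralizer_le h

/-- a subgroup normalizing `X` normalizes `C_G(X)`. -/
theorem le_normalizer_centralizer_of_le {N X : Subgroup G}
    (h : N ≤ Subgroup.normalizer (X : Set G)) :
    N ≤ Subgroup.normalizer ((Subgroup.centralizer (X : Set G) : Subgroup G) : Set G) :=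
  h.trans (normalizer_le_normalizer_centralizer X)

/-! ### the Sylow subgroups of `F(M)` and their centres -/

/-- `F_q`: the Sylow `q`-subgroup of `F(M)`. -/
abbrev Fq (M : Subgroup G) (q : ℕ) : Subgroup G := piCoreOf {q} (fittingOf M)

/-- `Z_q = Z(F_q)`. -/
abbrev Zq (M : Subgroup G) (q : ℕ) : Subgroup G :=
  Fq M q ⊓ Subgroup.centralizer (Fq M q : Set G)

theorem Fq_le (M : Subgroup G) (q : ℕ) : Fq M q ≤ fittingOf M := piCoreOf_le _ _

theorem Zq_le (M : Subgroup G) (q : ℕ) : Zq M q ≤ fittingOf M := inf_le_left.trans (Fq_le M q)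

theorem le_normalizer_Fq (M : Subgroup G) (q : ℕ) :
    M ≤ Subgroup.normalizer (Fq M q : Set G) :=
  (le_normalizer_fittingOf M).trans (normalizer_le_normalizer_piCoreOf _ _)

theorem le_normalizer_Zq (M : Subgroup G) (q : ℕ) :
    M ≤ Subgroup.normalizer (Zq M q : Set G) :=
  (le_normalizer_Fq M q).trans (normalizer_le_normalizer_inf_centralizer _)

theorem isPGroup_Fq (M : Subgroup G) (q : ℕ) [Fact q.Prime] : IsPGroup q (Fq M q) :=
  isPGroup_piCoreOf_singleton q _

theorem isPGroup_Zq (M : Subgroup G) (q : ℕ) [Fact q.Prime] : IsPGroup q (Zq M q) :=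
  (isPGroup_Fq M q).to_le inf_le_left

theorem Fq_ne_bot (M : Subgroup G) {q : ℕ} [Fact q.Prime] (hq : q ∣ Nat.card (fittingOf M)) :
    Fq M q ≠ ⊥ :=
  piCoreOf_singleton_ne_bot (fittingOf_isNilpotent M) hq

theorem Zq_ne_bot (M : Subgroup G) {q : ℕ} [Fact q.Prime] (hq : q ∣ Nat.card (fittingOf M)) :
    Zq M q ≠ ⊥ :=
  inf_centralizer_self_ne_bot (isPGroup_Fq M q) (Fq_ne_bot M hq)

theorem Fq_le_centralizer_Fq (M : Subgroup G) {q r : ℕ} (h : r ≠ q) :
    Fq M r ≤ Subgroup.centralizer (Fq M q : Set G) :=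
  piCoreOf_le_centralizer_piCoreOf (Set.disjoint_singleton.2 h) _

/-- `F(M)` centralizes each `Z_q`. -/
theorem fittingOf_le_centralizer_Zq (M : Subgroup G) (q : ℕ) :
    fittingOf M ≤ Subgroup.centralizer (Zq M q : Set G) := by
  apply le_centralizer_of_forall_piCoreOf (fittingOf_isNilpotent M)
  intro r hr
  by_cases h : r = q
  · subst h
    exact le_centralizer_comm inf_le_right
  · exact (Fq_le_centralizer_Fq M h).trans (centralizer_anti inf_le_left)

theorem normalizer_Zq_eq (hG : IsMinSimpleOddOrder G) {M : Subgroup G} (hM : IsCoatom M)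
    {q : ℕ} [Fact q.Prime] (hq : q ∣ Nat.card (fittingOf M)) :
    Subgroup.normalizer (Zq M q : Set G) = M :=
  normalizer_eq_of_coatom hG hM ((Zq_le M q).trans (fittingOf_le M)) (Zq_ne_bot M hq)
    (le_normalizer_Zq M q)

theorem centralizer_Zq_le (hG : IsMinSimpleOddOrder G) {M : Subgroup G} (hM : IsCoatom M)
    {q : ℕ} [Fact q.Prime] (hq : q ∣ Nat.card (fittingOf M)) :
    Subgroup.centralizer (Zq M q : Set G) ≤ M :=
  centralizer_le_of_coatom hG hM ((Zq_le M q).trans (fittingOf_le M)) (Zq_ne_bot M hq)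
    (le_normalizer_Zq M q)

theorem normalizer_Fq_eq (hG : IsMinSimpleOddOrder G) {M : Subgroup G} (hM : IsCoatom M)
    {q : ℕ} [Fact q.Prime] (hq : q ∣ Nat.card (fittingOf M)) :
    Subgroup.normalizer (Fq M q : Set G) = M :=
  normalizer_eq_of_coatom hG hM ((Fq_le M q).trans (fittingOf_le M)) (Fq_ne_bot M hq)
    (le_normalizer_Fq M q)

theorem normalizer_fittingOf_eq (hG : IsMinSimpleOddOrder G) {M : Subgroup G} (hM : IsCoatom M)
    (hF : fittingOf M ≠ ⊥) : Subgroup.normalizer (fittingOf M : Set G) = M :=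
  normalizer_eq_of_coatom hG hM (fittingOf_le M) hF (le_normalizer_fittingOf M)

/-- a prime `q` with `F_q ≠ 1` divides `|F(M)|`. -/
theorem dvd_card_fittingOf_of_Fq_ne_bot (M : Subgroup G) {q : ℕ} [Fact q.Prime]
    (h : Fq M q ≠ ⊥) : q ∣ Nat.card (fittingOf M) :=
  (dvd_card_of_isPGroup_ne_bot (isPGroup_Fq M q) h).trans (Subgroup.card_dvd_of_le (Fq_le M q))

/-- if `F(M)` is not a `p`-group, another prime divides its order. -/
theorem exists_prime_ne_of_not_isPGroup {F : Subgroup G} {p : ℕ} [Fact p.Prime]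
    (h : ¬ IsPGroup p F) : ∃ r : ℕ, r.Prime ∧ r ≠ p ∧ r ∣ Nat.card F := by
  by_contra hcon
  push Not at hcon
  apply h
  rw [IsPGroup.iff_card]
  have hF0 : Nat.card F ≠ 0 := Nat.card_pos.ne'
  exact ⟨_, Nat.eq_prime_pow_of_unique_prime_dvd hF0 (fun {d} hd hdF => by
    by_contra hne
    exact hcon d hd hne hdF)⟩

end Cfsg.Agent.Lib.H16.BG
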