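import Mathlib
import Cfsg.Agent.Lib.H16.BGe

/-! # Bender–Glauberman Theorem 8.1(a): `F(M)` not of prime power order (helper16) -/

set_option autoImplicit false
set_option linter.style.haveILetI false
set_option linter.unusedSectionVars false
set_option linter.unusedVariables false
set_option linter.deprecated false
open Cfsg

namespace Cfsg.Agent.Lib.H16.BG

open Cfsg.Agent.Lib.H19 (IsPiCard)
open Cfsg.Agent.Lib.H7.BG7

universe u
variable {G : Type u} [Group G] [Finite G]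

/-- the core lemma applied to `Z_q`: `F_r ∩ X ≤ O_{q'}(X)` for `r ≠ q`. -/
theorem Fq_inf_le_core (hG : IsMinSimpleOddOrder G) {M : Subgroup G} (hM : IsCoatom M)
    {q r : ℕ} [Fact q.Prime] [Fact r.Prime] (hq : q ∣ Nat.card (fittingOf M)) (hr : r ≠ q)
    {X : Subgroup G} (hX : X ≠ ⊤) (hZX : Zq M q ≤ X) :
    Fq M r ⊓ X ≤ piCoreOf (primesNotDvd q) X := by
  apply le_piCoreOf_of_le_centralizer q (solvable_of_ne_top hG hX) hZX (isPGroup_Zq M q) inf_le_right
  · have h1 : IsPGroup r (Fq M r ⊓ X : Subgroup G) := (isPGroup_Fq M r).to_le inf_le_left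
    obtain ⟨k, hk⟩ := IsPGroup.iff_card.1 h1
    rw [hk]
    exact Nat.Coprime.pow_left k ((Nat.coprime_primes (Fact.out : r.Prime) (Fact.out : q.Prime)).2 hr)
  · exact inf_le_left.trans ((Fq_le M r).trans (fittingOf_le_centralizer_Zq M q))
  · apply le_normalizer_inf'
    · exact (inf_le_right.trans (centralizer_Zq_le hG hM hq)).trans (le_normalizer_Fq M r)
    · exact inf_le_left.trans Subgroup.le_normalizer

/-- the hypotheses of BG Theorem 8.1(a) (maximality of `A₀` is not needed). -/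
structure FitA (M A₀ : Subgroup G) (p : ℕ) : Prop where
  coatom : IsCoatom M
  le : A₀ ≤ fittingOf M
  elem : IsElementaryAbelian p A₀
  card : p ^ 3 ≤ Nat.card A₀
  notp : ¬ IsPGroup p (fittingOf M)

/-- `A = C_{F(M)}(A₀)`. -/
abbrev AA (M A₀ : Subgroup G) : Subgroup G :=
  fittingOf M ⊓ Subgroup.centralizer (A₀ : Set G)

namespace FitA

variable {M A₀ : Subgroup G} {p : ℕ} [hp : Fact p.Prime]

theorem isPGroup (h : FitA M A₀ p) : IsPGroup p A₀ := isPGroup_of_elemAb h.elem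

theorem A₀_ne_bot (h : FitA M A₀ p) : A₀ ≠ ⊥ := by
  rintro rfl
  have := h.card
  rw [Subgroup.card_bot] at this
  have h2 : 1 < p ^ 3 := Nat.one_lt_pow (by norm_num) hp.out.one_lt
  omega

theorem fit_ne_bot (h : FitA M A₀ p) : fittingOf M ≠ ⊥ := ne_bot_of_le_ne_bot h.A₀_ne_bot h.le

theorem A₀_le_AA (h : FitA M A₀ p) : A₀ ≤ AA M A₀ := by
  refine le_inf h.le ?_
  intro x hx
  refine Subgroup.mem_centralizer_iff.2 ?_
  intro y hy
  have := h.elem.1.is_comm.comm ⟨y, hy⟩ ⟨x, hx⟩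
  exact congrArg Subtype.val this

theorem AA_le_fit (h : FitA M A₀ p) : AA M A₀ ≤ fittingOf M := inf_le_left

theorem AA_le (h : FitA M A₀ p) : AA M A₀ ≤ M := inf_le_left.trans (fittingOf_le M)

theorem A₀_le_centralizer_AA (h : FitA M A₀ p) :
    A₀ ≤ Subgroup.centralizer (AA M A₀ : Set G) := le_centralizer_comm inf_le_right

theorem A₀_le_Fq (h : FitA M A₀ p) : A₀ ≤ Fq M p :=
  le_piCoreOf_of_nilpotent (fittingOf_isNilpotent M) h.le
    (isPiCard_card_of_isPGroup (Set.mem_singleton p) h.isPGroup)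

theorem Zq_le_AA (h : FitA M A₀ p) (q : ℕ) : Zq M q ≤ AA M A₀ :=
  le_inf (Zq_le M q) (le_centralizer_comm (h.le.trans (fittingOf_le_centralizer_Zq M q)))

theorem Fq_le_AA (h : FitA M A₀ p) {r : ℕ} (hr : r ≠ p) : Fq M r ≤ AA M A₀ :=
  le_inf (Fq_le M r) ((Fq_le_centralizer_Fq M hr).trans (centralizer_anti h.A₀_le_Fq))

/-- `A_p = C_{F_p}(A₀)`. -/
theorem Ap_le_AA (h : FitA M A₀ p) :
    Fq M p ⊓ Subgroup.centralizer (A₀ : Set G) ≤ AA M A₀ :=
  inf_le_inf_right _ (Fq_le M p)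

theorem centralizer_Ap_le (h : FitA M A₀ p) :
    Fq M p ⊓ Subgroup.centralizer ((Fq M p ⊓ Subgroup.centralizer (A₀ : Set G) : Subgroup G) : Set G)
      ≤ Fq M p ⊓ Subgroup.centralizer (A₀ : Set G) := by
  refine inf_le_inf_left _ (centralizer_anti ?_)
  exact le_inf h.A₀_le_Fq (h.A₀_le_AA.trans inf_le_right)

/-- `π(A) = π(F)`. -/
theorem dvd_card_AA (h : FitA M A₀ p) (r : ℕ) (hr : r.Prime) (hrF : r ∣ Nat.card (fittingOf M)) :
    r ∣ Nat.card (AA M A₀) := by
  haveI : Fact r.Prime := ⟨hr⟩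
  exact (dvd_card_of_isPGroup_ne_bot (isPGroup_Zq M r) (Zq_ne_bot M hrF)).trans
    (Subgroup.card_dvd_of_le (h.Zq_le_AA r))

theorem p_dvd (h : FitA M A₀ p) : p ∣ Nat.card (fittingOf M) :=
  (dvd_card_of_isPGroup_ne_bot h.isPGroup h.A₀_ne_bot).trans (Subgroup.card_dvd_of_le h.le)

theorem centralizer_AA_le (hG : IsMinSimpleOddOrder G) (h : FitA M A₀ p) :
    Subgroup.centralizer (AA M A₀ : Set G) ≤ M :=
  (centralizer_anti (h.Zq_le_AA p)).trans (centralizer_Zq_le hG h.coatom h.p_dvd)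

/-- a `π(A)'`-subgroup meets `F(M)` trivially. -/
theorem inf_fit_eq_bot (h : FitA M A₀ p) {W : Subgroup G}
    (hW : IsPiCard (primesNotDvd (Nat.card (AA M A₀))) (Nat.card W)) : W ⊓ fittingOf M = ⊥ := by
  apply Subgroup.inf_eq_bot_of_coprime
  apply Nat.coprime_of_dvd
  intro k hk hkW hkF
  exact (hW k hk hkW).2 (h.dvd_card_AA k hk hkF)

/-- **Step 1**: `M` has no nontrivial `A`-invariant `π(A)'`-subgroup. -/
theorem step1 (hG : IsMinSimpleOddOrder G) (h : FitA M A₀ p) (W : Subgroup G) (hWM : W ≤ M)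
    (hW : IsPiCard (primesNotDvd (Nat.card (AA M A₀))) (Nat.card W))
    (hAW : AA M A₀ ≤ Subgroup.normalizer (W : Set G)) : W = ⊥ := by
  have hWF : W ⊓ fittingOf M = ⊥ := h.inf_fit_eq_bot hW
  have hWA : W ≤ Subgroup.centralizer (AA M A₀ : Set G) := by
    apply le_centralizer_of_commutator_eq_bot
    rw [eq_bot_iff, ← hWF]
    refine le_inf (Subgroup.le_normalizer_iff_commutator_le_left.1 hAW) ?_
    exact commutator_le_of_le_normalizer (hWM.trans (le_normalizer_fittingOf M)) h.AA_le_fit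
  have hcop : (Nat.card W).Coprime p := by
    have : (Nat.card W).Coprime (Nat.card (AA M A₀)) := (coprime_of_isPiCard _ hW).symm
    exact Nat.Coprime.coprime_dvd_right
      ((dvd_card_of_isPGroup_ne_bot h.isPGroup h.A₀_ne_bot).trans
        (Subgroup.card_dvd_of_le h.A₀_le_AA)) this
  have hFW : fittingOf M ≤ Subgroup.centralizer (W : Set G) := by
    apply le_centralizer_of_forall_piCoreOf (fittingOf_isNilpotent M)
    intro r hr
    by_cases hrp : r = p
    · subst hrp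
      apply le_centralizer_comm
      apply le_centralizer_of_commutator_eq_bot
      apply Cfsg.Agent.Lib.H7.thompson_AxB' r (isPGroup_Fq M r)
        ((isPGroup_Fq M r).to_le (inf_le_left : Fq M r ⊓ Subgroup.centralizer (A₀ : Set G) ≤ _))
        hcop
      · exact commutator_eq_bot_of_le_centralizer (hWA.trans (centralizer_anti h.Ap_le_AA))
      · exact hWM.trans (le_normalizer_Fq M r)
      · exact (h.Ap_le_AA.trans h.AA_le).trans (le_normalizer_Fq M r)
      · exact commutator_eq_bot_of_le_centralizer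
          (hWA.trans (centralizer_anti (h.centralizer_Ap_le.trans h.Ap_le_AA)))
    · exact le_centralizer_comm (hWA.trans (centralizer_anti (h.Fq_le_AA hrp)))
  have hs : Group.IsSolvable M := solvable_of_coatom hG h.coatom
  have : W ≤ fittingOf M :=
    (le_inf hWM (le_centralizer_comm hFW)).trans (inf_centralizer_fittingOf_le hs)
  rw [eq_bot_iff, ← hWF]
  exact le_inf le_rfl this

theorem not_isPGroup (h : FitA M A₀ p) (q : ℕ) [Fact q.Prime] : ¬ IsPGroup q (fittingOf M) := by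
  intro hq
  obtain ⟨k, hk⟩ := IsPGroup.iff_card.1 hq
  have h1 := h.p_dvd
  rw [hk] at h1
  have h2 : p = q := (Nat.prime_dvd_prime_iff_eq hp.out (Fact.out : q.Prime)).1
    (hp.out.dvd_of_dvd_pow h1)
  subst h2
  exact h.notp hq

/-- for every prime `q` there is another prime `r` dividing `|F(M)|`. -/
theorem exists_other (h : FitA M A₀ p) (q : ℕ) [Fact q.Prime] :
    ∃ r : ℕ, r.Prime ∧ r ≠ q ∧ r ∣ Nat.card (fittingOf M) :=
  exists_prime_ne_of_not_isPGroup (h.not_isPGroup q)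

/-- `C_Y(Z_r) = 1` for an `A`-invariant `π(A)'`-subgroup `Y`, hence `Y = [Y, Z_r]`. -/
theorem commutator_Zq_eq (hG : IsMinSimpleOddOrder G) (h : FitA M A₀ p) {r : ℕ} [Fact r.Prime]
    (hr : r ∣ Nat.card (fittingOf M)) {Y : Subgroup G}
    (hY : IsPiCard (primesNotDvd (Nat.card (AA M A₀))) (Nat.card Y))
    (hAY : AA M A₀ ≤ Subgroup.normalizer (Y : Set G)) : ⁅Y, Zq M r⁆ = Y := by
  have hC : Y ⊓ Subgroup.centralizer (Zq M r : Set G) = ⊥ := by
    apply h.step1 hG _ (inf_le_right.trans (centralizer_Zq_le hG h.coatom hr))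
      (isPiCard_of_le inf_le_left hY)
    apply le_normalizer_inf' hAY
    exact le_normalizer_centralizer_of_le (h.AA_le.trans (le_normalizer_Zq M r))
  apply commutator_eq_of_centralizer_eq_bot _ hC
  refine ⟨(h.Zq_le_AA r).trans hAY, ?_, Or.inl ?_⟩
  · exact Nat.Coprime.coprime_dvd_left (Subgroup.card_dvd_of_le (h.Zq_le_AA r))
      (coprime_of_isPiCard _ hY)
  · exact solvable_of_le_ne_top hG h.coatom.1 ((Zq_le M r).trans (fittingOf_le M))

/-- an `A`-invariant `π(A)'`-subgroup of a proper subgroup `X ≥ A` lies in `O_{q'}(X)` for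
all `q ∈ π(F)`. -/
theorem le_core_of_invariant (hG : IsMinSimpleOddOrder G) (h : FitA M A₀ p) {X : Subgroup G}
    (hX : X ≠ ⊤) (hAX : AA M A₀ ≤ X) {Y : Subgroup G} (hYX : Y ≤ X)
    (hY : IsPiCard (primesNotDvd (Nat.card (AA M A₀))) (Nat.card Y))
    (hAY : AA M A₀ ≤ Subgroup.normalizer (Y : Set G)) {q : ℕ} [Fact q.Prime]
    (hq : q ∣ Nat.card (fittingOf M)) : Y ≤ piCoreOf (primesNotDvd q) X := by
  obtain ⟨r, hr, hrq, hrF⟩ := h.exists_other q
  haveI : Fact r.Prime := ⟨hr⟩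
  have h1 : Zq M r ≤ piCoreOf (primesNotDvd q) X :=
    (le_inf inf_le_left ((h.Zq_le_AA r).trans hAX)).trans
      (Fq_inf_le_core hG h.coatom hq hrq hX ((h.Zq_le_AA q).trans hAX))
  rw [← h.commutator_Zq_eq hG hrF hY hAY]
  exact commutator_le_of_le_normalizer (hYX.trans (le_normalizer_piCoreOf _ _)) h1

/-- the intersection of the `O_{q'}(X)`, `q ∈ π(A)`, is `O_{π(A)'}(X)`. -/
theorem iInf_core_le (h : FitA M A₀ p) (X : Subgroup G) :
    (⨅ q : {q : ℕ // q.Prime ∧ q ∣ Nat.card (AA M A₀)}, piCoreOf (primesNotDvd q.1) X) ≤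
      piCoreOf (primesNotDvd (Nat.card (AA M A₀))) X := by
  have hpA : p ∣ Nat.card (AA M A₀) :=
    (dvd_card_of_isPGroup_ne_bot h.isPGroup h.A₀_ne_bot).trans (Subgroup.card_dvd_of_le h.A₀_le_AA)
  apply le_piCoreOf
  · exact (iInf_le _ ⟨p, hp.out, hpA⟩).trans (piCoreOf_le _ _)
  · exact le_normalizer_iInf (fun i => le_normalizer_piCoreOf _ _)
  · intro s hs hsN
    refine ⟨hs, fun hsA => ?_⟩
    have h1 := (Subgroup.card_dvd_of_le (iInf_le (fun q : {q : ℕ // q.Prime ∧ q ∣ Nat.card (AA M A₀)} =>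
      piCoreOf (primesNotDvd q.1) X) ⟨s, hs, hsA⟩))
    have h2 := card_piCoreOf_primesNotDvd_coprime s X
    have h3 : s ∣ 1 := by
      rw [← h2]
      exact Nat.dvd_gcd (hsN.trans h1) dvd_rfl
    exact hs.one_lt.ne' (Nat.dvd_one.1 h3)

/-- **Step 2**: `A` satisfies the transitivity hypothesis. -/
theorem transitivity (hG : IsMinSimpleOddOrder G) (h : FitA M A₀ p) :
    TransitivityHypothesis (AA M A₀) := by
  refine ⟨ne_bot_of_le_ne_bot h.A₀_ne_bot h.A₀_le_AA, ?_, ?_⟩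
  · intro htop
    apply h.coatom.1
    rw [eq_top_iff, ← htop]
    exact h.AA_le
  · intro X hX hAX
    apply le_antisymm
    · apply sSup_le
      rintro Y ⟨hYX, hYπ, hAY⟩
      refine le_trans ?_ (h.iInf_core_le X)
      apply le_iInf
      rintro ⟨q, hq, hqA⟩
      haveI : Fact q.Prime := ⟨hq⟩
      exact h.le_core_of_invariant hG hX hAX hYX hYπ hAY
        (hqA.trans (Subgroup.card_dvd_of_le h.AA_le_fit))
    · apply le_sSup
      exact ⟨piCoreOf_le _ _, piCoreOf_isPiCard _ _, hAX.trans (le_normalizer_piCoreOf _ _)⟩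

/-- **Steps 3–5**: `G` has no nontrivial `A`-invariant `π(A)'`-subgroup. -/
theorem invariant_eq_bot (hG : IsMinSimpleOddOrder G) (h : FitA M A₀ p) (Y : Subgroup G)
    (hY : IsPiCard (primesNotDvd (Nat.card (AA M A₀))) (Nat.card Y))
    (hAY : AA M A₀ ≤ Subgroup.normalizer (Y : Set G)) : Y = ⊥ :=
  eq_bot_of_invariant hG h.coatom h.AA_le_fit (fittingOf_le M) (le_normalizer_fittingOf M)
    (fittingOf_isNilpotent M) h.dvd_card_AA (h.transitivity hG)
    (le_inf h.A₀_le_AA h.A₀_le_centralizer_AA) h.elem h.card (h.centralizer_AA_le hG)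
    (h.step1 hG) Y hY hAY

end FitA

end Cfsg.Agent.Lib.H16.BG
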