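import Mathlib
import Cfsg.Agent.Lib.H16.BGf

/-! # Bender–Glauberman Theorem 8.1(a): the maximal subgroups containing `C_{F(M)}(A₀)`
(helper16) -/

set_option autoImplicit false
set_option linter.style.haveILetI false
set_option linter.unusedSectionVars false
set_option linter.unusedVariables false
set_option linter.deprecated false
open Cfsg

namespace Cfsg.Agent.Lib.H16.BG

open Cfsg.Agent.Lib.H19 (IsPiCard)
open Cfsg.Agent.Lib.H7.BG7

universe u
variable {G : Type u} [Group G] [Finite G]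

/-- the primes dividing `|F(M)|`. -/
abbrev PiF (M : Subgroup G) : Type := {q : ℕ // q.Prime ∧ q ∣ Nat.card (fittingOf M)}

/-- `N_r`: the intersection of the `O_{q'}(H)` over `q ∈ π(F(M))`, `q ≠ r`. -/
def Nr (M H : Subgroup G) (r : ℕ) : Subgroup G :=
  ⨅ q : {q : PiF M // q.1 ≠ r}, piCoreOf (primesNotDvd q.1.1) H

theorem Nr_le_core (M H : Subgroup G) {r q : ℕ} (hq : q.Prime) (hqF : q ∣ Nat.card (fittingOf M))
    (hqr : q ≠ r) : Nr M H r ≤ piCoreOf (primesNotDvd q) H :=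
  iInf_le (fun q : {q : PiF M // q.1 ≠ r} => piCoreOf (primesNotDvd q.1.1) H) ⟨⟨q, hq, hqF⟩, hqr⟩

theorem le_normalizer_Nr (M H : Subgroup G) (r : ℕ) :
    H ≤ Subgroup.normalizer (Nr M H r : Set G) :=
  le_normalizer_iInf (fun i => le_normalizer_piCoreOf _ _)

theorem le_Nr {M H : Subgroup G} {r : ℕ} {Y : Subgroup G}
    (h : ∀ q : ℕ, q.Prime → q ∣ Nat.card (fittingOf M) → q ≠ r →
      Y ≤ piCoreOf (primesNotDvd q) H) : Y ≤ Nr M H r := by
  apply le_iInf
  rintro ⟨⟨q, hq, hqF⟩, hqr⟩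
  exact h q hq hqF hqr

namespace FitA

variable {M A₀ : Subgroup G} {p : ℕ} [hp : Fact p.Prime]

theorem Nr_le (h : FitA M A₀ p) (H : Subgroup G) (r : ℕ) [Fact r.Prime] : Nr M H r ≤ H := by
  obtain ⟨q, hq, hqr, hqF⟩ := h.exists_other r
  exact (Nr_le_core M H hq hqF hqr).trans (piCoreOf_le _ _)

/-- `O_{π(A)'}(H) = 1`. -/
theorem core_eq_bot (hG : IsMinSimpleOddOrder G) (h : FitA M A₀ p) {H : Subgroup G}
    (hAH : AA M A₀ ≤ H) : piCoreOf (primesNotDvd (Nat.card (AA M A₀))) H = ⊥ :=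
  h.invariant_eq_bot hG _ (piCoreOf_isPiCard _ _) (hAH.trans (le_normalizer_piCoreOf _ _))

theorem Nr_inf_Nr (hG : IsMinSimpleOddOrder G) (h : FitA M A₀ p) {H : Subgroup G}
    (hAH : AA M A₀ ≤ H) {r s : ℕ} [Fact r.Prime] [Fact s.Prime] (hrs : r ≠ s) :
    Nr M H r ⊓ Nr M H s = ⊥ := by
  rw [eq_bot_iff, ← h.core_eq_bot hG hAH]
  apply le_piCoreOf
  · exact inf_le_left.trans (h.Nr_le H r)
  · exact le_normalizer_inf' (le_normalizer_Nr M H r) (le_normalizer_Nr M H s)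
  · intro t ht htN
    refine ⟨ht, fun htA => ?_⟩
    have htF : t ∣ Nat.card (fittingOf M) := htA.trans (Subgroup.card_dvd_of_le h.AA_le_fit)
    have hle : Nr M H r ⊓ Nr M H s ≤ piCoreOf (primesNotDvd t) H := by
      by_cases htr : t = r
      · have hts : t ≠ s := fun hts => hrs (htr.symm.trans hts)
        exact inf_le_right.trans (Nr_le_core M H ht htF hts)
      · exact inf_le_left.trans (Nr_le_core M H ht htF htr)
    have h2 := card_piCoreOf_primesNotDvd_coprime t H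
    have h3 : t ∣ 1 := by
      rw [← h2]
      exact Nat.dvd_gcd (htN.trans (Subgroup.card_dvd_of_le hle)) dvd_rfl
    exact ht.one_lt.ne' (Nat.dvd_one.1 h3)

theorem Nr_le_centralizer_Nr (hG : IsMinSimpleOddOrder G) (h : FitA M A₀ p) {H : Subgroup G}
    (hAH : AA M A₀ ≤ H) {r s : ℕ} [Fact r.Prime] [Fact s.Prime] (hrs : r ≠ s) :
    Nr M H r ≤ Subgroup.centralizer (Nr M H s : Set G) :=
  le_centralizer_of_inf_eq_bot ((h.Nr_le H r).trans (le_normalizer_Nr M H s))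
    ((h.Nr_le H s).trans (le_normalizer_Nr M H r)) (h.Nr_inf_Nr hG hAH hrs)

/-- `F_s ∩ H ≤ N_s`. -/
theorem Fq_inf_le_Nr (hG : IsMinSimpleOddOrder G) (h : FitA M A₀ p) {H : Subgroup G}
    (hH : H ≠ ⊤) (hAH : AA M A₀ ≤ H) (s : ℕ) [Fact s.Prime] : Fq M s ⊓ H ≤ Nr M H s := by
  apply le_Nr
  intro q hq hqF hqs
  haveI : Fact q.Prime := ⟨hq⟩
  exact Fq_inf_le_core hG h.coatom hqF (Ne.symm hqs) hH ((h.Zq_le_AA q).trans hAH)

theorem Zq_le_Nr (hG : IsMinSimpleOddOrder G) (h : FitA M A₀ p) {H : Subgroup G}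
    (hH : H ≠ ⊤) (hAH : AA M A₀ ≤ H) (s : ℕ) [Fact s.Prime] : Zq M s ≤ Nr M H s :=
  (le_inf inf_le_left ((h.Zq_le_AA s).trans hAH)).trans (h.Fq_inf_le_Nr hG hH hAH s)

/-- `N_r ≤ M`. -/
theorem Nr_le_M (hG : IsMinSimpleOddOrder G) (h : FitA M A₀ p) {H : Subgroup G}
    (hH : H ≠ ⊤) (hAH : AA M A₀ ≤ H) (r : ℕ) [Fact r.Prime] : Nr M H r ≤ M := by
  obtain ⟨s, hs, hsr, hsF⟩ := h.exists_other r
  haveI : Fact s.Prime := ⟨hs⟩
  exact ((h.Nr_le_centralizer_Nr hG hAH (Ne.symm hsr)).trans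
    (centralizer_anti (h.Zq_le_Nr hG hH hAH s))).trans (centralizer_Zq_le hG h.coatom hsF)

/-- `O_r(H) ≤ N_r`. -/
theorem core_le_Nr (h : FitA M A₀ p) (H : Subgroup G) (r : ℕ) [hr : Fact r.Prime] :
    piCoreOf {r} H ≤ Nr M H r := by
  apply le_Nr
  intro q hq hqF hqr
  apply piCoreOf_mono_set
  intro t ht
  rw [Set.mem_singleton_iff] at ht
  subst ht
  exact ⟨hr.out, fun hdvd => hqr ((Nat.prime_dvd_prime_iff_eq hr.out hq).1 hdvd).symm⟩

/-- `O_r(H) ≤ M` for every prime `r`. -/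
theorem core_le_M (hG : IsMinSimpleOddOrder G) (h : FitA M A₀ p) {H : Subgroup G}
    (hH : H ≠ ⊤) (hAH : AA M A₀ ≤ H) (r : ℕ) [hr : Fact r.Prime] : piCoreOf {r} H ≤ M :=
  (h.core_le_Nr H r).trans (h.Nr_le_M hG hH hAH r)

/-- `F(H) ≤ M`. -/
theorem fittingOf_le_M (hG : IsMinSimpleOddOrder G) (h : FitA M A₀ p) {H : Subgroup G}
    (hH : H ≠ ⊤) (hAH : AA M A₀ ≤ H) : fittingOf H ≤ M := by
  refine (le_iSup_piCoreOf_singleton (fittingOf_isNilpotent H)).trans (iSup_le fun q => ?_)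
  haveI : Fact (q : ℕ).Prime := ⟨q.2⟩
  exact (piCoreOf_le_piCoreOf_of_normal _ (fittingOf_le H) (le_normalizer_fittingOf H)).trans
    (h.core_le_M hG hH hAH q)

/-- `F_r ≤ O_r(H)` whenever `F_r ≤ H`. -/
theorem Fq_le_core (hG : IsMinSimpleOddOrder G) (h : FitA M A₀ p) {H : Subgroup G}
    (hH : H ≠ ⊤) (hAH : AA M A₀ ≤ H) (r : ℕ) [hr : Fact r.Prime] (hFH : Fq M r ≤ H) :
    Fq M r ≤ piCoreOf {r} H := by
  have h1 : Fq M r ≤ Nr M H r := (le_inf le_rfl hFH).trans (h.Fq_inf_le_Nr hG hH hAH r)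
  have h2 : Fq M r ≤ piCoreOf {r} (Nr M H r) :=
    le_piCoreOf h1 ((h.Nr_le_M hG hH hAH r).trans (le_normalizer_Fq M r)) (piCoreOf_isPiCard _ _)
  exact h2.trans (piCoreOf_le_piCoreOf_of_normal _ (h.Nr_le H r) (le_normalizer_Nr M H r))

/-- `F(M) ≤ H`. -/
theorem fit_le_H (hG : IsMinSimpleOddOrder G) (h : FitA M A₀ p) {H : Subgroup G}
    (hH : IsCoatom H) (hAH : AA M A₀ ≤ H) : fittingOf M ≤ H := by
  obtain ⟨r, hr, hrp, hrF⟩ := h.exists_other p
  haveI : Fact r.Prime := ⟨hr⟩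
  have hFrH : Fq M r ≤ H := (h.Fq_le_AA hrp).trans hAH
  have hFrS : Fq M r ≤ piCoreOf {r} H := h.Fq_le_core hG hH.1 hAH r hFrH
  set S : Subgroup G := piCoreOf {r} H with hS
  set Z : Subgroup G := S ⊓ Subgroup.centralizer (S : Set G) with hZ
  have hS1 : S ≠ ⊥ := ne_bot_of_le_ne_bot (Fq_ne_bot M hrF) hFrS
  have hSr : IsPGroup r S := isPGroup_piCoreOf_singleton r H
  have hZ1 : Z ≠ ⊥ := inf_centralizer_self_ne_bot hSr hS1
  have hZH : Z ≤ H := inf_le_left.trans (piCoreOf_le _ _)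
  have hHZ : H ≤ Subgroup.normalizer (Z : Set G) :=
    (le_normalizer_piCoreOf _ _).trans (normalizer_le_normalizer_inf_centralizer _)
  have hNZ : Subgroup.normalizer (Z : Set G) = H := normalizer_eq_of_coatom hG hH hZH hZ1 hHZ
  have hSM : S ≤ M := h.core_le_M hG hH.1 hAH r
  have hZr : IsPGroup r Z := hSr.to_le inf_le_left
  -- `F ≤ C(Z)`
  have hFZ : fittingOf M ≤ Subgroup.centralizer (Z : Set G) := by
    apply le_centralizer_of_forall_piCoreOf (fittingOf_isNilpotent M)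
    intro q hq
    haveI : Fact q.Prime := ⟨hq⟩
    by_cases hqr : q = r
    · subst hqr
      exact hFrS.trans (le_centralizer_comm inf_le_right)
    by_cases hqp : q = p
    · subst hqp
      -- Thompson `A × B`
      have hAp : Fq M q ⊓ Subgroup.centralizer (A₀ : Set G) ≤ piCoreOf (primesNotDvd r) H := by
        refine (le_inf inf_le_left (h.Ap_le_AA.trans hAH)).trans ?_
        exact Fq_inf_le_core hG h.coatom hrF hqr hH.1 ((h.Zq_le_AA r).trans hAH)
      have hZAp : Z ≤ Subgroup.centralizer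
          ((Fq M q ⊓ Subgroup.centralizer (A₀ : Set G) : Subgroup G) : Set G) := by
        refine (inf_le_left : Z ≤ S).trans ?_
        refine le_trans ?_ (centralizer_anti hAp)
        apply piCoreOf_le_centralizer_piCoreOf
        rw [Set.disjoint_singleton_left]
        exact fun hmem => hmem.2 dvd_rfl
      apply le_centralizer_comm
      apply le_centralizer_of_commutator_eq_bot
      apply Cfsg.Agent.Lib.H7.thompson_AxB' q (isPGroup_Fq M q)
        ((isPGroup_Fq M q).to_le (inf_le_left : Fq M q ⊓ Subgroup.centralizer (A₀ : Set G) ≤ _))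
      · obtain ⟨k, hk⟩ := IsPGroup.iff_card.1 hZr
        rw [hk]
        exact Nat.Coprime.pow_left k ((Nat.coprime_primes hr hq).2 (Ne.symm hqr))
      · exact commutator_eq_bot_of_le_centralizer hZAp
      · exact (inf_le_left.trans hSM).trans (le_normalizer_Fq M q)
      · exact (h.Ap_le_AA.trans h.AA_le).trans (le_normalizer_Fq M q)
      · exact commutator_eq_bot_of_le_centralizer (hZAp.trans (centralizer_anti h.centralizer_Ap_le))
    · by_cases hFq1 : Fq M q = ⊥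
      · exact (le_of_eq hFq1).trans bot_le
      · have hqF := dvd_card_fittingOf_of_Fq_ne_bot M hFq1
        have h1 : Fq M q ≤ piCoreOf {q} H :=
          h.Fq_le_core hG hH.1 hAH q ((h.Fq_le_AA hqp).trans hAH)
        refine h1.trans ?_
        refine le_trans ?_ (centralizer_anti (inf_le_left : Z ≤ S))
        exact piCoreOf_le_centralizer_piCoreOf (Set.disjoint_singleton.2 hqr) H
  calc fittingOf M ≤ Subgroup.centralizer (Z : Set G) := hFZ
    _ ≤ Subgroup.normalizer (Z : Set G) := Subgroup.centralizer_le_normalizer _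
    _ = H := hNZ

/-- `F(M) ≤ F(H)`. -/
theorem fit_le_fit (hG : IsMinSimpleOddOrder G) (h : FitA M A₀ p) {H : Subgroup G}
    (hH : IsCoatom H) (hAH : AA M A₀ ≤ H) : fittingOf M ≤ fittingOf H := by
  have hFH := h.fit_le_H hG hH hAH
  refine (le_iSup_piCoreOf_singleton (fittingOf_isNilpotent M)).trans (iSup_le fun q => ?_)
  haveI : Fact (q : ℕ).Prime := ⟨q.2⟩
  exact (h.Fq_le_core hG hH.1 hAH q ((Fq_le M q).trans hFH)).trans
    (piCoreOf_singleton_le_fittingOf q H)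

/-- **BG Theorem 8.1(a)**: every maximal subgroup containing `C_{F(M)}(A₀)` is `M`. -/
theorem eq_of_coatom (hG : IsMinSimpleOddOrder G) (h : FitA M A₀ p) {H : Subgroup G}
    (hH : IsCoatom H) (hAH : AA M A₀ ≤ H) : H = M := by
  have h1 : fittingOf M ≤ fittingOf H := h.fit_le_fit hG hH hAH
  have h2 : fittingOf H ≤ M := h.fittingOf_le_M hG hH.1 hAH
  have h' : FitA H A₀ p := by
    refine ⟨hH, h.le.trans h1, h.elem, h.card, fun hp' => h.notp (hp'.to_le h1)⟩
  have h3 : fittingOf H ≤ fittingOf M :=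
    h'.fit_le_fit hG h.coatom (inf_le_left.trans h2)
  have heq : fittingOf H = fittingOf M := le_antisymm h3 h1
  rw [← normalizer_fittingOf_eq hG hH h'.fit_ne_bot, heq,
    normalizer_fittingOf_eq hG h.coatom h.fit_ne_bot]

theorem inUniqueMaximal (hG : IsMinSimpleOddOrder G) (h : FitA M A₀ p) :
    InUniqueMaximal (AA M A₀) :=
  inUniqueMaximal_iff.2 ⟨M, h.coatom, h.AA_le, fun H hH hAH => h.eq_of_coatom hG hH hAH⟩

end FitA

end Cfsg.Agent.Lib.H16.BG
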