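import Mathlib
import Cfsg.Agent.Lib.H16.BGg
import Cfsg.Agent.Lib.H4.PStable
import Cfsg.Agent.S1457

/-! # Bender–Glauberman §8–9: Sylow subgroups of maximal subgroups with `O_{p'} = 1`,
maximal intersections (helper16) -/

set_option autoImplicit false
set_option linter.style.haveILetI false
set_option linter.unusedSectionVars false
set_option linter.unusedVariables false
set_option linter.deprecated false
open Cfsg

namespace Cfsg.Agent.Lib.H16.BG

open Cfsg.Agent.Lib.H19 (IsPiCard)
open Cfsg.Agent.Lib.H7.BG7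
open Cfsg.Agent.Lib.H16.Puig

universe u
variable {G : Type u} [Group G] [Finite G]

/-- if `F(H)` is a `p`-group (`H` solvable) then `O_{p'}(H) = 1`. -/
theorem core_eq_bot_of_isPGroup_fit {p : ℕ} [Fact p.Prime] {H : Subgroup G}
    (hs : Group.IsSolvable H) (hF : IsPGroup p (fittingOf H)) :
    piCoreOf (primesNotDvd p) H = ⊥ := by
  set K := piCoreOf (primesNotDvd p) H with hK
  have hKF : K ⊓ fittingOf H = ⊥ := by
    apply Subgroup.inf_eq_bot_of_coprime
    obtain ⟨k, hk⟩ := IsPGroup.iff_card.1 hF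
    rw [hk]
    exact Nat.Coprime.pow_right k (card_piCoreOf_primesNotDvd_coprime p H)
  have h1 : K ≤ Subgroup.centralizer (fittingOf H : Set G) :=
    le_centralizer_of_inf_eq_bot ((piCoreOf_le _ _).trans (le_normalizer_fittingOf H))
      ((fittingOf_le H).trans (le_normalizer_piCoreOf _ _)) hKF
  have h2 : K ≤ fittingOf H := (le_inf (piCoreOf_le _ _) h1).trans (inf_centralizer_fittingOf_le hs)
  rw [eq_bot_iff, ← hKF]
  exact le_inf le_rfl h2

/-- a `p`-group normalized by `K` lies in every Sylow `p`-subgroup of `K`. -/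
theorem SylIn.normal_le {p : ℕ} [Fact p.Prime] {P K Q : Subgroup G} (h : SylIn p P K)
    (hQ : IsPGroup p Q) (hQK : Q ≤ K) (hKQ : K ≤ Subgroup.normalizer (Q : Set G)) : Q ≤ P := by
  obtain ⟨m, hm, hle⟩ := h.exists_conj_le hQ hQK
  have h1 : Q.map (MulAut.conj m).toMonoidHom = Q :=
    Subgroup.mem_normalizer_iff_map_conj_eq.1 (hKQ hm)
  rwa [h1] at hle

/-- **Sylow subgroups via Puig**: in a maximal subgroup `H` with `O_{p'}(H) = 1`, a nontrivial
Sylow `p`-subgroup `S` of `H` is a Sylow `p`-subgroup of `G` and `N_G(Z(L(S))) = H`. -/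
theorem puig_sylow (hG : IsMinSimpleOddOrder G) {H S : Subgroup G} (hH : IsCoatom H)
    {p : ℕ} [Fact p.Prime] (hO : piCoreOf (primesNotDvd p) H = ⊥) (hS : SylIn p S H)
    (hS1 : S ≠ ⊥) :
    Subgroup.normalizer (zl S : Set G) = H ∧ SylIn p S ⊤ := by
  have hp2 : p ≠ 2 := prime_ne_two_of_dvd_card hG (dvd_card_of_isPGroup_ne_bot hS.isPGroup hS1)
  have h1 : H ≤ Subgroup.normalizer (zl S : Set G) :=
    puig_rel_normal hG.1 hp2 (solvable_of_coatom hG hH) hS hO
  have h2 : Subgroup.normalizer (zl S : Set G) = H :=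
    normalizer_eq_of_coatom hG hH ((zl_le S).trans hS.le) (zl_ne_bot hS.isPGroup hS1) h1
  refine ⟨h2, hS.of_normalizer_le le_top ?_⟩
  rw [top_inf_eq, ← h2]
  exact normalizer_le_normalizer_zl' S

/-- an abelian normal subgroup of a Sylow `p`-subgroup of a solvable subgroup `H` of odd order
with `O_{p'}(H) = 1` lies in `O_p(H)`. -/
theorem le_pcore_of_abelian_normal (hodd : Odd (Nat.card G)) {p : ℕ} [Fact p.Prime]
    {H S A : Subgroup G} (hs : Group.IsSolvable H) (hO : piCoreOf (primesNotDvd p) H = ⊥)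
    (hS : SylIn p S H) (hAS : A ≤ S) (hAc : IsMulCommutative A)
    (hSA : S ≤ Subgroup.normalizer (A : Set G)) : A ≤ piCoreOf {p} H := by
  obtain ⟨S', hS'⟩ := hS.exists_sylow
  have hoddH : Odd (Nat.card H) := hodd.of_dvd_nat (Subgroup.card_subgroup_dvd_card H)
  have hAH : A ≤ H := hAS.trans hS.le
  haveI := hs
  have hmemS : ∀ x : H, x ∈ (S' : Subgroup H) ↔ (x : G) ∈ S := by
    intro x
    rw [← hS']
    constructor
    · intro hx; exact ⟨x, hx, rfl⟩
    · rintro ⟨y, hy, hyx⟩
      have : y = x := Subtype.ext hyx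
      rwa [← this]
  have h1 : A.subgroupOf H ≤ Cfsg.pPrimePCore p ↥H := by
    apply Cfsg.Agent.S1457.result hoddH p S' (A.subgroupOf H)
    · intro x hx
      rw [Subgroup.mem_subgroupOf] at hx
      exact (hmemS x).2 (hAS hx)
    · refine ⟨⟨?_⟩⟩
      rintro ⟨x, hx⟩ ⟨y, hy⟩
      rw [Subgroup.mem_subgroupOf] at hx hy
      have := hAc.is_comm.comm ⟨(x : G), hx⟩ ⟨(y : G), hy⟩
      have h2 : (x : G) * (y : G) = (y : G) * (x : G) := congrArg Subtype.val this
      apply Subtype.ext
      apply Subtype.ext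
      exact h2
    · intro x hx
      have hx' := hSA ((hmemS x).1 hx)
      rw [Subgroup.mem_normalizer_iff] at hx' ⊢
      intro y
      rw [Subgroup.mem_subgroupOf, Subgroup.mem_subgroupOf]
      exact hx' y
  have hO' : Cfsg.pPrimeCore p ↥H = ⊥ := by
    rw [piCoreOf_primesNotDvd_eq] at hO
    exact (Subgroup.map_eq_bot_iff_of_injective _ (Subgroup.subtype_injective H)).1 hO
  have h2 := h1.trans (Cfsg.Agent.Lib.H4.PStable.pPrimePCore_le_pCore_of_bot hO')
  have h3 : A ≤ (Cfsg.pCore p ↥H).map H.subtype := by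
    have := Subgroup.map_mono (f := H.subtype) h2
    rwa [Subgroup.map_subgroupOf_eq_of_le hAH] at this
  refine h3.trans (le_piCoreOf (Subgroup.map_subtype_le _) ?_ ?_)
  · haveI : (Cfsg.pCore p ↥H).Normal := Cfsg.Agent.Lib.H1.pCore_normal p _
    exact Cfsg.Agent.Lib.H7.PrimPair.le_normalizer_map_subtype _
  · exact isPiCard_card_of_isPGroup (Set.mem_singleton p)
      ((Cfsg.Agent.Lib.H1.pCore_isPGroup p ↥H).map _)

/-- the `p`-part exponent of `|H ∩ M|`. -/
noncomputable def vInt (p : ℕ) (H M : Subgroup G) : ℕ := (Nat.card (H ⊓ M : Subgroup G)).factorization p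

theorem vInt_le (p : ℕ) (H M : Subgroup G) : vInt p H M ≤ (Nat.card M).factorization p := by
  unfold vInt
  exact (Nat.factorization_le_iff_dvd Nat.card_pos.ne' Nat.card_pos.ne').2
    (Subgroup.card_dvd_of_le inf_le_right) p

/-- a `p`-subgroup of `L ∩ M` strictly larger than a Sylow `p`-subgroup of `H ∩ M`. -/
theorem vInt_lt {p : ℕ} [hp : Fact p.Prime] {H L M T T' : Subgroup G} (hT : SylIn p T (H ⊓ M))
    (hT' : IsPGroup p T') (hTT' : T < T') (hT'L : T' ≤ L ⊓ M) : vInt p H M < vInt p L M := by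
  obtain ⟨T'', hT'', hle⟩ := SylIn.exists_ge hT' hT'L
  have h0 : Nat.card T < Nat.card T' := by
    by_contra hcon
    push Not at hcon
    exact hTT'.ne (Subgroup.eq_of_le_of_card_ge hTT'.le hcon)
  have h1 : Nat.card T < Nat.card T'' := lt_of_lt_of_le h0 (Subgroup.card_le_of_le hle)
  rw [hT.card_eq, hT''.card_eq] at h1
  exact (Nat.pow_lt_pow_iff_right hp.out.one_lt).1 h1

/-- **Maximal intersections.** Let `A ≠ 1` be a `p`-subgroup of the maximal subgroup `M`.
If for every maximal `H ≥ A` the Sylow `p`-subgroups of `H` are Sylow in `G`, and a common Sylow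
`p`-subgroup of `H` and `M` forces `H = M`, then `M` is the only maximal subgroup containing `A`. -/
theorem eq_of_forall_sylow (hG : IsMinSimpleOddOrder G) {M A : Subgroup G} {p : ℕ}
    [hp : Fact p.Prime] (hM : IsCoatom M) (hAM : A ≤ M) (hA : IsPGroup p A) (hA1 : A ≠ ⊥)
    (hsyl : ∀ H, IsCoatom H → A ≤ H → ∀ S, SylIn p S H → SylIn p S ⊤)
    (heq : ∀ H, IsCoatom H → A ≤ H → ∀ S, SylIn p S H → SylIn p S M → H = M) :
    ∀ H, IsCoatom H → A ≤ H → H = M := by
  have key : ∀ n : ℕ, ∀ H, IsCoatom H → A ≤ H →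
      (Nat.card M).factorization p - vInt p H M = n → H = M := by
    intro n
    induction n using Nat.strong_induction_on with
    | _ n ih =>
      intro H hH hAH hn
      obtain ⟨T, hT, hAT⟩ := SylIn.exists_ge hA (le_inf hAH hAM)
      obtain ⟨P', hP', hTP'⟩ := SylIn.exists_ge hT.isPGroup (hT.le.trans inf_le_right)
      have hT1 : T ≠ ⊥ := ne_bot_of_le_ne_bot hA1 hAT
      by_cases hTP : T = P'
      · subst hTP
        have h1 : SylIn p T ⊤ := hsyl M hM hAM T hP'
        exact heq H hH hAH T (h1.mono (hT.le.trans inf_le_left) le_top) hP'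
      · exfalso
        have hlt : T < P' := lt_of_le_of_ne hTP' hTP
        have h1 := Cfsg.Agent.Lib.H10.lt_inf_normalizer_of_lt hP'.isPGroup hlt
        have hN : Subgroup.normalizer (T : Set G) ≠ ⊤ :=
          normalizer_ne_top_of_isPGroup hG hT.isPGroup hT1
        obtain ⟨L, hL, hNL⟩ := exists_coatom_ge hN
        have hAL : A ≤ L := hAT.trans (Subgroup.le_normalizer.trans hNL)
        have hv : vInt p H M < vInt p L M :=
          vInt_lt hT (hP'.isPGroup.to_le inf_le_left) h1
            (le_inf (inf_le_right.trans hNL) (inf_le_left.trans hP'.le))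
        have hvL := vInt_le p L M
        have hLM : L = M := ih _ (by omega) L hL hAL rfl
        have hTH : SylIn p T H := by
          apply hT.of_normalizer_le inf_le_left
          exact le_inf inf_le_left (inf_le_right.trans (hNL.trans hLM.le))
        have hTG : SylIn p T ⊤ := hsyl H hH hAH T hTH
        exact hTP (hTG.eq_of_le hTP' le_top hP'.isPGroup)
  intro H hH hAH
  exact key _ H hH hAH rfl

end Cfsg.Agent.Lib.H16.BG
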