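import Mathlib
import Cfsg.Agent.Lib.H16.BGh
import Cfsg.Agent.S1396

/-! # Bender–Glauberman Theorem 8.1(b): `F(M)` a `p`-group (helper16) -/

set_option autoImplicit false
set_option linter.style.haveILetI false
set_option linter.unusedSectionVars false
set_option linter.unusedVariables false
set_option linter.deprecated false
open Cfsg

namespace Cfsg.Agent.Lib.H16.BG

open Cfsg.Agent.Lib.H19 (IsPiCard)
open Cfsg.Agent.Lib.H7.BG7
open Cfsg.Agent.Lib.H16.Puig

universe u
variable {G : Type u} [Group G] [Finite G]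

theorem scn_le_centralizer {P A : Subgroup G} (h : IsSCN P A) :
    A ≤ Subgroup.centralizer (A : Set G) := by
  have h1 := h.2.2
  exact (le_of_eq h1.symm).trans inf_le_right

theorem scn_isMulCommutative {P A : Subgroup G} (h : IsSCN P A) : IsMulCommutative A := by
  refine ⟨⟨?_⟩⟩
  rintro ⟨x, hx⟩ ⟨y, hy⟩
  apply Subtype.ext
  exact Subgroup.mem_centralizer_iff.1 (scn_le_centralizer h hy) x hx

/-- `π(A)' = p'` for a nontrivial `p`-group `A`. -/
theorem isPiCard_primesNotDvd_card_iff {p : ℕ} [hp : Fact p.Prime] {A : Subgroup G}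
    (hA : IsPGroup p A) (hA1 : A ≠ ⊥) {n : ℕ} (hn : n ≠ 0) :
    IsPiCard (primesNotDvd (Nat.card A)) n ↔ n.Coprime p := by
  rw [isPiCard_primesNotDvd_iff hn]
  obtain ⟨k, hk⟩ := IsPGroup.iff_card.1 hA
  have hk0 : k ≠ 0 := by
    rintro rfl
    rw [pow_zero] at hk
    exact hA1 (Subgroup.card_eq_one.1 hk)
  rw [hk, Nat.coprime_pow_left_iff (Nat.pos_of_ne_zero hk0), Nat.coprime_comm]

/-- **BG Theorem 8.1(b)**, Sylow part. -/
theorem fitB_sylow (hG : IsMinSimpleOddOrder G) {M : Subgroup G} (hM : IsCoatom M) {p : ℕ}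
    [hp : Fact p.Prime] (hFp : IsPGroup p (fittingOf M)) (hF1 : fittingOf M ≠ ⊥)
    {P₀ : Subgroup G} (hP₀ : SylIn p P₀ M) :
    Subgroup.normalizer (zl P₀ : Set G) = M ∧ SylIn p P₀ ⊤ := by
  have hO := core_eq_bot_of_isPGroup_fit (solvable_of_coatom hG hM) hFp
  have hFP : fittingOf M ≤ P₀ :=
    hP₀.normal_le hFp (fittingOf_le M) (le_normalizer_fittingOf M)
  exact puig_sylow hG hM hO hP₀ (ne_bot_of_le_ne_bot hF1 hFP)

/-- **BG Theorem 8.1(b)**, uniqueness part. -/
theorem fitB_scn (hG : IsMinSimpleOddOrder G) {M : Subgroup G} (hM : IsCoatom M) {p : ℕ}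
    [hp : Fact p.Prime] (hFp : IsPGroup p (fittingOf M)) (hF1 : fittingOf M ≠ ⊥)
    {P₀ : Subgroup G} (hP₀ : SylIn p P₀ M) {A : Subgroup G} (hA : IsSCN P₀ A)
    (hA3 : ¬ PRankLE p 2 ↥A) : A ≤ fittingOf M ∧ InUniqueMaximal A := by
  have hs : Group.IsSolvable M := solvable_of_coatom hG hM
  have hO := core_eq_bot_of_isPGroup_fit hs hFp
  set F := fittingOf M with hF
  have hFP : F ≤ P₀ := hP₀.normal_le hFp (fittingOf_le M) (le_normalizer_fittingOf M)
  obtain ⟨hNzl, hP₀G⟩ := fitB_sylow hG hM hFp hF1 hP₀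
  have hAc : IsMulCommutative A := scn_isMulCommutative hA
  have hAp : IsPGroup p A := hP₀.isPGroup.to_le hA.1
  -- `A ≤ F`
  have hAF : A ≤ F :=
    (le_pcore_of_abelian_normal hG.1 hs hO hP₀ hA.1 hAc hA.2.1).trans
      (piCoreOf_singleton_le_fittingOf p M)
  have hAM : A ≤ M := hAF.trans (fittingOf_le M)
  refine ⟨hAF, ?_⟩
  -- an elementary abelian subgroup of rank 3
  obtain ⟨B, hBA, hBe, hB3⟩ := exists_elemAb_of_not_pRankLE hp.out hA3
  have hB1 : B ≠ ⊥ := by
    rintro rfl
    rw [Subgroup.card_bot] at hB3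
    have h2 : 1 < p ^ (2 + 1) := Nat.one_lt_pow (by norm_num) hp.out.one_lt
    omega
  have hA1 : A ≠ ⊥ := ne_bot_of_le_ne_bot hB1 hBA
  have hpA : p ∣ Nat.card A := dvd_card_of_isPGroup_ne_bot hAp hA1
  -- centralizers
  have hCFA : F ⊓ Subgroup.centralizer (A : Set G) ≤ A :=
    (inf_le_inf_right _ hFP).trans (le_of_eq hA.2.2)
  have hZF : F ⊓ Subgroup.centralizer (F : Set G) ≤ A :=
    (inf_le_inf_left _ (centralizer_anti hAF)).trans hCFA
  have hZ1 : F ⊓ Subgroup.centralizer (F : Set G) ≠ ⊥ := inf_centralizer_self_ne_bot hFp hF1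
  have hCZ : Subgroup.centralizer ((F ⊓ Subgroup.centralizer (F : Set G) : Subgroup G) : Set G) ≤ M :=
    centralizer_le_of_coatom hG hM (inf_le_left.trans (fittingOf_le M)) hZ1
      ((le_normalizer_fittingOf M).trans (normalizer_le_normalizer_inf_centralizer _))
  have hCA : Subgroup.centralizer (A : Set G) ≤ M := (centralizer_anti hZF).trans hCZ
  -- Step 1
  have hM1 : ∀ W : Subgroup G, W ≤ M → IsPiCard (primesNotDvd (Nat.card A)) (Nat.card W) →
      A ≤ Subgroup.normalizer (W : Set G) → W = ⊥ := by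
    intro W hWM hW hAW
    have hcop : (Nat.card W).Coprime p :=
      (isPiCard_primesNotDvd_card_iff hAp hA1 Nat.card_pos.ne').1 hW
    have hWF : W ⊓ F = ⊥ := by
      apply Subgroup.inf_eq_bot_of_coprime
      obtain ⟨k, hk⟩ := IsPGroup.iff_card.1 hFp
      rw [hk]
      exact Nat.Coprime.pow_right k hcop
    have hWA : W ≤ Subgroup.centralizer (A : Set G) := by
      apply le_centralizer_of_commutator_eq_bot
      rw [eq_bot_iff, ← hWF]
      refine le_inf (Subgroup.le_normalizer_iff_commutator_le_left.1 hAW) ?_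
      exact commutator_le_of_le_normalizer (hWM.trans (le_normalizer_fittingOf M)) hAF
    have hWFc : W ≤ Subgroup.centralizer (F : Set G) := by
      apply le_centralizer_of_commutator_eq_bot
      apply Cfsg.Agent.Lib.H7.thompson_AxB' p hFp hAp hcop
      · exact commutator_eq_bot_of_le_centralizer hWA
      · exact hWM.trans (le_normalizer_fittingOf M)
      · exact hAM.trans (le_normalizer_fittingOf M)
      · exact commutator_eq_bot_of_le_centralizer (hWA.trans (centralizer_anti hCFA))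
    have : W ≤ F := (le_inf hWM hWFc).trans (inf_centralizer_fittingOf_le hs)
    rw [eq_bot_iff, ← hWF]
    exact le_inf le_rfl this
  -- the transitivity hypothesis
  have hpG : p ∣ Nat.card G := hpA.trans (Subgroup.card_subgroup_dvd_card A)
  obtain ⟨PG, hPG⟩ := hP₀G.exists_sylow_top
  have hTH : TransitivityHypothesis A := by
    apply Cfsg.Agent.S1396.result hG p hpG A hAp hAc
    right
    refine ⟨PG, by rw [hPG]; exact hA, fun h1 => hA3 ?_⟩
    intro E hEc hEp
    refine (h1 E hEc hEp).trans ?_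
    exact Nat.pow_le_pow_right hp.out.pos (by norm_num)
  -- killing signalizers
  have hkill := eq_bot_of_invariant hG hM hAF (fittingOf_le M) (le_normalizer_fittingOf M)
    (fittingOf_isNilpotent M) (by
      intro r hr hrF
      obtain ⟨k, hk⟩ := IsPGroup.iff_card.1 hFp
      rw [hk] at hrF
      have : r = p := (Nat.prime_dvd_prime_iff_eq hr hp.out).1 (hr.dvd_of_dvd_pow hrF)
      rw [this]; exact hpA) hTH (le_inf hBA (hBA.trans (scn_le_centralizer hA))) hBe hB3 hCA hM1
  -- maximal subgroups containing `A`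
  have hOH : ∀ H, IsCoatom H → A ≤ H → piCoreOf (primesNotDvd p) H = ⊥ := by
    intro H hH hAH
    apply hkill _ _ (hAH.trans (le_normalizer_piCoreOf _ _))
    exact (isPiCard_primesNotDvd_card_iff hAp hA1 Nat.card_pos.ne').2
      (card_piCoreOf_primesNotDvd_coprime p H)
  have hSne : ∀ H, A ≤ H → ∀ S, SylIn p S H → S ≠ ⊥ := by
    intro H hAH S hS
    exact hS.ne_bot (hpA.trans (Subgroup.card_dvd_of_le hAH))
  have hall := eq_of_forall_sylow hG hM hAM hAp hA1
    (fun H hH hAH S hS => (puig_sylow hG hH (hOH H hH hAH) hS (hSne H hAH S hS)).2)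
    (fun H hH hAH S hS hSM => by
      have h1 := (puig_sylow hG hH (hOH H hH hAH) hS (hSne H hAH S hS)).1
      have h2 := (puig_sylow hG hM hO hSM (hSne H hAH S hS)).1
      rw [← h1, h2])
  exact inUniqueMaximal_iff.2 ⟨M, hM, hAM, hall⟩

end Cfsg.Agent.Lib.H16.BG
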