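import Mathlib
import Cfsg.Prelude

set_option autoImplicit false

/-!
# The `p`-rank of a quotient by a normal `p'`-subgroup

If `N` is a normal subgroup of order prime to `p` and `G` has `p`-rank at most `k`, then so has
`G ⧸ N`.
-/

namespace Cfsg.Agent.Lib.H16.RankTwo

theorem pRankLE_quotient_of_coprime {G : Type*} [Group G] [Finite G] {p k : ℕ} [hp : Fact p.Prime]
    (N : Subgroup G) [N.Normal] (hN : (Nat.card N).Coprime p) (h : Cfsg.PRankLE p k G) :
    Cfsg.PRankLE p k (G ⧸ N) := by
  intro E' hcomm hexp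
  have hEp : IsPGroup p E' := fun x => ⟨1, by
    rw [pow_one]
    apply Subtype.ext
    rw [Subgroup.coe_pow, Subgroup.coe_one]
    exact hexp x x.2⟩
  obtain ⟨P', hP'⟩ := hEp.exists_le_sylow
  obtain ⟨P, hP⟩ := Sylow.mapSurjective_surjective (QuotientGroup.mk'_surjective N) p P'
  set π : G →* G ⧸ N := QuotientGroup.mk' N with hπ
  have hPmap : (P' : Subgroup (G ⧸ N)) = (P : Subgroup G).map π := by rw [← hP]; rfl
  have hdisj : N ⊓ (P : Subgroup G) = ⊥ := by
    apply Subgroup.inf_eq_bot_of_coprime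
    obtain ⟨j, hj⟩ := IsPGroup.iff_card.mp P.2
    rw [hj]
    exact Nat.Coprime.pow_right j hN
  have hinj : ∀ x ∈ (P : Subgroup G), π x = 1 → x = 1 := by
    intro x hx h1
    have hxN : x ∈ N := (QuotientGroup.eq_one_iff x).mp h1
    have : x ∈ N ⊓ (P : Subgroup G) := ⟨hxN, hx⟩
    rw [hdisj, Subgroup.mem_bot] at this
    exact this
  have hinj' : ∀ x ∈ (P : Subgroup G), ∀ y ∈ (P : Subgroup G), π x = π y → x = y := by
    intro x hx y hy hxy
    have h1 : π (x⁻¹ * y) = 1 := by rw [map_mul, map_inv, hxy, inv_mul_cancel]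
    have := hinj _ (Subgroup.mul_mem _ (Subgroup.inv_mem _ hx) hy) h1
    exact inv_mul_eq_one.mp this
  set E : Subgroup G := (P : Subgroup G) ⊓ E'.comap π with hE
  have hEcomm : IsMulCommutative E := by
    refine ⟨⟨fun a b => Subtype.ext ?_⟩⟩
    apply hinj' _ (Subgroup.mul_mem _ a.2.1 b.2.1) _ (Subgroup.mul_mem _ b.2.1 a.2.1)
    rw [map_mul, map_mul]
    exact Subgroup.mul_comm_of_mem_isMulCommutative E' a.2.2 b.2.2
  have hEexp : ∀ a ∈ E, a ^ p = 1 := by
    intro a ha
    apply hinj _ (Subgroup.pow_mem _ ha.1 p)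
    rw [map_pow]
    exact hexp _ ha.2
  have hEle := h E hEcomm hEexp
  -- `E` and `E'` have the same order
  have hmap : E.map π = E' := by
    apply le_antisymm
    · rintro _ ⟨a, ha, rfl⟩
      exact ha.2
    · intro y hy
      have : y ∈ (P : Subgroup G).map π := hPmap ▸ hP' hy
      obtain ⟨x, hx, rfl⟩ := this
      exact ⟨x, ⟨hx, hy⟩, rfl⟩
  have hcard : Nat.card E' = Nat.card E := by
    rw [← hmap]
    let g : E →* G ⧸ N := π.comp E.subtype
    have hg : Function.Injective g := by
      rw [injective_iff_map_eq_one]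
      intro a ha
      exact Subtype.ext (hinj _ a.2.1 ha)
    have hrange : g.range = E.map π := by
      rw [MonoidHom.range_eq_map, ← Subgroup.map_map, ← MonoidHom.range_eq_map,
        Subgroup.range_subtype]
    rw [← hrange]
    exact (Nat.card_congr (MonoidHom.ofInjective hg).toEquiv).symm
  rw [hcard]
  exact hEle

end Cfsg.Agent.Lib.H16.RankTwo
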