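import Mathlib
import Cfsg.Agent.Lib.H12.GL2
import Cfsg.Agent.Lib.H8.SL2Odd

set_option autoImplicit false

/-!
# Odd-order solvable subgroups of `GL₂(p)`

For an odd prime `p`, a solvable subgroup of odd order of `GL (Fin 2) (ZMod p)` has a derived
subgroup which is a `p`-group (`isPGroup_commutator_of_odd_solvable`).
-/

namespace Cfsg.Agent.Lib.H16.GL2Odd

open Matrix Cfsg.Agent.Lib.H12
open scoped commutatorElement

variable {p : ℕ} [hp : Fact p.Prime]

/-- `(1 + N) ^ k = 1 + k N` when `N ^ 2 = 0`. -/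
theorem one_add_pow_of_mul_self_zero {R : Type*} [Ring R] (N : R) (h : N * N = 0) (k : ℕ) :
    (1 + N) ^ k = 1 + (k : R) * N := by
  induction k with
  | zero => simp
  | succ k ih =>
    rw [pow_succ, ih]
    have : (1 + (k : R) * N) * (1 + N) = 1 + ((k : R) + 1) * N + (k : R) * (N * N) := by
      noncomm_ring
    rw [this, h]
    push_cast
    simp

/-- A unipotent element of `GL₂(p)` has order dividing `p`. -/
theorem pow_char_eq_one_of_sub_one_sq (g : GL (Fin 2) (ZMod p))
    (h : ((g : Matrix (Fin 2) (Fin 2) (ZMod p)) - 1) * ((g : Matrix (Fin 2) (Fin 2) (ZMod p)) - 1) = 0) :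
    g ^ p = 1 := by
  apply Units.ext
  rw [Units.val_pow_eq_pow_val, Units.val_one]
  have h1 := one_add_pow_of_mul_self_zero _ h p
  rw [add_sub_cancel] at h1
  rw [h1, CharP.cast_eq_zero, zero_mul, add_zero]

/-- An element of determinant one fixing a nonzero vector is unipotent. -/
theorem sub_one_sq_of_fix (g : GL (Fin 2) (ZMod p)) (v : Fin 2 → ZMod p) (hv : v ≠ 0)
    (hgv : g • v = v) (hdet : (g : Matrix (Fin 2) (Fin 2) (ZMod p)).det = 1) :
    ((g : Matrix (Fin 2) (Fin 2) (ZMod p)) - 1) * ((g : Matrix (Fin 2) (Fin 2) (ZMod p)) - 1) = 0 := by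
  set M : Matrix (Fin 2) (Fin 2) (ZMod p) := (g : Matrix (Fin 2) (Fin 2) (ZMod p)) with hM
  have h0 : (M - 1).det = 0 := by
    apply Matrix.exists_mulVec_eq_zero_iff.mp
    refine ⟨v, hv, ?_⟩
    rw [Matrix.sub_mulVec, Matrix.one_mulVec, sub_eq_zero]
    exact hgv
  have htr : M.trace = 2 := by
    rw [Matrix.det_fin_two] at h0 hdet
    rw [Matrix.trace_fin_two]
    simp only [Matrix.sub_apply, Matrix.one_apply_eq, Matrix.one_apply_ne, ne_eq, Fin.isValue,
      zero_ne_one, one_ne_zero, not_false_eq_true, sub_zero] at h0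
    linear_combination hdet - h0
  exact Cfsg.Agent.Lib.H8.SL2Odd.sub_one_sq_of_trace_two M hdet htr

/-- The stabilizer of a vector inside `SL₂`, as a subgroup of `GL₂`. -/
def vecStab (v : Fin 2 → ZMod p) : Subgroup (GL (Fin 2) (ZMod p)) where
  carrier := {g | g • v = v ∧ Matrix.GeneralLinearGroup.det g = 1}
  one_mem' := ⟨one_smul _ _, map_one _⟩
  mul_mem' := by
    rintro a b ⟨h1, h2⟩ ⟨h3, h4⟩
    exact ⟨by rw [mul_smul, h3, h1], by rw [map_mul, h2, h4, one_mul]⟩
  inv_mem' := by
    rintro a ⟨h1, h2⟩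
    exact ⟨by rw [inv_smul_eq_iff, h1], by rw [map_inv, h2, inv_one]⟩

theorem mem_vecStab {v : Fin 2 → ZMod p} {g : GL (Fin 2) (ZMod p)} :
    g ∈ vecStab v ↔ g • v = v ∧ Matrix.GeneralLinearGroup.det g = 1 := Iff.rfl

theorem pow_eq_one_of_mem_vecStab {v : Fin 2 → ZMod p} (hv : v ≠ 0) {g : GL (Fin 2) (ZMod p)}
    (hg : g ∈ vecStab v) : g ^ p = 1 := by
  apply pow_char_eq_one_of_sub_one_sq
  apply sub_one_sq_of_fix g v hv hg.1
  have := congrArg Units.val hg.2
  simpa using this

theorem isPGroup_vecStab {v : Fin 2 → ZMod p} (hv : v ≠ 0) : IsPGroup p (vecStab v) := by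
  rintro ⟨g, hg⟩
  refine ⟨1, ?_⟩
  rw [pow_one]
  exact Subtype.ext (pow_eq_one_of_mem_vecStab hv hg)

/-- The stabilizer of the line through `v`. -/
def lineStab (v : Fin 2 → ZMod p) : Subgroup (GL (Fin 2) (ZMod p)) where
  carrier := {g | ∃ c : (ZMod p)ˣ, g • v = c • v}
  one_mem' := ⟨1, by rw [one_smul, one_smul]⟩
  mul_mem' := by
    rintro a b ⟨c, hc⟩ ⟨d, hd⟩
    exact ⟨d * c, by rw [mul_smul, hd, smul_comm, hc, mul_smul]⟩
  inv_mem' := by
    rintro a ⟨c, hc⟩
    refine ⟨c⁻¹, ?_⟩
    rw [inv_smul_eq_iff, smul_comm, hc, smul_smul, inv_mul_cancel, one_smul]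

theorem mem_lineStab {v : Fin 2 → ZMod p} {g : GL (Fin 2) (ZMod p)} :
    g ∈ lineStab v ↔ ∃ c : (ZMod p)ˣ, g • v = c • v := Iff.rfl

theorem commutator_lineStab_le (v : Fin 2 → ZMod p) :
    ⁅lineStab v, lineStab v⁆ ≤ vecStab v := by
  rw [Subgroup.commutator_le]
  intro g hg h hh
  obtain ⟨a, ha⟩ := hg
  obtain ⟨b, hb⟩ := hh
  have ha' : g⁻¹ • v = a⁻¹ • v := by
    rw [inv_smul_eq_iff, smul_comm, ha, smul_smul, inv_mul_cancel, one_smul]
  have hb' : h⁻¹ • v = b⁻¹ • v := by
    rw [inv_smul_eq_iff, smul_comm, hb, smul_smul, inv_mul_cancel, one_smul]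
  refine ⟨?_, ?_⟩
  · rw [commutatorElement_def, mul_smul, mul_smul, mul_smul, hb', smul_comm g⁻¹, ha',
      smul_comm h, smul_comm h, hb, smul_comm g, smul_comm g, smul_comm g, ha, smul_smul, smul_smul,
      smul_smul]
    have : b⁻¹ * a⁻¹ * b * a = 1 := by
      rw [mul_comm b⁻¹ a⁻¹, mul_assoc a⁻¹, inv_mul_cancel, mul_one, inv_mul_cancel]
    rw [this, one_smul]
  · rw [map_commutatorElement]
    exact commutatorElement_eq_one_iff_mul_comm.mpr (mul_comm _ _)

/-- A subgroup of `GL₂(p)` normalizing a nontrivial `p`-subgroup has a derived subgroup which is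
a `p`-group. -/
theorem isPGroup_commutator_of_normal_pSubgroup (X Q : Subgroup (GL (Fin 2) (ZMod p)))
    (hQ : IsPGroup p Q) (hQ1 : Q ≠ ⊥) (hXQ : X ≤ Subgroup.normalizer (Q : Set (GL (Fin 2) (ZMod p)))) :
    IsPGroup p ↥⁅X, X⁆ := by
  obtain ⟨v, hv0, hvQ⟩ : ∃ v : Fin 2 → ZMod p, v ≠ 0 ∧ ∀ q ∈ Q, q • v = v := by
    have hcard : p ∣ Nat.card (Fin 2 → ZMod p) := by
      rw [Nat.card_fun, Nat.card_zmod, Nat.card_fin]
      exact dvd_pow_self p two_ne_zero
    have h0 : (0 : Fin 2 → ZMod p) ∈ MulAction.fixedPoints Q (Fin 2 → ZMod p) := by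
      intro q
      exact smul_zero q
    obtain ⟨b, hb, hne⟩ :=
      hQ.exists_fixed_point_of_prime_dvd_card_of_fixed_point (Fin 2 → ZMod p) hcard h0
    exact ⟨b, hne.symm, fun q hq => hb ⟨q, hq⟩⟩
  obtain ⟨q0, hq01⟩ := (Subgroup.ne_bot_iff_exists_ne_one).mp hQ1
  have hq01' : (q0 : GL (Fin 2) (ZMod p)) ≠ 1 := fun h => hq01 (Subtype.ext h)
  set M : Matrix (Fin 2) (Fin 2) (ZMod p) := ((q0 : GL (Fin 2) (ZMod p)) : Matrix (Fin 2) (Fin 2) (ZMod p)) - 1
    with hM
  have hM0 : M ≠ 0 := by
    intro h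
    apply hq01'
    apply Units.ext
    rw [Units.val_one]
    exact sub_eq_zero.mp h
  have hMfix : ∀ w : Fin 2 → ZMod p, (∀ q ∈ Q, q • w = w) → M.mulVec w = 0 := by
    intro w hw
    rw [hM, Matrix.sub_mulVec, Matrix.one_mulVec, sub_eq_zero]
    exact hw _ q0.2
  have hXle : X ≤ lineStab v := by
    intro x hx
    have hxfix : ∀ q ∈ Q, q • (x • v) = x • v := by
      intro q hq
      have hxn : x⁻¹ ∈ Subgroup.normalizer (Q : Set (GL (Fin 2) (ZMod p))) :=
        Subgroup.inv_mem _ (hXQ hx)
      have h1 : x⁻¹ * q * x⁻¹⁻¹ ∈ Q := (Subgroup.mem_normalizer_iff.mp hxn q).mp hq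
      rw [inv_inv] at h1
      have h2 := hvQ _ h1
      calc q • (x • v) = x • ((x⁻¹ * q * x) • v) := by
            rw [← mul_smul, ← mul_smul]
            congr 1
            group
        _ = x • v := by rw [h2]
    have hmem := Cfsg.Agent.Lib.H8.SL2Odd.mem_span_of_ker hM0 hv0 (hMfix v hvQ) (hMfix _ hxfix)
    obtain ⟨c, hc⟩ := Submodule.mem_span_singleton.mp hmem
    have hc0 : c ≠ 0 := by
      intro h
      rw [h, zero_smul] at hc
      apply hv0
      have : x⁻¹ • (x • v) = x⁻¹ • (0 : Fin 2 → ZMod p) := by rw [← hc]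
      rw [inv_smul_smul, smul_zero] at this
      exact this
    exact ⟨Units.mk0 c hc0, hc.symm⟩
  exact (isPGroup_vecStab hv0).to_le
    ((Subgroup.commutator_mono hXle hXle).trans (commutator_lineStab_le v))

/-! ### Elements of determinant one -/

section elements

variable {y : GL (Fin 2) (ZMod p)}

local notation "M2" => Matrix (Fin 2) (Fin 2) (ZMod p)

theorem coe_det_eq_one_of_det (h : Matrix.GeneralLinearGroup.det y = 1) : (y : M2).det = 1 := by
  have := congrArg Units.val h
  simpa using this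

/-- A scalar element of determinant one squares to one. -/
theorem mul_self_eq_one_of_scalar (hdet : (y : M2).det = 1) (hs : ¬ NonScalar (y : M2)) :
    y * y = 1 := by
  obtain ⟨a, ha⟩ := (not_nonScalar_iff _).mp hs
  apply Units.ext
  rw [Units.val_mul, Units.val_one, ha]
  rw [ha] at hdet
  have h1 : a * a = 1 := by
    rw [Matrix.det_fin_two] at hdet
    simpa using hdet
  rw [smul_mul_smul_comm, h1, one_smul, one_mul]

/-- A determinant one element of odd order with `tr ^ 2 = 4` has order dividing `p`. -/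
theorem pow_char_eq_one_of_trace_sq (hdet : (y : M2).det = 1) (ht : (y : M2).trace ^ 2 = 4)
    (hodd : Odd (orderOf y)) : y ^ p = 1 := by
  have hdet2 : ((y * y : GL (Fin 2) (ZMod p)) : M2).det = 1 := by
    rw [Units.val_mul, Matrix.det_mul, hdet, one_mul]
  have htr2 : ((y * y : GL (Fin 2) (ZMod p)) : M2).trace = 2 := by
    rw [Units.val_mul, m2_cayley _ hdet, Matrix.trace_sub, Matrix.trace_smul,
      Matrix.trace_fin_two (1 : M2)]
    simp only [Matrix.one_apply_eq, smul_eq_mul]
    linear_combination ht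
  have h1 : (y * y) ^ p = 1 :=
    pow_char_eq_one_of_sub_one_sq _
      (Cfsg.Agent.Lib.H8.SL2Odd.sub_one_sq_of_trace_two _ hdet2 htr2)
  have h3 : y ^ (2 * p) = 1 := by rw [pow_mul, pow_two]; exact h1
  have hd : orderOf y ∣ 2 * p := orderOf_dvd_of_pow_eq_one h3
  have hcop : (orderOf y).Coprime 2 := (Nat.coprime_two_left.mpr hodd).symm
  have hd' : orderOf y ∣ p := hcop.dvd_of_dvd_mul_left hd
  exact orderOf_dvd_iff_pow_eq_one.mp hd'

/-- If a conjugate of a non-scalar determinant one element `y` with `tr ^ 2 ≠ 4` commutes with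
`y`, then the square of the conjugating element commutes with `y`. -/
theorem commute_sq_of_commute_conj (hp2 : p ≠ 2) (hdet : (y : M2).det = 1)
    (hns : NonScalar (y : M2)) (ht : (y : M2).trace ^ 2 ≠ 4) (x : GL (Fin 2) (ZMod p))
    (hc : Commute (x * y * x⁻¹) y) : Commute (x * x) y := by
  have h2 : (2 : ZMod p) ≠ 0 := by
    intro h
    have h' : ((2 : ℕ) : ZMod p) = 0 := by exact_mod_cast h
    rw [ZMod.natCast_eq_zero_iff] at h'
    have := (Nat.prime_dvd_prime_iff_eq hp.out Nat.prime_two).mp h'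
    exact hp2 this
  set y' : GL (Fin 2) (ZMod p) := x * y * x⁻¹ with hy'
  have hc' : (y : M2) * (y' : M2) = (y' : M2) * (y : M2) := by
    rw [← Units.val_mul, ← Units.val_mul, hc.eq]
  obtain ⟨α, β, hαβ⟩ := commute_nonScalar _ _ hns hc'
  have hT : 2 * α + β * (y : M2).trace = (y : M2).trace := by
    rw [← trace_span, ← hαβ, hy', gl2_trace_conj]
  have hD : α ^ 2 + α * β * (y : M2).trace + β ^ 2 = 1 := by
    rw [← det_span _ hdet, ← hαβ, hy', gl2_det_conj, hdet]
  have hβ : (1 - β ^ 2) * ((y : M2).trace ^ 2 - 4) = 0 := by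
    linear_combination (-(2 * α + β * (y : M2).trace + (y : M2).trace)) * hT + 4 * hD
  have hβ' : (β - 1) * (β + 1) = 0 := by
    rcases mul_eq_zero.mp hβ with h | h
    · linear_combination (-1 : ZMod p) * h
    · exact absurd (sub_eq_zero.mp h) ht
  rcases mul_eq_zero.mp hβ' with h | h
  · have hβ1 : β = 1 := sub_eq_zero.mp h
    have hα : α = 0 := by
      rw [hβ1] at hT
      have : 2 * α = 0 := by linear_combination hT
      exact (mul_eq_zero.mp this).resolve_left h2
    have hyy : y' = y := by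
      apply Units.ext
      rw [hαβ, hα, hβ1]
      simp
    have hxy : Commute x y := by
      have : x * y * x⁻¹ = y := hyy
      show x * y = y * x
      calc x * y = (x * y * x⁻¹) * x := by group
        _ = y * x := by rw [this]
    exact hxy.mul_left hxy
  · have hβ1 : β = -1 := eq_neg_of_add_eq_zero_left h
    have hα : α = (y : M2).trace := by
      rw [hβ1] at hT
      have : 2 * (α - (y : M2).trace) = 0 := by linear_combination hT
      exact sub_eq_zero.mp ((mul_eq_zero.mp this).resolve_left h2)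
    have hval : (y' : M2) = (y : M2).trace • (1 : M2) - (y : M2) := by
      rw [hαβ, hα, hβ1]
      module
    have hconj : x * y' * x⁻¹ = y := by
      apply Units.ext
      have hxx : (x : M2) * ((x⁻¹ : GL (Fin 2) (ZMod p)) : M2) = 1 := by
        rw [← Units.val_mul, mul_inv_cancel, Units.val_one]
      have e1 : ((x * y' * x⁻¹ : GL (Fin 2) (ZMod p)) : M2) =
          (y : M2).trace • (1 : M2) - (y' : M2) := by
        rw [Units.val_mul, Units.val_mul, hval, mul_sub, sub_mul, Matrix.mul_smul, Matrix.smul_mul,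
          mul_one, hxx, ← hval]
        rw [hy', Units.val_mul, Units.val_mul]
      rw [e1, hval]
      abel
    show x * x * y = y * (x * x)
    calc x * x * y = (x * y' * x⁻¹) * (x * x) := by rw [hy']; group
      _ = y * (x * x) := by rw [hconj]

/-- An element of odd order whose square commutes with `y` commutes with `y`. -/
theorem commute_of_commute_sq {G : Type*} [Group G] {x y : G} (hodd : Odd (orderOf x))
    (h : Commute (x * x) y) : Commute x y := by
  obtain ⟨k, hk⟩ := hodd
  have hx : x = (x * x) ^ (k + 1) := by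
    rw [← pow_two, ← pow_mul]
    have : 2 * (k + 1) = orderOf x + 1 := by omega
    rw [this, pow_succ, pow_orderOf_eq_one, one_mul]
  rw [hx]
  exact h.pow_left _

/-- The centralizer of a non-scalar matrix is commutative. -/
theorem mul_comm_of_commute_nonScalar (hns : NonScalar (y : M2)) {a b : GL (Fin 2) (ZMod p)}
    (ha : Commute a y) (hb : Commute b y) : a * b = b * a := by
  have ha' : (y : M2) * (a : M2) = (a : M2) * (y : M2) := by
    rw [← Units.val_mul, ← Units.val_mul, ha.eq]
  have hb' : (y : M2) * (b : M2) = (b : M2) * (y : M2) := by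
    rw [← Units.val_mul, ← Units.val_mul, hb.eq]
  obtain ⟨α, β, hg'⟩ := commute_nonScalar _ _ hns ha'
  obtain ⟨α', β', hh'⟩ := commute_nonScalar _ _ hns hb'
  apply Units.ext
  rw [Units.val_mul, Units.val_mul, hg', hh']
  simp only [add_mul, mul_add, smul_mul_assoc, mul_smul_comm, one_mul, mul_one]
  module

end elements

/-! ### The main theorem -/

theorem commutator_lt_of_isSolvable {G : Type*} [Group G] (X : Subgroup G) [Group.IsSolvable X]
    (hX : X ≠ ⊥) : ⁅X, X⁆ < X := by
  haveI : Nontrivial X := (Subgroup.nontrivial_iff_ne_bot X).mpr hX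
  have h := Group.IsSolvable.commutator_lt_top_of_nontrivial X
  have h2 : (commutator X).map X.subtype = ⁅X, X⁆ := by
    rw [commutator_def, Subgroup.map_commutator, ← MonoidHom.range_eq_map, Subgroup.range_subtype]
  rw [← h2]
  have h3 : (commutator X).map X.subtype < (⊤ : Subgroup X).map X.subtype :=
    (Subgroup.map_lt_map_iff_of_injective X.subtype_injective).mpr h
  rwa [← MonoidHom.range_eq_map, Subgroup.range_subtype] at h3

theorem le_normalizer_commutator_of_le_normalizer {G : Type*} [Group G] (X D : Subgroup G)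
    (h : X ≤ Subgroup.normalizer (D : Set G)) :
    X ≤ Subgroup.normalizer ((⁅D, D⁆ : Subgroup G) : Set G) := by
  intro x hx
  have h1 := Subgroup.mem_normalizer_iff_map_conj_eq.mp (h hx)
  rw [Subgroup.mem_normalizer_iff_map_conj_eq, Subgroup.map_commutator, h1]

/-- **Odd-order solvable subgroups of `GL₂(p)`** have a derived subgroup which is a `p`-group. -/
theorem isPGroup_commutator_of_odd_solvable (hp2 : p ≠ 2) :
    ∀ (n : ℕ) (X : Subgroup (GL (Fin 2) (ZMod p))), Nat.card X = n → Odd n → Group.IsSolvable X →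
      IsPGroup p ↥⁅X, X⁆ := by
  intro n
  induction n using Nat.strong_induction_on with
  | _ n ih =>
  intro X hn hodd hsol
  by_cases hX : X = ⊥
  · rw [hX, Subgroup.commutator_bot_left]
    exact IsPGroup.of_bot
  set D : Subgroup (GL (Fin 2) (ZMod p)) := ⁅X, X⁆ with hD
  have hDlt : D < X := commutator_lt_of_isSolvable X hX
  have hDle : D ≤ X := hDlt.le
  have hXD : X ≤ Subgroup.normalizer (D : Set (GL (Fin 2) (ZMod p))) :=
    Subgroup.normalizer_commutator_ge_left X X
  have hcardD : Nat.card D < n := by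
    rw [← hn]
    have h1 : Nat.card D ∣ Nat.card X := Subgroup.card_dvd_of_le hDle
    have h2 : Nat.card D ≠ Nat.card X := by
      intro h
      have := Subgroup.eq_of_le_of_card_ge hDle h.ge
      exact hDlt.ne this
    exact lt_of_le_of_ne (Nat.le_of_dvd Nat.card_pos h1) h2
  have hoddX : Odd (Nat.card X) := hn ▸ hodd
  have hoddD : Odd (Nat.card D) := Odd.of_dvd_nat hoddX (Subgroup.card_dvd_of_le hDle)
  haveI := hsol
  have hsolD : Group.IsSolvable D :=
    Group.isSolvable_of_isSolvable_injective (Subgroup.inclusion_injective hDle)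
  have ihD : IsPGroup p ↥⁅D, D⁆ := ih _ hcardD D rfl hoddD hsolD
  by_cases hDD : ⁅D, D⁆ = ⊥
  swap
  · exact isPGroup_commutator_of_normal_pSubgroup X ⁅D, D⁆ ihD hDD
      (le_normalizer_commutator_of_le_normalizer X D hXD)
  -- `D` is abelian
  have hcomm : ∀ a ∈ D, ∀ b ∈ D, Commute a b := by
    intro a ha b hb
    have := (Subgroup.commutator_eq_bot_iff_le_centralizer.mp hDD) ha
    exact (Subgroup.mem_centralizer_iff.mp this b hb).symm
  have hdetD : ∀ y ∈ D, ((y : GL (Fin 2) (ZMod p)) : Matrix (Fin 2) (Fin 2) (ZMod p)).det = 1 := by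
    intro y hy
    apply coe_det_eq_one_of_det
    have hle : D ≤ (Matrix.GeneralLinearGroup.det : GL (Fin 2) (ZMod p) →* (ZMod p)ˣ).ker := by
      rw [hD, Subgroup.commutator_le]
      intro a _ b _
      rw [MonoidHom.mem_ker, map_commutatorElement]
      exact commutatorElement_eq_one_iff_mul_comm.mpr (mul_comm _ _)
    exact MonoidHom.mem_ker.mp (hle hy)
  have hoddel : ∀ x ∈ X, Odd (orderOf x) := by
    intro x hx
    have : orderOf (⟨x, hx⟩ : X) = orderOf x := Subgroup.orderOf_mk x hx
    rw [← this]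
    exact Odd.of_dvd_nat hoddX (orderOf_dvd_natCard _)
  by_cases hex : ∃ y ∈ D, NonScalar ((y : GL (Fin 2) (ZMod p)) : Matrix (Fin 2) (Fin 2) (ZMod p))
  · obtain ⟨y, hyD, hns⟩ := hex
    have hy1 : y ≠ 1 := by
      intro h
      apply hns
      rw [h, Units.val_one]
      simp
    by_cases ht : ((y : GL (Fin 2) (ZMod p)) : Matrix (Fin 2) (Fin 2) (ZMod p)).trace ^ 2 = 4
    · -- `y` is a nontrivial `p`-element of the abelian normal subgroup `D`
      have hyp : y ^ p = 1 := pow_char_eq_one_of_trace_sq (hdetD y hyD) ht (hoddel y (hDle hyD))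
      let Q : Subgroup (GL (Fin 2) (ZMod p)) :=
        { carrier := {d | d ∈ D ∧ d ^ p = 1}
          one_mem' := ⟨D.one_mem, one_pow _⟩
          mul_mem' := by
            rintro a b ⟨ha, ha'⟩ ⟨hb, hb'⟩
            exact ⟨D.mul_mem ha hb, by rw [(hcomm a ha b hb).mul_pow, ha', hb', one_mul]⟩
          inv_mem' := by
            rintro a ⟨ha, ha'⟩
            exact ⟨D.inv_mem ha, by rw [inv_pow, ha', inv_one]⟩ }
      have hQp : IsPGroup p Q := by
        rintro ⟨d, hd⟩
        refine ⟨1, ?_⟩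
        rw [pow_one]
        exact Subtype.ext hd.2
      have hQ1 : Q ≠ ⊥ := by
        intro h
        have : y ∈ Q := ⟨hyD, hyp⟩
        rw [h, Subgroup.mem_bot] at this
        exact hy1 this
      have hXQ : X ≤ Subgroup.normalizer (Q : Set (GL (Fin 2) (ZMod p))) := by
        intro x hx
        rw [Subgroup.mem_normalizer_iff]
        intro d
        have hxD := Subgroup.mem_normalizer_iff.mp (hXD hx) d
        constructor
        · rintro ⟨hd, hd'⟩
          refine ⟨hxD.mp hd, ?_⟩
          rw [conj_pow, hd', mul_one, mul_inv_cancel]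
        · rintro ⟨hd, hd'⟩
          refine ⟨hxD.mpr hd, ?_⟩
          rw [conj_pow] at hd'
          have : d ^ p = x⁻¹ * (x * d ^ p * x⁻¹) * x := by group
          rw [this, hd']
          group
      exact isPGroup_commutator_of_normal_pSubgroup X Q hQp hQ1 hXQ
    · -- `X` centralizes `y`, hence is abelian
      have hXy : ∀ x ∈ X, Commute x y := by
        intro x hx
        apply commute_of_commute_sq (hoddel x hx)
        apply commute_sq_of_commute_conj hp2 (hdetD y hyD) hns ht
        have : x * y * x⁻¹ ∈ D := (Subgroup.mem_normalizer_iff.mp (hXD hx) y).mp hyD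
        exact hcomm _ this _ hyD
      have hbot : D = ⊥ := by
        rw [hD, eq_bot_iff, Subgroup.commutator_le]
        intro a ha b hb
        rw [Subgroup.mem_bot]
        exact commutatorElement_eq_one_iff_mul_comm.mpr
          (mul_comm_of_commute_nonScalar hns (hXy a ha) (hXy b hb))
      rw [hbot]
      exact IsPGroup.of_bot
  · -- all elements of `D` are scalar of determinant one and odd order
    have hbot : D = ⊥ := by
      rw [eq_bot_iff]
      intro y hy
      rw [Subgroup.mem_bot]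
      have hs : ¬ NonScalar ((y : GL (Fin 2) (ZMod p)) : Matrix (Fin 2) (Fin 2) (ZMod p)) :=
        fun h => hex ⟨y, hy, h⟩
      exact Cfsg.Agent.Lib.H8.SL2Odd.eq_one_of_odd_of_sq (hoddel y (hDle hy))
        (mul_self_eq_one_of_scalar (hdetD y hy) hs)
    rw [hbot]
    exact IsPGroup.of_bot

end Cfsg.Agent.Lib.H16.GL2Odd
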