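import Mathlib
import Cfsg.Agent.S0093
import Cfsg.Agent.S0096
import Cfsg.Agent.S0120
import Cfsg.Agent.S0121
import Cfsg.Agent.Lib.H1.PGroupBasic

set_option autoImplicit false

/-!
# `p`-groups of rank at most two: a small faithful characteristic section

For an odd prime `p` and a finite `p`-group `P`, `exists_char_exp` produces a characteristic
subgroup `W` of exponent `p` and class at most two on which `p'`-automorphisms act faithfully.
-/

namespace Cfsg.Agent.Lib.H16.RankTwo

open scoped commutatorElement

universe u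

/-- Restriction of automorphisms to a characteristic subgroup. -/
def charRestrict {P : Type*} [Group P] (K : Subgroup P) [hK : K.Characteristic] :
    MulAut P →* MulAut ↥K where
  toFun α := (α.subgroupMap K).trans
    (MulEquiv.subgroupCongr (Subgroup.characteristic_iff_map_eq.mp hK α))
  map_one' := by ext x; rfl
  map_mul' := by intro α β; ext x; rfl

@[simp] theorem charRestrict_apply {P : Type*} [Group P] (K : Subgroup P) [K.Characteristic]
    (α : MulAut P) (x : K) : ((charRestrict K α x : K) : P) = α x := rfl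

theorem orderOf_charRestrict_dvd {P : Type*} [Group P] (K : Subgroup P) [K.Characteristic]
    (α : MulAut P) : orderOf (charRestrict K α) ∣ orderOf α :=
  orderOf_map_dvd _ _

variable {P : Type u} [Group P] [Finite P] {p : ℕ} [hp : Fact p.Prime]

/-- For `p` odd, a finite `p`-group has a characteristic subgroup `W` of exponent dividing `p`
and class at most two on which every `p'`-automorphism acts faithfully. -/
theorem exists_char_exp (hp2 : p ≠ 2) (hP : IsPGroup p P) :
    ∃ W : Subgroup P, W.Characteristic ∧ (∀ w ∈ W, w ^ p = 1) ∧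
      (∀ x ∈ W, ∀ y ∈ W, ∀ z ∈ W, Commute ⁅x, y⁆ z) ∧
      (∀ α : MulAut P, (orderOf α).Coprime p → (∀ w ∈ W, α w = w) → α = 1) := by
  obtain ⟨H, hHc, h1, h2, h3⟩ := Cfsg.Agent.S0093.result hP
  haveI := hHc
  have hHP : IsPGroup p H := hP.to_subgroup H
  have hcf : commutator H ≤ frattini H := Cfsg.Agent.Lib.H1.isPGroup_commutator_le_frattini hHP
  -- commutators of `H` centralize `H`
  have hcent : ∀ c : H, c ∈ commutator H → ∀ z : H, c * z = z * c := by
    intro c hc z
    have hc' : (c : P) ∈ (frattini H).map H.subtype := ⟨c, hcf hc, rfl⟩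
    have := Subgroup.mem_centralizer_iff.mp (h1 hc') (z : P) z.2
    exact Subtype.ext this.symm
  have hclass : ⁅commutator H, (⊤ : Subgroup H)⁆ = ⊥ := by
    rw [Subgroup.commutator_eq_bot_iff_le_centralizer]
    intro c hc
    rw [Subgroup.mem_centralizer_iff]
    intro z _
    exact (hcent c hc z).symm
  set W0 : Subgroup H := Subgroup.closure {x : H | x ^ p = 1} with hW0
  have hW0exp : ∀ g ∈ W0, g ^ p = 1 := fun g hg =>
    Cfsg.Agent.S0096.result hp2 hHP hclass g hg
  set W : Subgroup P := W0.map H.subtype with hW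
  have hWH : W ≤ H := Subgroup.map_subtype_le W0
  have hWmem : ∀ x : P, x ∈ W ↔ ∃ hx : x ∈ H, (⟨x, hx⟩ : H) ∈ W0 := by
    intro x
    constructor
    · rintro ⟨y, hy, rfl⟩
      exact ⟨y.2, hy⟩
    · rintro ⟨hx, hx'⟩
      exact ⟨⟨x, hx⟩, hx', rfl⟩
  have hHmem : ∀ (φ : P ≃* P) (x : P), φ x ∈ H ↔ x ∈ H := fun φ x =>
    SetLike.ext_iff.mp (hHc.fixed φ) x
  have hWchar : W.Characteristic := by
    rw [Subgroup.characteristic_iff_map_le]
    intro φ
    rw [hW, Subgroup.map_map, hW0, MonoidHom.map_closure, MonoidHom.map_closure,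
      Subgroup.closure_le]
    rintro _ ⟨x, hx, rfl⟩
    apply Subgroup.subset_closure
    refine ⟨⟨φ x, (hHmem φ x).mpr x.2⟩, ?_, rfl⟩
    show (⟨φ x, _⟩ : H) ^ p = 1
    apply Subtype.ext
    have hx' : (x : H) ^ p = 1 := hx
    have : ((x : H) : P) ^ p = 1 := by
      have := congrArg Subtype.val hx'
      simpa using this
    rw [Subgroup.coe_pow, Subgroup.coe_one]
    show (φ x) ^ p = 1
    rw [← map_pow, this, map_one]
  refine ⟨W, hWchar, ?_, ?_, ?_⟩
  · intro w hw
    obtain ⟨hx, hx'⟩ := (hWmem w).mp hw
    have := hW0exp _ hx'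
    have := congrArg Subtype.val this
    simpa using this
  · intro x hx y hy z hz
    have hxH := hWH hx
    have hyH := hWH hy
    have hzH := hWH hz
    have hc : ⁅(⟨x, hxH⟩ : H), ⟨y, hyH⟩⁆ ∈ commutator H :=
      Subgroup.commutator_mem_commutator (Subgroup.mem_top _) (Subgroup.mem_top _)
    have := hcent _ hc ⟨z, hzH⟩
    have := congrArg Subtype.val this
    exact this
  · intro α hα hfix
    apply Cfsg.Agent.S0121.result hP H hHc h1 h2 h3 α hα
    have hα' : (orderOf (charRestrict H α)).Coprime p :=
      Nat.Coprime.coprime_dvd_left (orderOf_charRestrict_dvd H α) hα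
    have h5 : charRestrict H α = 1 := by
      apply Cfsg.Agent.S0120.result hp2 hHP (charRestrict H α) hα'
      intro x hx
      apply Subtype.ext
      rw [charRestrict_apply]
      apply hfix
      exact ⟨x, Subgroup.subset_closure hx, rfl⟩
    intro x hx
    have := congrArg (fun β : MulAut H => ((β ⟨x, hx⟩ : H) : P)) h5
    simpa using this

end Cfsg.Agent.Lib.H16.RankTwo
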