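import Mathlib
import Cfsg.Prelude
import Cfsg.Agent.Lib.H16.RankTwo
import Cfsg.Agent.Lib.H16.RankTwoB
import Cfsg.Agent.Lib.H17.ElemAbGL
import Cfsg.Agent.Lib.H20.AutPrimeOrder

set_option autoImplicit false

/-!
# `p`-groups of rank at most two: a faithful representation of degree at most two

For `p` odd and `P` a finite `p`-group of rank at most two, there are `e ≤ 2` and a homomorphism
`MulAut P →* GL (Fin e) (ZMod p)` which is faithful on `p'`-automorphisms (`exists_hom_GL`).
-/

namespace Cfsg.Agent.Lib.H16.RankTwo

open scoped commutatorElement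

universe u

theorem pRankLE_subgroup {P : Type*} [Group P] {p k : ℕ} (h : Cfsg.PRankLE p k P)
    (K : Subgroup P) : Cfsg.PRankLE p k ↥K := by
  intro A hA hexp
  have h1 : Nat.card (A.map K.subtype) = Nat.card A :=
    Subgroup.card_map_of_injective K.subtype_injective
  rw [← h1]
  apply h
  · exact Subgroup.map_isMulCommutative A K.subtype
  · rintro _ ⟨a, ha, rfl⟩
    rw [← map_pow, hexp a ha, map_one]

variable {P : Type u} [Group P] [Finite P] {p : ℕ} [hp : Fact p.Prime]

theorem exists_hom_GL (hp2 : p ≠ 2) (hP : IsPGroup p P) (hr : Cfsg.PRankLE p 2 P) :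
    ∃ e, e ≤ 2 ∧ ∃ φ : MulAut P →* GL (Fin e) (ZMod p),
      ∀ α : MulAut P, (orderOf α).Coprime p → φ α = 1 → α = 1 := by
  obtain ⟨W, hWc, hWexp, hWcl, hWf⟩ := exists_char_exp hp2 hP
  haveI := hWc
  have hexp : ∀ w : W, w ^ p = 1 := by
    intro w
    apply Subtype.ext
    rw [Subgroup.coe_pow, Subgroup.coe_one]
    exact hWexp w w.2
  have hcl : ∀ x y z : W, Commute ⁅x, y⁆ z := by
    intro x y z
    have := hWcl x x.2 y y.2 z z.2
    exact Subtype.ext this
  have hrW : Cfsg.PRankLE p 2 W := pRankLE_subgroup hr W
  by_cases hc : ∀ x y : W, x * y = y * x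
  · -- commutative case
    obtain ⟨e, he2, hcard⟩ := card_of_comm hexp hrW hc
    letI iC : CommGroup W := { (inferInstance : Group W) with mul_comm := hc }
    letI iM : Module (ZMod p) (Additive W) := AddCommGroup.zmodModule (n := p) (by
      intro x
      show Additive.ofMul ((Additive.toMul x) ^ p) = 0
      rw [hexp]; rfl)
    obtain ⟨φ, hφ⟩ := @Cfsg.Agent.Lib.H17.exists_hom_GL_of_module p hp W iC iM _ (MulAut P) _ e
      hcard (charRestrict W)
    refine ⟨e, he2, φ, ?_⟩
    intro α hα hφα
    have h1 := (hφ α).mp hφα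
    apply hWf α hα
    intro w hw
    have := congrArg (fun β : MulAut W => ((β ⟨w, hw⟩ : W) : P)) h1
    simpa using this
  · -- non-commutative case
    obtain ⟨hcard, hZc⟩ := card_of_not_comm hexp hcl hrW hc
    have hC2 : Meta.C2 W p :=
      ⟨fun a b => Subgroup.mem_center_iff.mpr (fun z => (hcl a b z).eq.symm), fun a b => hexp _⟩
    letI iC : CommGroup (W ⧸ Subgroup.center W) :=
      { (inferInstance : Group (W ⧸ Subgroup.center W)) with
        mul_comm := by
          intro a b
          induction a using QuotientGroup.induction_on with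
          | H a =>
          induction b using QuotientGroup.induction_on with
          | H b =>
          rw [← QuotientGroup.mk_mul, ← QuotientGroup.mk_mul, QuotientGroup.eq]
          have : (a * b)⁻¹ * (b * a) = ⁅b⁻¹, a⁻¹⁆ := by
            rw [commutatorElement_def]; group
          rw [this]
          exact hC2.central _ _ }
    letI iM : Module (ZMod p) (Additive (W ⧸ Subgroup.center W)) :=
      AddCommGroup.zmodModule (n := p) (by
        intro x
        show Additive.ofMul ((Additive.toMul x) ^ p) = 0
        have : (Additive.toMul x) ^ p = 1 := by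
          induction (Additive.toMul x) using QuotientGroup.induction_on with
          | H a => rw [← QuotientGroup.mk_pow, hexp, QuotientGroup.mk_one]
        rw [this]; rfl)
    let ρ : MulAut P →* MulAut (W ⧸ Subgroup.center W) :=
      (Cfsg.Agent.Lib.H20.quotAutHom (Subgroup.center W)).comp (charRestrict W)
    obtain ⟨φ, hφ⟩ := @Cfsg.Agent.Lib.H17.exists_hom_GL_of_module p hp (W ⧸ Subgroup.center W)
      iC iM _ (MulAut P) _ 2 hcard ρ
    refine ⟨2, le_rfl, φ, ?_⟩
    intro α hα hφα
    have h1 := (hφ α).mp hφα
    set β : MulAut W := charRestrict W α with hβ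
    have hβord : (orderOf β).Coprime p :=
      Nat.Coprime.coprime_dvd_left (orderOf_charRestrict_dvd W α) hα
    -- `β` is trivial modulo the centre
    have hmod : ∀ w : W, w⁻¹ * β w ∈ Subgroup.center W := by
      intro w
      have := congrArg (fun γ : MulAut (W ⧸ Subgroup.center W) => γ (w : W ⧸ Subgroup.center W)) h1
      simp only [ρ, MonoidHom.comp_apply, Cfsg.Agent.Lib.H20.quotAutHom_mk, MulAut.one_apply] at this
      exact QuotientGroup.eq.mp this.symm
    -- `β` fixes the centre pointwise
    have hfixZ : ∀ z ∈ Subgroup.center W, β z = z := by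
      intro z hz
      obtain ⟨w, x, rfl⟩ := hZc z hz
      rw [map_commutatorElement]
      have hw : β w = w * (w⁻¹ * β w) := by group
      have hx : β x = x * (x⁻¹ * β x) := by group
      rw [hw, hx, hC2.comm_central_left (hmod w)]
      exact hC2.comm_commute_right (Subgroup.mem_center_iff.mp (hmod x) w)
    have hβ1 : β = 1 := by
      apply Cfsg.Agent.S0120.eq_one_of_fixes_comm (isPGroup_of_exp hexp) β hβord
      intro g
      exact hfixZ _ (hmod g)
    apply hWf α hα
    intro w hw
    have := congrArg (fun γ : MulAut W => ((γ ⟨w, hw⟩ : W) : P)) hβ1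
    simpa [hβ] using this

end Cfsg.Agent.Lib.H16.RankTwo
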