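import Mathlib
import Cfsg.Prelude
import Cfsg.Agent.Lib.H16.RankTwoC
import Cfsg.Agent.Lib.H16.GL2Odd
import Cfsg.Agent.Lib.H16.OddStable

set_option autoImplicit false

/-!
# Odd-order solvable groups acting on `p`-groups of rank at most two

* `isPGroup_commutator_of_action`: if a solvable group `A` of odd order acts on a `p`-group `P` of
  rank at most two (`p` odd) with a kernel which is a `p`-group, then `A'` is a `p`-group.
* `prime_dvd_of_aut`: an automorphism of prime order `q ≠ p` of `P` forces `q ∣ p ^ 2 - 1`.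
-/

namespace Cfsg.Agent.Lib.H16.RankTwo

open scoped commutatorElement
open Matrix

universe u v

variable {p : ℕ} [hp : Fact p.Prime]

theorem gl_mul_comm_of_le_one {e : ℕ} (he : e ≤ 1) (a b : GL (Fin e) (ZMod p)) :
    a * b = b * a := by
  interval_cases e
  · exact Subsingleton.elim _ _
  · apply Units.ext
    rw [Units.val_mul, Units.val_mul]
    ext i j
    fin_cases i; fin_cases j
    simp [Matrix.mul_apply, mul_comm]

/-- The image of the derived subgroup of an odd-order solvable group under a representation of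
degree at most two over `ZMod p` is a `p`-group. -/
theorem isPGroup_map_commutator {A : Type v} [Group A] [Finite A] (hp2 : p ≠ 2)
    (hs : Group.IsSolvable A) (hodd : Odd (Nat.card A)) {e : ℕ} (he : e ≤ 2)
    (ψ : A →* GL (Fin e) (ZMod p)) : IsPGroup p ↥((commutator A).map ψ) := by
  by_cases he1 : e ≤ 1
  · have : (commutator A).map ψ = ⊥ := by
      rw [eq_bot_iff, Subgroup.map_le_iff_le_comap, commutator_def, Subgroup.commutator_le]
      intro a _ b _
      rw [Subgroup.mem_comap, Subgroup.mem_bot, map_commutatorElement]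
      exact commutatorElement_eq_one_iff_mul_comm.mpr (gl_mul_comm_of_le_one he1 _ _)
    rw [this]
    exact IsPGroup.of_bot
  · have he2 : e = 2 := by omega
    subst he2
    have h1 : (commutator A).map ψ = ⁅ψ.range, ψ.range⁆ := by
      rw [commutator_def, Subgroup.map_commutator, ← MonoidHom.range_eq_map]
    rw [h1]
    have hoddr : Odd (Nat.card ψ.range) := Odd.of_dvd_nat hodd (Subgroup.card_range_dvd ψ)
    have hsr : Group.IsSolvable ψ.range :=
      Group.isSolvable_of_surjective (f := ψ.rangeRestrict) ψ.rangeRestrict_surjective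
    exact GL2Odd.isPGroup_commutator_of_odd_solvable hp2 _ ψ.range rfl hoddr hsr

variable {P : Type u} [Group P] [Finite P]

/-- **Odd solvable operator groups on `p`-groups of rank at most two.** -/
theorem isPGroup_commutator_of_action (hp2 : p ≠ 2) (hP : IsPGroup p P)
    (hr : Cfsg.PRankLE p 2 P) {A : Type v} [Group A] [Finite A] (hs : Group.IsSolvable A)
    (hodd : Odd (Nat.card A)) (ρ : A →* MulAut P) (hker : IsPGroup p ρ.ker) :
    IsPGroup p ↥(commutator A) := by
  obtain ⟨e, he, φ, hφ⟩ := exists_hom_GL hp2 hP hr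
  set ψ : A →* GL (Fin e) (ZMod p) := φ.comp ρ with hψ
  have h1 : IsPGroup p ↥((commutator A).map ψ) := isPGroup_map_commutator hp2 hs hodd he ψ
  have h2 : ∀ d : A, ψ d = 1 → ∃ k : ℕ, d ^ (p ^ k) = 1 := by
    intro d hd
    obtain ⟨j, hj⟩ := exists_pow_coprime_order (p := p) d
    refine ⟨j, ?_⟩
    set d' : A := d ^ (p ^ j) with hd'
    have hψd' : ψ d' = 1 := by rw [hd', map_pow, hd, one_pow]
    have hα : (orderOf (ρ d')).Coprime p :=
      Nat.Coprime.coprime_dvd_left (orderOf_map_dvd ρ d') hj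
    have hρ : ρ d' = 1 := hφ _ hα hψd'
    obtain ⟨m, hm⟩ := hker ⟨d', MonoidHom.mem_ker.mpr hρ⟩
    have hm' : d' ^ (p ^ m) = 1 := by
      have := congrArg Subtype.val hm
      simpa using this
    have hdvd : orderOf d' ∣ p ^ m := orderOf_dvd_of_pow_eq_one hm'
    have hcop : (orderOf d').Coprime (p ^ m) := Nat.Coprime.pow_right m hj
    have h1' : orderOf d' = 1 := Nat.Coprime.eq_one_of_dvd hcop hdvd
    exact orderOf_eq_one_iff.mp h1'
  rintro ⟨d, hd⟩
  obtain ⟨k, hk⟩ := h1 ⟨ψ d, Subgroup.mem_map_of_mem ψ hd⟩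
  have hk' : ψ (d ^ (p ^ k)) = 1 := by
    have := congrArg Subtype.val hk
    simpa using this
  obtain ⟨m, hm⟩ := h2 _ hk'
  refine ⟨k + m, ?_⟩
  apply Subtype.ext
  rw [Subgroup.coe_pow, Subgroup.coe_one, pow_add, pow_mul]
  exact hm

/-- An automorphism of prime order `q ≠ p` of a `p`-group of rank at most two (`p` odd) forces
`q ∣ p ^ 2 - 1`. -/
theorem prime_dvd_of_aut (hp2 : p ≠ 2) (hP : IsPGroup p P) (hr : Cfsg.PRankLE p 2 P)
    {q : ℕ} (hq : q.Prime) (hqp : q ≠ p) (α : MulAut P) (hα : α ^ q = 1) (hα1 : α ≠ 1) :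
    q ∣ p ^ 2 - 1 := by
  have : Fact q.Prime := Fact.mk hq
  obtain ⟨e, he, φ, hφ⟩ := exists_hom_GL hp2 hP hr
  have hord : orderOf α = q := orderOf_eq_prime hα hα1
  have hcop : (orderOf α).Coprime p := by
    rw [hord]
    exact (Nat.coprime_primes hq hp.out).mpr hqp
  have hφ1 : φ α ≠ 1 := fun h => hα1 (hφ α hcop h)
  have hφq : φ α ^ q = 1 := by rw [← map_pow, hα, map_one]
  have hordφ : orderOf (φ α) = q := orderOf_eq_prime hφq hφ1
  have hdvd : q ∣ Nat.card (GL (Fin e) (ZMod p)) := hordφ ▸ orderOf_dvd_natCard _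
  rw [Matrix.card_GL_field, ZMod.card] at hdvd
  have hpp : p - 1 ∣ p ^ 2 - 1 := by
    have := Nat.sub_dvd_pow_sub_pow p 1 2
    simpa using this
  interval_cases e
  · simp at hdvd
    exact absurd hdvd hq.one_lt.ne'
  · simp at hdvd
    exact hdvd.trans hpp
  · rw [Fin.prod_univ_two] at hdvd
    simp only [Fin.val_zero, pow_zero, Fin.val_one, pow_one] at hdvd
    rcases (Nat.Prime.dvd_mul hq).mp hdvd with h | h
    · exact h
    · have h3 : p ^ 2 - p = p * (p - 1) := by
        rw [Nat.mul_sub, mul_one, pow_two]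
      rw [h3] at h
      rcases (Nat.Prime.dvd_mul hq).mp h with h | h
      · exact absurd ((Nat.prime_dvd_prime_iff_eq hq hp.out).mp h) hqp
      · exact h.trans hpp

end Cfsg.Agent.Lib.H16.RankTwo
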