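import Mathlib
import Cfsg.Prelude
import Cfsg.Agent.Lib.H16.RankTwoD
import Cfsg.Agent.Lib.H16.RankQuot
import Cfsg.Agent.Lib.H16.SolvableCore
import Cfsg.Agent.Lib.H9.PPrimeCore
import Cfsg.Agent.Lib.H22.PPrimeCore
import Cfsg.Agent.Lib.H1.PCore

set_option autoImplicit false

/-!
# Solvable groups of odd order and `p`-rank at most two

For `G` solvable of odd order with `p`-rank at most two (`p` odd), with `Ḡ = G ⧸ O_{p'}(G)`:
`Ḡ' ≤ O_p(Ḡ)`, `Ḡ ⧸ O_p(Ḡ)` is a `p'`-group, and every prime `q ≠ p` dividing `|Ḡ|` divides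
`p ^ 2 - 1`.
-/

namespace Cfsg.Agent.Lib.H16.RankTwo

open Cfsg
open scoped commutatorElement

universe u

variable {G : Type u} [Group G] [Finite G] {p : ℕ} [hp : Fact p.Prime]

/-- In a group with `O_{p'} = 1`, solvable of odd order and of `p`-rank at most two. -/
theorem structure_of_pPrimeCore_eq_bot (hp2 : p ≠ 2) (hs : Group.IsSolvable G)
    (hodd : Odd (Nat.card G)) (hr : Cfsg.PRankLE p 2 G) (hO : pPrimeCore p G = ⊥) :
    commutator G ≤ pCore p G ∧ ¬ p ∣ (pCore p G).index ∧
      ∀ q : ℕ, q.Prime → q ≠ p → q ∣ Nat.card G → q ∣ p ^ 2 - 1 := by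
  set R : Subgroup G := pCore p G with hR
  have hRp : IsPGroup p R := Cfsg.Agent.Lib.H1.pCore_isPGroup p G
  have hCR : Subgroup.centralizer (R : Set G) ≤ R :=
    centralizer_pCore_le_of_isSolvable p hs hO
  have hrR : Cfsg.PRankLE p 2 R := pRankLE_subgroup hr R
  let ρ : G →* MulAut R := MulAut.conjNormal
  have hkerle : ρ.ker ≤ R := by
    intro a ha
    apply hCR
    rw [Subgroup.mem_centralizer_iff]
    intro r hr'
    have ha' : ρ a = 1 := MonoidHom.mem_ker.mp ha
    have h1 := congrArg (fun β : MulAut R => ((β ⟨r, hr'⟩ : R) : G)) ha'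
    simp only [MulAut.one_apply, ρ, MulAut.conjNormal_apply] at h1
    calc r * a = (a * r * a⁻¹) * a := by rw [h1]
      _ = a * r := by group
  have hkerp : IsPGroup p ρ.ker := hRp.to_le hkerle
  have hcomm : IsPGroup p ↥(commutator G) :=
    isPGroup_commutator_of_action hp2 hRp hrR hs hodd ρ hkerp
  have hcommle : commutator G ≤ R :=
    Cfsg.Agent.Lib.H1.le_pCore inferInstance hcomm
  refine ⟨hcommle, ?_, ?_⟩
  · -- `G ⧸ R` is abelian with trivial `O_p`
    intro hdvd
    rw [Subgroup.index_eq_card] at hdvd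
    obtain ⟨t, ht⟩ := exists_prime_orderOf_dvd_card' p hdvd
    set T : Subgroup (G ⧸ R) := Subgroup.zpowers t with hT
    have hTp : IsPGroup p T := by
      rw [hT]
      apply IsPGroup.of_card (n := 1)
      rw [Nat.card_zpowers, ht, pow_one]
    have hTn : T.Normal := by
      constructor
      intro n hn g
      have hc : g * n = n * g := by
        induction g using QuotientGroup.induction_on with
        | H g =>
        induction n using QuotientGroup.induction_on with
        | H n =>
        rw [← QuotientGroup.mk_mul, ← QuotientGroup.mk_mul, QuotientGroup.eq]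
        apply hcommle
        have : (g * n)⁻¹ * (n * g) = ⁅n⁻¹, g⁻¹⁆ := by
          rw [commutatorElement_def]; group
        rw [this]
        exact Subgroup.commutator_mem_commutator (Subgroup.mem_top _) (Subgroup.mem_top _)
      rw [hc, mul_inv_cancel_right]
      exact hn
    set T' : Subgroup G := T.comap (QuotientGroup.mk' R) with hT'
    have hT'n : T'.Normal := Subgroup.Normal.comap hTn _
    have hT'p : IsPGroup p T' := by
      apply IsPGroup.comap_of_ker_isPGroup hTp
      rw [QuotientGroup.ker_mk']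
      exact hRp
    have hT'le : T' ≤ R := Cfsg.Agent.Lib.H1.le_pCore hT'n hT'p
    have ht1 : t = 1 := by
      obtain ⟨g, rfl⟩ := QuotientGroup.mk'_surjective R t
      have hg : g ∈ T' := by
        rw [hT', Subgroup.mem_comap]
        exact Subgroup.mem_zpowers _
      exact (QuotientGroup.eq_one_iff g).mpr (hT'le hg)
    rw [ht1, orderOf_one] at ht
    exact hp.out.one_lt.ne ht
  · intro q hq hqp hqd
    have : Fact q.Prime := ⟨hq⟩
    obtain ⟨a, ha⟩ := exists_prime_orderOf_dvd_card' q hqd
    have hαq : (ρ a) ^ q = 1 := by rw [← map_pow, ← ha, pow_orderOf_eq_one, map_one]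
    have hα1 : ρ a ≠ 1 := by
      intro h
      have haR : a ∈ R := hkerle (MonoidHom.mem_ker.mpr h)
      obtain ⟨j, hj⟩ := hRp ⟨a, haR⟩
      have hj' : a ^ (p ^ j) = 1 := by
        have := congrArg Subtype.val hj
        simpa using this
      have hdvd : q ∣ p ^ j := ha ▸ orderOf_dvd_of_pow_eq_one hj'
      exact hqp ((Nat.prime_dvd_prime_iff_eq hq hp.out).mp (hq.dvd_of_dvd_pow hdvd))
    exact prime_dvd_of_aut hp2 hRp hrR hq hqp (ρ a) hαq hα1

/-- The general case, through the quotient by `O_{p'}(G)`. -/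
theorem structure_quotient (hp2 : p ≠ 2) (hs : Group.IsSolvable G)
    (hodd : Odd (Nat.card G)) (hr : Cfsg.PRankLE p 2 G) :
    commutator (G ⧸ pPrimeCore p G) ≤ pCore p (G ⧸ pPrimeCore p G) ∧
      ¬ p ∣ (pCore p (G ⧸ pPrimeCore p G)).index ∧
      ∀ q : ℕ, q.Prime → q ≠ p → q ∣ Nat.card (G ⧸ pPrimeCore p G) → q ∣ p ^ 2 - 1 := by
  have hNc : (Nat.card (pPrimeCore p G)).Coprime p :=
    Cfsg.Agent.Lib.H22.card_pPrimeCore_coprime p
  have hcard : Nat.card (G ⧸ pPrimeCore p G) ∣ Nat.card G := by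
    rw [← Subgroup.index_eq_card]
    exact Subgroup.index_dvd_card _
  apply structure_of_pPrimeCore_eq_bot hp2
  · exact Group.isSolvable_of_surjective (QuotientGroup.mk'_surjective (pPrimeCore p G))
  · exact Odd.of_dvd_nat hodd hcard
  · exact pRankLE_quotient_of_coprime _ hNc hr
  · exact Cfsg.Agent.Lib.H9.pPrimeCore_quotient_eq_bot p

end Cfsg.Agent.Lib.H16.RankTwo
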