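import Mathlib
import Cfsg.Agent.Lib.H16.BGi
import Cfsg.Agent.Lib.H9.UpperPAmb
import Cfsg.Agent.S1450

/-! # Bender–Glauberman §9: `O_{p',p}` of a subgroup, Frattini arguments (helper16) -/

set_option autoImplicit false
set_option linter.style.haveILetI false
set_option linter.unusedSectionVars false
set_option linter.unusedVariables false
set_option linter.deprecated false
open Cfsg

namespace Cfsg.Agent.Lib.H16.BG

open Cfsg.Agent.Lib.H19 (IsPiCard)
open Cfsg.Agent.Lib.H7.BG7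
open Cfsg.Agent.Lib.H9 (oppAmb opAmb oppAmb_le le_normalizer_oppAmb opAmb_le_oppAmb)

universe u

section TypeLevel

variable {X : Type u} [Group X] [Finite X] {p : ℕ} [hp : Fact p.Prime]

/-- `O_{p',p}(X) = O_{p'}(X) (S ∩ O_{p',p}(X))` for a Sylow `p`-subgroup `S`. -/
theorem pPrimePCore_eq_mul (S : Sylow p X) :
    ∀ l ∈ pPrimePCore p X, ∃ k ∈ pPrimeCore p X,
      ∃ t ∈ (S : Subgroup X) ⊓ pPrimePCore p X, l = k * t := by
  intro l hl
  haveI hKn : (pPrimeCore p X).Normal := Cfsg.Agent.Lib.H22.pPrimeCore_normal p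
  have hs : Function.Surjective (QuotientGroup.mk' (pPrimeCore p X)) :=
    QuotientGroup.mk'_surjective _
  have h1 : pCore p (X ⧸ pPrimeCore p X) ≤ (S.mapSurjective hs : Subgroup (X ⧸ pPrimeCore p X)) :=
    Cfsg.Agent.Lib.H1.pCore_le_sylow _
  have hl' : QuotientGroup.mk' (pPrimeCore p X) l ∈ pCore p (X ⧸ pPrimeCore p X) := hl
  have h2 := h1 hl'
  rw [Sylow.coe_mapSurjective] at h2
  obtain ⟨u, hu, hul⟩ := h2
  have h3 : l * u⁻¹ ∈ pPrimeCore p X := by
    rw [← QuotientGroup.eq_one_iff, ← QuotientGroup.mk'_apply, map_mul, map_inv, hul]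
    exact mul_inv_cancel _
  refine ⟨l * u⁻¹, h3, u, ⟨hu, ?_⟩, by group⟩
  show QuotientGroup.mk' (pPrimeCore p X) u ∈ pCore p (X ⧸ pPrimeCore p X)
  rw [hul]; exact hl'

/-- a `p'`-subgroup normalized by a Sylow `p`-subgroup of the solvable group `X` lies in
`O_{p'}(X)`. -/
theorem le_pPrimeCore_of_sylow_le_normalizer (hs : Group.IsSolvable X) (S : Sylow p X)
    {Y : Subgroup X} (hY : (Nat.card Y).Coprime p)
    (hSY : (S : Subgroup X) ≤ Subgroup.normalizer (Y : Set X)) : Y ≤ pPrimeCore p X := by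
  haveI hKn : (pPrimeCore p X).Normal := Cfsg.Agent.Lib.H22.pPrimeCore_normal p
  set K := pPrimeCore p X with hK
  set π := QuotientGroup.mk' K with hπ
  have hsurj : Function.Surjective π := QuotientGroup.mk'_surjective _
  have hF := Cfsg.Agent.Lib.H7.centralizer_pCore_quotient_le_of_isSolvable (Y := X) p hs
  set O := pCore p (X ⧸ K) with hO
  haveI hOn : O.Normal := Cfsg.Agent.Lib.H1.pCore_normal p _
  have hOp : IsPGroup p O := Cfsg.Agent.Lib.H1.pCore_isPGroup p _
  have h1 : O ≤ (S : Subgroup X).map π := by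
    have := Cfsg.Agent.Lib.H1.pCore_le_sylow (S.mapSurjective hsurj)
    rwa [Sylow.coe_mapSurjective] at this
  have h2 : (S : Subgroup X).map π ≤ Subgroup.normalizer ((Y.map π : Subgroup (X ⧸ K)) : Set (X ⧸ K)) :=
    (Subgroup.map_mono hSY).trans (Subgroup.le_normalizer_map π)
  have hYc : (Nat.card (Y.map π)).Coprime p :=
    Nat.Coprime.coprime_dvd_left (Subgroup.card_map_dvd Y π) hY
  have hdisj : Y.map π ⊓ O = ⊥ := by
    apply Subgroup.inf_eq_bot_of_coprime
    obtain ⟨k, hk⟩ := IsPGroup.iff_card.1 hOp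
    rw [hk]
    exact Nat.Coprime.pow_right k hYc
  have h3 : Y.map π ≤ Subgroup.centralizer (O : Set (X ⧸ K)) := by
    apply le_centralizer_of_inf_eq_bot _ (h1.trans h2) hdisj
    rw [Subgroup.normalizer_eq_top_iff.2 hOn]
    exact le_top
  have h4 : Y.map π ≤ ⊥ := by
    rw [← hdisj]
    exact le_inf le_rfl (h3.trans hF)
  intro y hy
  have : π y ∈ (⊥ : Subgroup (X ⧸ K)) := h4 (Subgroup.mem_map_of_mem π hy)
  rw [Subgroup.mem_bot, hπ, QuotientGroup.mk'_apply, QuotientGroup.eq_one_iff] at this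
  exact this

/-- a normal subgroup of index prime to `p` contains every Sylow `p`-subgroup. -/
theorem sylow_le_of_index_coprime (S : Sylow p X) {N : Subgroup X} [N.Normal]
    (hN : N.index.Coprime p) : (S : Subgroup X) ≤ N := by
  intro x hx
  have h1 : IsPGroup p ((S : Subgroup X).map (QuotientGroup.mk' N)) := S.2.map _
  obtain ⟨k, hk⟩ := IsPGroup.iff_card.1 h1
  have h2 : Nat.card ((S : Subgroup X).map (QuotientGroup.mk' N)) ∣ N.index := by
    rw [Subgroup.index_eq_card]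
    exact Subgroup.card_subgroup_dvd_card _
  have hk0 : k = 0 := by
    by_contra h0
    have : p ∣ N.index := (dvd_pow_self p h0).trans (hk ▸ h2)
    have h3 := Nat.Coprime.eq_one_of_dvd hN.symm this
    exact hp.out.one_lt.ne' h3
  rw [hk0, pow_zero] at hk
  have h3 : (S : Subgroup X).map (QuotientGroup.mk' N) = ⊥ := Subgroup.card_eq_one.1 hk
  have h4 : QuotientGroup.mk' N x ∈ (S : Subgroup X).map (QuotientGroup.mk' N) :=
    Subgroup.mem_map_of_mem _ hx
  rw [h3, Subgroup.mem_bot, QuotientGroup.mk'_apply, QuotientGroup.eq_one_iff] at h4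
  exact h4

end TypeLevel

variable {G : Type u} [Group G] [Finite G] {p : ℕ} [hp : Fact p.Prime]

theorem opAmb_eq (p : ℕ) (H : Subgroup G) : opAmb p H = piCoreOf (primesNotDvd p) H :=
  (piCoreOf_primesNotDvd_eq p H).symm

theorem core_le_oppAmb (p : ℕ) (H : Subgroup G) : piCoreOf (primesNotDvd p) H ≤ oppAmb p H := by
  rw [← opAmb_eq]; exact opAmb_le_oppAmb p H

/-- membership in the image of a Sylow subgroup. -/
theorem mem_sylow_iff_of_map_eq {H S : Subgroup G} {S' : Sylow p H}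
    (hS' : (S' : Subgroup H).map H.subtype = S) (x : H) : x ∈ (S' : Subgroup H) ↔ (x : G) ∈ S := by
  rw [← hS']
  constructor
  · intro hx; exact ⟨x, hx, rfl⟩
  · rintro ⟨y, hy, hyx⟩
    have : y = x := Subtype.ext hyx
    rwa [← this]

/-- `O_{p',p}(H) = O_{p'}(H) (S ∩ O_{p',p}(H))`. -/
theorem oppAmb_eq_mul {H S : Subgroup G} (hS : SylIn p S H) :
    ∀ l ∈ oppAmb p H, ∃ k ∈ piCoreOf (primesNotDvd p) H, ∃ t ∈ S ⊓ oppAmb p H, l = k * t := by
  obtain ⟨S', hS'⟩ := hS.exists_sylow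
  rintro _ ⟨l, hl, rfl⟩
  obtain ⟨k, hk, t, ht, hlkt⟩ := pPrimePCore_eq_mul S' l hl
  refine ⟨(k : G), ?_, (t : G), ⟨(mem_sylow_iff_of_map_eq hS' t).1 ht.1, ⟨t, ht.2, rfl⟩⟩, ?_⟩
  · rw [piCoreOf_primesNotDvd_eq]; exact ⟨k, hk, rfl⟩
  · rw [hlkt]; rfl

/-- a `p'`-subgroup of the solvable subgroup `H` normalized by a Sylow `p`-subgroup of `H` lies
in `O_{p'}(H)`. -/
theorem invariant_le_core {H S Y : Subgroup G} (hs : Group.IsSolvable H) (hS : SylIn p S H)
    (hYH : Y ≤ H) (hY : (Nat.card Y).Coprime p) (hSY : S ≤ Subgroup.normalizer (Y : Set G)) :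
    Y ≤ piCoreOf (primesNotDvd p) H := by
  obtain ⟨S', hS'⟩ := hS.exists_sylow
  have hY' : (Nat.card (Y.subgroupOf H)).Coprime p := by
    rw [Nat.card_congr (Subgroup.subgroupOfEquivOfLe hYH).toEquiv]; exact hY
  have hn : (S' : Subgroup H) ≤ Subgroup.normalizer ((Y.subgroupOf H : Subgroup H) : Set H) := by
    intro x hx
    have hx' := hSY ((mem_sylow_iff_of_map_eq hS' x).1 hx)
    rw [Subgroup.mem_normalizer_iff] at hx' ⊢
    intro y
    rw [Subgroup.mem_subgroupOf, Subgroup.mem_subgroupOf]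
    exact hx' y
  have h1 := le_pPrimeCore_of_sylow_le_normalizer hs S' hY' hn
  rw [piCoreOf_primesNotDvd_eq]
  have h2 := Subgroup.map_mono (f := H.subtype) h1
  rwa [Subgroup.map_subgroupOf_eq_of_le hYH] at h2

/-- the intersection of a Sylow `p`-subgroup of `H` with a normal subgroup `L` of `H` is a Sylow
`p`-subgroup of `L`. -/
theorem SylIn.inf_normal {H S L : Subgroup G} (hS : SylIn p S H) (hLH : L ≤ H)
    (hHL : H ≤ Subgroup.normalizer (L : Set G)) : SylIn p (S ⊓ L) L := by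
  obtain ⟨T₁, hT₁⟩ := SylIn.exists_sylIn p L
  obtain ⟨h, hh, hle⟩ := hS.exists_conj_le hT₁.isPGroup (hT₁.le.trans hLH)
  have hLh : L.map (MulAut.conj h).toMonoidHom = L :=
    Subgroup.mem_normalizer_iff_map_conj_eq.1 (hHL hh)
  have h1 : SylIn p (T₁.map (MulAut.conj h).toMonoidHom) L := by
    have := hT₁.map_conj h
    rwa [hLh] at this
  have h2 : T₁.map (MulAut.conj h).toMonoidHom ≤ S ⊓ L := le_inf hle h1.le
  have h3 := h1.eq_of_le h2 inf_le_right (hS.isPGroup.to_le inf_le_left)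
  rw [← h3]
  exact h1

/-- **Frattini argument**: `H = L N_H(T)` for a Sylow subgroup `T` of a normal subgroup `L`. -/
theorem frattini_rel {H L T : Subgroup G} (hLH : L ≤ H)
    (hHL : H ≤ Subgroup.normalizer (L : Set G)) (hT : SylIn p T L) :
    ∀ h ∈ H, ∃ l ∈ L, ∃ n ∈ H ⊓ Subgroup.normalizer (T : Set G), h = l * n := by
  intro h hh
  have hLh : L.map (MulAut.conj h).toMonoidHom = L :=
    Subgroup.mem_normalizer_iff_map_conj_eq.1 (hHL hh)
  have h1 : SylIn p (T.map (MulAut.conj h).toMonoidHom) L := by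
    have := hT.map_conj h
    rwa [hLh] at this
  obtain ⟨l, hl, hle⟩ := hT.exists_conj_le h1.isPGroup h1.le
  have h2 : (T.map (MulAut.conj h).toMonoidHom).map (MulAut.conj l).toMonoidHom = T := by
    apply Subgroup.eq_of_le_of_card_ge hle
    rw [Cfsg.Agent.Lib.H10.card_map_conj, Cfsg.Agent.Lib.H10.card_map_conj]
  have h3 : T.map (MulAut.conj (l * h)).toMonoidHom = T := by
    have h4 : T.map (MulAut.conj (l * h)).toMonoidHom =
        (T.map (MulAut.conj h).toMonoidHom).map (MulAut.conj l).toMonoidHom := by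
      rw [Subgroup.map_map]
      congr 1
      ext x
      simp only [MonoidHom.comp_apply, MulEquiv.coe_toMonoidHom, MulAut.conj_apply]
      group
    rw [h4, h2]
  refine ⟨l⁻¹, L.inv_mem hl, l * h, ⟨H.mul_mem (hLH hl) hh, ?_⟩, by group⟩
  exact Subgroup.mem_normalizer_iff_map_conj_eq.2 h3

/-- `H = O_{p'}(H) N_H(S ∩ O_{p',p}(H))`. -/
theorem frattini_opp {H S : Subgroup G} (hS : SylIn p S H) :
    ∀ h ∈ H, ∃ k ∈ piCoreOf (primesNotDvd p) H,
      ∃ n ∈ H ⊓ Subgroup.normalizer ((S ⊓ oppAmb p H : Subgroup G) : Set G), h = k * n := by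
  intro h hh
  have hT : SylIn p (S ⊓ oppAmb p H) (oppAmb p H) :=
    hS.inf_normal (oppAmb_le p H) (le_normalizer_oppAmb p H)
  obtain ⟨l, hl, n, hn, rfl⟩ := frattini_rel (oppAmb_le p H) (le_normalizer_oppAmb p H) hT h hh
  obtain ⟨k, hk, t, ht, rfl⟩ := oppAmb_eq_mul hS l hl
  refine ⟨k, hk, t * n, ⟨H.mul_mem (hS.le ht.1) hn.1, ?_⟩, by group⟩
  exact Subgroup.mul_mem _ (Subgroup.le_normalizer ht) hn.2

/-- an abelian normal subgroup of a Sylow `p`-subgroup of `H` lies in `O_{p',p}(H)`. -/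
theorem abelian_normal_le_oppAmb (hodd : Odd (Nat.card G)) {H S A : Subgroup G}
    (hs : Group.IsSolvable H) (hS : SylIn p S H) (hAS : A ≤ S) (hAc : IsMulCommutative A)
    (hSA : S ≤ Subgroup.normalizer (A : Set G)) : A ≤ oppAmb p H := by
  obtain ⟨S', hS'⟩ := hS.exists_sylow
  have hoddH : Odd (Nat.card H) := hodd.of_dvd_nat (Subgroup.card_subgroup_dvd_card H)
  have hAH : A ≤ H := hAS.trans hS.le
  haveI := hs
  have h1 : A.subgroupOf H ≤ Cfsg.pPrimePCore p ↥H := by
    apply Cfsg.Agent.S1457.result hoddH p S' (A.subgroupOf H)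
    · intro x hx
      rw [Subgroup.mem_subgroupOf] at hx
      exact (mem_sylow_iff_of_map_eq hS' x).2 (hAS hx)
    · refine ⟨⟨?_⟩⟩
      rintro ⟨x, hx⟩ ⟨y, hy⟩
      rw [Subgroup.mem_subgroupOf] at hx hy
      have := hAc.is_comm.comm ⟨(x : G), hx⟩ ⟨(y : G), hy⟩
      have h2 : (x : G) * (y : G) = (y : G) * (x : G) := congrArg Subtype.val this
      apply Subtype.ext
      apply Subtype.ext
      exact h2
    · intro x hx
      have hx' := hSA ((mem_sylow_iff_of_map_eq hS' x).1 hx)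
      rw [Subgroup.mem_normalizer_iff] at hx' ⊢
      intro y
      rw [Subgroup.mem_subgroupOf, Subgroup.mem_subgroupOf]
      exact hx' y
  have h2 := Subgroup.map_mono (f := H.subtype) h1
  rwa [Subgroup.map_subgroupOf_eq_of_le hAH] at h2

/-- if `H` has `p`-rank at most two, its Sylow `p`-subgroups lie in `O_{p',p}(H)`. -/
theorem sylow_le_oppAmb_of_rank (hodd : Odd (Nat.card G)) {H S : Subgroup G}
    (hs : Group.IsSolvable H) (hS : SylIn p S H) (hS1 : S ≠ ⊥) (hr : PRankLE p 2 ↥H) :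
    S ≤ oppAmb p H := by
  obtain ⟨S', hS'⟩ := hS.exists_sylow
  have hoddH : Odd (Nat.card H) := hodd.of_dvd_nat (Subgroup.card_subgroup_dvd_card H)
  haveI := hs
  have hpH : p ∣ Nat.card H :=
    (dvd_card_of_isPGroup_ne_bot hS.isPGroup hS1).trans (Subgroup.card_dvd_of_le hS.le)
  have h := (Cfsg.Agent.S1450.result hoddH p hpH hr).2.2.2.2.2
  haveI : (Cfsg.pPrimePCore p ↥H).Normal := Cfsg.Agent.Lib.H9.pPrimePCore_normal p ↥H
  have h1 := sylow_le_of_index_coprime S' h
  rw [← hS']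
  exact Subgroup.map_mono h1

end Cfsg.Agent.Lib.H16.BG
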