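import Mathlib
import Cfsg.Agent.Lib.H16.BGj
import Cfsg.Agent.Lib.H16.NormalSq
import Cfsg.Agent.S1452

/-! # Bender–Glauberman Lemma 9.1(b) for arbitrary `p`-subgroups (helper16) -/

set_option autoImplicit false
set_option linter.style.haveILetI false
set_option linter.unusedSectionVars false
set_option linter.unusedVariables false
set_option linter.deprecated false
open Cfsg

namespace Cfsg.Agent.Lib.H16.BG

open Cfsg.Agent.Lib.H19 (IsPiCard)
open Cfsg.Agent.Lib.H7.BG7
open Cfsg.Agent.Lib.H9 (oppAmb opAmb oppAmb_le le_normalizer_oppAmb opAmb_le_oppAmb)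
open Cfsg.Agent.Lib.H16.Puig

universe u
variable {G : Type u} [Group G] [Finite G] {p : ℕ} [hp : Fact p.Prime]

theorem le_normalizer_map_conj_inv {A K : Subgroup G} {x : G}
    (h : A.map (MulAut.conj x).toMonoidHom ≤ Subgroup.normalizer (K : Set G)) :
    A ≤ Subgroup.normalizer ((K.map (MulAut.conj x⁻¹).toMonoidHom : Subgroup G) : Set G) := by
  rw [Cfsg.Agent.Lib.H10.normalizer_map_conj]
  intro a ha
  refine ⟨x * a * x⁻¹, h ⟨a, ha, rfl⟩, ?_⟩
  simp only [MulEquiv.coe_toMonoidHom, MulAut.conj_apply]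
  group

/-- if `K^x ≤ K` then `x` normalizes `K`. -/
theorem mem_normalizer_of_map_conj_le {K : Subgroup G} {x : G}
    (h : K.map (MulAut.conj x).toMonoidHom ≤ K) : x ∈ Subgroup.normalizer (K : Set G) := by
  apply Subgroup.mem_normalizer_iff_map_conj_eq.2
  apply Subgroup.eq_of_le_of_card_ge h
  exact le_of_eq (Cfsg.Agent.Lib.H10.card_map_conj x K).symm

/-- a subgroup whose invariant Sylow subgroups all lie in `K` lies in `K`. -/
theorem le_of_forall_invariant_sylow_le {A Y K : Subgroup G}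
    (h : Cfsg.Agent.Lib.H1.CoprimeAction A Y)
    (hq : ∀ q : ℕ, ∀ _ : Fact q.Prime, ∀ Q : Subgroup G, Q ≤ Y → IsPGroup q Q →
      A ≤ Subgroup.normalizer (Q : Set G) → Q ≤ K) : Y ≤ K := by
  have : Y ⊓ K = Y := by
    apply eq_of_forall_sylIn_le inf_le_left
    intro q hqf
    obtain ⟨Q, hQ, hQA⟩ := Cfsg.Agent.Lib.H1.coprime_exists_invariant_sylow h q
    obtain ⟨P₀, hP₀⟩ := SylIn.exists_sylIn q Y
    have hQs : SylIn q Q Y := hP₀.of_card_ge hQ.isPGroup hQ.le (by rw [hP₀.card_eq, hQ.card_eq])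
    exact ⟨Q, hQs, le_inf hQ.le (hq q hqf Q hQ.le hQ.isPGroup hQA)⟩
  rw [← this]
  exact inf_le_right

/-! ### ranks -/

theorem pRankLE_of_injective {X Y : Type*} [Group X] [Group Y] {p k : ℕ} (f : X →* Y)
    (hf : Function.Injective f) (h : PRankLE p k Y) : PRankLE p k X := by
  intro E hEc hEp
  have h1 : Nat.card (E.map f) = Nat.card E :=
    (Nat.card_congr (E.equivMapOfInjective f hf).toEquiv).symm
  rw [← h1]
  apply h (E.map f)
  · refine ⟨⟨?_⟩⟩
    rintro ⟨_, x, hx, rfl⟩ ⟨_, y, hy, rfl⟩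
    apply Subtype.ext
    have := hEc.is_comm.comm ⟨x, hx⟩ ⟨y, hy⟩
    have h2 : x * y = y * x := congrArg Subtype.val this
    show f x * f y = f y * f x
    rw [← map_mul, ← map_mul, h2]
  · rintro _ ⟨x, hx, rfl⟩
    rw [← map_pow, hEp x hx, map_one]

theorem pRankLE_of_le {p k : ℕ} {A B : Subgroup G} (hAB : A ≤ B) (h : PRankLE p k ↥B) :
    PRankLE p k ↥A :=
  pRankLE_of_injective (Subgroup.inclusion hAB) (Subgroup.inclusion_injective hAB) h

theorem not_pRankLE_of_elemAb {p k : ℕ} {B Z : Subgroup G} (hBZ : B ≤ Z)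
    (hB : IsElementaryAbelian p B) (h : p ^ k < Nat.card B) : ¬ PRankLE p k ↥Z := by
  intro hr
  have h1 : Nat.card (B.subgroupOf Z) = Nat.card B :=
    Nat.card_congr (Subgroup.subgroupOfEquivOfLe hBZ).toEquiv
  have := hr (B.subgroupOf Z) (by
    refine ⟨⟨?_⟩⟩
    rintro ⟨x, hx⟩ ⟨y, hy⟩
    rw [Subgroup.mem_subgroupOf] at hx hy
    have := hB.1.is_comm.comm ⟨(x : G), hx⟩ ⟨(y : G), hy⟩
    have h2 : (x : G) * (y : G) = (y : G) * (x : G) := congrArg Subtype.val this
    apply Subtype.ext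
    apply Subtype.ext
    exact h2) (by
    intro x hx
    rw [Subgroup.mem_subgroupOf] at hx
    apply Subtype.ext
    rw [Subgroup.coe_pow, hB.2 _ hx]
    rfl)
  rw [h1] at this
  omega

/-- a `p`-group of rank at least three (`p` odd) has a normal self-centralizing subgroup of rank
at least three. -/
theorem exists_scn3 (hp2 : p ≠ 2) {P : Subgroup G} (hP : IsPGroup p P)
    (hr : ¬ PRankLE p 2 ↥P) : ∃ A : Subgroup G, IsSCN P A ∧ ¬ PRankLE p 2 ↥A := by
  have hr' := hr
  unfold PRankLE at hr'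
  push Not at hr'
  obtain ⟨E, hEc, hEp, hlt⟩ := hr'
  obtain ⟨U, hUn, hUe, hUc⟩ :=
    Cfsg.Agent.Lib.H16.NormalSq.exists_normal_sq_odd hp2 hP E ⟨hEc, hEp⟩ hlt
  haveI := hUn
  obtain ⟨A', -, hA'n, hA'c, hA'r⟩ := Cfsg.Agent.S1452.result p hp2 hP hr U hUe hUc
  haveI := hA'n
  refine ⟨A'.map P.subtype, ⟨Subgroup.map_subtype_le _,
    Cfsg.Agent.Lib.H7.PrimPair.le_normalizer_map_subtype _, ?_⟩, ?_⟩
  · ext x
    constructor
    · rintro ⟨hxP, hxC⟩
      have : (⟨x, hxP⟩ : P) ∈ Subgroup.centralizer (A' : Set P) := by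
        rw [Subgroup.mem_centralizer_iff]
        intro y hy
        apply Subtype.ext
        exact Subgroup.mem_centralizer_iff.1 hxC (y : G) ⟨y, hy, rfl⟩
      rw [hA'c] at this
      exact ⟨⟨x, hxP⟩, this, rfl⟩
    · rintro ⟨y, hy, rfl⟩
      refine ⟨y.2, ?_⟩
      refine Subgroup.mem_centralizer_iff.2 ?_
      rintro _ ⟨z, hz, rfl⟩
      have hy' : y ∈ Subgroup.centralizer (A' : Set P) := by rw [hA'c]; exact hy
      exact congrArg Subtype.val (Subgroup.mem_centralizer_iff.1 hy' z hz)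
  · intro h
    apply hA'r
    exact pRankLE_of_injective (A'.equivMapOfInjective P.subtype
      (Subgroup.subtype_injective P)).toMonoidHom
      (A'.equivMapOfInjective P.subtype (Subgroup.subtype_injective P)).injective h

theorem isElementaryAbelian_map {G' : Type*} [Group G'] {p : ℕ} {B : Subgroup G} (f : G →* G')
    (hB : IsElementaryAbelian p B) : IsElementaryAbelian p (B.map f) := by
  refine ⟨⟨⟨?_⟩⟩, ?_⟩
  · rintro ⟨_, x, hx, rfl⟩ ⟨_, y, hy, rfl⟩
    apply Subtype.ext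
    have := hB.1.is_comm.comm ⟨x, hx⟩ ⟨y, hy⟩
    have h2 : x * y = y * x := congrArg Subtype.val this
    show f x * f y = f y * f x
    rw [← map_mul, ← map_mul, h2]
  · rintro _ ⟨x, hx, rfl⟩
    rw [← map_pow, hB.2 x hx, map_one]

/-- the `p`-rank of `H` is that of its Sylow `p`-subgroups. -/
theorem pRankLE_of_sylIn {k : ℕ} {P H : Subgroup G} (hP : SylIn p P H) (hr : PRankLE p k ↥P) :
    PRankLE p k ↥H := by
  intro E hEc hEp
  by_contra hlt
  push Not at hlt
  have hE : IsElementaryAbelian p E := ⟨hEc, hEp⟩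
  have hE' : IsElementaryAbelian p (E.map H.subtype) := isElementaryAbelian_map _ hE
  obtain ⟨m, hm, hle⟩ := hP.exists_conj_le (isPGroup_of_elemAb hE') (Subgroup.map_subtype_le E)
  have hE'' := isElementaryAbelian_map (MulAut.conj m).toMonoidHom hE'
  have hc : Nat.card ((E.map H.subtype).map (MulAut.conj m).toMonoidHom) = Nat.card E := by
    rw [Cfsg.Agent.Lib.H10.card_map_conj]
    exact (Nat.card_congr (E.equivMapOfInjective H.subtype
      (Subgroup.subtype_injective H)).toEquiv).symm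
  exact not_pRankLE_of_elemAb hle hE'' (by rw [hc]; exact hlt) hr

end Cfsg.Agent.Lib.H16.BG
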