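import Mathlib
import Cfsg.Agent.Lib.H16.BGk

/-! # Bender–Glauberman Lemma 9.1(b): a `p`-subgroup all of whose signalizers lie in one
maximal subgroup (helper16) -/

set_option autoImplicit false
set_option linter.style.haveILetI false
set_option linter.unusedSectionVars false
set_option linter.unusedVariables false
set_option linter.deprecated false
open Cfsg

namespace Cfsg.Agent.Lib.H16.BG

open Cfsg.Agent.Lib.H19 (IsPiCard)
open Cfsg.Agent.Lib.H7.BG7
open Cfsg.Agent.Lib.H9 (oppAmb opAmb oppAmb_le le_normalizer_oppAmb opAmb_le_oppAmb)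
open Cfsg.Agent.Lib.H16.Puig

universe u
variable {G : Type u} [Group G] [Finite G] {p : ℕ} [hp : Fact p.Prime]

/-- `B` is a nontrivial `p`-subgroup of the maximal subgroup `M` and every `B`-invariant
`p'`-subgroup of `G` lies in `M`. -/
structure SigIn (M B : Subgroup G) (p : ℕ) : Prop where
  coatom : IsCoatom M
  le : B ≤ M
  isPGroup : IsPGroup p B
  ne_bot : B ≠ ⊥
  all : ∀ Y : Subgroup G, (Nat.card Y).Coprime p → B ≤ Subgroup.normalizer (Y : Set G) → Y ≤ M

namespace SigIn

variable {M B : Subgroup G}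

theorem le_core (hG : IsMinSimpleOddOrder G) (h : SigIn M B p) {P : Subgroup G}
    (hP : SylIn p P M) (hBP : B ≤ P) {Y : Subgroup G} (hY : (Nat.card Y).Coprime p)
    (hPY : P ≤ Subgroup.normalizer (Y : Set G)) : Y ≤ piCoreOf (primesNotDvd p) M :=
  invariant_le_core (solvable_of_coatom hG h.coatom) hP (h.all Y hY (hBP.trans hPY)) hY hPY

theorem sylow (hG : IsMinSimpleOddOrder G) (h : SigIn M B p) {P : Subgroup G}
    (hP : SylIn p P M) (hBP : B ≤ P) :
    SylIn p P ⊤ ∧ Subgroup.normalizer (P : Set G) ≤ M := by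
  have hP1 : P ≠ ⊥ := ne_bot_of_le_ne_bot h.ne_bot hBP
  by_cases hK : piCoreOf (primesNotDvd p) M = ⊥
  · obtain ⟨h1, h2⟩ := puig_sylow hG h.coatom hK hP hP1
    refine ⟨h2, ?_⟩
    rw [← h1]
    exact normalizer_le_normalizer_zl' P
  · have hNK : Subgroup.normalizer ((piCoreOf (primesNotDvd p) M : Subgroup G) : Set G) = M :=
      normalizer_eq_of_coatom hG h.coatom (piCoreOf_le _ _) hK (le_normalizer_piCoreOf _ _)
    have hN : Subgroup.normalizer (P : Set G) ≤ M := by
      intro x hx
      rw [← hNK]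
      apply mem_normalizer_of_map_conj_le
      apply h.le_core hG hP hBP
      · rw [Cfsg.Agent.Lib.H10.card_map_conj]
        exact card_piCoreOf_primesNotDvd_coprime p M
      · exact le_normalizer_map_conj_of_mem_normalizer
          (hP.le.trans (le_normalizer_piCoreOf _ _)) hx
    refine ⟨hP.of_normalizer_le le_top ?_, hN⟩
    rw [top_inf_eq]; exact hN

/-- the rank three case: normalizers of overgroups of an `A ∈ SCN₃(P)` lie in `M`. -/
theorem normalizer_le_of_scn (hG : IsMinSimpleOddOrder G) (h : SigIn M B p) {P : Subgroup G}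
    (hP : SylIn p P M) (hBP : B ≤ P) (hK : piCoreOf (primesNotDvd p) M ≠ ⊥) {A : Subgroup G}
    (hA : IsSCN P A) (hA3 : ¬ PRankLE p 2 ↥A) :
    ∀ T : Subgroup G, A ≤ T → T ≤ M → Subgroup.normalizer (T : Set G) ≤ M := by
  set K := piCoreOf (primesNotDvd p) M with hKdef
  have hNK : Subgroup.normalizer (K : Set G) = M :=
    normalizer_eq_of_coatom hG h.coatom (piCoreOf_le _ _) hK (le_normalizer_piCoreOf _ _)
  obtain ⟨hPG, hNP⟩ := h.sylow hG hP hBP
  have hAc : IsMulCommutative A := scn_isMulCommutative hA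
  have hAp : IsPGroup p A := hP.isPGroup.to_le hA.1
  obtain ⟨B₀, hB₀A, hB₀e, hB₀3⟩ := exists_elemAb_of_not_pRankLE hp.out hA3
  have hB₀1 : B₀ ≠ ⊥ := by
    rintro rfl
    rw [Subgroup.card_bot] at hB₀3
    have h2 : 1 < p ^ (2 + 1) := Nat.one_lt_pow (by norm_num) hp.out.one_lt
    omega
  have hA1 : A ≠ ⊥ := ne_bot_of_le_ne_bot hB₀1 hB₀A
  have hpA : p ∣ Nat.card A := dvd_card_of_isPGroup_ne_bot hAp hA1
  have hpG : p ∣ Nat.card G := hpA.trans (Subgroup.card_subgroup_dvd_card A)
  obtain ⟨PG, hPGe⟩ := hPG.exists_sylow_top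
  have hTH : TransitivityHypothesis A := by
    apply Cfsg.Agent.S1396.result hG p hpG A hAp hAc
    right
    refine ⟨PG, by rw [hPGe]; exact hA, fun h1 => hA3 ?_⟩
    intro E hEc hEp
    refine (h1 E hEc hEp).trans ?_
    exact Nat.pow_le_pow_right hp.out.pos (by norm_num)
  have hPt : P ≠ ⊤ := by
    rintro rfl
    exact h.coatom.1 (top_le_iff.1 hP.le)
  have hPπ : ∀ r : ℕ, r.Prime → r ∣ Nat.card P → r ∣ Nat.card A := by
    intro r hr hrP
    obtain ⟨k, hk⟩ := IsPGroup.iff_card.1 hP.isPGroup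
    rw [hk] at hrP
    have : r = p := (Nat.prime_dvd_prime_iff_eq hr hp.out).1 (hr.dvd_of_dvd_pow hrP)
    rw [this]; exact hpA
  -- `K_A ≤ K`
  have hKK : KK A ≤ K := by
    apply h.le_core hG hP hBP
    · exact (isPiCard_primesNotDvd_card_iff hAp hA1 Nat.card_pos.ne').1 (piCoreOf_isPiCard _ _)
    · exact hA.2.1.trans (normalizer_le_normalizer_KK A)
  -- invariant `q`-subgroups
  have hq : ∀ q : ℕ, ∀ _ : Fact q.Prime, ∀ Q : Subgroup G, IsPGroup q Q →
      (Nat.card Q).Coprime p → A ≤ Subgroup.normalizer (Q : Set G) → Q ≤ K := by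
    intro q hqf Q hQq hQc hAQ
    by_cases hqp : q = p
    · subst hqp
      have : Q = ⊥ := by
        rw [← Subgroup.card_eq_one]
        obtain ⟨k, hk⟩ := IsPGroup.iff_card.1 hQq
        rw [hk] at hQc ⊢
        by_contra hne
        have hk0 : k ≠ 0 := by
          rintro rfl
          exact hne (pow_zero q)
        have := (Nat.coprime_pow_left_iff (Nat.pos_of_ne_zero hk0) q q).1 hQc
        rw [Nat.coprime_self] at this
        exact hqf.out.one_lt.ne' this
      rw [this]; exact bot_le
    · have hqA : ¬ q ∣ Nat.card A := by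
        intro hd
        obtain ⟨k, hk⟩ := IsPGroup.iff_card.1 hAp
        rw [hk] at hd
        exact hqp ((Nat.prime_dvd_prime_iff_eq hqf.out hp.out).1 (hqf.out.dvd_of_dvd_pow hd))
      have htr : Trans A q := fun Q₁ Q₂ h₁ h₂ =>
        trans_rank3 hG hTH (le_inf hB₀A (hB₀A.trans (scn_le_centralizer hA))) hB₀e hB₀3 hqA h₁ h₂
      obtain ⟨hmax, -⟩ := normal_step hG hTH hPt hA.1 hA.2.1 hPπ hqA htr
      obtain ⟨Q₀, hQ₀, -⟩ := exists_isMaxInv_ge (A := P) (q := q) (S := ⊥) IsPGroup.of_bot
        (by intro x _; rw [Subgroup.mem_normalizer_iff]; intro y; simp)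
      have hQ₀K : Q₀ ≤ K := by
        apply h.le_core hG hP hBP _ hQ₀.2.1
        obtain ⟨k, hk⟩ := IsPGroup.iff_card.1 hQ₀.1
        rw [hk]
        exact Nat.Coprime.pow_left k ((Nat.coprime_primes hqf.out hp.out).2 hqp)
      obtain ⟨Q', hQ', hQQ'⟩ := exists_isMaxInv_ge hQq hAQ
      obtain ⟨k, hk, hkQ⟩ := htr Q₀ Q' (hmax Q₀ hQ₀) hQ'
      refine hQQ'.trans ?_
      rw [← hkQ]
      rintro _ ⟨x, hx, rfl⟩
      exact K.mul_mem (K.mul_mem (hKK hk) (hQ₀K hx)) (K.inv_mem (hKK hk))
  -- invariant `p'`-subgroups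
  have hall : ∀ Y : Subgroup G, (Nat.card Y).Coprime p → A ≤ Subgroup.normalizer (Y : Set G) →
      Y ≤ K := by
    intro Y hY hAY
    have hact : Cfsg.Agent.Lib.H1.CoprimeAction A Y := by
      refine ⟨hAY, ?_, Or.inl (solvable_of_le_ne_top hG hPt hA.1)⟩
      obtain ⟨k, hk⟩ := IsPGroup.iff_card.1 hAp
      rw [hk]
      exact Nat.Coprime.pow_left k hY.symm
    apply le_of_forall_invariant_sylow_le hact
    intro q hqf Q hQY hQq hAQ
    exact hq q hqf Q hQq (Nat.Coprime.coprime_dvd_left (Subgroup.card_dvd_of_le hQY) hY) hAQ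
  -- normalizers
  intro T hAT hTM x hx
  have hx' : x⁻¹ ∈ Subgroup.normalizer (K : Set G) := by
    apply mem_normalizer_of_map_conj_le
    apply hall
    · rw [Cfsg.Agent.Lib.H10.card_map_conj]
      exact card_piCoreOf_primesNotDvd_coprime p M
    · apply le_normalizer_map_conj_inv (A := A) (K := K) (x := x)
      rintro _ ⟨a, ha, rfl⟩
      apply (le_normalizer_piCoreOf (primesNotDvd p) M)
      apply hTM
      exact (Subgroup.mem_normalizer_iff.1 hx a).1 (hAT ha)
  rw [hNK] at hx'
  have := M.inv_mem hx'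
  rwa [inv_inv] at this

/-- **BG Lemma 9.1(b)** for an arbitrary nontrivial `p`-subgroup `B`: `M` is the only maximal
subgroup containing `B`. -/
theorem eq_of_coatom (hG : IsMinSimpleOddOrder G) (h : SigIn M B p) :
    ∀ H : Subgroup G, IsCoatom H → B ≤ H → H = M := by
  have hp2 : p ≠ 2 :=
    prime_ne_two_of_dvd_card hG (dvd_card_of_isPGroup_ne_bot h.isPGroup h.ne_bot)
  have key : ∀ n : ℕ, ∀ H, IsCoatom H → B ≤ H →
      (Nat.card M).factorization p - vInt p H M = n → H = M := by
    intro n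
    induction n using Nat.strong_induction_on with
    | _ n ih =>
      intro H hH hBH hn
      obtain ⟨R, hR, hBR⟩ := SylIn.exists_ge h.isPGroup (le_inf hBH h.le)
      obtain ⟨P, hP, hRP⟩ := SylIn.exists_ge hR.isPGroup (hR.le.trans inf_le_right)
      have hBP : B ≤ P := hBR.trans hRP
      obtain ⟨hPG, hNP⟩ := h.sylow hG hP hBP
      have hR1 : R ≠ ⊥ := ne_bot_of_le_ne_bot h.ne_bot hBR
      have hP1 : P ≠ ⊥ := ne_bot_of_le_ne_bot hR1 hRP
      have hsH : Group.IsSolvable H := solvable_of_coatom hG hH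
      have hOH : piCoreOf (primesNotDvd p) H ≤ M :=
        h.all _ (card_piCoreOf_primesNotDvd_coprime p H)
          (hBH.trans (le_normalizer_piCoreOf _ _))
      suffices hle : H ≤ M from (eq_of_coatom_of_le hG hH h.coatom.1 hle).symm
      by_cases hRP' : R = P
      · subst hRP'
        have hRH : R ≤ H := hR.le.trans inf_le_left
        have hPH : SylIn p R H := hPG.mono hRH le_top
        by_cases hK : piCoreOf (primesNotDvd p) M = ⊥
        · have hOH0 : piCoreOf (primesNotDvd p) H = ⊥ := by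
            rw [eq_bot_iff, ← hK]
            exact h.le_core hG hP hBP (card_piCoreOf_primesNotDvd_coprime p H)
              (hRH.trans (le_normalizer_piCoreOf _ _))
          have h1 := puig_rel_normal hG.1 hp2 hsH hPH hOH0
          have h2 := (puig_sylow hG h.coatom hK hP hP1).1
          exact h1.trans (le_of_eq h2)
        · by_cases hr : PRankLE p 2 ↥R
          · have hrH : PRankLE p 2 ↥H := pRankLE_of_sylIn hPH hr
            have hPopp := sylow_le_oppAmb_of_rank hG.1 hsH hPH hP1 hrH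
            intro x hx
            obtain ⟨k, hk, n, hn, rfl⟩ := frattini_opp hPH x hx
            have heq : R ⊓ oppAmb p H = R := inf_eq_left.2 hPopp
            rw [heq] at hn
            exact M.mul_mem (hOH hk) (hNP hn.2)
          · obtain ⟨A, hA, hA3⟩ := exists_scn3 hp2 hP.isPGroup hr
            have hAopp : A ≤ oppAmb p H :=
              abelian_normal_le_oppAmb hG.1 hsH hPH hA.1 (scn_isMulCommutative hA) hA.2.1
            have hN := h.normalizer_le_of_scn hG hP hBP hK hA hA3 (R ⊓ oppAmb p H)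
              (le_inf hA.1 hAopp) (inf_le_left.trans hP.le)
            intro x hx
            obtain ⟨k, hk, n, hn, rfl⟩ := frattini_opp hPH x hx
            exact M.mul_mem (hOH hk) (hN hn.2)
      · have hlt : R < P := lt_of_le_of_ne hRP hRP'
        have h1 := Cfsg.Agent.Lib.H10.lt_inf_normalizer_of_lt hP.isPGroup hlt
        have hzl1 : zl R ≠ ⊥ := zl_ne_bot hR.isPGroup hR1
        have hN : Subgroup.normalizer (zl R : Set G) ≠ ⊤ :=
          normalizer_ne_top_of_isPGroup hG (hR.isPGroup.to_le (zl_le R)) hzl1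
        obtain ⟨L, hL, hNL⟩ := exists_coatom_ge hN
        have hNRL : Subgroup.normalizer (R : Set G) ≤ L :=
          (normalizer_le_normalizer_zl' R).trans hNL
        have hBL : B ≤ L := hBR.trans (Subgroup.le_normalizer.trans hNRL)
        have hv : vInt p H M < vInt p L M :=
          vInt_lt hR (hP.isPGroup.to_le inf_le_left) h1
            (le_inf (inf_le_right.trans hNRL) (inf_le_left.trans hP.le))
        have hvL := vInt_le p L M
        have hLM : L = M := ih _ (by omega) L hL hBL rfl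
        have hRH : SylIn p R H := by
          apply hR.of_normalizer_le inf_le_left
          exact le_inf inf_le_left (inf_le_right.trans (hNRL.trans hLM.le))
        intro x hx
        obtain ⟨k, hk, n, hn, rfl⟩ := puig_rel hG.1 hp2 hsH hRH x hx
        exact M.mul_mem (hOH hk) ((hNL.trans hLM.le) hn.2)
  intro H hH hBH
  exact key _ H hH hBH rfl

theorem inUniqueMaximal (hG : IsMinSimpleOddOrder G) (h : SigIn M B p) : InUniqueMaximal B :=
  inUniqueMaximal_iff.2 ⟨M, h.coatom, h.le, h.eq_of_coatom hG⟩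

end SigIn

end Cfsg.Agent.Lib.H16.BG
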