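import Mathlib
import Cfsg.Agent.Lib.H16.BGl
import Cfsg.Agent.S1398

/-!
# BG Lemma 9.2: uniqueness passes to centralizing subgroups of rank at least two
-/

set_option autoImplicit false
set_option linter.style.haveILetI false
set_option linter.unusedSectionVars false

namespace Cfsg.Agent.Lib.H16.BG

open Cfsg Cfsg.Agent.Lib.H7.BG7

variable {G : Type*} [Group G] [Finite G]

/-- A cyclic elementary abelian `p`-group has order at most `p`. -/
theorem card_le_of_elemAb_of_isCyclic {p : ℕ} (hp : p.Prime) {B : Subgroup G}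
    (hB : IsElementaryAbelian p B) (hc : IsCyclic B) : Nat.card B ≤ p := by
  obtain ⟨g, hg⟩ := hc.exists_generator
  have h1 : orderOf g = Nat.card B := orderOf_eq_card_of_forall_mem_zpowers hg
  have h2 : g ^ p = 1 := Subtype.ext (by
    rw [Subgroup.coe_pow]
    exact hB.2 g.1 g.2)
  rw [← h1]
  exact Nat.le_of_dvd hp.pos (orderOf_dvd_of_pow_eq_one h2)

theorem not_isCyclic_of_elemAb {p : ℕ} (hp : p.Prime) {B : Subgroup G}
    (hB : IsElementaryAbelian p B) (hc : p ^ 2 ≤ Nat.card B) : ¬ IsCyclic B := by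
  intro h
  have := card_le_of_elemAb_of_isCyclic hp hB h
  have h2 : p < p ^ 2 := by nlinarith [hp.one_lt]
  omega

/-- The trivial subgroup is not in `𝓤`: a minimal simple group of odd order has at least two maximal
subgroups. -/
theorem ne_bot_of_inUniqueMaximal (hG : IsMinSimpleOddOrder G) {L : Subgroup G}
    (hL : InUniqueMaximal L) : L ≠ ⊥ := by
  rintro rfl
  obtain ⟨M, hM, -, huniq⟩ := inUniqueMaximal_iff.1 hL
  apply hM.1
  rw [eq_top_iff]
  intro x _
  have hx : Subgroup.zpowers x ≠ ⊤ := by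
    intro h
    apply hG.2.2.1
    constructor
    constructor
    intro a b
    have ha : a ∈ Subgroup.zpowers x := h ▸ Subgroup.mem_top a
    have hb : b ∈ Subgroup.zpowers x := h ▸ Subgroup.mem_top b
    obtain ⟨i, rfl⟩ := Subgroup.mem_zpowers_iff.1 ha
    obtain ⟨j, rfl⟩ := Subgroup.mem_zpowers_iff.1 hb
    exact (Commute.zpow_zpow_self x i j).eq
  obtain ⟨H, hH, hxH⟩ := exists_coatom_ge hx
  have : H = M := huniq H hH bot_le
  rw [← this]
  exact hxH (Subgroup.mem_zpowers x)

/-- BG Lemma 9.2. -/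
theorem inUniqueMaximal_of_le_centralizer (hG : IsMinSimpleOddOrder G) {L K : Subgroup G}
    (hL : InUniqueMaximal L) (hK : K ≤ Subgroup.centralizer (L : Set G)) (hKr : ¬ RankLE 1 K) :
    InUniqueMaximal K := by
  have hL1 : L ≠ ⊥ := ne_bot_of_inUniqueMaximal hG hL
  obtain ⟨M, hM, hLM, huniq⟩ := inUniqueMaximal_iff.1 hL
  unfold RankLE at hKr
  push Not at hKr
  obtain ⟨p, hp, hpr⟩ := hKr
  haveI : Fact p.Prime := ⟨hp⟩
  obtain ⟨B, hBK, hBe, hBc⟩ := exists_elemAb_of_not_pRankLE hp hpr
  rw [show (1 + 1 : ℕ) = 2 from rfl] at hBc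
  have hBnc : ¬ IsCyclic B := not_isCyclic_of_elemAb hp hBe hBc
  -- centralizers of nonidentity elements of `B` lie in `M`
  have hcent : ∀ b ∈ B, b ≠ 1 → Subgroup.centralizer ({b} : Set G) ≤ M := by
    intro b hb hb1
    obtain ⟨H, hH, hCH⟩ := exists_coatom_ge (centralizer_singleton_ne_top hG hb1)
    have hLC : L ≤ Subgroup.centralizer ({b} : Set G) := by
      intro x hx
      rw [Subgroup.mem_centralizer_singleton_iff]
      have := hK (hBK hb) x hx
      exact this
    have : H = M := huniq H hH (hLC.trans hCH)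
    rw [← this]
    exact hCH
  have hBM : B ≤ M := by
    obtain ⟨b, hb1⟩ : ∃ b : B, b ≠ 1 := by
      by_contra hne
      push Not at hne
      apply hBnc
      haveI : Subsingleton B := ⟨fun a b => (hne a).trans (hne b).symm⟩
      exact isCyclic_of_subsingleton
    have hb1' : (b : G) ≠ 1 := fun h0 => hb1 (Subtype.ext h0)
    refine le_trans ?_ (hcent b b.2 hb1')
    intro x hx
    rw [Subgroup.mem_centralizer_singleton_iff]
    exact congrArg Subtype.val (hBe.1.is_comm.comm ⟨x, hx⟩ b)
  have hBU : InUniqueMaximal B :=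
    Cfsg.Agent.S1398.result hG M hM p B hBM hBe hBnc (Or.inl hcent)
  have hKt : K ≠ ⊤ := by
    rintro rfl
    obtain ⟨x, hx1⟩ := (Subgroup.ne_bot_iff_exists_ne_one).1 hL1
    have hx1' : (x : G) ≠ 1 := fun h0 => hx1 (Subtype.ext h0)
    apply centralizer_singleton_ne_top hG hx1'
    rw [eq_top_iff]
    refine hK.trans (Subgroup.centralizer_le ?_)
    intro y hy
    rw [Set.mem_singleton_iff] at hy
    rw [hy]; exact x.2
  exact InUniqueMaximal.mono hBU hBK hKt

end Cfsg.Agent.Lib.H16.BG
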