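import Mathlib
import Cfsg.Agent.Lib.H16.BGm
import Cfsg.Agent.Lib.H16.NarrowD
import Cfsg.Agent.Lib.H16.OmegaQuotA
import Cfsg.Agent.Lib.H16.CommHom

/-!
# BG Lemma 9.3 (helper16)

Normal elementary abelian subgroups of order `p ^ 2` in `p`-groups, the index of their
centralizers, and the transfer of uniqueness between `p`-subgroups of rank at least three.
-/

set_option autoImplicit false
set_option linter.style.haveILetI false
set_option linter.unusedSectionVars false
set_option linter.unusedVariables false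

namespace Cfsg.Agent.Lib.H16.BG

open Cfsg Cfsg.Agent.Lib.H7.BG7
open scoped commutatorElement

section TypeLevel

variable {R : Type*} [Group R] [Finite R] {p : ℕ} [hp : Fact p.Prime]

/-- The centralizer of a normal subgroup of order `p ^ 2` of a `p`-group has index dividing `p` in
every subgroup. -/
theorem relIndex_centralizer_dvd_of_normal_sq (hR : IsPGroup p R) (N : Subgroup R) [hNn : N.Normal]
    (hN : Nat.card N = p ^ 2) (E : Subgroup R) :
    (Subgroup.centralizer (N : Set R)).relIndex E ∣ p := by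
  have hpp : p.Prime := hp.out
  have hZ2 := Narrow.normal_card_sq_le_upperCentralSeries_two hR N hN
  by_cases hD : N ≤ Subgroup.center R
  · have : Subgroup.centralizer (N : Set R) = ⊤ := by
      rw [eq_top_iff]
      intro x _
      rw [Subgroup.mem_centralizer_iff]
      intro n hn
      exact (Subgroup.mem_center_iff.1 (hD hn) x).symm
    rw [this, Subgroup.relIndex_top_left]
    exact one_dvd _
  · set D : Subgroup R := N ⊓ Subgroup.center R with hDdef
    have hNbot : N ≠ ⊥ := by
      intro h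
      rw [h, Subgroup.card_bot] at hN
      have := hpp.one_lt
      nlinarith
    have hD1 : D ≠ ⊥ := by
      obtain ⟨x, hxN, hx1, hxc⟩ := exists_ne_one_mem_center_of_normal' hpp hR N hNbot
      intro h
      have : x ∈ D := ⟨hxN, hxc⟩
      rw [h, Subgroup.mem_bot] at this
      exact hx1 this
    have hDcard : Nat.card D = p := by
      have hdvd : Nat.card D ∣ p ^ 2 := by
        rw [← hN]
        exact Subgroup.card_dvd_of_le inf_le_left
      obtain ⟨k, hk2, hk⟩ := (Nat.dvd_prime_pow hpp).1 hdvd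
      interval_cases k
      · exfalso
        apply hD1
        rw [pow_zero] at hk
        exact Subgroup.card_eq_one.1 hk
      · rw [hk, pow_one]
      · exfalso
        apply hD
        have : D = N := Subgroup.eq_of_le_of_card_ge inf_le_left (by rw [hk, hN])
        rw [← this]
        exact inf_le_right
    have hlt : Nat.card D < Nat.card N := by
      rw [hDcard, hN]
      nlinarith [hpp.one_lt]
    obtain ⟨v, hvN, hvD⟩ := Narrow.exists_mem_not_mem_of_card_lt D N hlt
    have hsup := Narrow.sup_zpowers_eq D N inf_le_left hDcard hN hvN hvD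
    have hcent : Subgroup.centralizer (N : Set R) = Subgroup.centralizer ({v} : Set R) := by
      apply le_antisymm
      · exact Subgroup.centralizer_le (by simpa using hvN)
      · intro x hx
        rw [Subgroup.mem_centralizer_iff]
        intro w hw
        rw [← hsup] at hw
        have := Narrow.commute_of_sup_zpowers D v x
          (fun z hz => (Subgroup.mem_center_iff.mp hz.2 x))
          (Subgroup.mem_centralizer_singleton_iff.mp hx) w hw
        exact this.symm
    rw [hcent]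
    have hmem : ∀ k ∈ E, ⁅k, v⁆ ∈ D := by
      intro k _
      refine ⟨?_, ?_⟩
      · rw [commutatorElement_def]
        have h1 : k * v * k⁻¹ ∈ N := hNn.conj_mem v hvN k
        exact N.mul_mem h1 (N.inv_mem hvN)
      · have hv2 := hZ2 hvN
        rw [show (2 : ℕ) = 1 + 1 from rfl, Subgroup.mem_upperCentralSeries_succ_iff] at hv2
        have := hv2 k
        rw [Subgroup.upperCentralSeries_one] at this
        have h2 : ⁅k, v⁆ = (v * k * v⁻¹ * k⁻¹)⁻¹ := by
          rw [commutatorElement_def]; group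
        rw [h2]
        exact Subgroup.inv_mem _ this
    have := relIndex_centralizer_dvd_card E D v hmem
      (fun d hd => (Subgroup.mem_center_iff.mp hd.2 v).symm)
      (fun d hd k _ => (Subgroup.mem_center_iff.mp hd.2 k).symm)
    rwa [hDcard] at this

end TypeLevel

variable {G : Type*} [Group G] [Finite G] {p : ℕ} [hp : Fact p.Prime]

theorem card_dvd_mul_card_inf_of_relIndex_dvd {C E : Subgroup G} {n : ℕ} (h : C.relIndex E ∣ n) :
    Nat.card E ∣ n * Nat.card (E ⊓ C : Subgroup G) := by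
  have h1 : Nat.card (E ⊓ C : Subgroup G) * (E ⊓ C).relIndex E = Nat.card E :=
    SylIn.card_mul_relIndex inf_le_left
  have h2 : (E ⊓ C).relIndex E = C.relIndex E := by
    rw [inf_comm]; exact Subgroup.inf_relIndex_right C E
  rw [h2] at h1
  rw [← h1, mul_comm]
  exact Nat.mul_dvd_mul_right h _

/-- A noncyclic `p`-subgroup `S` (`p` odd) has an `S`-invariant elementary abelian subgroup `V` of
order `p ^ 2`, and `C_E(V)` has index at most `p` in every subgroup `E` of `S`. -/
theorem exists_normal_sq_rel (hp2 : p ≠ 2) {S : Subgroup G} (hS : IsPGroup p S)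
    (hnc : ¬ IsCyclic S) :
    ∃ V : Subgroup G, V ≤ S ∧ S ≤ Subgroup.normalizer (V : Set G) ∧ IsElementaryAbelian p V ∧
      Nat.card V = p ^ 2 ∧ ∀ E : Subgroup G, E ≤ S →
        Nat.card E ∣ p * Nat.card (E ⊓ Subgroup.centralizer (V : Set G) : Subgroup G) := by
  obtain ⟨U, hUn, hUc, hUe, hUcard⟩ := OmegaQuot.exists_normal_sq_of_not_cyclic hp2 hS hnc
  haveI := hUn
  have hcardmap : Nat.card (U.map S.subtype) = Nat.card U :=
    (Nat.card_congr (U.equivMapOfInjective S.subtype S.subtype_injective).toEquiv).symm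
  refine ⟨U.map S.subtype, Subgroup.map_subtype_le U, ?_, ⟨⟨⟨?_⟩⟩, ?_⟩, ?_, ?_⟩
  · intro s hs
    rw [Subgroup.mem_normalizer_iff]
    intro x
    constructor
    · rintro ⟨u, hu, rfl⟩
      exact ⟨⟨s, hs⟩ * u * ⟨s, hs⟩⁻¹, hUn.conj_mem u hu ⟨s, hs⟩, rfl⟩
    · rintro ⟨u, hu, hux⟩
      refine ⟨⟨s, hs⟩⁻¹ * u * ⟨s, hs⟩, ?_, ?_⟩
      · have := hUn.conj_mem u hu (⟨s, hs⟩⁻¹)
        rwa [inv_inv] at this
      · have : (S.subtype u) = s * x * s⁻¹ := hux
        simp only [Subgroup.subtype_apply, Subgroup.coe_mul, Subgroup.coe_inv]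
        have h3 : ((u : S) : G) = s * x * s⁻¹ := hux
        rw [h3]; group
  · rintro ⟨_, x, hx, rfl⟩ ⟨_, y, hy, rfl⟩
    apply Subtype.ext
    show S.subtype x * S.subtype y = S.subtype y * S.subtype x
    rw [← map_mul, ← map_mul, hUc x hx y hy]
  · rintro _ ⟨x, hx, rfl⟩
    rw [← map_pow, hUe x hx, map_one]
  · rw [hcardmap, hUcard]
  · intro E hES
    apply card_dvd_mul_card_inf_of_relIndex_dvd
    have h1 := relIndex_centralizer_dvd_of_normal_sq hS U hUcard (E.subgroupOf S)
    have h2 : (Subgroup.centralizer (U : Set S)).relIndex (E.subgroupOf S) =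
        ((Subgroup.centralizer (U : Set S)).map S.subtype).relIndex
          ((E.subgroupOf S).map S.subtype) :=
      (Subgroup.relIndex_map_map_of_injective _ _ S.subtype_injective).symm
    rw [h2, Subgroup.map_subgroupOf_eq_of_le hES] at h1
    have h3 : (Subgroup.centralizer (U : Set S)).map S.subtype =
        Subgroup.centralizer ((U.map S.subtype : Subgroup G) : Set G) ⊓ S := by
      ext x
      constructor
      · rintro ⟨c, hc, rfl⟩
        refine ⟨?_, c.2⟩
        refine Subgroup.mem_centralizer_iff.2 ?_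
        rintro _ ⟨u, hu, rfl⟩
        have := Subgroup.mem_centralizer_iff.1 hc u hu
        exact congrArg Subtype.val this
      · rintro ⟨hxc, hxS⟩
        refine ⟨⟨x, hxS⟩, ?_, rfl⟩
        refine Subgroup.mem_centralizer_iff.2 ?_
        intro u hu
        apply Subtype.ext
        exact Subgroup.mem_centralizer_iff.1 hxc u ⟨u, hu, rfl⟩
    rw [h3] at h1
    have h4 : (Subgroup.centralizer ((U.map S.subtype : Subgroup G) : Set G) ⊓ S).relIndex E =
        (Subgroup.centralizer ((U.map S.subtype : Subgroup G) : Set G)).relIndex E := by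
      rw [← Subgroup.inf_relIndex_right, inf_assoc, inf_eq_right.2 hES,
        Subgroup.inf_relIndex_right]
    rwa [h4] at h1

theorem isCoatom_map_conj {M : Subgroup G} (hM : IsCoatom M) (g : G) :
    IsCoatom (M.map (MulAut.conj g).toMonoidHom) :=
  ((MulAut.conj g).mapSubgroup.isCoatom_iff M).2 hM

/-- Conjugation preserves `𝓤`. -/
theorem inUniqueMaximal_map_conj {A : Subgroup G} (h : InUniqueMaximal A) (g : G) :
    InUniqueMaximal (A.map (MulAut.conj g).toMonoidHom) := by
  rw [inUniqueMaximal_iff] at h ⊢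
  obtain ⟨M, hM, hAM, huniq⟩ := h
  set φ := (MulAut.conj g).mapSubgroup with hφ
  refine ⟨φ M, (φ.isCoatom_iff M).2 hM, φ.monotone hAM, ?_⟩
  intro H hH hAH
  have h1 : IsCoatom (φ.symm H) := by
    rw [← φ.isCoatom_iff, OrderIso.apply_symm_apply]; exact hH
  have h2 : A ≤ φ.symm H := by
    rw [← φ.le_iff_le, OrderIso.apply_symm_apply]; exact hAH
  have := huniq _ h1 h2
  rw [← this, OrderIso.apply_symm_apply]

theorem not_rankLE_one_of_elemAb {B K : Subgroup G} (hBK : B ≤ K)
    (hB : IsElementaryAbelian p B) (h : p ^ 2 ≤ Nat.card B) : ¬ RankLE 1 ↥K := by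
  intro hr
  have hpp : p.Prime := hp.out
  refine not_pRankLE_of_elemAb hBK hB ?_ (hr p hpp)
  have : p < p ^ 2 := by nlinarith [hpp.one_lt]
  rw [pow_one]
  omega

theorem isElementaryAbelian_of_le {B C : Subgroup G} (hB : IsElementaryAbelian p B)
    (hCB : C ≤ B) : IsElementaryAbelian p C := by
  refine ⟨⟨⟨?_⟩⟩, fun a ha => hB.2 a (hCB ha)⟩
  rintro ⟨a, ha⟩ ⟨b, hb⟩
  apply Subtype.ext
  have := hB.1.is_comm.comm ⟨a, hCB ha⟩ ⟨b, hCB hb⟩
  have h2 : a * b = b * a := congrArg Subtype.val this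
  exact h2

theorem isCyclic_of_le' {W T : Subgroup G} (hWT : W ≤ T) (hT : IsCyclic T) : IsCyclic W := by
  have : IsCyclic (W.subgroupOf T) := Subgroup.isCyclic _
  exact isCyclic_of_surjective (Subgroup.subgroupOfEquivOfLe hWT).toMonoidHom
    (Subgroup.subgroupOfEquivOfLe hWT).surjective

/-- a noncyclic `p`-subgroup (`p` odd) has rank at least two. -/
theorem not_rankLE_one_of_not_isCyclic (hp2 : p ≠ 2) {B : Subgroup G} (hB : IsPGroup p B)
    (hnc : ¬ IsCyclic B) : ¬ RankLE 1 ↥B := by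
  intro hr
  have hpp : p.Prime := hp.out
  obtain ⟨U, -, hUc, hUe, hUcard⟩ := OmegaQuot.exists_normal_sq_of_not_cyclic hp2 hB hnc
  have := hr p hpp U ⟨⟨fun a b => Subtype.ext (hUc a a.2 b b.2)⟩⟩ hUe
  rw [hUcard, pow_one] at this
  have : p < p ^ 2 := by nlinarith [hpp.one_lt]
  omega

/-- if `p ^ 3 ≤ |E|` and `|E|` divides `p * |E ∩ C|` then `p ^ 2 ≤ |E ∩ C|`. -/
theorem sq_le_card_inf {E C : Subgroup G} (h3 : p ^ 3 ≤ Nat.card E)
    (hdvd : Nat.card E ∣ p * Nat.card (E ⊓ C : Subgroup G)) :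
    p ^ 2 ≤ Nat.card (E ⊓ C : Subgroup G) := by
  have hpp : p.Prime := hp.out
  have h1 : Nat.card E ≤ p * Nat.card (E ⊓ C : Subgroup G) :=
    Nat.le_of_dvd (Nat.mul_pos hpp.pos Nat.card_pos) hdvd
  have h2 : p * p ^ 2 ≤ p * Nat.card (E ⊓ C : Subgroup G) := by
    calc p * p ^ 2 = p ^ 3 := by ring
      _ ≤ _ := h3.trans h1
  exact Nat.le_of_mul_le_mul_left h2 hpp.pos

/-- BG Lemma 9.3. -/
theorem inUniqueMaximal_of_rank_three (hG : IsMinSimpleOddOrder G) {A B : Subgroup G}
    (hAp : IsPGroup p A) (hAc : IsMulCommutative A) (hA3 : ¬ PRankLE p 2 ↥A)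
    (hAU : InUniqueMaximal A) (hBp : IsPGroup p B) (hBnc : ¬ IsCyclic B)
    (hB3 : ¬ PRankLE p 2 ↥(Subgroup.centralizer (B : Set G))) : InUniqueMaximal B := by
  have hpp : p.Prime := hp.out
  obtain ⟨E₃, hE₃C, hE₃e, hE₃c⟩ := exists_elemAb_of_not_pRankLE hpp hB3
  obtain ⟨A₀, hA₀A, hA₀e, hA₀c⟩ := exists_elemAb_of_not_pRankLE hpp hA3
  rw [show (2 + 1 : ℕ) = 3 from rfl] at hE₃c hA₀c
  have hple : p ≤ p ^ 3 := by
    calc p = p ^ 1 := (pow_one p).symm
      _ ≤ p ^ 3 := Nat.pow_le_pow_right hpp.pos (by norm_num)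
  have hp2 : p ≠ 2 :=
    prime_ne_two_of_dvd_card hG (dvd_card_of_elemAb hpp hE₃e le_rfl (hple.trans hE₃c))
  have hE₃p : IsPGroup p E₃ := isPGroup_of_elemAb hE₃e
  -- a Sylow subgroup containing `B` and `E₃`
  have hBE : B ≤ Subgroup.normalizer (E₃ : Set G) :=
    (le_centralizer_comm hE₃C).trans (Subgroup.centralizer_le_normalizer _)
  have hBEp : IsPGroup p (B ⊔ E₃ : Subgroup G) := hBp.to_sup_of_normal_right' hE₃p hBE
  obtain ⟨S, hS⟩ := hBEp.exists_le_sylow
  have hBS : B ≤ S := le_sup_left.trans hS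
  have hES : E₃ ≤ S := le_sup_right.trans hS
  have hSp : IsPGroup p (S : Subgroup G) := S.2
  have hSnc : ¬ IsCyclic (S : Subgroup G) := fun h => hBnc (isCyclic_of_le' hBS h)
  -- move `A` into `S`
  obtain ⟨m, -, hmS⟩ := (SylIn.of_sylow_top S).exists_conj_le hAp le_top
  set A' := A.map (MulAut.conj m).toMonoidHom with hA'
  set A₀' := A₀.map (MulAut.conj m).toMonoidHom with hA₀'
  have hA'U : InUniqueMaximal A' := inUniqueMaximal_map_conj hAU m
  have hA₀'A' : A₀' ≤ A' := Subgroup.map_mono hA₀A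
  have hA₀'e : IsElementaryAbelian p A₀' := isElementaryAbelian_map _ hA₀e
  have hA₀'c : p ^ 3 ≤ Nat.card A₀' := by
    rw [hA₀', Cfsg.Agent.Lib.H10.card_map_conj]; exact hA₀c
  have hA'cent : A' ≤ Subgroup.centralizer (A' : Set G) := by
    rintro _ ⟨a, ha, rfl⟩
    rw [Subgroup.mem_centralizer_iff]
    rintro _ ⟨b, hb, rfl⟩
    have h1 := hAc.is_comm.comm ⟨a, ha⟩ ⟨b, hb⟩
    have h2 : a * b = b * a := congrArg Subtype.val h1
    show (MulAut.conj m) b * (MulAut.conj m) a = (MulAut.conj m) a * (MulAut.conj m) b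
    rw [← map_mul, ← map_mul, h2]
  -- the normal subgroup `V`
  obtain ⟨V, hVS, hSV, hVe, hVc, hVidx⟩ := exists_normal_sq_rel hp2 hSp hSnc
  -- step 1: `C_{A₀'}(V) ∈ 𝓤`
  have hK1 : InUniqueMaximal (A₀' ⊓ Subgroup.centralizer (V : Set G) : Subgroup G) := by
    apply inUniqueMaximal_of_le_centralizer hG hA'U
    · exact (inf_le_left.trans hA₀'A').trans hA'cent
    · refine not_rankLE_one_of_elemAb (p := p) (B := A₀' ⊓ Subgroup.centralizer (V : Set G)) le_rfl ?_ ?_
      · exact isElementaryAbelian_of_le hA₀'e inf_le_left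
      · exact sq_le_card_inf (p := p) hA₀'c (hVidx A₀' (hA₀'A'.trans hmS))
  -- step 2: `V ∈ 𝓤`
  have hVU : InUniqueMaximal V := by
    apply inUniqueMaximal_of_le_centralizer hG hK1
    · exact le_centralizer_comm inf_le_right
    · exact not_rankLE_one_of_elemAb le_rfl hVe (by rw [hVc])
  -- step 3: `C_{E₃}(V) ∈ 𝓤`
  have hK2 : InUniqueMaximal (E₃ ⊓ Subgroup.centralizer (V : Set G) : Subgroup G) := by
    apply inUniqueMaximal_of_le_centralizer hG hVU inf_le_right
    refine not_rankLE_one_of_elemAb (p := p) (B := E₃ ⊓ Subgroup.centralizer (V : Set G)) le_rfl ?_ ?_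
    · exact isElementaryAbelian_of_le hE₃e inf_le_left
    · exact sq_le_card_inf (p := p) hE₃c (hVidx E₃ hES)
  -- step 4: `B ∈ 𝓤`
  apply inUniqueMaximal_of_le_centralizer hG hK2
  · exact (le_centralizer_comm hE₃C).trans (Subgroup.centralizer_le inf_le_left)
  · exact not_rankLE_one_of_not_isCyclic hp2 hBp hBnc

end Cfsg.Agent.Lib.H16.BG
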