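import Mathlib
import Cfsg.Agent.Lib.H16.BGn
import Cfsg.Agent.Lib.H16.BGi

/-!
# BG Corollary 9.4 (helper16)

If the Fitting subgroup of some maximal subgroup has `p`-rank at least three, every abelian
`p`-subgroup of rank at least three lies in a unique maximal subgroup.
-/

set_option autoImplicit false
set_option linter.style.haveILetI false
set_option linter.unusedSectionVars false
set_option linter.unusedVariables false

namespace Cfsg.Agent.Lib.H16.BG

open Cfsg Cfsg.Agent.Lib.H7.BG7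

variable {G : Type*} [Group G] [Finite G] {p : ℕ} [hp : Fact p.Prime]

/-- An abelian `p`-subgroup of rank at least three is in `𝓤` as soon as one such is. -/
theorem inUniqueMaximal_of_abelian_rank_three (hG : IsMinSimpleOddOrder G) {A₁ A : Subgroup G}
    (hA₁p : IsPGroup p A₁) (hA₁c : IsMulCommutative A₁) (hA₁3 : ¬ PRankLE p 2 ↥A₁)
    (hA₁U : InUniqueMaximal A₁)
    (hAp : IsPGroup p A) (hAc : IsMulCommutative A) (hA3 : ¬ PRankLE p 2 ↥A) :
    InUniqueMaximal A := by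
  have hpp : p.Prime := hp.out
  apply inUniqueMaximal_of_rank_three hG hA₁p hA₁c hA₁3 hA₁U hAp
  · intro hcyc
    obtain ⟨E, hEA, hEe, hEc⟩ := exists_elemAb_of_not_pRankLE hpp hA3
    refine not_isCyclic_of_elemAb hpp hEe ?_ (isCyclic_of_le' hEA hcyc)
    refine le_trans (Nat.pow_le_pow_right hpp.pos (by norm_num)) hEc
  · intro hr
    apply hA3
    refine pRankLE_of_le ?_ hr
    intro a ha
    rw [Subgroup.mem_centralizer_iff]
    intro b hb
    exact congrArg Subtype.val (hAc.is_comm.comm ⟨b, hb⟩ ⟨a, ha⟩)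

/-- BG Corollary 9.4. -/
theorem inUniqueMaximal_of_fitting_rank_three (hG : IsMinSimpleOddOrder G) {M : Subgroup G}
    (hM : IsCoatom M) (hF : ¬ PRankLE p 2 ↥(fittingOf M)) {A : Subgroup G} (hAp : IsPGroup p A)
    (hAc : IsMulCommutative A) (hA3 : ¬ PRankLE p 2 ↥A) : InUniqueMaximal A := by
  have hpp : p.Prime := hp.out
  obtain ⟨A₀, hA₀F, hA₀e, hA₀c⟩ := exists_elemAb_of_not_pRankLE hpp hF
  rw [show (2 + 1 : ℕ) = 3 from rfl] at hA₀c
  have hple : p ≤ p ^ 3 := by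
    calc p = p ^ 1 := (pow_one p).symm
      _ ≤ p ^ 3 := Nat.pow_le_pow_right hpp.pos (by norm_num)
  have hp2 : p ≠ 2 :=
    prime_ne_two_of_dvd_card hG (dvd_card_of_elemAb hpp hA₀e le_rfl (hple.trans hA₀c))
  have hA₀p : IsPGroup p A₀ := isPGroup_of_elemAb hA₀e
  have hsq : p ^ 2 ≤ Nat.card A₀ :=
    le_trans (Nat.pow_le_pow_right hpp.pos (by norm_num)) hA₀c
  have hA₀3 : ¬ PRankLE p 2 ↥A₀ := by
    refine not_pRankLE_of_elemAb le_rfl hA₀e ?_
    have : p ^ 2 < p ^ 3 := Nat.pow_lt_pow_right hpp.one_lt (by norm_num)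
    omega
  have hA₀1 : A₀ ≠ ⊥ := by
    rintro rfl
    rw [Subgroup.card_bot] at hA₀c
    have h2 : 1 < p ^ 3 := Nat.one_lt_pow (by norm_num) hpp.one_lt
    omega
  have hF1 : fittingOf M ≠ ⊥ := _root_.ne_bot_of_le_ne_bot hA₀1 hA₀F
  by_cases hFp : IsPGroup p (fittingOf M)
  · -- `F(M)` is a `p`-group
    obtain ⟨P₀, hP₀⟩ := SylIn.exists_sylIn p M
    have hFP : fittingOf M ≤ P₀ :=
      hP₀.normal_le hFp (fittingOf_le M) (le_normalizer_fittingOf M)
    have hP₀3 : ¬ PRankLE p 2 ↥P₀ := fun hr => hF (pRankLE_of_le hFP hr)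
    obtain ⟨A₁, hA₁scn, hA₁3⟩ := exists_scn3 hp2 hP₀.isPGroup hP₀3
    obtain ⟨-, hA₁U⟩ := fitB_scn hG hM hFp hF1 hP₀ hA₁scn hA₁3
    exact inUniqueMaximal_of_abelian_rank_three hG (hP₀.isPGroup.to_le hA₁scn.1)
      (scn_isMulCommutative hA₁scn) hA₁3 hA₁U hAp hAc hA3
  · -- `F(M)` is not a `p`-group
    have hfit : FitA M A₀ p := ⟨hM, hA₀F, hA₀e, hA₀c, hFp⟩
    have hAA : InUniqueMaximal (AA M A₀) := hfit.inUniqueMaximal hG
    have hA₀U : InUniqueMaximal A₀ := by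
      apply inUniqueMaximal_of_le_centralizer hG hAA
      · exact le_centralizer_comm inf_le_right
      · exact not_rankLE_one_of_elemAb le_rfl hA₀e hsq
    exact inUniqueMaximal_of_abelian_rank_three hG hA₀p hA₀e.1 hA₀3 hA₀U hAp hAc hA3

end Cfsg.Agent.Lib.H16.BG
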