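import Mathlib
import Cfsg.Prelude
import Cfsg.Agent.Lib.H16.RankTwoD
import Cfsg.Agent.Lib.H1.Fitting
import Cfsg.Agent.Lib.H22.PPrimeCore

set_option autoImplicit false

/-!
# Solvable groups of odd order whose Fitting subgroup has rank at most two, part 1

Abstract action lemmas, and the decomposition `F(G) = O_r(G) × O_{r'}(F(G))`.
-/

namespace Cfsg.Agent.Lib.H16.RankTwo

open Cfsg
open scoped commutatorElement

universe u v

section action

variable {p : ℕ} [hp : Fact p.Prime] {P : Type u} [Group P] [Finite P]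

/-- An odd prime `q ≠ p` dividing `p ^ 2 - 1` for an odd prime `p` is smaller than `p`. -/
theorem lt_of_dvd_sq_sub_one' {p q : ℕ} (hp : p.Prime) (hq : q.Prime) (hp2 : p ≠ 2) (hq2 : q ≠ 2)
    (h : q ∣ p ^ 2 - 1) : q < p := by
  have hpodd : Odd p := hp.odd_of_ne_two hp2
  have hp1 : 2 ≤ p := hp.two_le
  have hfac : p ^ 2 - 1 = (p - 1) * (p + 1) := by
    obtain ⟨k, rfl⟩ : ∃ k, p = k + 1 := ⟨p - 1, by omega⟩
    apply Nat.sub_eq_of_eq_add
    simp only [Nat.add_sub_cancel]
    ring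
  rw [hfac] at h
  rcases (Nat.Prime.dvd_mul hq).mp h with h | h
  · have := Nat.le_of_dvd (by omega) h
    omega
  · have h2 : 2 ∣ p + 1 := by
      obtain ⟨k, hk⟩ := hpodd
      exact ⟨k + 1, by omega⟩
    have hcop : Nat.Coprime 2 q := (Nat.coprime_primes Nat.prime_two hq).mpr (Ne.symm hq2)
    have h3 : 2 * q ∣ p + 1 := Nat.Coprime.mul_dvd_of_dvd_of_dvd hcop h2 h
    have := Nat.le_of_dvd (by omega) h3
    omega

/-- `p'`-elements of the derived subgroup of an odd-order solvable operator group act trivially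
on a `p`-group of rank at most two. -/
theorem map_eq_one_of_mem_commutator (hp2 : p ≠ 2) (hP : IsPGroup p P)
    (hr : Cfsg.PRankLE p 2 P) {A : Type v} [Group A] [Finite A] (hs : Group.IsSolvable A)
    (hodd : Odd (Nat.card A)) (ρ : A →* MulAut P) {d : A} (hd : d ∈ commutator A)
    (hcop : (orderOf d).Coprime p) : ρ d = 1 := by
  obtain ⟨e, he, φ, hφ⟩ := exists_hom_GL hp2 hP hr
  set ψ : A →* GL (Fin e) (ZMod p) := φ.comp ρ with hψ
  have h1 : IsPGroup p ↥((commutator A).map ψ) := isPGroup_map_commutator hp2 hs hodd he ψ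
  obtain ⟨k, hk⟩ := h1 ⟨ψ d, Subgroup.mem_map_of_mem ψ hd⟩
  have hk' : (ψ d) ^ (p ^ k) = 1 := by
    have := congrArg Subtype.val hk
    simpa using this
  have h2 : orderOf (ψ d) ∣ p ^ k := orderOf_dvd_of_pow_eq_one hk'
  have h3 : (orderOf (ψ d)).Coprime (p ^ k) :=
    Nat.Coprime.pow_right k (Nat.Coprime.coprime_dvd_left (orderOf_map_dvd ψ d) hcop)
  have h4 : ψ d = 1 := orderOf_eq_one_iff.mp (Nat.Coprime.eq_one_of_dvd h3 h2)
  exact hφ _ (Nat.Coprime.coprime_dvd_left (orderOf_map_dvd ρ d) hcop) h4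

/-- A nontrivial automorphism of `q`-power order (`q ≠ p` an odd prime) of a `p`-group of rank at
most two forces `q < p`. -/
theorem prime_lt_of_aut (hp2 : p ≠ 2) (hP : IsPGroup p P) (hr : Cfsg.PRankLE p 2 P)
    {q : ℕ} (hq : q.Prime) (hqp : q ≠ p) (hq2 : q ≠ 2) (α : MulAut P) {k : ℕ}
    (hα : α ^ (q ^ k) = 1) (hα1 : α ≠ 1) : q < p := by
  haveI : Finite (MulAut P) :=
    Finite.of_injective (fun a : MulAut P => (a : P → P)) DFunLike.coe_injective
  have h1 : orderOf α ∣ q ^ k := orderOf_dvd_of_pow_eq_one hα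
  obtain ⟨j, hjk, hj⟩ := (Nat.dvd_prime_pow hq).mp h1
  have hj0 : j ≠ 0 := by
    intro h
    rw [h, pow_zero, orderOf_eq_one_iff] at hj
    exact hα1 hj
  obtain ⟨i, rfl⟩ : ∃ i, j = i + 1 := ⟨j - 1, by omega⟩
  set β : MulAut P := α ^ (q ^ i) with hβ
  have hβq : β ^ q = 1 := by
    rw [hβ, ← pow_mul, ← pow_succ, ← hj, pow_orderOf_eq_one]
  have hβ1 : β ≠ 1 := by
    apply pow_ne_one_of_lt_orderOf (pow_pos hq.pos i).ne'
    rw [hj]
    exact Nat.pow_lt_pow_right hq.one_lt (Nat.lt_succ_self i)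
  exact lt_of_dvd_sq_sub_one' hp.out hq hp2 hq2 (prime_dvd_of_aut hp2 hP hr hq hqp β hβq hβ1)

end action

section split

variable {G : Type u} [Group G]

/-- If `B` and `C` commute elementwise, an element `b * c` of order prime to `|C|` lies in `B`. -/
theorem mul_mem_of_coprime {B C : Subgroup G} [Finite C] {b c : G} (hb : b ∈ B) (hc : c ∈ C)
    (hbc : b * c = c * b) (hcop : (orderOf (b * c)).Coprime (Nat.card C)) : b * c ∈ B := by
  have hcn : c ^ Nat.card C = 1 := by
    have h0 : (⟨c, hc⟩ : C) ^ Nat.card C = 1 := pow_card_eq_one'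
    have h0' := congrArg Subtype.val h0
    rw [Subgroup.coe_pow, Subgroup.coe_one] at h0'
    exact h0'
  have h1 : (b * c) ^ Nat.card C = b ^ Nat.card C := by
    rw [(show Commute b c from hbc).mul_pow, hcn, mul_one]
  obtain ⟨m, hm⟩ := exists_pow_eq_self_of_coprime hcop.symm
  rw [← hm, h1]
  exact Subgroup.pow_mem _ (Subgroup.pow_mem _ hb _) _

end split

end Cfsg.Agent.Lib.H16.RankTwo
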