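import Mathlib
import Cfsg.Prelude
import Cfsg.Agent.Lib.H16.RankTwoFit
import Cfsg.Agent.Lib.H7.DihedralLemma2

set_option autoImplicit false

/-!
# Solvable groups of odd order whose Fitting subgroup has rank at most two, part 2

The decomposition `F(G) = O_r(G) × O_{r'}(F(G))` and `G' ≤ F(G)`.
-/

namespace Cfsg.Agent.Lib.H16.RankTwo

open Cfsg
open scoped commutatorElement

universe u

variable {G : Type u} [Group G]

/-- `O_{r'}(F(G))`: the join of the `O_q(G)` for the primes `q ≠ r`. -/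
def Vr (G : Type u) [Group G] (r : ℕ) : Subgroup G :=
  ⨆ q : {q : Nat.Primes // (q : ℕ) ≠ r}, pCore ((q : Nat.Primes) : ℕ) G

instance Vr_normal (r : ℕ) : (Vr G r).Normal := by
  unfold Vr
  rw [iSup]
  apply Subgroup.sSup_normal
  rintro _ ⟨q, rfl⟩
  exact Cfsg.pCore_normal _ G

theorem pCore_le_Vr {q r : ℕ} (hq : q.Prime) (hqr : q ≠ r) : pCore q G ≤ Vr G r :=
  le_iSup (fun q : {q : Nat.Primes // (q : ℕ) ≠ r} => pCore ((q : Nat.Primes) : ℕ) G)
    ⟨⟨q, hq⟩, hqr⟩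

variable [Finite G]

theorem Vr_le_pPrimeCore (r : ℕ) [hr : Fact r.Prime] : Vr G r ≤ pPrimeCore r G := by
  apply iSup_le
  rintro ⟨q, hqr⟩
  have : Fact (q : ℕ).Prime := ⟨q.2⟩
  apply Cfsg.Agent.Lib.H22.le_pPrimeCore r _ (Cfsg.pCore_normal _ G)
  obtain ⟨k, hk⟩ := IsPGroup.iff_card.mp (Cfsg.Agent.Lib.H1.pCore_isPGroup (q : ℕ) G)
  rw [hk]
  exact Nat.Coprime.pow_left k ((Nat.coprime_primes q.2 hr.out).mpr hqr)

theorem card_Vr_coprime (r : ℕ) [hr : Fact r.Prime] : (Nat.card (Vr G r)).Coprime r :=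
  Nat.Coprime.coprime_dvd_left (Subgroup.card_dvd_of_le (Vr_le_pPrimeCore r))
    (Cfsg.Agent.Lib.H22.card_pPrimeCore_coprime r)

theorem Vr_le_centralizer_pCore (r : ℕ) [hr : Fact r.Prime] :
    Vr G r ≤ Subgroup.centralizer (pCore r G : Set G) := by
  apply iSup_le
  rintro ⟨q, hqr⟩
  have : Fact (q : ℕ).Prime := ⟨q.2⟩
  intro x hx
  rw [Subgroup.mem_centralizer_iff]
  intro y hy
  exact (Cfsg.Agent.Lib.H1.pCore_commute (Ne.symm hqr) y x hy hx).eq

theorem pCore_sup_Vr (r : ℕ) [hr : Fact r.Prime] : pCore r G ⊔ Vr G r = fittingSubgroup G := by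
  rw [Cfsg.Agent.Lib.H1.fittingSubgroup_eq_iSup_pCore]
  apply le_antisymm
  · apply sup_le
    · exact le_iSup (fun q : Nat.Primes => pCore (q : ℕ) G) ⟨r, hr.out⟩
    · apply iSup_le
      rintro ⟨q, _⟩
      exact le_iSup (fun q : Nat.Primes => pCore (q : ℕ) G) q
  · apply iSup_le
    intro q
    by_cases hqr : (q : ℕ) = r
    · rw [hqr]; exact le_sup_left
    · exact le_trans (pCore_le_Vr q.2 hqr) le_sup_right

theorem mem_pCore_of_mem_fitting (r : ℕ) [hr : Fact r.Prime] {x : G}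
    (hx : x ∈ fittingSubgroup G) (hcop : (orderOf x).Coprime (Nat.card (Vr G r))) :
    x ∈ pCore r G := by
  rw [← pCore_sup_Vr r] at hx
  obtain ⟨a, ha, b, hb, rfl⟩ := Subgroup.mem_sup_of_normal_right.mp hx
  have hab : a * b = b * a :=
    (Subgroup.mem_centralizer_iff.mp (Vr_le_centralizer_pCore r hb) a ha)
  exact mul_mem_of_coprime ha hb hab hcop

theorem mem_Vr_of_mem_fitting (r : ℕ) [hr : Fact r.Prime] {x : G}
    (hx : x ∈ fittingSubgroup G) (hcop : (orderOf x).Coprime r) : x ∈ Vr G r := by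
  rw [← pCore_sup_Vr r] at hx
  obtain ⟨a, ha, b, hb, rfl⟩ := Subgroup.mem_sup_of_normal_right.mp hx
  have hab : a * b = b * a :=
    (Subgroup.mem_centralizer_iff.mp (Vr_le_centralizer_pCore r hb) a ha)
  rw [hab] at hcop ⊢
  apply mul_mem_of_coprime hb ha hab.symm
  obtain ⟨k, hk⟩ := IsPGroup.iff_card.mp (Cfsg.Agent.Lib.H1.pCore_isPGroup r G)
  rw [hk]
  exact Nat.Coprime.pow_right k hcop

/-- elements of `r`-power order of the Fitting subgroup lie in `O_r(G)` -/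
theorem mem_pCore_of_mem_fitting_of_orderOf (r : ℕ) [hr : Fact r.Prime] {x : G}
    (hx : x ∈ fittingSubgroup G) {k : ℕ} (hk : orderOf x = r ^ k) : x ∈ pCore r G := by
  apply mem_pCore_of_mem_fitting r hx
  rw [hk]
  exact Nat.Coprime.pow_left k (card_Vr_coprime r).symm

end Cfsg.Agent.Lib.H16.RankTwo
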