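import Mathlib
import Cfsg.Prelude
import Cfsg.Agent.Lib.H16.RankTwoFitB

set_option autoImplicit false

/-!
# Solvable groups of odd order whose Fitting subgroup has rank at most two, part 3

`G' ≤ F(G)` (`commutator_le_fittingSubgroup`).
-/

namespace Cfsg.Agent.Lib.H16.RankTwo

open Cfsg
open scoped commutatorElement

universe u

variable {G : Type u} [Group G] [Finite G]

theorem pCore_two_eq_bot (hodd : Odd (Nat.card G)) : pCore 2 G = ⊥ := by
  have : Fact (2 : ℕ).Prime := ⟨Nat.prime_two⟩
  apply Cfsg.Agent.Lib.H1.pCore_eq_bot_of_not_dvd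
  intro h
  obtain ⟨k, hk⟩ := hodd
  omega

theorem mem_centralizer_of_conjNormal_eq_one {Q : Subgroup G} [Q.Normal] {d : G}
    (h : (MulAut.conjNormal d : MulAut Q) = 1) : d ∈ Subgroup.centralizer (Q : Set G) := by
  rw [Subgroup.mem_centralizer_iff]
  intro r hr'
  have h1 := congrArg (fun β : MulAut Q => ((β ⟨r, hr'⟩ : Q) : G)) h
  simp only [MulAut.one_apply, MulAut.conjNormal_apply] at h1
  calc r * d = (d * r * d⁻¹) * d := by rw [h1]
    _ = d * r := by group

/-- `q'`-elements of `G'` centralize `O_q(G)` when the latter has rank at most two. -/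
theorem mem_centralizer_pCore_of_mem_commutator (hs : Group.IsSolvable G)
    (hodd : Odd (Nat.card G)) {q : ℕ} [hq : Fact q.Prime] (hrk : Cfsg.PRankLE q 2 ↥(pCore q G))
    {d : G} (hd : d ∈ commutator G) (hcop : (orderOf d).Coprime q) :
    d ∈ Subgroup.centralizer (pCore q G : Set G) := by
  by_cases hq2 : q = 2
  · subst hq2
    rw [pCore_two_eq_bot hodd]
    rw [Subgroup.mem_centralizer_iff]
    intro x hx
    rw [Subgroup.mem_bot.mp hx, one_mul, mul_one]
  · apply mem_centralizer_of_conjNormal_eq_one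
    exact map_eq_one_of_mem_commutator hq2 (Cfsg.Agent.Lib.H1.pCore_isPGroup q G) hrk hs hodd
      (MulAut.conjNormal : G →* MulAut (pCore q G)) hd hcop

/-- Elements of `q`-power order centralize `O_r(G)` for primes `r < q` when `O_r(G)` has rank at
most two. -/
theorem mem_centralizer_pCore_of_lt (hodd : Odd (Nat.card G)) {r : ℕ} [hr : Fact r.Prime]
    (hrk : Cfsg.PRankLE r 2 ↥(pCore r G)) {q : ℕ} (hq : q.Prime) (hrq : r < q) {x : G} {k : ℕ}
    (hx : orderOf x = q ^ k) : x ∈ Subgroup.centralizer (pCore r G : Set G) := by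
  by_cases hr2 : r = 2
  · subst hr2
    rw [pCore_two_eq_bot hodd]
    rw [Subgroup.mem_centralizer_iff]
    intro y hy
    rw [Subgroup.mem_bot.mp hy, one_mul, mul_one]
  · apply mem_centralizer_of_conjNormal_eq_one
    by_contra hne
    have hq2 : q ≠ 2 := by
      intro h
      have := hr.out.two_le
      omega
    have hα : (MulAut.conjNormal x : MulAut (pCore r G)) ^ (q ^ k) = 1 := by
      rw [← map_pow, ← hx, pow_orderOf_eq_one, map_one]
    have := prime_lt_of_aut hr2 (Cfsg.Agent.Lib.H1.pCore_isPGroup r G) hrk hq (by omega) hq2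
      (MulAut.conjNormal x : MulAut (pCore r G)) hα hne
    omega

/-- The centralizer in `G'` of `O_{r'}(F(G))`. -/
def Mr (G : Type u) [Group G] (r : ℕ) : Subgroup G :=
  commutator G ⊓ Subgroup.centralizer (Vr G r : Set G)

instance Mr_normal (r : ℕ) : (Mr G r).Normal := by
  unfold Mr
  infer_instance

theorem Mr_isNilpotent (hs : Group.IsSolvable G) (hodd : Odd (Nat.card G))
    (hrk : ∀ q : ℕ, q.Prime → Cfsg.PRankLE q 2 ↥(pCore q G)) (r : ℕ) [hr : Fact r.Prime] :
    Group.IsNilpotent ↥(Mr G r) := by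
  haveI := hs
  -- `r'`-elements of `Mr` are central in `Mr`
  have hcentral : ∀ y ∈ Mr G r, (orderOf y).Coprime r → ∀ m ∈ Mr G r, m * y = y * m := by
    intro y hy hcop m hm
    have hy1 : y ∈ Subgroup.centralizer (pCore r G : Set G) :=
      mem_centralizer_pCore_of_mem_commutator hs hodd (hrk r hr.out) hy.1 hcop
    have hy2 : y ∈ Subgroup.centralizer (Vr G r : Set G) := hy.2
    have hyF : y ∈ Subgroup.centralizer (fittingSubgroup G : Set G) := by
      rw [← pCore_sup_Vr r]
      rw [Subgroup.mem_centralizer_iff]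
      intro z hz
      obtain ⟨a, ha, b, hb, rfl⟩ := Subgroup.mem_sup_of_normal_right.mp hz
      have h1 := Subgroup.mem_centralizer_iff.mp hy1 a ha
      have h2 := Subgroup.mem_centralizer_iff.mp hy2 b hb
      calc a * b * y = a * (b * y) := by group
        _ = a * (y * b) := by rw [h2]
        _ = (a * y) * b := by group
        _ = (y * a) * b := by rw [h1]
        _ = y * (a * b) := by group
    have hyF' : y ∈ fittingSubgroup G :=
      Cfsg.Agent.Lib.H7.centralizer_fittingSubgroup_le_of_isSolvable G hyF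
    have hyV : y ∈ Vr G r := mem_Vr_of_mem_fitting r hyF' hcop
    exact Subgroup.mem_centralizer_iff.mp hm.2 y hyV |>.symm
  apply Group.of_quotient_center_nilpotent
  have hquot : IsPGroup r (↥(Mr G r) ⧸ Subgroup.center ↥(Mr G r)) := by
    intro t
    induction t using QuotientGroup.induction_on with
    | H m =>
    obtain ⟨j, hj⟩ := exists_pow_coprime_order (p := r) m
    refine ⟨j, ?_⟩
    rw [← QuotientGroup.mk_pow, QuotientGroup.eq_one_iff, Subgroup.mem_center_iff]
    intro g
    apply Subtype.ext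
    rw [Subgroup.coe_mul, Subgroup.coe_mul]
    have hmem : ((m ^ r ^ j : ↥(Mr G r)) : G) ∈ Mr G r := (m ^ r ^ j).2
    have hord : orderOf ((m ^ r ^ j : ↥(Mr G r)) : G) = orderOf (m ^ r ^ j) :=
      Subgroup.orderOf_coe _
    exact hcentral _ hmem (hord ▸ hj) g g.2
  exact hquot.isNilpotent

theorem Mr_le_fittingSubgroup (hs : Group.IsSolvable G) (hodd : Odd (Nat.card G))
    (hrk : ∀ q : ℕ, q.Prime → Cfsg.PRankLE q 2 ↥(pCore q G)) (r : ℕ) [hr : Fact r.Prime] :
    Mr G r ≤ fittingSubgroup G :=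
  Cfsg.Agent.Lib.H1.le_fittingSubgroup inferInstance (Mr_isNilpotent hs hodd hrk r)

/-- `r`-elements of `G'` lie in `Mr`. -/
theorem mem_Mr_of_orderOf (hs : Group.IsSolvable G) (hodd : Odd (Nat.card G))
    (hrk : ∀ q : ℕ, q.Prime → Cfsg.PRankLE q 2 ↥(pCore q G)) (r : ℕ) [hr : Fact r.Prime]
    {x : G} (hx : x ∈ commutator G) {k : ℕ} (hk : orderOf x = r ^ k) : x ∈ Mr G r := by
  refine ⟨hx, ?_⟩
  show x ∈ Subgroup.centralizer (Vr G r : Set G)
  rw [Subgroup.mem_centralizer_iff]
  intro v hv
  have hle : Vr G r ≤ Subgroup.centralizer ({x} : Set G) := by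
    apply iSup_le
    rintro ⟨q, hqr⟩
    have : Fact (q : ℕ).Prime := ⟨q.2⟩
    intro z hz
    rw [Subgroup.mem_centralizer_singleton_iff]
    have hcop : (orderOf x).Coprime (q : ℕ) := by
      rw [hk]
      exact Nat.Coprime.pow_left k ((Nat.coprime_primes hr.out q.2).mpr (Ne.symm hqr))
    have := mem_centralizer_pCore_of_mem_commutator hs hodd (hrk q q.2) hx hcop
    exact (Subgroup.mem_centralizer_iff.mp this z hz)
  exact (Subgroup.mem_centralizer_singleton_iff.mp (hle hv))

/-- **`G' ≤ F(G)`** for a solvable group of odd order whose `O_q(G)` all have rank at most two. -/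
theorem commutator_le_fittingSubgroup (hs : Group.IsSolvable G) (hodd : Odd (Nat.card G))
    (hrk : ∀ q : ℕ, q.Prime → Cfsg.PRankLE q 2 ↥(pCore q G)) :
    commutator G ≤ fittingSubgroup G := by
  have htop : (fittingSubgroup G).subgroupOf (commutator G) = ⊤ := by
    apply Cfsg.Agent.Lib.H1.eq_top_of_forall_sylow_le
    intro r hr
    obtain ⟨P⟩ : Nonempty (Sylow r ↥(commutator G)) := inferInstance
    refine ⟨P, ?_⟩
    intro x hx
    rw [Subgroup.mem_subgroupOf]
    obtain ⟨k, hk⟩ := (IsPGroup.iff_orderOf.mp P.2) ⟨x, hx⟩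
    have hk' : orderOf (x : G) = r ^ k := by
      rw [Subgroup.orderOf_coe]
      have : orderOf (⟨x, hx⟩ : (P : Subgroup ↥(commutator G))) = orderOf x :=
        Subgroup.orderOf_mk x hx
      rw [← this]
      exact hk
    exact Mr_le_fittingSubgroup hs hodd hrk r (mem_Mr_of_orderOf hs hodd hrk r x.2 hk')
  intro x hx
  have : (⟨x, hx⟩ : commutator G) ∈ (fittingSubgroup G).subgroupOf (commutator G) := by
    rw [htop]; trivial
  exact Subgroup.mem_subgroupOf.mp this

end Cfsg.Agent.Lib.H16.RankTwo
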