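import Mathlib
import Cfsg.Agent.Lib.H16.BGo
import Cfsg.Agent.Lib.H1.FpfAction
import Cfsg.Agent.Lib.H1.CoprimeAbelian
import Cfsg.Agent.Lib.H7.CoprimeGen

/-! # Bender–Glauberman §9, Lemma 9.5: general lemmas (helper16)

Uniqueness transfer, the product formula, subgroups of an elementary abelian group of order
`p ^ 3` ("points" and "lines"), actions on groups of prime order. -/

set_option autoImplicit false
set_option linter.unusedSectionVars false
set_option linter.unusedVariables false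

namespace Cfsg.Agent.Lib.H16.BG

open Cfsg Cfsg.Agent.Lib.H7.BG7
open scoped commutatorElement

variable {G : Type*} [Group G] [Finite G]

/-- a proper overgroup of a uniqueness subgroup lies in the unique maximal subgroup. -/
theorem le_of_inUniqueMaximal {V H Y : Subgroup G} (hV : InUniqueMaximal V) (hH : IsCoatom H)
    (hVH : V ≤ H) (hY : Y ≠ ⊤) (hVY : V ≤ Y) : Y ≤ H := by
  obtain ⟨M, hM, hVM, huniq⟩ := inUniqueMaximal_iff.1 hV
  obtain ⟨H', hH', hYH'⟩ := exists_coatom_ge hY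
  have h1 : H' = M := huniq H' hH' (hVY.trans hYH')
  have h2 : H = M := huniq H hH hVH
  rw [h2, ← h1]
  exact hYH'

theorem centralizer_ne_top_of_ne_bot (hG : IsMinSimpleOddOrder G) {U : Subgroup G} (hU : U ≠ ⊥) :
    Subgroup.centralizer (U : Set G) ≠ ⊤ := by
  obtain ⟨⟨u, hu⟩, hu1'⟩ := (Subgroup.ne_bot_iff_exists_ne_one).1 hU
  have hu1 : u ≠ 1 := fun h => hu1' (Subtype.ext h)
  intro h
  apply centralizer_singleton_ne_top hG hu1
  rw [eq_top_iff, ← h]
  exact Subgroup.centralizer_le (Set.singleton_subset_iff.2 hu)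

/-- the product formula for `H ⊔ N` when `H` normalizes `N`. -/
theorem card_sup_mul_card_inf {H N : Subgroup G} (h : H ≤ Subgroup.normalizer (N : Set G)) :
    Nat.card (H ⊔ N : Subgroup G) * Nat.card (H ⊓ N : Subgroup G) = Nat.card H * Nat.card N := by
  have := Subgroup.normal_subgroupOf_of_le_normalizer h
  have := Subgroup.normal_subgroupOf_sup_of_le_normalizer h
  have h0 : N.relIndex (H ⊔ N) = N.relIndex H := by
    unfold Subgroup.relIndex Subgroup.index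
    exact (Nat.card_congr (QuotientGroup.quotientInfEquivProdNormalizerQuotient H N h).toEquiv).symm
  have h1 : Nat.card N * N.relIndex (H ⊔ N) = Nat.card (H ⊔ N : Subgroup G) :=
    SylIn.card_mul_relIndex le_sup_right
  have h2 : Nat.card (H ⊓ N : Subgroup G) * (H ⊓ N).relIndex H = Nat.card H :=
    SylIn.card_mul_relIndex inf_le_left
  have h3 : (H ⊓ N).relIndex H = N.relIndex H := by
    rw [inf_comm]; exact Subgroup.inf_relIndex_right N H
  rw [← h1, ← h2, h0, h3]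
  ring

theorem centralizer_sup_eq (H K : Subgroup G) :
    Subgroup.centralizer ((H ⊔ K : Subgroup G) : Set G) =
      Subgroup.centralizer (H : Set G) ⊓ Subgroup.centralizer (K : Set G) := by
  apply le_antisymm
  · exact le_inf (centralizer_anti le_sup_left) (centralizer_anti le_sup_right)
  · intro x hx
    have h1 : H ≤ Subgroup.centralizer ((Subgroup.zpowers x : Subgroup G) : Set G) := by
      rw [Subgroup.le_centralizer_iff, Subgroup.zpowers_le]; exact hx.1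
    have h2 : K ≤ Subgroup.centralizer ((Subgroup.zpowers x : Subgroup G) : Set G) := by
      rw [Subgroup.le_centralizer_iff, Subgroup.zpowers_le]; exact hx.2
    have h3 := sup_le h1 h2
    rw [Subgroup.le_centralizer_iff, Subgroup.zpowers_le] at h3
    exact h3

theorem centralizer_zpowers_eq (x : G) :
    Subgroup.centralizer ((Subgroup.zpowers x : Subgroup G) : Set G) =
      Subgroup.centralizer ({x} : Set G) := by
  rw [Subgroup.zpowers_eq_closure, Subgroup.centralizer_closure]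

/-- two subgroups of the same order, one not contained in the other -/
theorem exists_mem_not_mem_of_card_le {B C : Subgroup G} (hne : B ≠ C)
    (hcard : Nat.card C ≤ Nat.card B) : ∃ b ∈ B, b ∉ C := by
  by_contra hcon
  push Not at hcon
  have hBC : B ≤ C := hcon
  exact hne (Subgroup.eq_of_le_of_card_ge hBC hcard)

/-! ### points and lines of an elementary abelian group of order `p ^ 3` -/

namespace E3

variable {p : ℕ} [hp : Fact p.Prime] {E : Subgroup G}

theorem le_centralizer (hEe : IsElementaryAbelian p E) {B C : Subgroup G} (hB : B ≤ E)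
    (hC : C ≤ E) : B ≤ Subgroup.centralizer (C : Set G) := by
  intro b hb
  refine Subgroup.mem_centralizer_iff.2 ?_
  intro c hc
  exact congrArg Subtype.val (hEe.1.is_comm.comm ⟨c, hC hc⟩ ⟨b, hB hb⟩)

theorem le_normalizer (hEe : IsElementaryAbelian p E) {B C : Subgroup G} (hB : B ≤ E)
    (hC : C ≤ E) : B ≤ Subgroup.normalizer (C : Set G) :=
  (le_centralizer hEe hB hC).trans (Subgroup.centralizer_le_normalizer _)

theorem eq_or_eq_of_le (hEc : Nat.card E = p ^ 3) {B C : Subgroup G} (hB : Nat.card B = p ^ 2)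
    (hBC : B ≤ C) (hCE : C ≤ E) : C = B ∨ C = E := by
  have hpp : p.Prime := hp.out
  have h1 : Nat.card C ∣ p ^ 3 := hEc ▸ Subgroup.card_dvd_of_le hCE
  have h2 : p ^ 2 ∣ Nat.card C := hB ▸ Subgroup.card_dvd_of_le hBC
  obtain ⟨k, hk3, hk⟩ := (Nat.dvd_prime_pow hpp).1 h1
  rw [hk] at h2
  have hk2 : 2 ≤ k := (Nat.pow_dvd_pow_iff_le_right hpp.one_lt).1 h2
  have hk' : k = 2 ∨ k = 3 := by omega
  rcases hk' with rfl | rfl
  · left
    exact (Subgroup.eq_of_le_of_card_ge hBC (by rw [hk, hB])).symm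
  · right
    exact Subgroup.eq_of_le_of_card_ge hCE (by rw [hk, hEc])

theorem sup_eq_of_ne (hEc : Nat.card E = p ^ 3) {B₁ B₂ : Subgroup G} (h₁ : B₁ ≤ E) (h₂ : B₂ ≤ E)
    (hc₁ : Nat.card B₁ = p ^ 2) (hc₂ : Nat.card B₂ = p ^ 2) (hne : B₁ ≠ B₂) : B₁ ⊔ B₂ = E := by
  rcases eq_or_eq_of_le hEc hc₁ (le_sup_left : B₁ ≤ B₁ ⊔ B₂) (sup_le h₁ h₂) with h | h
  · exfalso
    have h21 : B₂ ≤ B₁ := by rw [← h]; exact le_sup_right
    exact hne (Subgroup.eq_of_le_of_card_ge h21 (by rw [hc₁, hc₂])).symm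
  · exact h

theorem card_inf_of_ne (hEe : IsElementaryAbelian p E) (hEc : Nat.card E = p ^ 3)
    {B₁ B₂ : Subgroup G} (h₁ : B₁ ≤ E) (h₂ : B₂ ≤ E)
    (hc₁ : Nat.card B₁ = p ^ 2) (hc₂ : Nat.card B₂ = p ^ 2) (hne : B₁ ≠ B₂) :
    Nat.card (B₁ ⊓ B₂ : Subgroup G) = p := by
  have hpp : p.Prime := hp.out
  have h := card_sup_mul_card_inf (le_normalizer hEe h₁ h₂)
  rw [sup_eq_of_ne hEc h₁ h₂ hc₁ hc₂ hne, hEc, hc₁, hc₂] at h
  have h3 : p ^ 3 * Nat.card (B₁ ⊓ B₂ : Subgroup G) = p ^ 3 * p := by rw [h]; ring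
  exact Nat.eq_of_mul_eq_mul_left (pow_pos hpp.pos 3) h3

theorem orderOf_eq (hEe : IsElementaryAbelian p E) {x : G} (hx : x ∈ E) (hx1 : x ≠ 1) :
    orderOf x = p :=
  orderOf_eq_prime (hEe.2 x hx) hx1

theorem card_zpowers (hEe : IsElementaryAbelian p E) {x : G} (hx : x ∈ E) (hx1 : x ≠ 1) :
    Nat.card (Subgroup.zpowers x) = p := by
  rw [Nat.card_zpowers, orderOf_eq hEe hx hx1]

theorem zpowers_eq_of_mem (hEe : IsElementaryAbelian p E) {x y : G} (hx : x ∈ E)
    (hy : y ∈ Subgroup.zpowers x) (hy1 : y ≠ 1) : Subgroup.zpowers y = Subgroup.zpowers x := by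
  have hx1 : x ≠ 1 := by
    rintro rfl
    rw [Subgroup.zpowers_one_eq_bot, Subgroup.mem_bot] at hy
    exact hy1 hy
  have hyE : y ∈ E := (Subgroup.zpowers_le.2 hx) hy
  apply Subgroup.eq_of_le_of_card_ge (Subgroup.zpowers_le.2 hy)
  rw [card_zpowers hEe hx hx1, card_zpowers hEe hyE hy1]

theorem mem_zpowers_of_mem (hEe : IsElementaryAbelian p E) {x y : G} (hx : x ∈ E)
    (hy : y ∈ Subgroup.zpowers x) (hy1 : y ≠ 1) : x ∈ Subgroup.zpowers y := by
  rw [zpowers_eq_of_mem hEe hx hy hy1]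
  exact Subgroup.mem_zpowers x

theorem inf_eq_zpowers (hEe : IsElementaryAbelian p E) (hEc : Nat.card E = p ^ 3)
    {B₁ B₂ : Subgroup G} (h₁ : B₁ ≤ E) (h₂ : B₂ ≤ E)
    (hc₁ : Nat.card B₁ = p ^ 2) (hc₂ : Nat.card B₂ = p ^ 2) (hne : B₁ ≠ B₂) {z : G}
    (hz₁ : z ∈ B₁) (hz₂ : z ∈ B₂) (hz1 : z ≠ 1) : B₁ ⊓ B₂ = Subgroup.zpowers z := by
  symm
  apply Subgroup.eq_of_le_of_card_ge (Subgroup.zpowers_le.2 (Subgroup.mem_inf.2 ⟨hz₁, hz₂⟩))
  rw [card_inf_of_ne hEe hEc h₁ h₂ hc₁ hc₂ hne, card_zpowers hEe (h₁ hz₁) hz1]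

theorem zpowers_inf_zpowers (hEe : IsElementaryAbelian p E) {z b : G} (hz : z ∈ E) (hb : b ∈ E)
    (hbz : b ∉ Subgroup.zpowers z) : Subgroup.zpowers z ⊓ Subgroup.zpowers b = ⊥ := by
  rw [eq_bot_iff]
  intro y hy
  rw [Subgroup.mem_bot]
  by_contra hy1
  exact hbz (hy.1 |> fun h => (Subgroup.zpowers_le.2 h) (mem_zpowers_of_mem hEe hb hy.2 hy1))

theorem card_sup_zpowers (hEe : IsElementaryAbelian p E) {z b : G} (hz : z ∈ E) (hb : b ∈ E)
    (hz1 : z ≠ 1) (hbz : b ∉ Subgroup.zpowers z) :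
    Nat.card (Subgroup.zpowers z ⊔ Subgroup.zpowers b : Subgroup G) = p ^ 2 := by
  have hb1 : b ≠ 1 := by
    rintro rfl
    exact hbz (Subgroup.one_mem _)
  have h := card_sup_mul_card_inf
    (le_normalizer hEe (Subgroup.zpowers_le.2 hz) (Subgroup.zpowers_le.2 hb))
  rw [zpowers_inf_zpowers hEe hz hb hbz, Subgroup.card_bot, mul_one, card_zpowers hEe hz hz1,
    card_zpowers hEe hb hb1] at h
  rw [h, pow_two]

theorem eq_sup_zpowers (hEe : IsElementaryAbelian p E) {B : Subgroup G} (hBE : B ≤ E)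
    (hB : Nat.card B = p ^ 2) {z b : G} (hz : z ∈ B) (hb : b ∈ B)
    (hz1 : z ≠ 1) (hbz : b ∉ Subgroup.zpowers z) :
    B = Subgroup.zpowers z ⊔ Subgroup.zpowers b := by
  symm
  apply Subgroup.eq_of_le_of_card_ge (sup_le (Subgroup.zpowers_le.2 hz) (Subgroup.zpowers_le.2 hb))
  rw [card_sup_zpowers hEe (hBE hz) (hBE hb) hz1 hbz, hB]

/-- the centralizer of the line through `z` and `b`. -/
theorem centralizer_eq (hEe : IsElementaryAbelian p E) {B : Subgroup G} (hBE : B ≤ E)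
    (hB : Nat.card B = p ^ 2) {z b : G} (hz : z ∈ B) (hb : b ∈ B)
    (hz1 : z ≠ 1) (hbz : b ∉ Subgroup.zpowers z) :
    Subgroup.centralizer (B : Set G) =
      Subgroup.centralizer ({z} : Set G) ⊓ Subgroup.centralizer ({b} : Set G) := by
  conv_lhs => rw [eq_sup_zpowers hEe hBE hB hz hb hz1 hbz]
  rw [centralizer_sup_eq, centralizer_zpowers_eq, centralizer_zpowers_eq]

/-- through a point on two distinct lines there pass two further lines (`p` odd). -/
theorem exists_two_lines (hp2 : p ≠ 2) (hEe : IsElementaryAbelian p E) (hEc : Nat.card E = p ^ 3)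
    {ℓ₁ ℓ₂ : Subgroup G} (h₁ : ℓ₁ ≤ E) (h₂ : ℓ₂ ≤ E)
    (hc₁ : Nat.card ℓ₁ = p ^ 2) (hc₂ : Nat.card ℓ₂ = p ^ 2) (hne : ℓ₁ ≠ ℓ₂) {z : G}
    (hz₁ : z ∈ ℓ₁) (hz₂ : z ∈ ℓ₂) (hz1 : z ≠ 1) :
    ∃ m m' : Subgroup G, m ≤ E ∧ m' ≤ E ∧ Nat.card m = p ^ 2 ∧ Nat.card m' = p ^ 2 ∧
      z ∈ m ∧ z ∈ m' ∧ m ≠ m' ∧ m ≠ ℓ₁ ∧ m ≠ ℓ₂ ∧ m' ≠ ℓ₁ ∧ m' ≠ ℓ₂ := by
  have hpp : p.Prime := hp.out
  have hinf := inf_eq_zpowers hEe hEc h₁ h₂ hc₁ hc₂ hne hz₁ hz₂ hz1
  obtain ⟨a, ha₁, ha₂⟩ := exists_mem_not_mem_of_card_le hne (by rw [hc₁, hc₂])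
  obtain ⟨b, hb₂, hb₁⟩ := exists_mem_not_mem_of_card_le hne.symm (by rw [hc₁, hc₂])
  have hzE : z ∈ E := h₁ hz₁
  have haE : a ∈ E := h₁ ha₁
  have hbE : b ∈ E := h₂ hb₂
  have hz1' : Subgroup.zpowers z ≤ ℓ₁ := Subgroup.zpowers_le.2 hz₁
  have hz2' : Subgroup.zpowers z ≤ ℓ₂ := Subgroup.zpowers_le.2 hz₂
  -- `b` from `b * b`
  obtain ⟨k, hk⟩ : ∃ k, p + 1 = 2 * k := by
    rcases hpp.eq_two_or_odd' with h | h
    · exact absurd h hp2
    · obtain ⟨j, hj⟩ := h
      exact ⟨j + 1, by omega⟩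
  have hbb : (b * b) ^ k = b := by
    rw [← pow_two, ← pow_mul, ← hk, pow_succ, hEe.2 b hbE, one_mul]
  have hab₁ : a * b ∉ ℓ₁ := fun h => hb₁ (by
    have := ℓ₁.mul_mem (ℓ₁.inv_mem ha₁) h
    rwa [inv_mul_cancel_left] at this)
  have hab₂ : a * b ∉ ℓ₂ := fun h => ha₂ (by
    have := ℓ₂.mul_mem h (ℓ₂.inv_mem hb₂)
    rwa [mul_inv_cancel_right] at this)
  have habb₁ : a * b * b ∉ ℓ₁ := fun h => hb₁ (by
    have h' : b * b ∈ ℓ₁ := by
      have := ℓ₁.mul_mem (ℓ₁.inv_mem ha₁) h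
      rwa [mul_assoc, inv_mul_cancel_left] at this
    rw [← hbb]
    exact ℓ₁.pow_mem h' k)
  have habb₂ : a * b * b ∉ ℓ₂ := fun h => ha₂ (by
    have := ℓ₂.mul_mem (ℓ₂.mul_mem h (ℓ₂.inv_mem hb₂)) (ℓ₂.inv_mem hb₂)
    rwa [mul_inv_cancel_right, mul_inv_cancel_right] at this)
  have habE : a * b ∈ E := E.mul_mem haE hbE
  have habbE : a * b * b ∈ E := E.mul_mem habE hbE
  have habz : a * b ∉ Subgroup.zpowers z := fun h => hab₁ (hz1' h)
  have habbz : a * b * b ∉ Subgroup.zpowers z := fun h => habb₁ (hz1' h)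
  have haz : a ∉ Subgroup.zpowers z := fun h => ha₂ (hz2' h)
  set m := Subgroup.zpowers z ⊔ Subgroup.zpowers (a * b) with hm
  set m' := Subgroup.zpowers z ⊔ Subgroup.zpowers (a * b * b) with hm'
  have hmE : m ≤ E := sup_le (Subgroup.zpowers_le.2 hzE) (Subgroup.zpowers_le.2 habE)
  have hm'E : m' ≤ E := sup_le (Subgroup.zpowers_le.2 hzE) (Subgroup.zpowers_le.2 habbE)
  have hmc : Nat.card m = p ^ 2 := card_sup_zpowers hEe hzE habE hz1 habz
  have hm'c : Nat.card m' = p ^ 2 := card_sup_zpowers hEe hzE habbE hz1 habbz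
  have hzm : z ∈ m := (le_sup_left : Subgroup.zpowers z ≤ m) (Subgroup.mem_zpowers z)
  have hzm' : z ∈ m' := (le_sup_left : Subgroup.zpowers z ≤ m') (Subgroup.mem_zpowers z)
  have habm : a * b ∈ m := (le_sup_right : Subgroup.zpowers (a * b) ≤ m) (Subgroup.mem_zpowers _)
  have habbm' : a * b * b ∈ m' :=
    (le_sup_right : Subgroup.zpowers (a * b * b) ≤ m') (Subgroup.mem_zpowers _)
  have hm1 : m ≠ ℓ₁ := fun h => hab₁ (h ▸ habm)
  refine ⟨m, m', hmE, hm'E, hmc, hm'c, hzm, hzm', ?_, hm1, fun h => hab₂ (h ▸ habm),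
    fun h => habb₁ (h ▸ habbm'), fun h => habb₂ (h ▸ habbm')⟩
  intro hmm
  have habbm : a * b * b ∈ m := hmm ▸ habbm'
  have hbm : b ∈ m := by
    have := m.mul_mem (m.inv_mem habm) habbm
    rwa [inv_mul_cancel_left] at this
  have ham : a ∈ m := by
    have := m.mul_mem habm (m.inv_mem hbm)
    rwa [mul_inv_cancel_right] at this
  have h3 := inf_eq_zpowers hEe hEc hmE h₁ hmc hc₁ hm1 hzm hz₁ hz1
  apply haz
  rw [← h3]
  exact ⟨ham, ha₁⟩

/-- a subgroup of order at least `p ^ 2` of `E` contains a subgroup of order exactly `p ^ 2`. -/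
theorem exists_line_le (hEe : IsElementaryAbelian p E) {C : Subgroup G} (hCE : C ≤ E)
    (hC : p ^ 2 ≤ Nat.card C) : ∃ B : Subgroup G, B ≤ C ∧ Nat.card B = p ^ 2 := by
  have hpp : p.Prime := hp.out
  have hCp : IsPGroup p C := (isPGroup_of_elemAb hEe).to_le hCE
  obtain ⟨k, hk⟩ := IsPGroup.iff_card.1 hCp
  have hk2 : 2 ≤ k := by
    rw [hk] at hC
    exact (Nat.pow_le_pow_iff_right hpp.one_lt).1 hC
  obtain ⟨B', hB'⟩ := Sylow.exists_subgroup_card_pow_prime p (G := ↥C) (n := 2)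
    (by rw [hk]; exact pow_dvd_pow p hk2)
  refine ⟨B'.map C.subtype, Subgroup.map_subtype_le B', ?_⟩
  rw [← hB']
  exact (Nat.card_congr (B'.equivMapOfInjective C.subtype C.subtype_injective).toEquiv).symm

end E3

/-! ### actions on groups of prime order -/

section PrimeOrder

variable {p : ℕ} [hp : Fact p.Prime]

theorem zpowers_eq_of_card_prime {s : ℕ} (hs : s.Prime) {U : Subgroup G} (hU : Nat.card U = s)
    {u : G} (hu : u ∈ U) (hu1 : u ≠ 1) : Subgroup.zpowers u = U := by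
  apply Subgroup.eq_of_le_of_card_ge (Subgroup.zpowers_le.2 hu)
  rw [Nat.card_zpowers, hU]
  have h1 : orderOf u ∣ s := by
    have := orderOf_dvd_natCard (⟨u, hu⟩ : U)
    rwa [hU, Subgroup.orderOf_mk] at this
  rcases (Nat.dvd_prime hs).1 h1 with h | h
  · exact absurd (orderOf_eq_one_iff.1 h) hu1
  · exact le_of_eq h.symm

theorem eq_bot_or_eq_of_le_of_card_prime {s : ℕ} (hs : s.Prime) {U V : Subgroup G}
    (hU : Nat.card U = s) (hVU : V ≤ U) : V = ⊥ ∨ V = U := by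
  by_cases hV : V = ⊥
  · exact Or.inl hV
  · right
    obtain ⟨⟨v, hv⟩, hv1'⟩ := (Subgroup.ne_bot_iff_exists_ne_one).1 hV
    have hv1 : v ≠ 1 := fun h => hv1' (Subtype.ext h)
    apply le_antisymm hVU
    rw [← zpowers_eq_of_card_prime hs hU (hVU hv) hv1]
    exact Subgroup.zpowers_le.2 hv

theorem isCyclic_of_card_prime' {s : ℕ} (hs : s.Prime) {U : Subgroup G} (hU : Nat.card U = s) :
    IsCyclic U := by
  haveI : Fact s.Prime := ⟨hs⟩
  exact isCyclic_of_prime_card hU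

/-- an elementary abelian `p`-group normalizing a group of prime order induces a group of
automorphisms of order dividing `p`. -/
theorem relIndex_centralizer_dvd_of_card_prime {s : ℕ} (hs : s.Prime) {U E : Subgroup G}
    (hU : Nat.card U = s) (hEp : ∀ e ∈ E, e ^ p = 1)
    (hEU : E ≤ Subgroup.normalizer (U : Set G)) :
    (Subgroup.centralizer (U : Set G)).relIndex E ∣ p := by
  have hpp : p.Prime := hp.out
  set ρ := Cfsg.Agent.Lib.H1.conjAutHom hEU with hρ
  have hker : ρ.ker = (Subgroup.centralizer (U : Set G)).subgroupOf E := by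
    ext e
    rw [MonoidHom.mem_ker, Subgroup.mem_subgroupOf]
    constructor
    · intro h
      refine Subgroup.mem_centralizer_iff.2 ?_
      intro u hu
      have h1 := congrArg (fun β : MulAut ↥U => ((β ⟨u, hu⟩ : ↥U) : G)) h
      simp only [MulAut.one_apply] at h1
      have h2 : (e : G) * u * (e : G)⁻¹ = u := h1
      calc u * (e : G) = ((e : G) * u * (e : G)⁻¹) * (e : G) := by rw [h2]
        _ = (e : G) * u := by group
    · intro h
      ext ⟨u, hu⟩
      rw [Cfsg.Agent.Lib.H1.conjAutHom_apply, MulAut.one_apply]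
      have := Subgroup.mem_centralizer_iff.1 h u hu
      show (e : G) * u * (e : G)⁻¹ = u
      rw [← this]; group
  have hidx : (Subgroup.centralizer (U : Set G)).relIndex E = Nat.card ρ.range := by
    rw [← Subgroup.index_ker, hker]; rfl
  rw [hidx]
  -- `MulAut U` is cyclic
  haveI : Fact (Nat.card ↥U).Prime := ⟨hU ▸ hs⟩
  haveI : IsCyclic ↥U := isCyclic_of_card_prime' hs hU
  haveI : IsCyclic (MulAut ↥U) :=
    isCyclic_of_surjective (IsCyclic.mulAutMulEquiv ↥U).symm.toMonoidHom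
      (IsCyclic.mulAutMulEquiv ↥U).symm.surjective
  haveI : IsCyclic ρ.range := Subgroup.isCyclic _
  obtain ⟨g, hg⟩ := IsCyclic.exists_generator (α := ρ.range)
  rw [← orderOf_eq_card_of_forall_mem_zpowers hg]
  apply orderOf_dvd_of_pow_eq_one
  obtain ⟨e, he⟩ := g.2
  apply Subtype.ext
  rw [Subgroup.coe_pow, ← he, ← map_pow]
  have : e ^ p = 1 := Subtype.ext (by rw [Subgroup.coe_pow]; exact hEp e e.2)
  rw [this, map_one]; rfl

/-- elements normalizing a cyclic group act on it by powers. -/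
theorem exists_zpow_of_mem_normalizer {W : Subgroup G} (hW : IsCyclic W) {x : G}
    (hx : x ∈ Subgroup.normalizer (W : Set G)) : ∃ m : ℤ, ∀ w ∈ W, x * w * x⁻¹ = w ^ m := by
  have hle : Subgroup.zpowers x ≤ Subgroup.normalizer (W : Set G) := Subgroup.zpowers_le.2 hx
  obtain ⟨m, hm⟩ := MonoidHom.map_cyclic
    ((Cfsg.Agent.Lib.H1.conjAutHom hle ⟨x, Subgroup.mem_zpowers x⟩ : MulAut ↥W).toMonoidHom)
  refine ⟨m, fun w hw => ?_⟩
  have := congrArg Subtype.val (hm ⟨w, hw⟩)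
  rw [Subgroup.coe_zpow] at this
  exact this

theorem commutator_mem_centralizer_of_cyclic {W : Subgroup G} (hW : IsCyclic W) {x y : G}
    (hx : x ∈ Subgroup.normalizer (W : Set G)) (hy : y ∈ Subgroup.normalizer (W : Set G)) :
    ⁅x, y⁆ ∈ Subgroup.centralizer (W : Set G) := by
  obtain ⟨m, hm⟩ := exists_zpow_of_mem_normalizer hW (Subgroup.inv_mem _ hx)
  obtain ⟨n, hn⟩ := exists_zpow_of_mem_normalizer hW (Subgroup.inv_mem _ hy)
  refine Subgroup.mem_centralizer_iff.2 ?_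
  intro w hw
  have h1 : x⁻¹ * (y⁻¹ * w * y⁻¹⁻¹) * x⁻¹⁻¹ = (w ^ n) ^ m := by
    rw [hn w hw, hm _ (W.zpow_mem hw n)]
  have h2 : y⁻¹ * (x⁻¹ * w * x⁻¹⁻¹) * y⁻¹⁻¹ = (w ^ m) ^ n := by
    rw [hm w hw, hn _ (W.zpow_mem hw m)]
  have h3 : (w ^ n) ^ m = (w ^ m) ^ n := by rw [← zpow_mul, ← zpow_mul, mul_comm]
  have h4 : x⁻¹ * (y⁻¹ * w * y⁻¹⁻¹) * x⁻¹⁻¹ = y⁻¹ * (x⁻¹ * w * x⁻¹⁻¹) * y⁻¹⁻¹ := by
    rw [h1, h2, h3]
  rw [commutatorElement_def]
  calc w * (x * y * x⁻¹ * y⁻¹) = x * y * (y⁻¹ * (x⁻¹ * w * x⁻¹⁻¹) * y⁻¹⁻¹) * x⁻¹ * y⁻¹ := by group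
    _ = x * y * (x⁻¹ * (y⁻¹ * w * y⁻¹⁻¹) * x⁻¹⁻¹) * x⁻¹ * y⁻¹ := by rw [h4]
    _ = x * y * x⁻¹ * y⁻¹ * w := by group

/-- a group of prime order on which `E` acts nontrivially is generated by a commutator. -/
theorem exists_commutator_generator {s : ℕ} (hs : s.Prime) {U E : Subgroup G}
    (hU : Nat.card U = s) (hEU : E ≤ Subgroup.normalizer (U : Set G))
    (hne : ¬ E ≤ Subgroup.centralizer (U : Set G)) :
    ∃ e ∈ E, ∃ u ∈ U, Subgroup.zpowers ⁅e, u⁆ = U := by
  obtain ⟨e, he, heC⟩ := Set.not_subset.1 hne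
  have : ∃ u ∈ U, u * e ≠ e * u := by
    by_contra hcon
    push Not at hcon
    exact heC (Subgroup.mem_centralizer_iff.2 hcon)
  obtain ⟨u, hu, hue⟩ := this
  refine ⟨e, he, u, hu, ?_⟩
  apply zpowers_eq_of_card_prime hs hU
  · rw [commutatorElement_def]
    exact U.mul_mem ((Subgroup.mem_normalizer_iff.1 (hEU he) u).1 hu) (U.inv_mem hu)
  · intro h
    apply hue
    rw [commutatorElement_def] at h
    have : e * u = u * e := by
      calc e * u = (e * u * e⁻¹ * u⁻¹) * u * e := by group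
        _ = u * e := by rw [h, one_mul]
    exact this.symm

theorem le_commutator_of_not_le_centralizer {s : ℕ} (hs : s.Prime) {U E K : Subgroup G}
    (hU : Nat.card U = s) (hEU : E ≤ Subgroup.normalizer (U : Set G))
    (hne : ¬ E ≤ Subgroup.centralizer (U : Set G)) (hEK : E ≤ K) (hUK : U ≤ K) :
    U ≤ ⁅K, K⁆ := by
  obtain ⟨e, he, u, hu, hgen⟩ := exists_commutator_generator hs hU hEU hne
  rw [← hgen, Subgroup.zpowers_le]
  exact Subgroup.commutator_mem_commutator (hEK he) (hUK hu)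

theorem le_centralizer_of_cyclic_of_not_le_centralizer {s : ℕ} (hs : s.Prime)
    {U E W : Subgroup G} (hU : Nat.card U = s) (hEU : E ≤ Subgroup.normalizer (U : Set G))
    (hne : ¬ E ≤ Subgroup.centralizer (U : Set G)) (hW : IsCyclic W)
    (hEW : E ≤ Subgroup.normalizer (W : Set G)) (hUW : U ≤ Subgroup.normalizer (W : Set G)) :
    U ≤ Subgroup.centralizer (W : Set G) := by
  obtain ⟨e, he, u, hu, hgen⟩ := exists_commutator_generator hs hU hEU hne
  rw [← hgen, Subgroup.zpowers_le]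
  exact commutator_mem_centralizer_of_cyclic hW (hEW he) (hUW hu)

/-- fixed-point-freeness of an element of order `p` not centralizing a group of prime order. -/
theorem fpf_of_not_mem_centralizer {s : ℕ} (hs : s.Prime) {U : Subgroup G}
    (hU : Nat.card U = s) {e' : G} (he'p : e' ^ p = 1)
    (he' : e' ∉ Subgroup.centralizer (U : Set G)) :
    ∀ e ∈ Subgroup.zpowers e', e ≠ 1 → ∀ u ∈ U, e * u = u * e → u = 1 := by
  have hpp : p.Prime := hp.out
  intro e he he1 u hu heu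
  by_contra hu1
  apply he'
  have hUz := zpowers_eq_of_card_prime hs hU hu hu1
  have heC : e ∈ Subgroup.centralizer (U : Set G) := by
    rw [← hUz, centralizer_zpowers_eq, Subgroup.mem_centralizer_singleton_iff]
    exact heu
  have he'1 : e' ≠ 1 := by
    rintro rfl
    exact he' (Subgroup.one_mem _)
  have hcard : Nat.card (Subgroup.zpowers e') = p := by
    rw [Nat.card_zpowers]; exact orderOf_eq_prime he'p he'1
  have := zpowers_eq_of_card_prime hpp hcard he he1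
  have h2 : e' ∈ Subgroup.zpowers e := by rw [this]; exact Subgroup.mem_zpowers e'
  exact (Subgroup.zpowers_le.2 heC) h2

end PrimeOrder

/-! ### coprime generation -/

section Generation

variable {p : ℕ} [hp : Fact p.Prime]

theorem le_of_forall_centralizer_le {E' X K : Subgroup G} (hEe : IsElementaryAbelian p E')
    (hEc : p ^ 2 ≤ Nat.card E') (hXp : (Nat.card X).Coprime p)
    (hEX : E' ≤ Subgroup.normalizer (X : Set G))
    (h : ∀ y ∈ E', y ≠ 1 → X ⊓ Subgroup.centralizer ({y} : Set G) ≤ K) : X ≤ K := by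
  have hpp : p.Prime := hp.out
  have hcomm : ∀ a ∈ E', ∀ b ∈ E', a * b = b * a := fun a ha b hb =>
    congrArg Subtype.val (hEe.1.is_comm.comm ⟨a, ha⟩ ⟨b, hb⟩)
  refine (Cfsg.Agent.Lib.H7.le_hypGen p hcomm hEe.2 hXp hEX).trans ?_
  apply iSup_le
  rintro ⟨B, hBE, hBi⟩
  have hcard : Nat.card B * B.relIndex E' = Nat.card E' := SylIn.card_mul_relIndex hBE
  have hB1 : B ≠ ⊥ := by
    rintro rfl
    rw [Subgroup.card_bot, one_mul] at hcard
    have : p < p ^ 2 := by nlinarith [hpp.one_lt]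
    omega
  obtain ⟨⟨y, hy⟩, hy1'⟩ := (Subgroup.ne_bot_iff_exists_ne_one).1 hB1
  have hy1 : y ≠ 1 := fun h => hy1' (Subtype.ext h)
  refine le_trans ?_ (h y (hBE hy) hy1)
  exact inf_le_inf_left _ (Subgroup.centralizer_le (Set.singleton_subset_iff.2 hy))

theorem le_of_forall_line_le {E X K : Subgroup G} (hEe : IsElementaryAbelian p E)
    (hEc : Nat.card E = p ^ 3) (hXp : (Nat.card X).Coprime p)
    (hEX : E ≤ Subgroup.normalizer (X : Set G))
    (h : ∀ B : Subgroup G, B ≤ E → Nat.card B = p ^ 2 →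
      X ⊓ Subgroup.centralizer (B : Set G) ≤ K) : X ≤ K := by
  have hpp : p.Prime := hp.out
  have hcomm : ∀ a ∈ E, ∀ b ∈ E, a * b = b * a := fun a ha b hb =>
    congrArg Subtype.val (hEe.1.is_comm.comm ⟨a, ha⟩ ⟨b, hb⟩)
  refine (Cfsg.Agent.Lib.H7.le_hypGen p hcomm hEe.2 hXp hEX).trans ?_
  apply iSup_le
  rintro ⟨B, hBE, hBi⟩
  have hcard : Nat.card B * B.relIndex E = Nat.card E := SylIn.card_mul_relIndex hBE
  have hB2 : p ^ 2 ≤ Nat.card B := by
    by_contra hlt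
    push Not at hlt
    have h1 : Nat.card B * B.relIndex E < p ^ 2 * p := by
      calc Nat.card B * B.relIndex E ≤ Nat.card B * p := Nat.mul_le_mul_left _ hBi
        _ < p ^ 2 * p := Nat.mul_lt_mul_of_pos_right hlt hpp.pos
    rw [hcard, hEc] at h1
    have : p ^ 2 * p = p ^ 3 := by ring
    omega
  obtain ⟨B', hB'B, hB'c⟩ := E3.exists_line_le hEe hBE hB2
  refine le_trans ?_ (h B' (hB'B.trans hBE) hB'c)
  exact inf_le_inf_left _ (centralizer_anti hB'B)

end Generation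

end Cfsg.Agent.Lib.H16.BG
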