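import Mathlib
import Cfsg.Agent.Lib.H16.BGp

/-! # Bender–Glauberman Lemma 9.5: the standing context (helper16)

`Ctx p A E`: `G` minimal simple of odd order, `A` an abelian `p`-subgroup satisfying the
transitivity hypothesis, `E ≤ A` elementary abelian of order `p ^ 3`, and (for a contradiction)
`A ∉ 𝓤`.  `Big A H s`: a maximal subgroup `H ≥ A` with `r_s(F(H)) ≥ 3`. -/

set_option autoImplicit false
set_option linter.unusedSectionVars false
set_option linter.unusedVariables false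

namespace Cfsg.Agent.Lib.H16.BG

open Cfsg Cfsg.Agent.Lib.H7.BG7
open Cfsg.Agent.Lib.H19 (IsPiCard)
open scoped commutatorElement

variable {G : Type*} [Group G] [Finite G] {p : ℕ} [hp : Fact p.Prime]

/-- the standing hypotheses of the proof of BG Lemma 9.5. -/
structure Ctx (p : ℕ) (A E : Subgroup G) : Prop where
  hG : IsMinSimpleOddOrder G
  hAp : IsPGroup p A
  hAc : IsMulCommutative A
  hTH : TransitivityHypothesis A
  hEA : E ≤ A
  hEe : IsElementaryAbelian p E
  hEc : Nat.card E = p ^ 3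
  hAU : ¬ InUniqueMaximal A

/-- `θ(x) = O_{p'}(C_G(x))`. -/
abbrev th (p : ℕ) (x : G) : Subgroup G :=
  piCoreOf (primesNotDvd p) (Subgroup.centralizer ({x} : Set G))

namespace Ctx

variable {A E : Subgroup G}

theorem A_ne_bot (c : Ctx p A E) : A ≠ ⊥ := c.hTH.1

theorem A_ne_top (c : Ctx p A E) : A ≠ ⊤ := c.hTH.2.1

theorem comm (c : Ctx p A E) : ∀ a ∈ A, ∀ b ∈ A, a * b = b * a := fun a ha b hb =>
  congrArg Subtype.val (c.hAc.is_comm.comm ⟨a, ha⟩ ⟨b, hb⟩)

theorem A_le_centralizer (c : Ctx p A E) {B : Subgroup G} (hB : B ≤ A) :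
    A ≤ Subgroup.centralizer (B : Set G) := by
  intro a ha
  refine Subgroup.mem_centralizer_iff.2 ?_
  intro b hb
  exact c.comm b (hB hb) a ha

theorem A_le_centralizer_singleton (c : Ctx p A E) {x : G} (hx : x ∈ A) :
    A ≤ Subgroup.centralizer ({x} : Set G) := by
  intro a ha
  rw [Subgroup.mem_centralizer_singleton_iff]
  exact c.comm a ha x hx

theorem p_dvd_card (c : Ctx p A E) : p ∣ Nat.card G := by
  have h1 : p ∣ Nat.card E := by rw [c.hEc]; exact dvd_pow_self p (by norm_num)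
  exact h1.trans (Subgroup.card_subgroup_dvd_card E)

theorem hp2 (c : Ctx p A E) : p ≠ 2 := prime_ne_two c.hG c.p_dvd_card

theorem E_ne_bot (c : Ctx p A E) : E ≠ ⊥ := by
  intro h
  have := c.hEc
  rw [h, Subgroup.card_bot] at this
  have h2 : 1 < p ^ 3 := Nat.one_lt_pow (by norm_num) hp.out.one_lt
  omega

theorem not_rank (c : Ctx p A E) : ¬ PRankLE p 2 ↥A := by
  refine not_pRankLE_of_elemAb c.hEA c.hEe ?_
  rw [c.hEc]
  exact Nat.pow_lt_pow_right hp.out.one_lt (by norm_num)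

theorem primes_eq (c : Ctx p A E) : primesNotDvd (Nat.card A) = primesNotDvd p := by
  obtain ⟨k, hk⟩ := IsPGroup.iff_card.1 c.hAp
  have hk0 : k ≠ 0 := by
    rintro rfl
    rw [pow_zero] at hk
    exact c.A_ne_bot (Subgroup.card_eq_one.1 hk)
  ext q
  simp only [primesNotDvd, Set.mem_setOf_eq]
  constructor
  · rintro ⟨hq, hqA⟩
    refine ⟨hq, fun hqp => hqA ?_⟩
    rw [hk]
    exact hqp.trans (dvd_pow_self p hk0)
  · rintro ⟨hq, hqp⟩
    refine ⟨hq, fun hqA => hqp ?_⟩
    rw [hk] at hqA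
    exact hq.dvd_of_dvd_pow hqA

/-- the transitivity hypothesis, in `p'` form. -/
theorem th_le (c : Ctx p A E) {X₀ Y : Subgroup G} (hX : X₀ ≠ ⊤) (hAX : A ≤ X₀) (hYX : Y ≤ X₀)
    (hY : (Nat.card Y).Coprime p) (hAY : A ≤ Subgroup.normalizer (Y : Set G)) :
    Y ≤ piCoreOf (primesNotDvd p) X₀ := by
  rw [← c.primes_eq]
  refine inv_le_core c.hTH hX hAX ⟨hYX, ?_, hAY⟩
  exact (isPiCard_primesNotDvd_card_iff c.hAp c.A_ne_bot Nat.card_pos.ne').2 hY

theorem le_th (c : Ctx p A E) {x : G} (hx : x ∈ A) (hx1 : x ≠ 1) {Y : Subgroup G}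
    (hYx : Y ≤ Subgroup.centralizer ({x} : Set G)) (hY : (Nat.card Y).Coprime p)
    (hAY : A ≤ Subgroup.normalizer (Y : Set G)) : Y ≤ th p x :=
  c.th_le (centralizer_singleton_ne_top c.hG hx1) (c.A_le_centralizer_singleton hx) hYx hY hAY

theorem th_coprime (x : G) : (Nat.card (th p x)).Coprime p :=
  card_piCoreOf_primesNotDvd_coprime p _

theorem th_le_centralizer (x : G) : th p x ≤ Subgroup.centralizer ({x} : Set G) :=
  piCoreOf_le _ _

theorem le_normalizer_th (c : Ctx p A E) {x : G} (hx : x ∈ A) :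
    A ≤ Subgroup.normalizer ((th p x : Subgroup G) : Set G) :=
  (c.A_le_centralizer_singleton hx).trans (le_normalizer_piCoreOf _ _)

/-- Fact 1: a uniqueness subgroup is centralized by at most a point of `E`. -/
theorem fact1 (c : Ctx p A E) {V : Subgroup G} (hV : InUniqueMaximal V) :
    Nat.card (E ⊓ Subgroup.centralizer (V : Set G) : Subgroup G) ≤ p := by
  have hpp : p.Prime := hp.out
  by_contra hlt
  push Not at hlt
  set B := E ⊓ Subgroup.centralizer (V : Set G) with hB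
  have hBe : IsElementaryAbelian p B := isElementaryAbelian_of_le c.hEe inf_le_left
  obtain ⟨k, hk⟩ := IsPGroup.iff_card.1 (isPGroup_of_elemAb hBe)
  have hk2 : 2 ≤ k := by
    by_contra hk2
    have : k ≤ 1 := by omega
    have : p ^ k ≤ p ^ 1 := Nat.pow_le_pow_right hpp.pos this
    rw [pow_one] at this
    omega
  have hB2 : p ^ 2 ≤ Nat.card B := by rw [hk]; exact Nat.pow_le_pow_right hpp.pos hk2
  have hBU : InUniqueMaximal B :=
    inUniqueMaximal_of_le_centralizer c.hG hV inf_le_right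
      (not_rankLE_one_of_elemAb le_rfl hBe hB2)
  exact c.hAU (InUniqueMaximal.mono hBU (inf_le_left.trans c.hEA) c.A_ne_top)

theorem trans (c : Ctx p A E) {q : ℕ} [Fact q.Prime] (hqp : q ≠ p) : Trans A q := by
  intro Q₁ Q₂ h₁ h₂
  have hqA : ¬ q ∣ Nat.card A := by
    intro h
    obtain ⟨k, hk⟩ := IsPGroup.iff_card.1 c.hAp
    rw [hk] at h
    exact hqp ((Nat.prime_dvd_prime_iff_eq Fact.out hp.out).1 (Nat.Prime.dvd_of_dvd_pow Fact.out h))
  exact trans_rank3 c.hG c.hTH (le_inf c.hEA (c.hEA.trans (c.A_le_centralizer le_rfl))) c.hEe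
    (le_of_eq c.hEc.symm) hqA h₁ h₂

theorem KK_eq (c : Ctx p A E) :
    KK A = piCoreOf (primesNotDvd p) (Subgroup.centralizer (A : Set G)) := by
  unfold KK
  rw [c.primes_eq]

end Ctx

/-- a maximal subgroup `H ≥ A` whose Fitting subgroup has `s`-rank at least three. -/
structure Big (A H : Subgroup G) (s : ℕ) : Prop where
  coatom : IsCoatom H
  le : A ≤ H
  prime : s.Prime
  rank : ¬ PRankLE s 2 ↥(fittingOf H)

namespace Big

variable {A E H : Subgroup G} {s : ℕ}

theorem ne (b : Big A H s) (c : Ctx p A E) : s ≠ p := by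
  rintro rfl
  have : Fact s.Prime := ⟨b.prime⟩
  exact c.hAU (inUniqueMaximal_of_fitting_rank_three c.hG b.coatom b.rank c.hAp c.hAc c.not_rank)

/-- Fact 2: proper subgroups of `s`-rank at least three are uniqueness subgroups. -/
theorem fact2 (b : Big A H s) (hG : IsMinSimpleOddOrder G) {R : Subgroup G} (hR : R ≠ ⊤)
    (hr : ¬ PRankLE s 2 ↥R) : InUniqueMaximal R := by
  have : Fact s.Prime := ⟨b.prime⟩
  obtain ⟨F₃, hFR, hFe, hFc⟩ := exists_elemAb_of_not_pRankLE b.prime hr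
  rw [show (2 + 1 : ℕ) = 3 from rfl] at hFc
  have hF3 : ¬ PRankLE s 2 ↥F₃ := by
    refine not_pRankLE_of_elemAb le_rfl hFe ?_
    have : s ^ 2 < s ^ 3 := Nat.pow_lt_pow_right b.prime.one_lt (by norm_num)
    omega
  have hFU : InUniqueMaximal F₃ :=
    inUniqueMaximal_of_fitting_rank_three hG b.coatom b.rank (isPGroup_of_elemAb hFe) hFe.1 hF3
  exact InUniqueMaximal.mono hFU hFR hR

theorem isPGroup_X (b : Big A H s) : IsPGroup s (Fq H s) := by
  have : Fact s.Prime := ⟨b.prime⟩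
  exact isPGroup_Fq H s

theorem X_le (b : Big A H s) : Fq H s ≤ H := (Fq_le H s).trans (fittingOf_le H)

theorem rank_X (b : Big A H s) : ¬ PRankLE s 2 ↥(Fq H s) := by
  have : Fact s.Prime := ⟨b.prime⟩
  intro hr
  obtain ⟨F₃, hFR, hFe, hFc⟩ := exists_elemAb_of_not_pRankLE b.prime b.rank
  have hFX : F₃ ≤ Fq H s :=
    le_piCoreOf_of_nilpotent (fittingOf_isNilpotent H) hFR
      (isPiCard_card_of_isPGroup (Set.mem_singleton s) (isPGroup_of_elemAb hFe))
  refine not_pRankLE_of_elemAb hFX hFe ?_ hr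
  have : s ^ 2 < s ^ 3 := Nat.pow_lt_pow_right b.prime.one_lt (by norm_num)
  rw [show (2 + 1 : ℕ) = 3 from rfl] at hFc
  omega

theorem X_ne_bot (b : Big A H s) : Fq H s ≠ ⊥ := by
  intro h
  apply b.rank_X
  rw [h]
  intro B _ _
  have : Nat.card B = 1 := by
    have : Subsingleton ↥(⊥ : Subgroup G) := inferInstance
    haveI : Subsingleton ↥B := ⟨fun x y => Subtype.ext (Subsingleton.elim (x : ↥(⊥ : Subgroup G)) y)⟩
    exact Nat.card_unique
  rw [this]
  exact Nat.one_le_pow _ _ b.prime.pos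

theorem normalizer_X (b : Big A H s) (hG : IsMinSimpleOddOrder G) :
    Subgroup.normalizer (Fq H s : Set G) = H :=
  normalizer_eq_of_coatom hG b.coatom b.X_le b.X_ne_bot (le_normalizer_Fq H s)

theorem X_ne_top (b : Big A H s) : Fq H s ≠ ⊤ := by
  intro h
  apply b.coatom.1
  rw [eq_top_iff, ← h]
  exact b.X_le

theorem X_unique (b : Big A H s) (hG : IsMinSimpleOddOrder G) : InUniqueMaximal (Fq H s) :=
  b.fact2 hG b.X_ne_top b.rank_X

theorem le_of_X_le (b : Big A H s) (hG : IsMinSimpleOddOrder G) {R : Subgroup G}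
    (hXR : Fq H s ≤ R) (hR : R ≠ ⊤) : R ≤ H :=
  le_of_inUniqueMaximal (b.X_unique hG) b.coatom b.X_le hR hXR

/-- Fact 3: a noncyclic `s`-subgroup whose centralizer has `s`-rank at least three is a
uniqueness subgroup. -/
theorem fact3 (b : Big A H s) (hG : IsMinSimpleOddOrder G) {R : Subgroup G} (hRs : IsPGroup s R)
    (hnc : ¬ IsCyclic R) (hr : ¬ PRankLE s 2 ↥(Subgroup.centralizer (R : Set G))) :
    InUniqueMaximal R := by
  have : Fact s.Prime := ⟨b.prime⟩
  obtain ⟨F₃, hFR, hFe, hFc⟩ := exists_elemAb_of_not_pRankLE b.prime b.rank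
  rw [show (2 + 1 : ℕ) = 3 from rfl] at hFc
  have hF3 : ¬ PRankLE s 2 ↥F₃ := by
    refine not_pRankLE_of_elemAb le_rfl hFe ?_
    have : s ^ 2 < s ^ 3 := Nat.pow_lt_pow_right b.prime.one_lt (by norm_num)
    omega
  have hFU : InUniqueMaximal F₃ :=
    inUniqueMaximal_of_fitting_rank_three hG b.coatom b.rank (isPGroup_of_elemAb hFe) hFe.1 hF3
  exact inUniqueMaximal_of_rank_three hG (isPGroup_of_elemAb hFe) hFe.1 hF3 hFU hRs hnc hr

/-- an `s`-subgroup centralizing `X = O_s(F(H))` and noncyclic is a uniqueness subgroup inside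
`H`. -/
theorem unique_of_le_centralizer_X (b : Big A H s) (hG : IsMinSimpleOddOrder G) {R : Subgroup G}
    (hRs : IsPGroup s R) (hnc : ¬ IsCyclic R)
    (hRX : Fq H s ≤ Subgroup.centralizer (R : Set G)) : InUniqueMaximal R :=
  b.fact3 hG hRs hnc (fun hr => b.rank_X (pRankLE_of_le hRX hr))

end Big

end Cfsg.Agent.Lib.H16.BG
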