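import Mathlib
import Cfsg.Prelude
import Cfsg.Agent.Lib.H16.RankTwoFitC
import Cfsg.Agent.Lib.H1.CharSubgroup
import Cfsg.Agent.Lib.H1.PGroupBasic

set_option autoImplicit false

/-!
# Solvable groups of odd order whose Fitting subgroup has rank at most two, part 4

Characteristic subgroups of a Sylow subgroup `S` contained in `S'` are normal in `G`.
-/

namespace Cfsg.Agent.Lib.H16.RankTwo

open Cfsg
open scoped commutatorElement

universe u

variable {G : Type u} [Group G] [Finite G]

theorem normal_of_char_le_commutator (hs : Group.IsSolvable G) (hodd : Odd (Nat.card G))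
    (hrk : ∀ q : ℕ, q.Prime → Cfsg.PRankLE q 2 ↥(pCore q G)) (q : ℕ) [hq : Fact q.Prime]
    (S : Sylow q G) (T : Subgroup ↥(S : Subgroup G)) (hT : T.Characteristic)
    (hle : T.map (S : Subgroup G).subtype ≤ ⁅(S : Subgroup G), (S : Subgroup G)⁆) :
    (T.map (S : Subgroup G).subtype).Normal := by
  haveI := hT
  set T' : Subgroup G := T.map (S : Subgroup G).subtype with hT'
  have hF : commutator G ≤ fittingSubgroup G := commutator_le_fittingSubgroup hs hodd hrk
  have h1 : Subgroup.normalizer ((S : Subgroup G) : Set G) ≤ Subgroup.normalizer (T' : Set G) :=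
    Cfsg.Agent.Lib.H1.normalizer_le_normalizer_map_of_characteristic (K := (S : Subgroup G)) T
  have hT'S : T' ≤ (S : Subgroup G) := Subgroup.map_subtype_le T
  have hSScomm : ⁅(S : Subgroup G), (S : Subgroup G)⁆ ≤ commutator G := by
    rw [commutator_def]
    exact Subgroup.commutator_mono le_top le_top
  have hT'q : ∀ t ∈ T', t ∈ pCore q G := by
    intro t ht
    have htF : t ∈ fittingSubgroup G := hF (hSScomm (hle ht))
    obtain ⟨k, hk⟩ := (IsPGroup.iff_orderOf.mp S.2) ⟨t, hT'S ht⟩
    have hk' : orderOf t = q ^ k := by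
      rw [← hk]
      exact (Subgroup.orderOf_mk t (hT'S ht)).symm
    exact mem_pCore_of_mem_fitting_of_orderOf q htF hk'
  have h2 : commutator G ≤ Subgroup.normalizer (T' : Set G) := by
    have htop : (Subgroup.normalizer (T' : Set G)).subgroupOf (commutator G) = ⊤ := by
      apply Cfsg.Agent.Lib.H1.eq_top_of_forall_sylow_le
      intro s hs'
      obtain ⟨P⟩ : Nonempty (Sylow s ↥(commutator G)) := inferInstance
      refine ⟨P, ?_⟩
      intro x hx
      rw [Subgroup.mem_subgroupOf]
      obtain ⟨k, hk⟩ := (IsPGroup.iff_orderOf.mp P.2) ⟨x, hx⟩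
      have hk' : orderOf (x : G) = s ^ k := by
        rw [Subgroup.orderOf_coe]
        have : orderOf (⟨x, hx⟩ : (P : Subgroup ↥(commutator G))) = orderOf x :=
          Subgroup.orderOf_mk x hx
        rw [← this]
        exact hk
      have hxs : (x : G) ∈ pCore s G := mem_pCore_of_mem_fitting_of_orderOf s (hF x.2) hk'
      by_cases hsq : s = q
      · subst hsq
        apply h1
        apply Subgroup.le_normalizer
        exact Cfsg.Agent.Lib.H1.pCore_le_sylow S hxs
      · apply Subgroup.centralizer_le_normalizer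
        rw [Subgroup.mem_centralizer_iff]
        intro t ht
        exact (Cfsg.Agent.Lib.H1.pCore_commute (Ne.symm hsq) t (x : G) (hT'q t ht) hxs).eq
    intro x hx
    have : (⟨x, hx⟩ : commutator G) ∈
        (Subgroup.normalizer (T' : Set G)).subgroupOf (commutator G) := by
      rw [htop]; trivial
    exact Subgroup.mem_subgroupOf.mp this
  set N : Subgroup G := (S : Subgroup G) ⊔ commutator G with hN
  haveI hNn : N.Normal := Cfsg.Agent.Lib.H1.normal_of_commutator_le le_sup_right
  have hfr : Subgroup.normalizer ((S : Subgroup G) : Set G) ⊔ N = ⊤ :=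
    Sylow.normalizer_sup_eq_top' S le_sup_left
  have htop : Subgroup.normalizer (T' : Set G) = ⊤ := by
    rw [eq_top_iff, ← hfr]
    apply sup_le h1
    apply sup_le _ h2
    exact le_trans Subgroup.le_normalizer h1
  exact Subgroup.normalizer_eq_top_iff.mp htop

end Cfsg.Agent.Lib.H16.RankTwo
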