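import Mathlib
import Cfsg.Prelude
import Cfsg.Agent.Lib.H16.RankTwoFitC
import Cfsg.Agent.Lib.H19.PiCore
import Cfsg.Agent.Lib.H1.PGroupBasic

set_option autoImplicit false

/-!
# Solvable groups of odd order whose Fitting subgroup has rank at most two, part 5

For every `p`, `O_π(G)` with `π = {q > p}` is a (characteristic) Hall `π`-subgroup.
-/

namespace Cfsg.Agent.Lib.H16.RankTwo

open Cfsg Cfsg.Agent.Lib.H19
open scoped commutatorElement

universe u

variable {G : Type u} [Group G]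

/-- the primes above `p` -/
def piGt (p : ℕ) : Set ℕ := {q | q.Prime ∧ p < q}

/-- the primes at most `p` -/
def piLe (p : ℕ) : Set ℕ := {q | q.Prime ∧ q ≤ p}

/-- the part of the Fitting subgroup for the primes above `p` -/
def VGt (G : Type u) [Group G] (p : ℕ) : Subgroup G :=
  ⨆ q : {q : Nat.Primes // p < (q : ℕ)}, pCore ((q : Nat.Primes) : ℕ) G

/-- the part of the Fitting subgroup for the primes at most `p` -/
def VLe (G : Type u) [Group G] (p : ℕ) : Subgroup G :=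
  ⨆ q : {q : Nat.Primes // (q : ℕ) ≤ p}, pCore ((q : Nat.Primes) : ℕ) G

instance VGt_normal (p : ℕ) : (VGt G p).Normal := by
  unfold VGt
  rw [iSup]
  apply Subgroup.sSup_normal
  rintro _ ⟨q, rfl⟩
  exact Cfsg.pCore_normal _ G

instance VLe_normal (p : ℕ) : (VLe G p).Normal := by
  unfold VLe
  rw [iSup]
  apply Subgroup.sSup_normal
  rintro _ ⟨q, rfl⟩
  exact Cfsg.pCore_normal _ G

theorem exists_pow_prime_pow_order [Finite G] (g : G) {q : ℕ} (hq : q.Prime) :
    ∃ m k : ℕ, ¬ q ∣ m ∧ orderOf (g ^ m) = q ^ k := by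
  have hn : orderOf g ≠ 0 := (orderOf_pos g).ne'
  obtain ⟨k, m, hm, hkm⟩ := Nat.exists_eq_pow_mul_and_not_dvd hn q hq.ne_one
  refine ⟨m, k, hm, ?_⟩
  have hm0 : m ≠ 0 := by
    intro h
    rw [h, mul_zero] at hkm
    exact hn hkm
  rw [orderOf_pow' g hm0, hkm, Nat.gcd_eq_right (Dvd.intro_left _ rfl)]
  exact Nat.mul_div_cancel _ (Nat.pos_of_ne_zero hm0)

variable [Finite G]

theorem VGt_le_piCore (p : ℕ) : VGt G p ≤ piCore (piGt p) G := by
  apply iSup_le
  rintro ⟨q, hq⟩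
  have : Fact (q : ℕ).Prime := ⟨q.2⟩
  apply le_piCore (Cfsg.pCore_normal _ G)
  intro s hs hsd
  obtain ⟨k, hk⟩ := IsPGroup.iff_card.mp (Cfsg.Agent.Lib.H1.pCore_isPGroup (q : ℕ) G)
  rw [hk] at hsd
  have := (Nat.prime_dvd_prime_iff_eq hs q.2).mp (hs.dvd_of_dvd_pow hsd)
  rw [this]
  exact ⟨q.2, hq⟩

theorem VLe_le_piCore (p : ℕ) : VLe G p ≤ piCore (piLe p) G := by
  apply iSup_le
  rintro ⟨q, hq⟩
  have : Fact (q : ℕ).Prime := ⟨q.2⟩
  apply le_piCore (Cfsg.pCore_normal _ G)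
  intro s hs hsd
  obtain ⟨k, hk⟩ := IsPGroup.iff_card.mp (Cfsg.Agent.Lib.H1.pCore_isPGroup (q : ℕ) G)
  rw [hk] at hsd
  have := (Nat.prime_dvd_prime_iff_eq hs q.2).mp (hs.dvd_of_dvd_pow hsd)
  rw [this]
  exact ⟨q.2, hq⟩

theorem isPiCard_VGt (p : ℕ) : IsPiCard (piGt p) (Nat.card (VGt G p)) :=
  isPiCard_of_dvd (Subgroup.card_dvd_of_le (VGt_le_piCore p)) (piCore_isPiCard _)

theorem isPiCard_VLe (p : ℕ) : IsPiCard (piLe p) (Nat.card (VLe G p)) :=
  isPiCard_of_dvd (Subgroup.card_dvd_of_le (VLe_le_piCore p)) (piCore_isPiCard _)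

theorem coprime_of_isPiCard {p m n : ℕ} (hm : IsPiCard (piGt p) m) (hn : IsPiCard (piLe p) n) :
    Nat.Coprime m n := by
  apply Nat.coprime_of_dvd
  intro k hk hkm hkn
  have h1 := (hm k hk hkm).2
  have h2 := (hn k hk hkn).2
  omega

theorem VGt_sup_VLe (p : ℕ) : VGt G p ⊔ VLe G p = fittingSubgroup G := by
  rw [Cfsg.Agent.Lib.H1.fittingSubgroup_eq_iSup_pCore]
  apply le_antisymm
  · apply sup_le
    · apply iSup_le
      rintro ⟨q, _⟩
      exact le_iSup (fun q : Nat.Primes => pCore (q : ℕ) G) q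
    · apply iSup_le
      rintro ⟨q, _⟩
      exact le_iSup (fun q : Nat.Primes => pCore (q : ℕ) G) q
  · apply iSup_le
    intro q
    by_cases hq : p < (q : ℕ)
    · exact le_trans (le_iSup (fun q : {q : Nat.Primes // p < (q : ℕ)} =>
        pCore ((q : Nat.Primes) : ℕ) G) ⟨q, hq⟩) le_sup_left
    · exact le_trans (le_iSup (fun q : {q : Nat.Primes // (q : ℕ) ≤ p} =>
        pCore ((q : Nat.Primes) : ℕ) G) ⟨q, not_lt.mp hq⟩) le_sup_right

theorem VGt_le_centralizer_VLe (p : ℕ) :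
    VGt G p ≤ Subgroup.centralizer (VLe G p : Set G) := by
  apply iSup_le
  rintro ⟨q, hq⟩
  have : Fact (q : ℕ).Prime := ⟨q.2⟩
  rw [Subgroup.le_centralizer_iff]
  apply iSup_le
  rintro ⟨r, hr⟩
  have : Fact (r : ℕ).Prime := ⟨r.2⟩
  intro y hy
  rw [Subgroup.mem_centralizer_iff]
  intro x hx
  have hne : (q : ℕ) ≠ (r : ℕ) := by
    have h1 : p < (q : ℕ) := hq
    have h2 : (r : ℕ) ≤ p := hr
    omega
  exact (Cfsg.Agent.Lib.H1.pCore_commute hne x y hx hy).eq

/-- Elements of `q`-power order with `q > p` lie in `O_π(G)`, `π = {q > p}`. -/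
theorem mem_piCore_of_orderOf (hs : Group.IsSolvable G) (hodd : Odd (Nat.card G))
    (hrk : ∀ q : ℕ, q.Prime → Cfsg.PRankLE q 2 ↥(pCore q G)) (p : ℕ) {q : ℕ} (hq : q.Prime)
    (hpq : p < q) {x : G} {k : ℕ} (hx : orderOf x = q ^ k) : x ∈ piCore (piGt p) G := by
  -- `x` centralizes `VLe`
  have hxc : x ∈ Subgroup.centralizer (VLe G p : Set G) := by
    have hle : VLe G p ≤ Subgroup.centralizer ({x} : Set G) := by
      apply iSup_le
      rintro ⟨r, hr⟩
      have : Fact (r : ℕ).Prime := ⟨r.2⟩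
      intro z hz
      rw [Subgroup.mem_centralizer_singleton_iff]
      have hrq : (r : ℕ) < q := lt_of_le_of_lt hr hpq
      have := mem_centralizer_pCore_of_lt hodd (hrk r r.2) hq hrq hx
      exact (Subgroup.mem_centralizer_iff.mp this z hz)
    rw [Subgroup.mem_centralizer_iff]
    intro v hv
    exact (Subgroup.mem_centralizer_singleton_iff.mp (hle hv))
  set B : Subgroup G := Subgroup.zpowers x ⊔ VGt G p with hB
  have hxB : x ∈ B := le_sup_left (a := Subgroup.zpowers x) (Subgroup.mem_zpowers x)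
  have hBcard : IsPiCard (piGt p) (Nat.card B) := by
    apply isPiCard_of_dvd (card_sup_dvd_mul' _ _)
    apply isPiCard_mul _ (isPiCard_VGt p)
    rw [Nat.card_zpowers, hx]
    intro s hs' hsd
    have := (Nat.prime_dvd_prime_iff_eq hs' hq).mp (hs'.dvd_of_dvd_pow hsd)
    rw [this]
    exact ⟨hq, hpq⟩
  have hBc : B ≤ Subgroup.centralizer (VLe G p : Set G) := by
    apply sup_le
    · rw [Subgroup.zpowers_le]
      exact hxc
    · exact VGt_le_centralizer_VLe p
  have hcop : (Nat.card B).Coprime (Nat.card (VLe G p)) :=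
    coprime_of_isPiCard hBcard (isPiCard_VLe p)
  set X : Subgroup G := B ⊔ VLe G p with hX
  have hFX : fittingSubgroup G ≤ X := by
    rw [← VGt_sup_VLe p]
    apply sup_le
    · exact le_trans (le_sup_right : VGt G p ≤ B) le_sup_left
    · exact le_sup_right
  have hXn : X.Normal :=
    Cfsg.Agent.Lib.H1.normal_of_commutator_le
      (le_trans (commutator_le_fittingSubgroup hs hodd hrk) hFX)
  have hBn : B.Normal := by
    constructor
    intro b hb g
    have h1 : g * b * g⁻¹ ∈ X := hXn.conj_mem b (le_sup_left (a := B) hb) g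
    obtain ⟨b', hb', c', hc', hbc⟩ := Subgroup.mem_sup_of_normal_right.mp h1
    have hcomm : b' * c' = c' * b' :=
      (Subgroup.mem_centralizer_iff.mp (hBc hb') c' hc').symm
    rw [← hbc]
    apply mul_mem_of_coprime hb' hc' hcomm
    rw [hbc]
    have hord : orderOf (g * b * g⁻¹) = orderOf b := by
      have := orderOf_injective (MulAut.conj g).toMonoidHom (MulAut.conj g).injective b
      simpa using this
    rw [hord]
    have hdvd : orderOf b ∣ Nat.card B := by
      have := orderOf_dvd_natCard (⟨b, hb⟩ : B)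
      rwa [Subgroup.orderOf_mk] at this
    exact Nat.Coprime.coprime_dvd_left hdvd hcop
  exact le_piCore hBn hBcard hxB

/-- `O_π(G)` is a Hall `π`-subgroup for `π = {q > p}`. -/
theorem isPiHall_piCore (hs : Group.IsSolvable G) (hodd : Odd (Nat.card G))
    (hrk : ∀ q : ℕ, q.Prime → Cfsg.PRankLE q 2 ↥(pCore q G)) (p : ℕ) :
    Cfsg.IsPiHall {q | q.Prime ∧ p < q} (piCore {q | q.Prime ∧ p < q} G) := by
  refine ⟨piCore_isPiCard _, ?_⟩
  intro q hq hqπ hdvd
  have hq' : Fact q.Prime := ⟨hq⟩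
  rw [Subgroup.index_eq_card] at hdvd
  obtain ⟨t, ht⟩ := exists_prime_orderOf_dvd_card' q hdvd
  obtain ⟨g, rfl⟩ := QuotientGroup.mk_surjective t
  obtain ⟨m, k, hm, hk⟩ := exists_pow_prime_pow_order g hq
  have hmem : g ^ m ∈ piCore {q | q.Prime ∧ p < q} G :=
    mem_piCore_of_orderOf hs hodd hrk p hq hqπ.2 hk
  have h1 : (QuotientGroup.mk g : G ⧸ piCore {q | q.Prime ∧ p < q} G) ^ m = 1 := by
    rw [← QuotientGroup.mk_pow]
    exact (QuotientGroup.eq_one_iff _).mpr hmem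
  have h2 : q ∣ m := ht ▸ orderOf_dvd_of_pow_eq_one h1
  exact hm h2

end Cfsg.Agent.Lib.H16.RankTwo
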