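import Mathlib
import Cfsg.Agent.Lib.H16.BGq
import Cfsg.Agent.S1451

/-! # Bender–Glauberman Lemma 9.5, Part B: a maximal subgroup `H ≥ A` with `r(F(H)) ≥ 3` (helper16)

If every maximal subgroup containing `A` had a Fitting subgroup of rank at most two, then
`A₀ = A ∩ N(A)'` (nontrivial by Burnside's transfer theorem) would be centralized by every
`A`-invariant `p'`-subgroup, and `A` would be a uniqueness subgroup. -/

set_option autoImplicit false
set_option linter.unusedSectionVars false
set_option linter.unusedVariables false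

namespace Cfsg.Agent.Lib.H16.BG

open Cfsg Cfsg.Agent.Lib.H7.BG7
open Cfsg.Agent.Lib.H19 (IsPiCard)
open scoped commutatorElement

variable {G : Type*} [Group G] [Finite G] {p : ℕ} [hp : Fact p.Prime]

/-- Burnside: a self-centralizing normal subgroup `A` of a Sylow subgroup of a minimal simple
group meets `N(A)'` nontrivially. -/
theorem scn_inf_commutator_ne_bot (hG : IsMinSimpleOddOrder G) (P : Sylow p G) {A : Subgroup G}
    (hscn : IsSCN (P : Subgroup G) A) (hA1 : A ≠ ⊥) :
    A ⊓ ⁅Subgroup.normalizer (A : Set G), Subgroup.normalizer (A : Set G)⁆ ≠ ⊥ := by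
  intro h0
  have hNC : Subgroup.normalizer (A : Set G) ≤ Subgroup.centralizer (A : Set G) := by
    intro n hn
    refine Subgroup.mem_centralizer_iff.2 ?_
    intro a ha
    have h1 : ⁅n, a⁆ ∈ A ⊓
        ⁅Subgroup.normalizer (A : Set G), Subgroup.normalizer (A : Set G)⁆ := by
      refine ⟨?_, Subgroup.commutator_mem_commutator hn (Subgroup.le_normalizer ha)⟩
      rw [commutatorElement_def]
      exact A.mul_mem ((Subgroup.mem_normalizer_iff.1 hn a).1 ha) (A.inv_mem ha)
    rw [h0, Subgroup.mem_bot, commutatorElement_def] at h1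
    calc a * n = (n * a * n⁻¹ * a⁻¹)⁻¹ * (n * a) := by group
      _ = n * a := by rw [h1, inv_one, one_mul]
  have hPA : (P : Subgroup G) = A := by
    apply le_antisymm _ hscn.1
    intro x hx
    rw [← hscn.2.2]
    exact ⟨hx, hNC (hscn.2.1 hx)⟩
  have hP : Subgroup.normalizer ((P : Subgroup G) : Set G) ≤
      Subgroup.centralizer ((P : Subgroup G) : Set G) := by
    rw [hPA]; exact hNC
  have hcomp := MonoidHom.ker_transferSylow_isComplement' P hP
  haveI : IsSimpleGroup G := hG.2.1
  rcases (MonoidHom.normal_ker (MonoidHom.transferSylow P hP)).eq_bot_or_eq_top with hk | hk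
  · rw [hk, Subgroup.isComplement'_bot_left] at hcomp
    apply hG.2.2.1
    refine ⟨⟨fun x y => ?_⟩⟩
    have hx : x ∈ A := by rw [← hPA, hcomp]; exact Subgroup.mem_top x
    have hy : y ∈ A := by rw [← hPA, hcomp]; exact Subgroup.mem_top y
    exact Subgroup.mem_centralizer_iff.1 (hNC (Subgroup.le_normalizer hy)) x hx
  · rw [hk, Subgroup.isComplement'_top_left] at hcomp
    exact hA1 (by rw [← hPA, hcomp])

/-- if `F(H)` has rank at most two (`H` a proper subgroup) then `H' ≤ F(H)`. -/
theorem commutator_le_fittingOf_of_rank (hG : IsMinSimpleOddOrder G) {H : Subgroup G}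
    (hH : H ≠ ⊤) (hr : RankLE 2 ↥(fittingOf H)) : ⁅H, H⁆ ≤ fittingOf H := by
  haveI : Group.IsSolvable ↥H := solvable_of_ne_top hG hH
  have hodd : Odd (Nat.card ↥H) := odd_card_subgroup hG H
  have hr' : RankLE 2 ↥(fittingSubgroup ↥H) := by
    intro q hq
    exact pRankLE_of_injective
      ((fittingSubgroup ↥H).equivMapOfInjective H.subtype H.subtype_injective).toMonoidHom
      ((fittingSubgroup ↥H).equivMapOfInjective H.subtype H.subtype_injective).injective (hr q hq)
  have hnil : Group.IsNilpotent ↥(commutator ↥H) := (Cfsg.Agent.S1451.result hodd (Or.inr hr')).1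
  have hmap : (commutator ↥H).map H.subtype = ⁅H, H⁆ := by
    rw [commutator_def, Subgroup.map_commutator, ← MonoidHom.range_eq_map, Subgroup.range_subtype]
  have hnil' : Group.IsNilpotent ↥⁅H, H⁆ := by
    rw [← hmap]
    exact (Group.isNilpotent_congr ((commutator ↥H).equivMapOfInjective H.subtype
      H.subtype_injective)).1 hnil
  refine le_fittingOf (commutator_self_le H) ?_ hnil'
  rw [Subgroup.le_normalizer_iff_commutator_le_left]
  exact Subgroup.commutator_mono (commutator_self_le H) le_rfl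

/-- **Part B**: some maximal subgroup containing `A` has a Fitting subgroup of rank at least
three. -/
theorem Ctx.exists_big {A E : Subgroup G} (c : Ctx p A E) (P : Sylow p G)
    (hscn : IsSCN (P : Subgroup G) A) : ∃ H s, Big A H s := by
  have hpp : p.Prime := hp.out
  by_contra hno
  push Not at hno
  have hsmall : ∀ H : Subgroup G, IsCoatom H → A ≤ H → RankLE 2 ↥(fittingOf H) := by
    intro H hH hAH s hs
    by_contra hr
    exact hno H s ⟨hH, hAH, hs, hr⟩
  set A₀ := A ⊓ ⁅Subgroup.normalizer (A : Set G), Subgroup.normalizer (A : Set G)⁆ with hA₀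
  have hA₀1 : A₀ ≠ ⊥ := scn_inf_commutator_ne_bot c.hG P hscn c.A_ne_bot
  have hA₀p : IsPGroup p A₀ := c.hAp.to_le inf_le_left
  obtain ⟨L, hL, hNL⟩ := exists_coatom_ge (normalizer_ne_top_of_isPGroup c.hG hA₀p hA₀1)
  have hNA : Subgroup.normalizer (A : Set G) ≤ Subgroup.normalizer (A₀ : Set G) :=
    le_normalizer_inf' le_rfl (Subgroup.normalizer_commutator_ge_left _ _)
  have hAL : A ≤ L := Subgroup.le_normalizer.trans (hNA.trans hNL)
  have hsig : SigIn L A p := by
    refine ⟨hL, hAL, c.hAp, c.A_ne_bot, ?_⟩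
    intro Y hY hAY
    have hact : Cfsg.Agent.Lib.H1.CoprimeAction A Y := by
      refine ⟨hAY, ?_, Or.inl (IsNilpotent.to_isSolvable (h := c.hAp.isNilpotent))⟩
      obtain ⟨k, hk⟩ := IsPGroup.iff_card.1 c.hAp
      rw [hk]
      exact (Nat.Coprime.pow_right k hY).symm
    apply le_of_forall_invariant_sylow_le hact
    intro q hq Q hQY hQq hAQ
    by_cases hQ1 : Q = ⊥
    · rw [hQ1]; exact bot_le
    have hqp : q ≠ p := by
      rintro rfl
      have h1 : q ∣ Nat.card Y :=
        (dvd_card_of_isPGroup_ne_bot hQq hQ1).trans (Subgroup.card_dvd_of_le hQY)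
      have := Nat.Coprime.eq_one_of_dvd hY.symm h1
      exact hq.out.one_lt.ne' this
    obtain ⟨Q', hQ', hQQ'⟩ := exists_isMaxInv_ge hQq hAQ
    have hQ'1 : Q' ≠ ⊥ := ne_bot_of_le_ne_bot hQ1 hQQ'
    obtain ⟨H, hH, hNH⟩ := exists_coatom_ge (normalizer_ne_top_of_isPGroup c.hG hQ'.1 hQ'1)
    have hAH : A ≤ H := hQ'.2.1.trans hNH
    have hQ'H : Q' ≤ H := Subgroup.le_normalizer.trans hNH
    have hHF : ⁅H, H⁆ ≤ fittingOf H := commutator_le_fittingOf_of_rank c.hG hH.1 (hsmall H hH hAH)
    have h1 : A₀ ≤ fittingOf H :=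
      (inf_commutator_le (c.trans hqp) hQ').trans ((Subgroup.commutator_mono hNH hNH).trans hHF)
    have h2 : A₀ ≤ piCoreOf {p} H :=
      (le_piCoreOf_of_nilpotent (fittingOf_isNilpotent H) h1
        (isPiCard_card_of_isPGroup (Set.mem_singleton p) hA₀p)).trans
        (piCoreOf_le_piCoreOf_of_normal {p} (fittingOf_le H) (le_normalizer_fittingOf H))
    have hQ'cop : (Nat.card Q').Coprime p := by
      obtain ⟨k, hk⟩ := IsPGroup.iff_card.1 hQ'.1
      rw [hk]
      exact Nat.Coprime.pow_left k ((Nat.coprime_primes hq.out hpp).2 hqp)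
    have h3 : Q' ≤ piCoreOf (primesNotDvd p) H := c.th_le hH.1 hAH hQ'H hQ'cop hQ'.2.1
    have hdisj : Disjoint (primesNotDvd p) ({p} : Set ℕ) := by
      rw [Set.disjoint_singleton_right]
      exact fun h => h.2 dvd_rfl
    have h4 : Q' ≤ Subgroup.centralizer (A₀ : Set G) :=
      (h3.trans (piCoreOf_le_centralizer_piCoreOf hdisj H)).trans (centralizer_anti h2)
    exact hQQ'.trans (h4.trans ((Subgroup.centralizer_le_normalizer _).trans hNL))
  exact c.hAU (hsig.inUniqueMaximal c.hG)

end Cfsg.Agent.Lib.H16.BG
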