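import Mathlib
import Cfsg.Agent.Lib.H16.BGq
import Cfsg.Agent.Lib.H16.ClassTwo
import Cfsg.Agent.Lib.H16.NarrowB

/-! # Bender–Glauberman Lemma 9.5: `p`-group lemmas (helper16)

`Ω₁(Z(X))` inside the ambient group, the subgroup `T` of elements of order dividing `s` of the
second centre modulo `W`, normal subgroups of order `s ^ 2`. -/

set_option autoImplicit false
set_option linter.unusedSectionVars false
set_option linter.unusedVariables false

namespace Cfsg.Agent.Lib.H16.BG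

open Cfsg Cfsg.Agent.Lib.H7.BG7
open scoped commutatorElement

variable {G : Type*} [Group G] [Finite G]

/-! ### small facts on `s`-groups -/

theorem sq_le_card_of_lt {q : ℕ} (hq : q.Prime) {R : Subgroup G} (hR : IsPGroup q R)
    (h : q < Nat.card R) : q ^ 2 ≤ Nat.card R := by
  have : Fact q.Prime := ⟨hq⟩
  obtain ⟨k, hk⟩ := IsPGroup.iff_card.1 hR
  rw [hk] at h ⊢
  apply Nat.pow_le_pow_right hq.pos
  by_contra hk2
  have : k ≤ 1 := by omega
  have : q ^ k ≤ q ^ 1 := Nat.pow_le_pow_right hq.pos this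
  rw [pow_one] at this
  omega

theorem card_eq_of_le_of_ne_bot {q : ℕ} (hq : q.Prime) {R : Subgroup G} (hR : IsPGroup q R)
    (hle : Nat.card R ≤ q) (hne : R ≠ ⊥) : Nat.card R = q := by
  have : Fact q.Prime := ⟨hq⟩
  obtain ⟨k, hk⟩ := IsPGroup.iff_card.1 hR
  rw [hk] at hle ⊢
  have hk0 : k ≠ 0 := by
    rintro rfl
    rw [pow_zero] at hk
    exact hne (Subgroup.card_eq_one.1 hk)
  have hk1 : k ≤ 1 := by
    by_contra hk1
    have : q ^ 2 ≤ q ^ k := Nat.pow_le_pow_right hq.pos (by omega)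
    have : q < q ^ 2 := by nlinarith [hq.one_lt]
    omega
  have : k = 1 := by omega
  rw [this, pow_one]

theorem isElementaryAbelian_sup {s : ℕ} {B C : Subgroup G} (hB : IsElementaryAbelian s B)
    (hC : IsElementaryAbelian s C) (hBC : B ≤ Subgroup.centralizer (C : Set G)) :
    IsElementaryAbelian s (B ⊔ C : Subgroup G) := by
  have hBB : B ≤ Subgroup.centralizer (B : Set G) := by
    intro b hb
    refine Subgroup.mem_centralizer_iff.2 ?_
    intro b' hb'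
    exact congrArg Subtype.val (hB.1.is_comm.comm ⟨b', hb'⟩ ⟨b, hb⟩)
  have hCC : C ≤ Subgroup.centralizer (C : Set G) := by
    intro b hb
    refine Subgroup.mem_centralizer_iff.2 ?_
    intro b' hb'
    exact congrArg Subtype.val (hC.1.is_comm.comm ⟨b', hb'⟩ ⟨b, hb⟩)
  have hcent : B ⊔ C ≤ Subgroup.centralizer ((B ⊔ C : Subgroup G) : Set G) := by
    rw [centralizer_sup_eq]
    exact sup_le (le_inf hBB hBC) (le_inf (le_centralizer_comm hBC) hCC)
  have hcomm : ∀ x ∈ B ⊔ C, ∀ y ∈ B ⊔ C, x * y = y * x := fun x hx y hy =>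
    Subgroup.mem_centralizer_iff.1 (hcent hy) x hx
  refine ⟨⟨⟨fun a b => Subtype.ext (hcomm a a.2 b b.2)⟩⟩, ?_⟩
  have hle : B ⊔ C ≤ Cfsg.Agent.Lib.H16.NormalSq.omegaP s (B ⊔ C) hcomm := by
    apply sup_le
    · intro b hb
      exact ⟨le_sup_left (a := B) hb, hB.2 b hb⟩
    · intro b hb
      exact ⟨le_sup_right (b := C) hb, hC.2 b hb⟩
  intro a ha
  exact (hle ha).2

theorem isElementaryAbelian_zpowers {s : ℕ} {x : G} (hx : x ^ s = 1) :
    IsElementaryAbelian s (Subgroup.zpowers x) := by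
  refine ⟨⟨⟨?_⟩⟩, ?_⟩
  · rintro ⟨a, ha⟩ ⟨b, hb⟩
    apply Subtype.ext
    obtain ⟨i, rfl⟩ := Subgroup.mem_zpowers_iff.1 ha
    obtain ⟨j, rfl⟩ := Subgroup.mem_zpowers_iff.1 hb
    exact (Commute.zpow_zpow_self x i j).eq
  · intro a ha
    obtain ⟨i, rfl⟩ := Subgroup.mem_zpowers_iff.1 ha
    rw [← zpow_natCast, ← zpow_mul, mul_comm, zpow_mul, zpow_natCast, hx, one_zpow]

theorem isElementaryAbelian_of_card_prime {s : ℕ} (hs : s.Prime) {U : Subgroup G}
    (hU : Nat.card U = s) : IsElementaryAbelian s U := by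
  by_cases h : U = ⊥
  · rw [h, Subgroup.card_bot] at hU
    exact absurd hU.symm hs.one_lt.ne'
  obtain ⟨⟨u, hu⟩, hu1'⟩ := (Subgroup.ne_bot_iff_exists_ne_one).1 h
  have hu1 : u ≠ 1 := fun h => hu1' (Subtype.ext h)
  rw [← zpowers_eq_of_card_prime hs hU hu hu1]
  apply isElementaryAbelian_zpowers
  have := pow_card_eq_one' (G := ↥U) (x := ⟨u, hu⟩)
  rw [hU] at this
  exact congrArg Subtype.val this

/-! ### `Ω₁(Z(X))` -/

/-- `Ω₁(Z(X))` as a subgroup of the ambient group. -/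
def omegaZ (s : ℕ) (X : Subgroup G) : Subgroup G :=
  Cfsg.Agent.Lib.H16.NormalSq.omegaP s (X ⊓ Subgroup.centralizer (X : Set G))
    (fun x hx y hy => Subgroup.mem_centralizer_iff.1 hy.2 x hx.1)

theorem mem_omegaZ {s : ℕ} {X : Subgroup G} {x : G} :
    x ∈ omegaZ s X ↔ (x ∈ X ∧ x ∈ Subgroup.centralizer (X : Set G)) ∧ x ^ s = 1 := Iff.rfl

theorem omegaZ_le (s : ℕ) (X : Subgroup G) : omegaZ s X ≤ X := fun x hx => hx.1.1

theorem le_centralizer_omegaZ (s : ℕ) (X : Subgroup G) :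
    X ≤ Subgroup.centralizer ((omegaZ s X : Subgroup G) : Set G) := by
  rw [Subgroup.le_centralizer_iff]
  exact fun x hx => hx.1.2

theorem omegaZ_elemAb (s : ℕ) (X : Subgroup G) : IsElementaryAbelian s (omegaZ s X) :=
  Cfsg.Agent.Lib.H16.NormalSq.omegaP_elemAb _ _ _

theorem normalizer_le_normalizer_omegaZ (s : ℕ) (X : Subgroup G) :
    Subgroup.normalizer (X : Set G) ≤ Subgroup.normalizer ((omegaZ s X : Subgroup G) : Set G) := by
  intro g hg
  apply mem_normalizer_of_map_conj_le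
  rintro _ ⟨x, hx, rfl⟩
  have h1 := normalizer_le_normalizer_inf_centralizer X hg
  refine ⟨(Subgroup.mem_normalizer_iff.1 h1 x).1 hx.1, ?_⟩
  show (g * x * g⁻¹) ^ s = 1
  rw [conj_pow, hx.2, mul_one, mul_inv_cancel]

theorem omegaZ_ne_bot {s : ℕ} [hs : Fact s.Prime] {X : Subgroup G} (hX : IsPGroup s X)
    (hX1 : X ≠ ⊥) : omegaZ s X ≠ ⊥ := by
  have hZ1 := inf_centralizer_self_ne_bot hX hX1
  have hZp : IsPGroup s ↥(X ⊓ Subgroup.centralizer (X : Set G)) := hX.to_le inf_le_left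
  obtain ⟨⟨z, hz⟩, hzo⟩ := exists_prime_orderOf_dvd_card' (G := ↥(X ⊓ Subgroup.centralizer (X : Set G))) s
    (dvd_card_of_isPGroup_ne_bot hZp hZ1)
  rw [Subgroup.orderOf_mk] at hzo
  intro h
  have hmem : z ∈ omegaZ s X := ⟨hz, by rw [← hzo]; exact pow_orderOf_eq_one z⟩
  rw [h, Subgroup.mem_bot] at hmem
  rw [hmem, orderOf_one] at hzo
  exact hs.out.one_lt.ne' hzo.symm

/-! ### the class two `Ω₁` -/

/-- the elements `x` of `X` with `x ^ s = 1` and `[x, X] ≤ W` (`W` central of exponent `s`,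
`s` odd) form a subgroup. -/
theorem exists_classTwoOmega {s : ℕ} (hs : Odd s) {X W : Subgroup G} (hWX : W ≤ X)
    (hXW : X ≤ Subgroup.centralizer (W : Set G)) (hWs : ∀ w ∈ W, w ^ s = 1) :
    ∃ T : Subgroup G, ∀ x, x ∈ T ↔ x ∈ X ∧ x ^ s = 1 ∧ ∀ y ∈ X, x * y * x⁻¹ * y⁻¹ ∈ W := by
  have hcomm : ∀ c ∈ W, ∀ g ∈ X, c * g = g * c := fun c hc g hg =>
    Subgroup.mem_centralizer_iff.1 (hXW hg) c hc
  have hinv : ∀ x ∈ X, (∀ y ∈ X, x * y * x⁻¹ * y⁻¹ ∈ W) →
      ∀ y ∈ X, x⁻¹ * y * x⁻¹⁻¹ * y⁻¹ ∈ W := by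
    intro x hx h y hy
    have hc := h y hy
    have h1 : x⁻¹ * y * x⁻¹⁻¹ * y⁻¹ = x⁻¹ * ((x * y * x⁻¹ * y⁻¹)⁻¹ * x) := by group
    rw [h1, hcomm _ (W.inv_mem hc) x hx, inv_mul_cancel_left]
    exact W.inv_mem hc
  refine ⟨{ carrier := {x | x ∈ X ∧ x ^ s = 1 ∧ ∀ y ∈ X, x * y * x⁻¹ * y⁻¹ ∈ W}
            mul_mem' := ?_
            one_mem' := ?_
            inv_mem' := ?_ }, fun x => Iff.rfl⟩
  · rintro x₁ x₂ ⟨h₁X, h₁s, h₁⟩ ⟨h₂X, h₂s, h₂⟩
    refine ⟨X.mul_mem h₁X h₂X, ?_, ?_⟩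
    · have hd := hinv x₁ h₁X h₁ x₂ h₂X
      have hc : x₂⁻¹ * x₁⁻¹ * x₂ * x₁ = x₁⁻¹ * x₂ * x₁⁻¹⁻¹ * x₂⁻¹ := by
        have : x₂⁻¹ * x₁⁻¹ * x₂ * x₁ = x₂⁻¹ * ((x₁⁻¹ * x₂ * x₁⁻¹⁻¹ * x₂⁻¹) * x₂) := by group
        rw [this, hcomm _ hd x₂ h₂X, inv_mul_cancel_left]
      have hcW : x₂⁻¹ * x₁⁻¹ * x₂ * x₁ ∈ W := hc ▸ hd
      have h : x₂ * x₁ = x₁ * x₂ * (x₂⁻¹ * x₁⁻¹ * x₂ * x₁) := by group
      exact mul_pow_eq_one_of_central h (hcomm _ hcW x₁ h₁X) (hcomm _ hcW x₂ h₂X) hs h₁s h₂s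
    · intro y hy
      have h3 : x₁ * x₂ * y * (x₁ * x₂)⁻¹ * y⁻¹ =
          x₁ * ((x₂ * y * x₂⁻¹ * y⁻¹) * x₁⁻¹) * (x₁ * y * x₁⁻¹ * y⁻¹) := by group
      rw [h3, hcomm _ (h₂ y hy) x₁⁻¹ (X.inv_mem h₁X), mul_inv_cancel_left]
      exact W.mul_mem (h₂ y hy) (h₁ y hy)
  · refine ⟨X.one_mem, one_pow _, fun y hy => ?_⟩
    have : (1 : G) * y * 1⁻¹ * y⁻¹ = 1 := by group
    rw [this]; exact W.one_mem
  · rintro x ⟨hX, hxs, hx⟩
    exact ⟨X.inv_mem hX, by rw [inv_pow, hxs, inv_one], hinv x hX hx⟩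

section ClassTwo

variable {s : ℕ} {X W T : Subgroup G}

theorem classTwo_le_normalizer
    (hT : ∀ x, x ∈ T ↔ x ∈ X ∧ x ^ s = 1 ∧ ∀ y ∈ X, x * y * x⁻¹ * y⁻¹ ∈ W) {g : G}
    (hgX : g ∈ Subgroup.normalizer (X : Set G)) (hgW : g ∈ Subgroup.normalizer (W : Set G)) :
    g ∈ Subgroup.normalizer (T : Set G) := by
  apply mem_normalizer_of_map_conj_le
  rintro _ ⟨x, hx, rfl⟩
  obtain ⟨hxX, hxs, hxW⟩ := (hT x).1 hx
  show g * x * g⁻¹ ∈ T
  rw [hT]
  refine ⟨(Subgroup.mem_normalizer_iff.1 hgX x).1 hxX, ?_, ?_⟩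
  · rw [conj_pow, hxs, mul_one, mul_inv_cancel]
  · intro y hy
    have hy' : g⁻¹ * y * g⁻¹⁻¹ ∈ X :=
      (Subgroup.mem_normalizer_iff.1 (Subgroup.inv_mem _ hgX) y).1 hy
    have h1 := hxW _ hy'
    have h2 := (Subgroup.mem_normalizer_iff.1 hgW _).1 h1
    have h3 : g * (x * (g⁻¹ * y * g⁻¹⁻¹) * x⁻¹ * (g⁻¹ * y * g⁻¹⁻¹)⁻¹) * g⁻¹ =
        g * x * g⁻¹ * y * (g * x * g⁻¹)⁻¹ * y⁻¹ := by group
    rwa [h3] at h2

theorem classTwo_le_normalizer_sup (hXW : X ≤ Subgroup.centralizer (W : Set G))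
    (hT : ∀ x, x ∈ T ↔ x ∈ X ∧ x ^ s = 1 ∧ ∀ y ∈ X, x * y * x⁻¹ * y⁻¹ ∈ W) {x : G}
    (hx : x ∈ T) : X ≤ Subgroup.normalizer ((W ⊔ Subgroup.zpowers x : Subgroup G) : Set G) := by
  obtain ⟨hxX, hxs, hxW⟩ := (hT x).1 hx
  intro g hg
  apply mem_normalizer_of_map_conj_le
  rw [Subgroup.map_sup]
  apply sup_le
  · rintro _ ⟨w, hw, rfl⟩
    have h1 : w * g = g * w := Subgroup.mem_centralizer_iff.1 (hXW hg) w hw
    have h2 : g * w * g⁻¹ = w := by rw [← h1, mul_inv_cancel_right]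
    show g * w * g⁻¹ ∈ W ⊔ Subgroup.zpowers x
    rw [h2]
    exact (le_sup_left : W ≤ W ⊔ Subgroup.zpowers x) hw
  · rw [MonoidHom.map_zpowers, Subgroup.zpowers_le]
    show g * x * g⁻¹ ∈ W ⊔ Subgroup.zpowers x
    have h1 : g * x * g⁻¹ = (x * g * x⁻¹ * g⁻¹)⁻¹ * x := by group
    rw [h1]
    exact Subgroup.mul_mem _
      ((le_sup_left : W ≤ W ⊔ Subgroup.zpowers x) (W.inv_mem (hxW g hg)))
      ((le_sup_right : Subgroup.zpowers x ≤ W ⊔ Subgroup.zpowers x) (Subgroup.mem_zpowers x))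

theorem classTwo_sup_elemAb (hWe : IsElementaryAbelian s W)
    (hXW : X ≤ Subgroup.centralizer (W : Set G))
    (hT : ∀ x, x ∈ T ↔ x ∈ X ∧ x ^ s = 1 ∧ ∀ y ∈ X, x * y * x⁻¹ * y⁻¹ ∈ W) {x : G}
    (hx : x ∈ T) : IsElementaryAbelian s (W ⊔ Subgroup.zpowers x : Subgroup G) := by
  obtain ⟨hxX, hxs, hxW⟩ := (hT x).1 hx
  apply isElementaryAbelian_sup hWe (isElementaryAbelian_zpowers hxs)
  rw [centralizer_zpowers_eq]
  intro w hw
  rw [Subgroup.mem_centralizer_singleton_iff]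
  exact Subgroup.mem_centralizer_iff.1 (hXW hxX) w hw

theorem classTwo_sup_card (hs : s.Prime) (hWc : Nat.card W = s)
    (hXW : X ≤ Subgroup.centralizer (W : Set G))
    (hT : ∀ x, x ∈ T ↔ x ∈ X ∧ x ^ s = 1 ∧ ∀ y ∈ X, x * y * x⁻¹ * y⁻¹ ∈ W) {x : G}
    (hx : x ∈ T) (hxW : x ∉ W) :
    Nat.card (W ⊔ Subgroup.zpowers x : Subgroup G) = s ^ 2 := by
  obtain ⟨hxX, hxs, -⟩ := (hT x).1 hx
  have : Fact s.Prime := ⟨hs⟩
  have hx1 : x ≠ 1 := by
    rintro rfl
    exact hxW W.one_mem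
  have hzc : Nat.card (Subgroup.zpowers x) = s := by
    rw [Nat.card_zpowers]; exact orderOf_eq_prime hxs hx1
  have hWN : W ≤ Subgroup.normalizer ((Subgroup.zpowers x : Subgroup G) : Set G) := by
    refine le_trans ?_ (Subgroup.centralizer_le_normalizer _)
    rw [centralizer_zpowers_eq]
    intro w hw
    rw [Subgroup.mem_centralizer_singleton_iff]
    exact Subgroup.mem_centralizer_iff.1 (hXW hxX) w hw
  have h := card_sup_mul_card_inf hWN
  have hinf : W ⊓ Subgroup.zpowers x = ⊥ := by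
    rcases eq_bot_or_eq_of_le_of_card_prime hs hzc
      (inf_le_right : W ⊓ Subgroup.zpowers x ≤ Subgroup.zpowers x) with h0 | h0
    · exact h0
    · exfalso
      apply hxW
      have : Subgroup.zpowers x ≤ W := by rw [← h0]; exact inf_le_left
      exact this (Subgroup.mem_zpowers x)
  rw [hinf, Subgroup.card_bot, mul_one, hWc, hzc] at h
  rw [h, pow_two]

end ClassTwo

/-! ### normal subgroups of order `s ^ 2` -/

section NormalSq

variable {s : ℕ} [hs : Fact s.Prime]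

theorem card_dvd_mul_card_inf_centralizer_of_normal_sq {S V : Subgroup G} (hS : IsPGroup s S)
    (hVS : V ≤ S) (hSV : S ≤ Subgroup.normalizer (V : Set G)) (hV : Nat.card V = s ^ 2)
    {E : Subgroup G} (hES : E ≤ S) :
    Nat.card E ∣ s * Nat.card (E ⊓ Subgroup.centralizer (V : Set G) : Subgroup G) := by
  set U := V.subgroupOf S with hU
  have hUn : U.Normal := (Subgroup.normal_subgroupOf_iff_le_normalizer hVS).2 hSV
  have hUcard : Nat.card U = s ^ 2 := by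
    rw [← hV]; exact Nat.card_congr (Subgroup.subgroupOfEquivOfLe hVS).toEquiv
  have hUmap : U.map S.subtype = V := Subgroup.map_subgroupOf_eq_of_le hVS
  apply card_dvd_mul_card_inf_of_relIndex_dvd
  have h1 := relIndex_centralizer_dvd_of_normal_sq hS U hUcard (E.subgroupOf S)
  have h2 : (Subgroup.centralizer (U : Set S)).relIndex (E.subgroupOf S) =
      ((Subgroup.centralizer (U : Set S)).map S.subtype).relIndex
        ((E.subgroupOf S).map S.subtype) :=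
    (Subgroup.relIndex_map_map_of_injective _ _ S.subtype_injective).symm
  rw [h2, Subgroup.map_subgroupOf_eq_of_le hES] at h1
  have h3 : (Subgroup.centralizer (U : Set S)).map S.subtype =
      Subgroup.centralizer (V : Set G) ⊓ S := by
    ext x
    constructor
    · rintro ⟨c, hc, rfl⟩
      refine ⟨?_, c.2⟩
      refine Subgroup.mem_centralizer_iff.2 ?_
      intro u hu
      have := Subgroup.mem_centralizer_iff.1 hc ⟨u, hVS hu⟩ (Subgroup.mem_subgroupOf.2 hu)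
      exact congrArg Subtype.val this
    · rintro ⟨hxc, hxS⟩
      refine ⟨⟨x, hxS⟩, ?_, rfl⟩
      refine Subgroup.mem_centralizer_iff.2 ?_
      intro u hu
      apply Subtype.ext
      exact Subgroup.mem_centralizer_iff.1 hxc u (Subgroup.mem_subgroupOf.1 hu)
  rw [h3] at h1
  have h4 : (Subgroup.centralizer (V : Set G) ⊓ S).relIndex E =
      (Subgroup.centralizer (V : Set G)).relIndex E := by
    rw [← Subgroup.inf_relIndex_right, inf_assoc, inf_eq_right.2 hES,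
      Subgroup.inf_relIndex_right]
  rwa [h4] at h1

/-- the centralizer of a normal elementary abelian subgroup of order `s ^ 2` of an `s`-group of
rank at least three has rank at least three. -/
theorem not_pRankLE_centralizer_of_normal_sq {X V : Subgroup G} (hX : IsPGroup s X)
    (hr : ¬ PRankLE s 2 ↥X) (hVX : V ≤ X) (hXV : X ≤ Subgroup.normalizer (V : Set G))
    (hV : Nat.card V = s ^ 2) (hVe : IsElementaryAbelian s V) :
    ¬ PRankLE s 2 ↥(Subgroup.centralizer (V : Set G)) := by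
  have hss : s.Prime := hs.out
  obtain ⟨F₃, hFX, hFe, hFc⟩ := exists_elemAb_of_not_pRankLE hss hr
  rw [show (2 + 1 : ℕ) = 3 from rfl] at hFc
  have hdvd := card_dvd_mul_card_inf_centralizer_of_normal_sq hX hVX hXV hV hFX
  have hF2 : s ^ 2 ≤ Nat.card (F₃ ⊓ Subgroup.centralizer (V : Set G) : Subgroup G) :=
    sq_le_card_inf hFc hdvd
  set F := F₃ ⊓ Subgroup.centralizer (V : Set G) with hF
  have hFe' : IsElementaryAbelian s F := isElementaryAbelian_of_le hFe inf_le_left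
  have hFV : IsElementaryAbelian s (F ⊔ V : Subgroup G) :=
    isElementaryAbelian_sup hFe' hVe inf_le_right
  have hVV : V ≤ Subgroup.centralizer (V : Set G) := by
    intro b hb
    refine Subgroup.mem_centralizer_iff.2 ?_
    intro b' hb'
    exact congrArg Subtype.val (hVe.1.is_comm.comm ⟨b', hb'⟩ ⟨b, hb⟩)
  have hle : F ⊔ V ≤ Subgroup.centralizer (V : Set G) := sup_le inf_le_right hVV
  refine not_pRankLE_of_elemAb hle hFV ?_
  by_contra hlt
  push Not at hlt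
  -- then `F ⊔ V = V`
  have h1 : F ⊔ V = V :=
    (Subgroup.eq_of_le_of_card_ge (le_sup_right : V ≤ F ⊔ V) (by rw [hV]; exact hlt)).symm
  have h2 : F ≤ V := by rw [← h1]; exact le_sup_left
  have h3 : F = V := Subgroup.eq_of_le_of_card_ge h2 (by rw [hV]; exact hF2)
  have h4 : V ≤ F₃ := by rw [← h3]; exact inf_le_left
  have h5 : F₃ ≤ Subgroup.centralizer (V : Set G) := by
    intro b hb
    refine Subgroup.mem_centralizer_iff.2 ?_
    intro b' hb'
    exact congrArg Subtype.val (hFe.1.is_comm.comm ⟨b', h4 hb'⟩ ⟨b, hb⟩)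
  have h6 : F = F₃ := inf_eq_left.2 h5
  have h7 : Nat.card F₃ = s ^ 2 := by rw [← h6, h3, hV]
  have : s ^ 2 < s ^ 3 := Nat.pow_lt_pow_right hss.one_lt (by norm_num)
  omega

/-- commutators of a normal subgroup of order `s ^ 2` of an `s`-group `X` with `X` are central
in `X`. -/
theorem commutator_mem_centralizer_of_normal_sq {X V : Subgroup G} (hX : IsPGroup s X)
    (hVX : V ≤ X) (hXV : X ≤ Subgroup.normalizer (V : Set G)) (hV : Nat.card V = s ^ 2)
    {v y : G} (hv : v ∈ V) (hy : y ∈ X) :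
    v * y * v⁻¹ * y⁻¹ ∈ Subgroup.centralizer (X : Set G) := by
  set U := V.subgroupOf X with hU
  have hUn : U.Normal := (Subgroup.normal_subgroupOf_iff_le_normalizer hVX).2 hXV
  have hUcard : Nat.card U = s ^ 2 := by
    rw [← hV]; exact Nat.card_congr (Subgroup.subgroupOfEquivOfLe hVX).toEquiv
  have h1 := Narrow.normal_card_sq_le_upperCentralSeries_two hX U hUcard
  have hvU : (⟨v, hVX hv⟩ : ↥X) ∈ U := Subgroup.mem_subgroupOf.2 hv
  have h2 := Narrow.commutator_mem_center_of_mem_Z2 (h1 hvU) ⟨y, hy⟩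
  refine Subgroup.mem_centralizer_iff.2 ?_
  intro g hg
  have h3 := Subgroup.mem_center_iff.1 h2 ⟨g, hg⟩
  have h4 := congrArg Subtype.val h3
  simpa [commutatorElement_def] using h4

/-- in a noncyclic `s`-group `X` (`s` odd) whose `Ω₁(Z(X))` has order `s`, the class two `Ω₁`
is strictly larger than `Ω₁(Z(X))`. -/
theorem exists_mem_classTwo_not_mem (hs2 : s ≠ 2) {X T : Subgroup G} (hX : IsPGroup s X)
    (hnc : ¬ IsCyclic X) (hW : Nat.card (omegaZ s X) = s)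
    (hT : ∀ x, x ∈ T ↔ x ∈ X ∧ x ^ s = 1 ∧ ∀ y ∈ X, x * y * x⁻¹ * y⁻¹ ∈ omegaZ s X) :
    ∃ x ∈ T, x ∉ omegaZ s X := by
  have hss : s.Prime := hs.out
  obtain ⟨V, hVX, hXV, hVe, hVc, -⟩ := exists_normal_sq_rel hs2 hX hnc
  have hVT : V ≤ T := by
    intro v hv
    rw [hT]
    refine ⟨hVX hv, hVe.2 v hv, ?_⟩
    intro y hy
    have hc : v * y * v⁻¹ * y⁻¹ ∈ V := by
      have h1 : y * v⁻¹ * y⁻¹ ∈ V :=
        (Subgroup.mem_normalizer_iff.1 (hXV hy) v⁻¹).1 (V.inv_mem hv)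
      have h2 := V.mul_mem hv h1
      have h3 : v * (y * v⁻¹ * y⁻¹) = v * y * v⁻¹ * y⁻¹ := by group
      rwa [h3] at h2
    exact ⟨⟨hVX hc, commutator_mem_centralizer_of_normal_sq hX hVX hXV hVc hv hy⟩, hVe.2 _ hc⟩
  by_contra hcon
  push Not at hcon
  have hVW : V ≤ omegaZ s X := fun v hv => hcon v (hVT hv)
  have := Subgroup.card_le_of_le hVW
  rw [hVc, hW] at this
  have : s < s ^ 2 := by nlinarith [hss.one_lt]
  omega

end NormalSq

end Cfsg.Agent.Lib.H16.BG
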