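import Mathlib
import Cfsg.Agent.Lib.H16.BGs

/-! # Bender–Glauberman Lemma 9.5: admissible subgroups and frames (helper16)

For a maximal subgroup `H ≥ A` with `r_s(F(H)) ≥ 3` we construct an `H`-invariant `s`-subgroup
`T` of `O_s(F(H))` whose centralizers `C_T(B)` of the lines `B` of `E` have order at most `s`,
are "admissible" when nontrivial, and at least two of them are nontrivial. -/

set_option autoImplicit false
set_option linter.unusedSectionVars false
set_option linter.unusedVariables false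

namespace Cfsg.Agent.Lib.H16.BG

open Cfsg Cfsg.Agent.Lib.H7.BG7
open scoped commutatorElement

variable {G : Type*} [Group G] [Finite G] {p : ℕ} [hp : Fact p.Prime]

/-- `U` is an `A`-invariant subgroup of order `s` with kernel line `ℓ = C_E(U)` and
`C_G(U) ≤ H`. -/
structure Adm (A E H : Subgroup G) (p s : ℕ) (U ℓ : Subgroup G) : Prop where
  card : Nat.card U = s
  inv : A ≤ Subgroup.normalizer (U : Set G)
  ker : E ⊓ Subgroup.centralizer (U : Set G) = ℓ
  line : Nat.card ℓ = p ^ 2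
  cent : Subgroup.centralizer (U : Set G) ≤ H

/-- the output of the structure analysis of `O_s(F(H))`. -/
structure Frame (A E H : Subgroup G) (p s : ℕ) (T : Subgroup G) : Prop where
  isPGroup : IsPGroup s T
  le : T ≤ H
  norm : H ≤ Subgroup.normalizer (T : Set G)
  card_le : ∀ B : Subgroup G, B ≤ E → Nat.card B = p ^ 2 →
    Nat.card (T ⊓ Subgroup.centralizer (B : Set G) : Subgroup G) ≤ s
  adm : ∀ B : Subgroup G, B ≤ E → Nat.card B = p ^ 2 →
    T ⊓ Subgroup.centralizer (B : Set G) ≠ ⊥ →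
    Adm A E H p s (T ⊓ Subgroup.centralizer (B : Set G)) B
  two : ∃ B₁ B₂ : Subgroup G, B₁ ≤ E ∧ B₂ ≤ E ∧ Nat.card B₁ = p ^ 2 ∧ Nat.card B₂ = p ^ 2 ∧
    B₁ ≠ B₂ ∧ T ⊓ Subgroup.centralizer (B₁ : Set G) ≠ ⊥ ∧
    T ⊓ Subgroup.centralizer (B₂ : Set G) ≠ ⊥ ∧
    InUniqueMaximal ((T ⊓ Subgroup.centralizer (B₁ : Set G)) ⊔
      (T ⊓ Subgroup.centralizer (B₂ : Set G)) : Subgroup G)
  cases : (IsMulCommutative T ∧ InUniqueMaximal T) ∨
    ∃ W B₀ : Subgroup G, Nat.card W = s ∧ H ≤ Subgroup.normalizer (W : Set G) ∧ B₀ ≤ E ∧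
      Nat.card B₀ = p ^ 2 ∧ T ⊓ Subgroup.centralizer (B₀ : Set G) = W ∧
      ∀ B : Subgroup G, B ≤ E → Nat.card B = p ^ 2 → B ≠ B₀ →
        T ⊓ Subgroup.centralizer (B : Set G) ≠ ⊥ →
        InUniqueMaximal (W ⊔ (T ⊓ Subgroup.centralizer (B : Set G)) : Subgroup G)

namespace Big

variable {A E H : Subgroup G} {s : ℕ}

theorem s_ne_two (b : Big A H s) (hG : IsMinSimpleOddOrder G) : s ≠ 2 := by
  have : Fact s.Prime := ⟨b.prime⟩
  exact prime_ne_two_of_dvd_card hG (dvd_card_of_isPGroup_ne_bot b.isPGroup_X b.X_ne_bot)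

theorem odd_s (b : Big A H s) (hG : IsMinSimpleOddOrder G) : Odd s :=
  b.prime.odd_of_ne_two (b.s_ne_two hG)

theorem X_not_cyclic (b : Big A H s) : ¬ IsCyclic ↥(Fq H s) := by
  intro hc
  obtain ⟨F₃, hFX, hFe, hFc⟩ := exists_elemAb_of_not_pRankLE b.prime b.rank_X
  have h2 : s ^ 2 ≤ Nat.card F₃ :=
    le_trans (Nat.pow_le_pow_right b.prime.pos (by norm_num)) hFc
  exact not_isCyclic_of_elemAb b.prime hFe h2 (isCyclic_of_le' hFX hc)

theorem coprime_of_isPGroup (b : Big A H s) (c : Ctx p A E) {R : Subgroup G} (hR : IsPGroup s R) :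
    (Nat.card R).Coprime p := by
  have : Fact s.Prime := ⟨b.prime⟩
  obtain ⟨k, hk⟩ := IsPGroup.iff_card.1 hR
  rw [hk]
  exact Nat.Coprime.pow_left k ((Nat.coprime_primes b.prime hp.out).2 (b.ne c))

theorem A_le_normalizer_X (b : Big A H s) : A ≤ Subgroup.normalizer (Fq H s : Set G) :=
  b.le.trans (le_normalizer_Fq H s)

/-- the shared bound: an elementary abelian `s`-group centralized by a line of `E` and with a
centralizer of `s`-rank at least three has order at most `s`. -/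
theorem card_le_of_centralized (b : Big A H s) (c : Ctx p A E) {R B : Subgroup G}
    (hRe : IsElementaryAbelian s R) (hBE : B ≤ E) (hB : p ^ 2 ≤ Nat.card B)
    (hBR : B ≤ Subgroup.centralizer (R : Set G))
    (hr : ¬ PRankLE s 2 ↥(Subgroup.centralizer (R : Set G))) : Nat.card R ≤ s := by
  have hpp : p.Prime := hp.out
  by_contra hlt
  push Not at hlt
  have hRs : IsPGroup s R := isPGroup_of_elemAb hRe
  have h2 : s ^ 2 ≤ Nat.card R := sq_le_card_of_lt b.prime hRs hlt
  have hRU : InUniqueMaximal R := b.fact3 c.hG hRs (not_isCyclic_of_elemAb b.prime hRe h2) hr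
  have h3 := c.fact1 hRU
  have h4 : Nat.card B ≤ Nat.card (E ⊓ Subgroup.centralizer (R : Set G) : Subgroup G) :=
    Subgroup.card_le_of_le (le_inf hBE hBR)
  have : p < p ^ 2 := by nlinarith [hpp.one_lt]
  omega

/-- `A` normalizes the centralizer of every subgroup of `A`. -/
theorem _root_.Cfsg.Agent.Lib.H16.BG.Ctx.le_normalizer_centralizer (c : Ctx p A E)
    {B : Subgroup G} (hB : B ≤ A) :
    A ≤ Subgroup.normalizer ((Subgroup.centralizer (B : Set G) : Subgroup G) : Set G) :=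
  ((c.A_le_centralizer hB).trans (Subgroup.centralizer_le_normalizer _)).trans
    (normalizer_le_normalizer_centralizer B)

/-- Case I: `W = Ω₁(Z(X))` is not cyclic. -/
theorem frame_of_noncyclic (b : Big A H s) (c : Ctx p A E)
    (hW2 : s ^ 2 ≤ Nat.card (omegaZ s (Fq H s))) : Frame A E H p s (omegaZ s (Fq H s)) := by
  have hpp : p.Prime := hp.out
  have hsF : Fact s.Prime := ⟨b.prime⟩
  have hss : s.Prime := b.prime
  set X := Fq H s with hX
  set W := omegaZ s X with hW
  have hWe : IsElementaryAbelian s W := omegaZ_elemAb s X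
  have hWs : IsPGroup s W := isPGroup_of_elemAb hWe
  have hWX : W ≤ X := omegaZ_le s X
  have hXW : X ≤ Subgroup.centralizer (W : Set G) := le_centralizer_omegaZ s X
  have hHW : H ≤ Subgroup.normalizer (W : Set G) :=
    (le_normalizer_Fq H s).trans (normalizer_le_normalizer_omegaZ s X)
  have hAW : A ≤ Subgroup.normalizer (W : Set G) := b.le.trans hHW
  have hEW : E ≤ Subgroup.normalizer (W : Set G) := c.hEA.trans hAW
  have hWcop : (Nat.card W).Coprime p := b.coprime_of_isPGroup c hWs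
  have hW1 : W ≠ ⊥ := by
    intro h
    rw [h, Subgroup.card_bot] at hW2
    have : 1 < s ^ 2 := Nat.one_lt_pow (by norm_num) hss.one_lt
    omega
  -- (I-1)
  have h1 : ∀ B : Subgroup G, B ≤ E → p ^ 2 ≤ Nat.card B →
      Nat.card (W ⊓ Subgroup.centralizer (B : Set G) : Subgroup G) ≤ s := by
    intro B hBE hB
    apply b.card_le_of_centralized c (isElementaryAbelian_of_le hWe inf_le_left) hBE hB
      (le_centralizer_comm inf_le_right)
    intro hr
    exact b.rank_X (pRankLE_of_le (hXW.trans (centralizer_anti inf_le_left)) hr)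
  -- (I-2)
  have h2 : W ⊓ Subgroup.centralizer (E : Set G) = ⊥ := by
    by_contra hne
    have hc : Nat.card (W ⊓ Subgroup.centralizer (E : Set G) : Subgroup G) = s :=
      card_eq_of_le_of_ne_bot hss (hWs.to_le inf_le_left)
        (h1 E le_rfl (by rw [c.hEc]; exact Nat.pow_le_pow_right hpp.pos (by norm_num))) hne
    have hle : W ≤ W ⊓ Subgroup.centralizer (E : Set G) := by
      apply le_of_forall_line_le c.hEe c.hEc hWcop hEW
      intro B hBE hB
      have h3 : W ⊓ Subgroup.centralizer (E : Set G) ≤ W ⊓ Subgroup.centralizer (B : Set G) :=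
        inf_le_inf_left _ (centralizer_anti hBE)
      have h4 := Subgroup.eq_of_le_of_card_ge h3 (by rw [hc]; exact h1 B hBE (le_of_eq hB.symm))
      rw [h4]
    have := Subgroup.card_le_of_le hle
    rw [hc] at this
    have : s < s ^ 2 := by nlinarith [hss.one_lt]
    omega
  -- centralizers of nontrivial subgroups of `W` lie in `H`
  have hcent : ∀ R : Subgroup G, R ≤ W → R ≠ ⊥ → Subgroup.centralizer (R : Set G) ≤ H := by
    intro R hRW hR1
    exact b.le_of_X_le c.hG (hXW.trans (centralizer_anti hRW)) (centralizer_ne_top_of_ne_bot c.hG hR1)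
  -- (I-3)
  have hadm : ∀ B : Subgroup G, B ≤ E → Nat.card B = p ^ 2 →
      W ⊓ Subgroup.centralizer (B : Set G) ≠ ⊥ →
      Adm A E H p s (W ⊓ Subgroup.centralizer (B : Set G)) B := by
    intro B hBE hB hne
    refine ⟨card_eq_of_le_of_ne_bot hss (hWs.to_le inf_le_left) (h1 B hBE (le_of_eq hB.symm)) hne,
      le_normalizer_inf' hAW (c.le_normalizer_centralizer (hBE.trans c.hEA)), ?_, hB,
      hcent _ inf_le_left hne⟩
    have hle : B ≤ E ⊓ Subgroup.centralizer
        ((W ⊓ Subgroup.centralizer (B : Set G) : Subgroup G) : Set G) :=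
      le_inf hBE (le_centralizer_comm inf_le_right)
    rcases E3.eq_or_eq_of_le c.hEc hB hle inf_le_left with h | h
    · exact h
    · exfalso
      apply hne
      rw [eq_bot_iff, ← h2]
      refine le_inf inf_le_left ?_
      have : E ≤ Subgroup.centralizer
          ((W ⊓ Subgroup.centralizer (B : Set G) : Subgroup G) : Set G) := by
        rw [← h]; exact inf_le_right
      exact le_centralizer_comm this
  -- (I-4)
  obtain ⟨B₁, hB₁E, hB₁, hne₁⟩ : ∃ B₁ : Subgroup G, B₁ ≤ E ∧ Nat.card B₁ = p ^ 2 ∧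
      W ⊓ Subgroup.centralizer (B₁ : Set G) ≠ ⊥ := by
    by_contra hcon
    push Not at hcon
    apply hW1
    rw [eq_bot_iff]
    apply le_of_forall_line_le c.hEe c.hEc hWcop hEW
    intro B hBE hB
    rw [hcon B hBE hB]
  obtain ⟨B₂, hB₂E, hB₂, hB₁₂, hne₂⟩ : ∃ B₂ : Subgroup G, B₂ ≤ E ∧ Nat.card B₂ = p ^ 2 ∧
      B₁ ≠ B₂ ∧ W ⊓ Subgroup.centralizer (B₂ : Set G) ≠ ⊥ := by
    by_contra hcon
    push Not at hcon
    have hle : W ≤ W ⊓ Subgroup.centralizer (B₁ : Set G) := by
      apply le_of_forall_line_le c.hEe c.hEc hWcop hEW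
      intro B hBE hB
      by_cases hBB : B₁ = B
      · rw [hBB]
      · rw [hcon B hBE hB hBB]; exact bot_le
    have := (Subgroup.card_le_of_le hle).trans (h1 B₁ hB₁E (le_of_eq hB₁.symm))
    have : s < s ^ 2 := by nlinarith [hss.one_lt]
    omega
  have hnc : ∀ R : Subgroup G, R ≤ W → s ^ 2 ≤ Nat.card R → InUniqueMaximal R := by
    intro R hRW hR2
    exact b.unique_of_le_centralizer_X c.hG (hWs.to_le hRW)
      (not_isCyclic_of_elemAb hss (isElementaryAbelian_of_le hWe hRW) hR2)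
      (hXW.trans (centralizer_anti hRW))
  refine ⟨hWs, hWX.trans b.X_le, hHW, fun B hBE hB => h1 B hBE (le_of_eq hB.symm), hadm,
    ⟨B₁, B₂, hB₁E, hB₂E, hB₁, hB₂, hB₁₂, hne₁, hne₂, ?_⟩, Or.inl ⟨hWe.1, hnc W le_rfl hW2⟩⟩
  set R₁ := W ⊓ Subgroup.centralizer (B₁ : Set G) with hR₁
  set R₂ := W ⊓ Subgroup.centralizer (B₂ : Set G) with hR₂
  apply hnc _ (sup_le inf_le_left inf_le_left)
  apply sq_le_card_of_lt hss (hWs.to_le (sup_le inf_le_left inf_le_left))
  have hc₁ : Nat.card R₁ = s := (hadm B₁ hB₁E hB₁ hne₁).card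
  have hc₂ : Nat.card R₂ = s := (hadm B₂ hB₂E hB₂ hne₂).card
  rw [← hc₁]
  apply lt_of_le_of_ne (Subgroup.card_le_of_le le_sup_left)
  intro heq
  have h3 : R₁ = R₁ ⊔ R₂ := Subgroup.eq_of_le_of_card_ge le_sup_left (le_of_eq heq.symm)
  have h4 : R₂ ≤ R₁ := by rw [h3]; exact le_sup_right
  have h5 : R₂ = R₁ := Subgroup.eq_of_le_of_card_ge h4 (by rw [hc₁, hc₂])
  apply hne₂
  rw [eq_bot_iff, ← h2]
  refine le_inf inf_le_left ?_
  rw [← E3.sup_eq_of_ne c.hEc hB₁E hB₂E hB₁ hB₂ hB₁₂, centralizer_sup_eq]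
  refine le_inf ?_ inf_le_right
  show R₂ ≤ _
  rw [h5]
  exact inf_le_right

/-- Case II: `W = Ω₁(Z(X))` has order `s`. -/
theorem frame_of_cyclic (b : Big A H s) (c : Ctx p A E)
    (hWc : Nat.card (omegaZ s (Fq H s)) = s) : ∃ T, Frame A E H p s T := by
  have hpp : p.Prime := hp.out
  have hsF : Fact s.Prime := ⟨b.prime⟩
  have hss : s.Prime := b.prime
  set X := Fq H s with hX
  set W := omegaZ s X with hW
  have hXs : IsPGroup s X := b.isPGroup_X
  have hWe : IsElementaryAbelian s W := omegaZ_elemAb s X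
  have hWs : IsPGroup s W := isPGroup_of_elemAb hWe
  have hWX : W ≤ X := omegaZ_le s X
  have hXW : X ≤ Subgroup.centralizer (W : Set G) := le_centralizer_omegaZ s X
  have hHX : H ≤ Subgroup.normalizer (X : Set G) := le_normalizer_Fq H s
  have hHW : H ≤ Subgroup.normalizer (W : Set G) :=
    hHX.trans (normalizer_le_normalizer_omegaZ s X)
  have hAW : A ≤ Subgroup.normalizer (W : Set G) := b.le.trans hHW
  have hW1 : W ≠ ⊥ := by
    intro h
    rw [h, Subgroup.card_bot] at hWc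
    exact hss.one_lt.ne' hWc.symm
  obtain ⟨T, hT⟩ := exists_classTwoOmega (b.odd_s c.hG) hWX hXW hWe.2
  have hTX : T ≤ X := fun x hx => ((hT x).1 hx).1
  have hTs : IsPGroup s T := hXs.to_le hTX
  have hWT : W ≤ T := by
    intro w hw
    rw [hT]
    refine ⟨hWX hw, hWe.2 w hw, fun y hy => ?_⟩
    have h1 : w * y = y * w := Subgroup.mem_centralizer_iff.1 (hXW hy) w hw
    have h2 : w * y * w⁻¹ * y⁻¹ = 1 := by rw [h1]; group
    rw [h2]; exact W.one_mem
  have hHT : H ≤ Subgroup.normalizer (T : Set G) := fun g hg =>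
    classTwo_le_normalizer hT (hHX hg) (hHW hg)
  have hAT : A ≤ Subgroup.normalizer (T : Set G) := b.le.trans hHT
  have hET : E ≤ Subgroup.normalizer (T : Set G) := c.hEA.trans hAT
  have hTcop : (Nat.card T).Coprime p := b.coprime_of_isPGroup c hTs
  have hTexp : ∀ x ∈ T, x ^ s = 1 := fun x hx => ((hT x).1 hx).2.1
  have hCW : Subgroup.centralizer (W : Set G) ≤ H :=
    b.le_of_X_le c.hG hXW (centralizer_ne_top_of_ne_bot c.hG hW1)
  -- (II-1)
  have hV : ∀ x ∈ T, x ∉ W → InUniqueMaximal (W ⊔ Subgroup.zpowers x : Subgroup G) ∧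
      (W ⊔ Subgroup.zpowers x : Subgroup G) ≤ H := by
    intro x hx hxW
    have hVX : (W ⊔ Subgroup.zpowers x : Subgroup G) ≤ X :=
      sup_le hWX (Subgroup.zpowers_le.2 (hTX hx))
    have hVe := classTwo_sup_elemAb hWe hXW hT hx
    have hVc := classTwo_sup_card hss hWc hXW hT hx hxW
    refine ⟨b.fact3 c.hG (hXs.to_le hVX) (not_isCyclic_of_elemAb hss hVe (le_of_eq hVc.symm)) ?_,
      hVX.trans b.X_le⟩
    exact not_pRankLE_centralizer_of_normal_sq hXs b.rank_X hVX
      (classTwo_le_normalizer_sup hXW hT hx) hVc hVe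
  set B₀ := E ⊓ Subgroup.centralizer (W : Set G) with hB₀
  -- (II-0)
  have hB₀2 : p ^ 2 ≤ Nat.card B₀ :=
    sq_le_card_inf (le_of_eq c.hEc.symm) (card_dvd_mul_card_inf_of_relIndex_dvd
      (relIndex_centralizer_dvd_of_card_prime hss hWc c.hEe.2 (c.hEA.trans hAW)))
  -- (II-2)
  have h2 : ∀ B : Subgroup G, B ≤ B₀ → p ^ 2 ≤ Nat.card B →
      T ⊓ Subgroup.centralizer (B : Set G) ≤ W := by
    intro B hBB₀ hB x hx
    by_contra hxW
    have h3 := c.fact1 (hV x hx.1 hxW).1
    have h4 : B ≤ E ⊓ Subgroup.centralizer ((W ⊔ Subgroup.zpowers x : Subgroup G) : Set G) := by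
      refine le_inf (hBB₀.trans inf_le_left) ?_
      rw [centralizer_sup_eq]
      refine le_inf (hBB₀.trans inf_le_right) ?_
      rw [centralizer_zpowers_eq]
      intro y hy
      rw [Subgroup.mem_centralizer_singleton_iff]
      exact Subgroup.mem_centralizer_iff.1 hx.2 y hy
    have := Subgroup.card_le_of_le h4
    have : p < p ^ 2 := by nlinarith [hpp.one_lt]
    omega
  obtain ⟨x₀, hx₀T, hx₀W⟩ := exists_mem_classTwo_not_mem (b.s_ne_two c.hG) hXs b.X_not_cyclic hWc hT
  -- (II-3)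
  have hB₀E : B₀ ≠ E := by
    intro h
    apply hx₀W
    have : T ≤ W := by
      apply le_of_forall_line_le c.hEe c.hEc hTcop hET
      intro B hBE hB
      exact h2 B (by rw [h]; exact hBE) (le_of_eq hB.symm)
    exact this hx₀T
  have hB₀c : Nat.card B₀ = p ^ 2 := by
    obtain ⟨B', hB'B₀, hB'c⟩ := E3.exists_line_le c.hEe (inf_le_left : B₀ ≤ E) hB₀2
    rcases E3.eq_or_eq_of_le c.hEc hB'c hB'B₀ (inf_le_left : B₀ ≤ E) with h | h
    · rw [hB₀, h]; exact hB'c
    · exact absurd h hB₀E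
  -- (II-4)
  have h4 : T ⊓ Subgroup.centralizer (B₀ : Set G) = W :=
    le_antisymm (h2 B₀ le_rfl hB₀2) (le_inf hWT (le_centralizer_comm inf_le_right))
  -- (II-5)
  have h5 : T ⊓ Subgroup.centralizer (E : Set G) = ⊥ := by
    have h6 : T ⊓ Subgroup.centralizer (E : Set G) ≤ W ⊓ Subgroup.centralizer (E : Set G) := by
      refine le_inf ?_ inf_le_right
      rw [← h4]
      exact inf_le_inf_left _ (centralizer_anti inf_le_left)
    rw [eq_bot_iff]
    refine h6.trans ?_
    rcases eq_bot_or_eq_of_le_of_card_prime hss hWc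
      (inf_le_left : W ⊓ Subgroup.centralizer (E : Set G) ≤ W) with h | h
    · rw [h]
    · exfalso
      apply hB₀E
      apply le_antisymm inf_le_left
      refine le_inf le_rfl (le_centralizer_comm ?_)
      rw [← h]; exact inf_le_right
  -- (II-6)
  have h6 : ∀ B : Subgroup G, B ≤ E → Nat.card B = p ^ 2 → B ≠ B₀ →
      (T ⊓ Subgroup.centralizer (B : Set G)) ⊓ W = ⊥ := by
    intro B hBE hB hBB₀
    rcases eq_bot_or_eq_of_le_of_card_prime hss hWc
      (inf_le_right : (T ⊓ Subgroup.centralizer (B : Set G)) ⊓ W ≤ W) with h | h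
    · exact h
    · exfalso
      apply hBB₀
      have h7 : W ≤ Subgroup.centralizer (B : Set G) := by
        rw [← h]; exact inf_le_left.trans inf_le_right
      exact Subgroup.eq_of_le_of_card_ge (le_inf hBE (le_centralizer_comm h7))
        (by rw [hB, hB₀c])
  have h6e : ∀ B : Subgroup G, B ≤ E → Nat.card B = p ^ 2 → B ≠ B₀ →
      IsElementaryAbelian s (T ⊓ Subgroup.centralizer (B : Set G) : Subgroup G) := by
    intro B hBE hB hBB₀
    refine ⟨⟨⟨?_⟩⟩, fun x hx => hTexp x hx.1⟩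
    rintro ⟨x, hx⟩ ⟨y, hy⟩
    apply Subtype.ext
    show x * y = y * x
    have h7 : x * y * x⁻¹ * y⁻¹ ∈ (T ⊓ Subgroup.centralizer (B : Set G)) ⊓ W := by
      refine ⟨?_, ((hT x).1 hx.1).2.2 y (hTX hy.1)⟩
      exact Subgroup.mul_mem _ (Subgroup.mul_mem _ (Subgroup.mul_mem _ hx hy)
        (Subgroup.inv_mem _ hx)) (Subgroup.inv_mem _ hy)
    rw [h6 B hBE hB hBB₀, Subgroup.mem_bot] at h7
    calc x * y = (x * y * x⁻¹ * y⁻¹) * y * x := by group
      _ = y * x := by rw [h7, one_mul]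
  have hWR : ∀ B : Subgroup G,
      W ≤ Subgroup.centralizer ((T ⊓ Subgroup.centralizer (B : Set G) : Subgroup G) : Set G) :=
    fun B => le_centralizer_comm ((inf_le_left.trans hTX).trans hXW)
  have h6c : ∀ B : Subgroup G, B ≤ E → Nat.card B = p ^ 2 → B ≠ B₀ →
      Nat.card (T ⊓ Subgroup.centralizer (B : Set G) : Subgroup G) ≤ s := by
    intro B hBE hB hBB₀
    by_contra hlt
    push Not at hlt
    set R := T ⊓ Subgroup.centralizer (B : Set G) with hR
    have hRe := h6e B hBE hB hBB₀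
    have hR2 : s ^ 2 ≤ Nat.card R := sq_le_card_of_lt hss (hTs.to_le inf_le_left) hlt
    have hle : Nat.card R ≤ s := b.card_le_of_centralized c hRe hBE (le_of_eq hB.symm)
      (le_centralizer_comm inf_le_right) (by
        have hRR : R ≤ Subgroup.centralizer (R : Set G) := by
          intro x hx
          refine Subgroup.mem_centralizer_iff.2 ?_
          intro y hy
          exact congrArg Subtype.val (hRe.1.is_comm.comm ⟨y, hy⟩ ⟨x, hx⟩)
        have hWRe : IsElementaryAbelian s (W ⊔ R : Subgroup G) :=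
          isElementaryAbelian_sup hWe hRe (hWR B)
        refine not_pRankLE_of_elemAb (sup_le (hWR B) hRR) hWRe ?_
        have hprod := card_sup_mul_card_inf
          ((hWR B).trans (Subgroup.centralizer_le_normalizer _))
        have hinf : W ⊓ R = ⊥ := by rw [inf_comm]; exact h6 B hBE hB hBB₀
        rw [hinf, Subgroup.card_bot, mul_one, hWc] at hprod
        rw [hprod]
        calc s ^ 2 < s * s ^ 2 := by nlinarith [hss.one_lt, pow_pos hss.pos 2]
          _ ≤ s * Nat.card R := Nat.mul_le_mul_left _ hR2)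
    omega
  -- the uniqueness subgroups `W × R_B`
  have h7 : ∀ B : Subgroup G, B ≤ E → Nat.card B = p ^ 2 → B ≠ B₀ →
      T ⊓ Subgroup.centralizer (B : Set G) ≠ ⊥ →
      InUniqueMaximal (W ⊔ (T ⊓ Subgroup.centralizer (B : Set G)) : Subgroup G) ∧
        (W ⊔ (T ⊓ Subgroup.centralizer (B : Set G)) : Subgroup G) ≤ H := by
    intro B hBE hB hBB₀ hne
    have hRc : Nat.card (T ⊓ Subgroup.centralizer (B : Set G) : Subgroup G) = s :=
      card_eq_of_le_of_ne_bot hss (hTs.to_le inf_le_left) (h6c B hBE hB hBB₀) hne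
    obtain ⟨⟨x, hx⟩, hx1'⟩ := (Subgroup.ne_bot_iff_exists_ne_one).1 hne
    have hx1 : x ≠ 1 := fun h => hx1' (Subtype.ext h)
    have hxW : x ∉ W := by
      intro hxW
      have : x ∈ (T ⊓ Subgroup.centralizer (B : Set G)) ⊓ W := ⟨hx, hxW⟩
      rw [h6 B hBE hB hBB₀, Subgroup.mem_bot] at this
      exact hx1 this
    rw [← zpowers_eq_of_card_prime hss hRc hx hx1]
    exact hV x hx.1 hxW
  refine ⟨T, hTs, hTX.trans b.X_le, hHT, ?_, ?_, ?_, Or.inr ⟨W, B₀, hWc, hHW, inf_le_left, hB₀c,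
    h4, fun B hBE hB hBB₀ hne => (h7 B hBE hB hBB₀ hne).1⟩⟩
  · intro B hBE hB
    by_cases hBB₀ : B = B₀
    · rw [hBB₀, h4, hWc]
    · exact h6c B hBE hB hBB₀
  · intro B hBE hB hne
    by_cases hBB₀ : B = B₀
    · rw [hBB₀, h4]
      exact ⟨hWc, hAW, rfl, hB₀c, hCW⟩
    · have hRc : Nat.card (T ⊓ Subgroup.centralizer (B : Set G) : Subgroup G) = s :=
        card_eq_of_le_of_ne_bot hss (hTs.to_le inf_le_left) (h6c B hBE hB hBB₀) hne
      refine ⟨hRc, le_normalizer_inf' hAT (c.le_normalizer_centralizer (hBE.trans c.hEA)), ?_, hB,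
        ?_⟩
      · have hle : B ≤ E ⊓ Subgroup.centralizer
            ((T ⊓ Subgroup.centralizer (B : Set G) : Subgroup G) : Set G) :=
          le_inf hBE (le_centralizer_comm inf_le_right)
        rcases E3.eq_or_eq_of_le c.hEc hB hle inf_le_left with h | h
        · exact h
        · exfalso
          apply hne
          rw [eq_bot_iff, ← h5]
          refine le_inf inf_le_left ?_
          have : E ≤ Subgroup.centralizer
              ((T ⊓ Subgroup.centralizer (B : Set G) : Subgroup G) : Set G) := by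
            rw [← h]; exact inf_le_right
          exact le_centralizer_comm this
      · obtain ⟨hU, hle⟩ := h7 B hBE hB hBB₀ hne
        refine le_of_inUniqueMaximal hU b.coatom hle (centralizer_ne_top_of_ne_bot c.hG hne) ?_
        refine sup_le (hWR B) ?_
        intro x hx
        refine Subgroup.mem_centralizer_iff.2 ?_
        intro y hy
        exact congrArg Subtype.val ((h6e B hBE hB hBB₀).1.is_comm.comm ⟨y, hy⟩ ⟨x, hx⟩)
  · obtain ⟨B₂, hB₂E, hB₂, hB₂B₀, hne₂⟩ : ∃ B₂ : Subgroup G, B₂ ≤ E ∧ Nat.card B₂ = p ^ 2 ∧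
        B₂ ≠ B₀ ∧ T ⊓ Subgroup.centralizer (B₂ : Set G) ≠ ⊥ := by
      by_contra hcon
      push Not at hcon
      apply hx₀W
      have : T ≤ W := by
        apply le_of_forall_line_le c.hEe c.hEc hTcop hET
        intro B hBE hB
        by_cases hBB₀ : B = B₀
        · rw [hBB₀, h4]
        · rw [hcon B hBE hB hBB₀]; exact bot_le
      exact this hx₀T
    refine ⟨B₀, B₂, inf_le_left, hB₂E, hB₀c, hB₂, hB₂B₀.symm, by rw [h4]; exact hW1, hne₂, ?_⟩
    rw [h4]
    exact (h7 B₂ hB₂E hB₂ hB₂B₀ hne₂).1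

/-- **(C2′)**: every big maximal subgroup has a frame. -/
theorem exists_frame (b : Big A H s) (c : Ctx p A E) : ∃ T, Frame A E H p s T := by
  have hsF : Fact s.Prime := ⟨b.prime⟩
  have hW1 : omegaZ s (Fq H s) ≠ ⊥ := omegaZ_ne_bot b.isPGroup_X b.X_ne_bot
  have hWs : IsPGroup s (omegaZ s (Fq H s)) := isPGroup_of_elemAb (omegaZ_elemAb s _)
  by_cases h : Nat.card (omegaZ s (Fq H s)) ≤ s
  · exact b.frame_of_cyclic c (card_eq_of_le_of_ne_bot b.prime hWs h hW1)
  · push Not at h
    exact ⟨_, b.frame_of_noncyclic c (sq_le_card_of_lt b.prime hWs h)⟩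

end Big

end Cfsg.Agent.Lib.H16.BG
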