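import Mathlib
import Cfsg.Agent.Lib.H16.BGt
import Cfsg.Agent.Lib.H16.RankTwoD
import Cfsg.Agent.Lib.H1.CoprimeSylow
import Cfsg.Agent.Lib.H8.FrobFormula2

/-! # Bender–Glauberman Lemma 9.5: helper lemmas for the local analysis (helper16) -/

set_option autoImplicit false
set_option linter.unusedSectionVars false
set_option linter.unusedVariables false

namespace Cfsg.Agent.Lib.H16.BG

open Cfsg Cfsg.Agent.Lib.H7.BG7
open scoped commutatorElement

variable {G : Type*} [Group G] [Finite G]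

theorem mem_of_pow_mem_of_coprime {H : Subgroup G} {d : G} {m n : ℕ} (hmn : m.Coprime n)
    (hm : d ^ m ∈ H) (hn : d ^ n ∈ H) : d ∈ H := by
  have h1 : (1 : ℤ) = (m : ℤ) * Nat.gcdA m n + (n : ℤ) * Nat.gcdB m n := by
    have := Nat.gcd_eq_gcd_ab m n
    rw [hmn.gcd_eq_one] at this
    exact_mod_cast this
  have h2 : d = (d ^ m) ^ (Nat.gcdA m n) * (d ^ n) ^ (Nat.gcdB m n) := by
    rw [← zpow_natCast d m, ← zpow_natCast d n, ← zpow_mul, ← zpow_mul, ← zpow_add, ← h1, zpow_one]
  rw [h2]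
  exact H.mul_mem (H.zpow_mem hm _) (H.zpow_mem hn _)

theorem sylIn_of_isSylowOf {q : ℕ} [Fact q.Prime] {K P : Subgroup G}
    (h : Cfsg.Agent.Lib.H1.IsSylowOf q K P) : SylIn q P K := by
  obtain ⟨P₀, hP₀⟩ := SylIn.exists_sylIn q K
  exact hP₀.of_card_ge h.isPGroup h.le (by rw [hP₀.card_eq, h.card_eq])

theorem mem_centralizer_of_conjAutHom_eq_one {M R : Subgroup G}
    (hMR : M ≤ Subgroup.normalizer (R : Set G)) {e : ↥M}
    (h : Cfsg.Agent.Lib.H1.conjAutHom hMR e = 1) :
    (e : G) ∈ Subgroup.centralizer (R : Set G) := by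
  refine Subgroup.mem_centralizer_iff.2 ?_
  intro u hu
  have h1 := congrArg (fun β : MulAut ↥R => ((β ⟨u, hu⟩ : ↥R) : G)) h
  simp only [MulAut.one_apply] at h1
  have h2 : (e : G) * u * (e : G)⁻¹ = u := h1
  calc u * (e : G) = ((e : G) * u * (e : G)⁻¹) * (e : G) := by rw [h2]
    _ = (e : G) * u := by group

/-- a solvable group `M` of odd order normalizing a `q`-group `R` of rank at most two: the
elements of `M'` induce `q`-elements on `R`. -/
theorem exists_pow_mem_centralizer_of_mem_commutator {q : ℕ} [hq : Fact q.Prime] (hq2 : q ≠ 2)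
    {R M : Subgroup G} (hR : IsPGroup q R) (hr : PRankLE q 2 ↥R)
    (hMR : M ≤ Subgroup.normalizer (R : Set G)) (hMs : Group.IsSolvable ↥M)
    (hModd : Odd (Nat.card ↥M)) {d : G} (hd : d ∈ ⁅M, M⁆) :
    ∃ k : ℕ, d ^ (q ^ k) ∈ Subgroup.centralizer (R : Set G) := by
  classical
  set ρ := Cfsg.Agent.Lib.H1.conjAutHom hMR with hρ
  have hs : Group.IsSolvable ↥ρ.range :=
    Group.isSolvable_of_surjective (f := ρ.rangeRestrict) ρ.rangeRestrict_surjective
  have hodd : Odd (Nat.card ↥ρ.range) := by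
    have : Nat.card ↥ρ.range ∣ Nat.card ↥M := by
      rw [← Subgroup.index_ker]; exact Subgroup.index_dvd_card _
    exact hModd.of_dvd_nat this
  have hker : IsPGroup q (ρ.range.subtype).ker := by
    rw [Subgroup.ker_subtype]; exact IsPGroup.of_bot
  have hmain : IsPGroup q ↥(commutator ↥ρ.range) :=
    RankTwo.isPGroup_commutator_of_action hq2 hR hr hs hodd ρ.range.subtype hker
  have hmap : (commutator ↥M).map M.subtype = ⁅M, M⁆ := by
    rw [commutator_def, Subgroup.map_commutator, ← MonoidHom.range_eq_map, Subgroup.range_subtype]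
  rw [← hmap] at hd
  obtain ⟨d', hd', rfl⟩ := hd
  have h1 : ρ.rangeRestrict d' ∈ commutator ↥ρ.range := by
    have h2 : (commutator ↥M).map ρ.rangeRestrict ≤ commutator ↥ρ.range := by
      rw [commutator_def, Subgroup.map_commutator, commutator_def]
      exact Subgroup.commutator_mono le_top le_top
    exact h2 (Subgroup.mem_map_of_mem _ hd')
  obtain ⟨k, hk⟩ := hmain ⟨_, h1⟩
  refine ⟨k, ?_⟩
  have h3 : ρ (d' ^ (q ^ k)) = 1 := by
    have h4 := congrArg (fun z : ↥(commutator ↥ρ.range) => ((z : ↥ρ.range) : MulAut ↥R)) hk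
    simpa using h4
  have := mem_centralizer_of_conjAutHom_eq_one hMR h3
  simpa using this

/-- an `s`-element of `Y` normalizing a Sylow `s`-subgroup of `Y` lies in it. -/
theorem SylIn.mem_of_pow_eq_one {q : ℕ} [hq : Fact q.Prime] {S Y : Subgroup G}
    (hS : SylIn q S Y) {d : G} (hdY : d ∈ Y) (hdN : d ∈ Subgroup.normalizer (S : Set G)) {k : ℕ}
    (hd : d ^ (q ^ k) = 1) : d ∈ S := by
  have hQ : IsPGroup q (Subgroup.zpowers d) := by
    rw [IsPGroup.iff_card, Nat.card_zpowers]
    exact (Nat.dvd_prime_pow hq.out).1 (orderOf_dvd_of_pow_eq_one hd) |>.elim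
      (fun j hj => ⟨j, hj.2⟩)
  have hQN : Subgroup.zpowers d ≤ Subgroup.normalizer (S : Set G) := Subgroup.zpowers_le.2 hdN
  have h1 : IsPGroup q (Subgroup.zpowers d ⊔ S : Subgroup G) :=
    hQ.to_sup_of_normal_right' hS.isPGroup hQN
  have h2 := hS.eq_of_le le_sup_right (sup_le (Subgroup.zpowers_le.2 hdY) hS.le) h1
  rw [h2]
  exact (le_sup_left : Subgroup.zpowers d ≤ _) (Subgroup.mem_zpowers d)

/-- a group `U` of prime order `s` and an element `e'` of order `p` not centralizing it form a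
Frobenius group acting on any invariant solvable group of order prime to `s p`. -/
theorem frobAct_of_prime {p : ℕ} [hp : Fact p.Prime] {s : ℕ} (hs : s.Prime) (hsp : s ≠ p)
    {U : Subgroup G} (hUc : Nat.card U = s) {e' : G} (he'p : e' ^ p = 1)
    (he'N : e' ∈ Subgroup.normalizer (U : Set G)) (he'C : e' ∉ Subgroup.centralizer (U : Set G))
    {O : Subgroup G} (hOs : (Nat.card O).Coprime s) (hOp : (Nat.card O).Coprime p)
    (hUO : U ≤ Subgroup.normalizer (O : Set G)) (he'O : e' ∈ Subgroup.normalizer (O : Set G))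
    (hsolv : Group.IsSolvable ↥O) : Cfsg.Agent.Lib.H8.FrobAct U (Subgroup.zpowers e') O := by
  have hpp : p.Prime := hp.out
  have he'1 : e' ≠ 1 := by
    rintro rfl
    exact he'C (Subgroup.one_mem _)
  have hRc : Nat.card (Subgroup.zpowers e') = p := by
    rw [Nat.card_zpowers]; exact orderOf_eq_prime he'p he'1
  have hRN : Subgroup.zpowers e' ≤ Subgroup.normalizer (U : Set G) := Subgroup.zpowers_le.2 he'N
  have hRO : Subgroup.zpowers e' ≤ Subgroup.normalizer (O : Set G) := Subgroup.zpowers_le.2 he'O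
  have hcardUR : Nat.card (U ⊔ Subgroup.zpowers e' : Subgroup G) ∣ s * p := by
    have h := card_sup_mul_card_inf hRN
    rw [hRc, hUc, sup_comm] at h
    rw [mul_comm s p, ← h]
    exact Dvd.intro _ rfl
  have hcop : Nat.Coprime (Nat.card O) (Nat.card (U ⊔ Subgroup.zpowers e' : Subgroup G)) :=
    Nat.Coprime.coprime_dvd_right hcardUR (Nat.Coprime.mul_right hOs hOp)
  refine ⟨?_, ?_, ?_, ?_, fpf_of_not_mem_centralizer hs hUc he'p he'C, ?_, ?_, hsolv, hcop⟩
  · intro h
    rw [h, Subgroup.card_bot] at hUc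
    exact hs.one_lt.ne' hUc.symm
  · intro h
    rw [h, Subgroup.card_bot] at hRc
    exact hpp.one_lt.ne' hRc.symm
  · apply (Subgroup.disjoint_of_coprime_natCard _).eq_bot
    rw [hUc, hRc]
    exact (Nat.coprime_primes hs hpp).2 hsp
  · intro e he u hu
    exact (Subgroup.mem_normalizer_iff.1 (hRN he) u).1 hu
  · intro x hx h hh
    exact (Subgroup.mem_normalizer_iff.1 ((sup_le hUO hRO) hx) h).1 hh
  · exact (Subgroup.disjoint_of_coprime_natCard hcop).eq_bot

end Cfsg.Agent.Lib.H16.BG
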