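import Mathlib
import Cfsg.Agent.Lib.H16.BGu
import Cfsg.Agent.Lib.H16.BGr

/-! # Bender–Glauberman Lemma 9.5: local analysis at a big maximal subgroup (helper16)

(C3) `C_G(A) ≤ H` and all `A`-invariant `s`-subgroups lie in `H`; (C5) the `O_{s'}` criterion;
(C6) the Frobenius lemma; (C7) the key proposition; (C8) the neighbouring maximal subgroups are
big. -/

set_option autoImplicit false
set_option linter.unusedSectionVars false
set_option linter.unusedVariables false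

namespace Cfsg.Agent.Lib.H16.BG

open Cfsg Cfsg.Agent.Lib.H7.BG7
open scoped commutatorElement

variable {G : Type*} [Group G] [Finite G] {p : ℕ} [hp : Fact p.Prime]

namespace Big

variable {A E H : Subgroup G} {s : ℕ}

/-- a point of `E` whose centralizer lies in `H`, lying on two distinct kernel lines. -/
theorem exists_point (b : Big A H s) (c : Ctx p A E) :
    ∃ w ∈ E, w ≠ 1 ∧ Subgroup.centralizer ({w} : Set G) ≤ H ∧
      ∃ U₁ ℓ₁ U₂ ℓ₂ : Subgroup G, Adm A E H p s U₁ ℓ₁ ∧ Adm A E H p s U₂ ℓ₂ ∧ ℓ₁ ≤ E ∧ ℓ₂ ≤ E ∧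
        ℓ₁ ≠ ℓ₂ ∧ ℓ₁ ⊓ ℓ₂ = Subgroup.zpowers w := by
  have hpp : p.Prime := hp.out
  obtain ⟨T, hT⟩ := b.exists_frame c
  obtain ⟨B₁, B₂, hB₁E, hB₂E, hB₁, hB₂, hne, hR₁, hR₂, hU⟩ := hT.two
  have hcard := E3.card_inf_of_ne c.hEe c.hEc hB₁E hB₂E hB₁ hB₂ hne
  have hne1 : B₁ ⊓ B₂ ≠ ⊥ := by
    intro h
    rw [h, Subgroup.card_bot] at hcard
    exact hpp.one_lt.ne' hcard.symm
  obtain ⟨⟨w, hw⟩, hw1'⟩ := (Subgroup.ne_bot_iff_exists_ne_one).1 hne1
  have hw1 : w ≠ 1 := fun h => hw1' (Subtype.ext h)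
  refine ⟨w, hB₁E hw.1, hw1, ?_, _, B₁, _, B₂, hT.adm B₁ hB₁E hB₁ hR₁, hT.adm B₂ hB₂E hB₂ hR₂,
    hB₁E, hB₂E, hne, E3.inf_eq_zpowers c.hEe c.hEc hB₁E hB₂E hB₁ hB₂ hne hw.1 hw.2 hw1⟩
  refine le_of_inUniqueMaximal hU b.coatom (sup_le (inf_le_left.trans hT.le)
    (inf_le_left.trans hT.le)) (centralizer_singleton_ne_top c.hG hw1) ?_
  apply sup_le
  · exact inf_le_right.trans (Subgroup.centralizer_le (Set.singleton_subset_iff.2 hw.1))
  · exact inf_le_right.trans (Subgroup.centralizer_le (Set.singleton_subset_iff.2 hw.2))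

theorem centralizer_A_le (b : Big A H s) (c : Ctx p A E) :
    Subgroup.centralizer (A : Set G) ≤ H := by
  obtain ⟨w, hwE, hw1, hwH, -⟩ := b.exists_point c
  exact (Subgroup.centralizer_le (Set.singleton_subset_iff.2 (c.hEA hwE))).trans hwH

theorem KK_le (b : Big A H s) (c : Ctx p A E) : KK A ≤ H :=
  (KK_le_centralizer A).trans (b.centralizer_A_le c)

/-- **(C3)** every `A`-invariant `s`-subgroup of `G` lies in `H`. -/
theorem invariant_le (b : Big A H s) (c : Ctx p A E) {S₀ : Subgroup G} (hS₀ : IsPGroup s S₀)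
    (hAS₀ : A ≤ Subgroup.normalizer (S₀ : Set G)) : S₀ ≤ H := by
  have hsF : Fact s.Prime := ⟨b.prime⟩
  obtain ⟨S, hS, hXS⟩ := exists_isMaxInv_ge b.isPGroup_X b.A_le_normalizer_X
  obtain ⟨S₁, hS₁, hS₀S₁⟩ := exists_isMaxInv_ge hS₀ hAS₀
  have hS1 : S ≠ ⊥ := ne_bot_of_le_ne_bot b.X_ne_bot hXS
  have hStop : S ≠ ⊤ := by
    intro h
    apply normalizer_ne_top_of_isPGroup c.hG hS.1 hS1
    rw [h, eq_top_iff]
    exact Subgroup.le_normalizer
  have hSH : S ≤ H := b.le_of_X_le c.hG hXS hStop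
  obtain ⟨k, hk, hkS⟩ := c.trans (b.ne c) S S₁ hS hS₁
  refine hS₀S₁.trans ?_
  rw [← hkS]
  rintro _ ⟨x, hx, rfl⟩
  have hkH : k ∈ H := b.KK_le c hk
  exact H.mul_mem (H.mul_mem hkH (hSH hx)) (H.inv_mem hkH)

theorem ne_top_of_coprime (c : Ctx p A E) {Y : Subgroup G} (hY : (Nat.card Y).Coprime p) :
    Y ≠ ⊤ := by
  intro h
  rw [h, Subgroup.card_top] at hY
  have := Nat.Coprime.eq_one_of_dvd hY.symm c.p_dvd_card
  exact hp.out.one_lt.ne' this

theorem coprimeAction_of_coprime (c : Ctx p A E) {Y : Subgroup G} (hY : (Nat.card Y).Coprime p)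
    (hAY : A ≤ Subgroup.normalizer (Y : Set G)) : Cfsg.Agent.Lib.H1.CoprimeAction A Y := by
  refine ⟨hAY, ?_, Or.inl (IsNilpotent.to_isSolvable (h := c.hAp.isNilpotent))⟩
  obtain ⟨k, hk⟩ := IsPGroup.iff_card.1 c.hAp
  rw [hk]
  exact (Nat.Coprime.pow_right k hY).symm

theorem _root_.Cfsg.Agent.Lib.H16.BG.Adm.isPGroup {U ℓ : Subgroup G} (hU : Adm A E H p s U ℓ) (hs : s.Prime) :
    IsPGroup s U := by
  have : Fact s.Prime := ⟨hs⟩
  exact IsPGroup.of_card (n := 1) (by rw [hU.card, pow_one])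

theorem _root_.Cfsg.Agent.Lib.H16.BG.Adm.ne_bot {U ℓ : Subgroup G} (hU : Adm A E H p s U ℓ) (hs : s.Prime) : U ≠ ⊥ := by
  intro h
  have := hU.card
  rw [h, Subgroup.card_bot] at this
  exact hs.one_lt.ne' this.symm

theorem _root_.Cfsg.Agent.Lib.H16.BG.Adm.le {U ℓ : Subgroup G} (hU : Adm A E H p s U ℓ) (hs : s.Prime) : U ≤ H := by
  refine le_trans ?_ hU.cent
  intro u hu
  refine Subgroup.mem_centralizer_iff.2 ?_
  intro v hv
  exact congrArg Subtype.val ((isElementaryAbelian_of_card_prime hs hU.card).1.is_comm.comm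
    ⟨v, hv⟩ ⟨u, hu⟩)

theorem _root_.Cfsg.Agent.Lib.H16.BG.Adm.line_le {U ℓ : Subgroup G} (hU : Adm A E H p s U ℓ) : ℓ ≤ E := by
  rw [← hU.ker]; exact inf_le_left

theorem _root_.Cfsg.Agent.Lib.H16.BG.Adm.line_le_centralizer {U ℓ : Subgroup G} (hU : Adm A E H p s U ℓ) :
    ℓ ≤ Subgroup.centralizer (U : Set G) := by
  rw [← hU.ker]; exact inf_le_right

/-- **(C5)** an `A`-invariant `p'`-subgroup `Y ≥ U` with `O_{s'}(Y) ≤ H` lies in `H`. -/
theorem le_of_core_le (b : Big A H s) (c : Ctx p A E) {U ℓ : Subgroup G}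
    (hU : Adm A E H p s U ℓ) {Y : Subgroup G} (hY : (Nat.card Y).Coprime p)
    (hAY : A ≤ Subgroup.normalizer (Y : Set G)) (hUY : U ≤ Y)
    (hO : piCoreOf (primesNotDvd s) Y ≤ H) : Y ≤ H := by
  have hsF : Fact s.Prime := ⟨b.prime⟩
  have hYtop : Y ≠ ⊤ := ne_top_of_coprime c hY
  have hYs : Group.IsSolvable ↥Y := solvable_of_ne_top c.hG hYtop
  have hact := coprimeAction_of_coprime c hY hAY
  obtain ⟨N_s, hNs, hUN, hAN⟩ :=
    Cfsg.Agent.Lib.H1.coprime_invariant_psubgroup_le_sylow hact hUY (hU.isPGroup b.prime) hU.inv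
  have hS : SylIn s N_s Y := sylIn_of_isSylowOf hNs
  have hNH : N_s ≤ H := b.invariant_le c hS.isPGroup hAN
  have hN1 : N_s ≠ ⊥ := ne_bot_of_le_ne_bot (hU.ne_bot b.prime) hUN
  by_cases hr : PRankLE s 2 ↥Y
  swap
  · have h3 : ¬ PRankLE s 2 ↥N_s := fun h => hr (pRankLE_of_sylIn hS h)
    have hNtop : N_s ≠ ⊤ := fun h => hYtop (top_le_iff.1 (h ▸ hS.le))
    exact le_of_inUniqueMaximal (b.fact2 c.hG hNtop h3) b.coatom hNH hYtop hS.le
  have hle : N_s ≤ Cfsg.Agent.Lib.H9.oppAmb s Y :=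
    sylow_le_oppAmb_of_rank c.hG.1 hYs hS hN1 hr
  have hfr := frattini_opp hS
  rw [inf_eq_left.2 hle] at hfr
  set N := Y ⊓ Subgroup.normalizer (N_s : Set G) with hN
  suffices hNH' : N ≤ H by
    intro y hy
    obtain ⟨k, hk, n, hn, rfl⟩ := hfr y hy
    exact H.mul_mem (hO hk) (hNH' hn)
  have hAN' : A ≤ Subgroup.normalizer (N : Set G) :=
    le_normalizer_inf' hAY (hAN.trans Subgroup.le_normalizer)
  have hactN : Cfsg.Agent.Lib.H1.CoprimeAction A N := hact.mono inf_le_left hAN'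
  rw [← Cfsg.Agent.Lib.H1.coprime_commutator_sup_centralizer hactN]
  apply sup_le
  · intro d hd
    set M := N ⊔ A with hM
    have hMR : M ≤ Subgroup.normalizer (N_s : Set G) := sup_le inf_le_right hAN
    have hMtop : M ≠ ⊤ := fun h =>
      normalizer_ne_top_of_isPGroup c.hG hS.isPGroup hN1 (top_le_iff.1 (h ▸ hMR))
    have hdM : d ∈ ⁅M, M⁆ := Subgroup.commutator_mono le_sup_left le_sup_right hd
    obtain ⟨k, hk⟩ := exists_pow_mem_centralizer_of_mem_commutator (b.s_ne_two c.hG) hS.isPGroup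
      (pRankLE_of_le hS.le hr) hMR (solvable_of_ne_top c.hG hMtop) (odd_card_subgroup c.hG M) hdM
    have hdN : d ∈ N := hactN.commutator_le hd
    have h1 : d ^ (s ^ k) ∈ H := hU.cent (centralizer_anti hUN hk)
    obtain ⟨a, ha⟩ := IsPGroup.iff_card.1 hS.isPGroup
    have hcardY := SylIn.card_mul_relIndex hS.le
    set m := N_s.relIndex Y with hm
    have hmcop : m.Coprime (s ^ k) :=
      Nat.Coprime.pow_right k ((Nat.Prime.coprime_iff_not_dvd b.prime).2 hS.2.2).symm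
    have h2 : (d ^ m) ^ (s ^ a) = 1 := by
      rw [← pow_mul, mul_comm, ← ha, hcardY]
      have := pow_card_eq_one' (G := ↥Y) (x := ⟨d, hdN.1⟩)
      exact congrArg Subtype.val this
    have h3 : d ^ m ∈ N_s :=
      hS.mem_of_pow_eq_one (Y.pow_mem hdN.1 m) (Subgroup.pow_mem _ hdN.2 m) h2
    exact mem_of_pow_mem_of_coprime hmcop (hNH h3) h1
  · exact inf_le_right.trans (b.centralizer_A_le c)

/-- **(C6)** the Frobenius lemma. -/
theorem le_of_frobenius (b : Big A H s) (c : Ctx p A E) {U ℓ : Subgroup G}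
    (hU : Adm A E H p s U ℓ) {e' : G} (he'E : e' ∈ E) (he'ℓ : e' ∉ ℓ) {O : Subgroup G}
    (hOs : (Nat.card O).Coprime s) (hOp : (Nat.card O).Coprime p)
    (hUO : U ≤ Subgroup.normalizer (O : Set G)) (he'O : e' ∈ Subgroup.normalizer (O : Set G))
    (hC : O ⊓ Subgroup.centralizer ({e'} : Set G) ≤ H) : O ≤ H := by
  have he'C : e' ∉ Subgroup.centralizer (U : Set G) := fun h => he'ℓ (hU.ker ▸ ⟨he'E, h⟩)
  have he'N : e' ∈ Subgroup.normalizer (U : Set G) := hU.inv (c.hEA he'E)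
  have he'p : e' ^ p = 1 := c.hEe.2 e' he'E
  have hsolv : Group.IsSolvable ↥O := solvable_of_ne_top c.hG (ne_top_of_coprime c hOp)
  have hF1 := frobAct_of_prime b.prime (b.ne c) hU.card he'p he'N he'C hOs hOp hUO he'O hsolv
  have hUH : U ≤ H := hU.le b.prime
  have he'H : e' ∈ H := b.le (c.hEA he'E)
  have hUO' : U ≤ Subgroup.normalizer ((O ⊓ H : Subgroup G) : Set G) :=
    le_normalizer_inf' hUO (hUH.trans Subgroup.le_normalizer)
  have he'O' : e' ∈ Subgroup.normalizer ((O ⊓ H : Subgroup G) : Set G) := by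
    have : Subgroup.zpowers e' ≤ Subgroup.normalizer ((O ⊓ H : Subgroup G) : Set G) :=
      le_normalizer_inf' (Subgroup.zpowers_le.2 he'O)
        ((Subgroup.zpowers_le.2 he'H).trans Subgroup.le_normalizer)
    exact this (Subgroup.mem_zpowers e')
  have hdvd : Nat.card (O ⊓ H : Subgroup G) ∣ Nat.card O := Subgroup.card_dvd_of_le inf_le_left
  have hsolv' : Group.IsSolvable ↥(O ⊓ H : Subgroup G) :=
    solvable_of_ne_top c.hG (fun h => ne_top_of_coprime c hOp (top_le_iff.1 (h ▸ inf_le_left)))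
  have hF2 := frobAct_of_prime b.prime (b.ne c) hU.card he'p he'N he'C
    (Nat.Coprime.coprime_dvd_left hdvd hOs) (Nat.Coprime.coprime_dvd_left hdvd hOp) hUO' he'O'
    hsolv'
  have f1 := Cfsg.Agent.Lib.H8.frobFormula _ _ _ hF1
  have f2 := Cfsg.Agent.Lib.H8.frobFormula _ _ _ hF2
  unfold Cfsg.Agent.Lib.H8.FrobFormula at f1 f2
  have hCU : O ⊓ Subgroup.centralizer (U : Set G) ≤ H := inf_le_right.trans hU.cent
  have hCR : O ⊓ Subgroup.centralizer ((Subgroup.zpowers e' : Subgroup G) : Set G) ≤ H := by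
    rw [centralizer_zpowers_eq]; exact hC
  have hCUR : O ⊓ Subgroup.centralizer ((U ⊔ Subgroup.zpowers e' : Subgroup G) : Set G) ≤ H :=
    (inf_le_inf_left _ (centralizer_anti le_sup_left)).trans hCU
  have key : ∀ Z : Subgroup G, O ⊓ Z ≤ H → (O ⊓ H) ⊓ Z = O ⊓ Z := by
    intro Z hZ
    apply le_antisymm (inf_le_inf_right _ inf_le_left)
    exact le_inf (le_inf inf_le_left hZ) inf_le_right
  rw [key _ hCU, key _ hCR, key _ hCUR] at f2
  have hpos : 0 < Nat.card ↥(O ⊓ Subgroup.centralizer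
      ((U ⊔ Subgroup.zpowers e' : Subgroup G) : Set G)) ^ Nat.card ↥(Subgroup.zpowers e') :=
    pow_pos Nat.card_pos _
  have hcard : Nat.card O = Nat.card (O ⊓ H : Subgroup G) :=
    Nat.eq_of_mul_eq_mul_left hpos (f1.trans f2.symm)
  exact inf_eq_left.1 (Subgroup.eq_of_le_of_card_ge inf_le_left (le_of_eq hcard))

theorem _root_.Cfsg.Agent.Lib.H16.BG.Ctx.le_normalizer_centralizer_singleton (c : Ctx p A E)
    {x : G} (hx : x ∈ A) :
    A ≤ Subgroup.normalizer ((Subgroup.centralizer ({x} : Set G) : Subgroup G) : Set G) :=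
  (c.A_le_centralizer_singleton hx).trans Subgroup.le_normalizer

/-- `C_Y(x) ≤ θ(x)` for an `A`-invariant `p'`-subgroup `Y`. -/
theorem _root_.Cfsg.Agent.Lib.H16.BG.Ctx.inf_centralizer_le_th (c : Ctx p A E) {x : G}
    (hx : x ∈ A) (hx1 : x ≠ 1) {Y : Subgroup G} (hY : (Nat.card Y).Coprime p)
    (hAY : A ≤ Subgroup.normalizer (Y : Set G)) :
    Y ⊓ Subgroup.centralizer ({x} : Set G) ≤ th p x :=
  c.le_th hx hx1 inf_le_right
    (Nat.Coprime.coprime_dvd_left (Subgroup.card_dvd_of_le inf_le_left) hY)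
    (le_normalizer_inf' hAY (c.le_normalizer_centralizer_singleton hx))

/-- **(C7)** the key proposition: no point of `E` off a kernel line is `θ`-good. -/
theorem key (b : Big A H s) (c : Ctx p A E) {U ℓ : Subgroup G} (hU : Adm A E H p s U ℓ)
    {g : G} (hgE : g ∈ E) (hgℓ : g ∉ ℓ) (hg : th p g ≤ H) : False := by
  have hpp : p.Prime := hp.out
  have hℓE : ℓ ≤ E := hU.line_le
  have hℓe : IsElementaryAbelian p ℓ := isElementaryAbelian_of_le c.hEe hℓE
  have hgA : g ∈ A := c.hEA hgE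
  have hg1 : g ≠ 1 := by
    rintro rfl
    exact hgℓ ℓ.one_mem
  have hUcop : (Nat.card U).Coprime p := by
    rw [hU.card]; exact (Nat.coprime_primes b.prime hpp).2 (b.ne c)
  -- Step 1
  have step1 : ∀ x ∈ ℓ, x ≠ 1 → th p x ≤ H := by
    intro x hxℓ hx1
    have hxA : x ∈ A := c.hEA (hℓE hxℓ)
    have hYcop : (Nat.card (th p x)).Coprime p := Ctx.th_coprime x
    have hAY := c.le_normalizer_th hxA
    have hUx : U ≤ Subgroup.centralizer ({x} : Set G) := by
      intro u hu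
      rw [Subgroup.mem_centralizer_singleton_iff]
      exact Subgroup.mem_centralizer_iff.1 (hU.line_le_centralizer hxℓ) u hu
    have hUY : U ≤ th p x := c.le_th hxA hx1 hUx hUcop hU.inv
    have hO : piCoreOf (primesNotDvd s) (th p x) ≤ H := by
      apply b.le_of_frobenius c hU hgE hgℓ (card_piCoreOf_primesNotDvd_coprime s _)
        (Nat.Coprime.coprime_dvd_left (Subgroup.card_dvd_of_le (piCoreOf_le _ _)) hYcop)
        (hUY.trans (le_normalizer_piCoreOf _ _))
        (normalizer_le_normalizer_piCoreOf _ _ (hAY hgA))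
      refine le_trans (c.inf_centralizer_le_th hgA hg1 ?_ ?_) hg
      · exact Nat.Coprime.coprime_dvd_left (Subgroup.card_dvd_of_le (piCoreOf_le _ _)) hYcop
      · exact hAY.trans (normalizer_le_normalizer_piCoreOf _ _)
    exact b.le_of_core_le c hU hYcop hAY hUY hO
  -- Step 2
  have step2 : ∀ x ∈ E, x ≠ 1 → th p x ≤ H := by
    intro x hxE hx1
    by_cases hxℓ : x ∈ ℓ
    · exact step1 x hxℓ hx1
    · have hxA : x ∈ A := c.hEA hxE
      apply le_of_forall_centralizer_le hℓe (le_of_eq hU.line.symm) (Ctx.th_coprime x)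
        ((hℓE.trans c.hEA).trans (c.le_normalizer_th hxA))
      intro y hy hy1
      exact (c.inf_centralizer_le_th (c.hEA (hℓE hy)) hy1 (Ctx.th_coprime x)
        (c.le_normalizer_th hxA)).trans (step1 y hy hy1)
  -- Step 3
  have hsig : SigIn H A p := by
    refine ⟨b.coatom, b.le, c.hAp, c.A_ne_bot, ?_⟩
    intro Y hY hAY
    apply le_of_forall_centralizer_le c.hEe
      (by rw [c.hEc]; exact Nat.pow_le_pow_right hpp.pos (by norm_num)) hY (c.hEA.trans hAY)
    intro x hx hx1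
    exact (c.inf_centralizer_le_th (c.hEA hx) hx1 hY hAY).trans (step2 x hx hx1)
  exact c.hAU (hsig.inUniqueMaximal c.hG)

/-- **(C8)** the maximal subgroups containing the centralizer of a point `x` of a kernel line
with `θ(x) ≰ H` are big (and different from `H`). -/
theorem big_of_mem_line (b : Big A H s) (c : Ctx p A E) {U ℓ : Subgroup G}
    (hU : Adm A E H p s U ℓ) {x : G} (hxℓ : x ∈ ℓ) (hx : ¬ th p x ≤ H) {H' : Subgroup G}
    (hH' : IsCoatom H') (hCH' : Subgroup.centralizer ({x} : Set G) ≤ H') :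
    H' ≠ H ∧ ∃ t, Big A H' t := by
  have hpp : p.Prime := hp.out
  have hsF : Fact s.Prime := ⟨b.prime⟩
  have hxE : x ∈ E := hU.line_le hxℓ
  have hxA : x ∈ A := c.hEA hxE
  have hAH' : A ≤ H' := (c.A_le_centralizer_singleton hxA).trans hCH'
  have hne : H' ≠ H := by
    rintro rfl
    exact hx ((Ctx.th_le_centralizer x).trans hCH')
  refine ⟨hne, ?_⟩
  by_contra hno
  push Not at hno
  have hsmall : RankLE 2 ↥(fittingOf H') := by
    intro t ht
    by_contra hr
    exact hno t ⟨hH', hAH', ht, hr⟩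
  have hcomm := commutator_le_fittingOf_of_rank c.hG hH'.1 hsmall
  have hUx : U ≤ Subgroup.centralizer ({x} : Set G) := by
    intro u hu
    rw [Subgroup.mem_centralizer_singleton_iff]
    exact Subgroup.mem_centralizer_iff.1 (hU.line_le_centralizer hxℓ) u hu
  have hUH' : U ≤ H' := hUx.trans hCH'
  have hEU : ¬ E ≤ Subgroup.centralizer (U : Set G) := by
    intro h
    have h1 : E ⊓ Subgroup.centralizer (U : Set G) = E := inf_eq_left.2 h
    rw [hU.ker] at h1
    have h2 := hU.line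
    rw [h1, c.hEc] at h2
    have : p ^ 2 < p ^ 3 := Nat.pow_lt_pow_right hpp.one_lt (by norm_num)
    omega
  have hUF : U ≤ fittingOf H' :=
    (le_commutator_of_not_le_centralizer b.prime hU.card (c.hEA.trans hU.inv) hEU
      (c.hEA.trans hAH') hUH').trans hcomm
  have hUX' : U ≤ Fq H' s :=
    le_piCoreOf_of_nilpotent (fittingOf_isNilpotent H') hUF
      (isPiCard_card_of_isPGroup (Set.mem_singleton s) (hU.isPGroup b.prime))
  set D := piCoreOf (primesNotDvd p) H' with hD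
  have hDcop : (Nat.card D).Coprime p := card_piCoreOf_primesNotDvd_coprime p H'
  have hAD : A ≤ Subgroup.normalizer (D : Set G) := hAH'.trans (le_normalizer_piCoreOf _ _)
  have hthD : th p x ≤ D :=
    c.th_le hH'.1 hAH' ((Ctx.th_le_centralizer x).trans hCH') (Ctx.th_coprime x)
      (c.le_normalizer_th hxA)
  apply hx
  refine hthD.trans ?_
  have hact := coprimeAction_of_coprime c hDcop hAD
  rw [← Cfsg.Agent.Lib.H1.coprime_commutator_sup_centralizer hact]
  apply sup_le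
  · have h1 : ⁅D, A⁆ ≤ D ⊓ fittingOf H' :=
      le_inf hact.commutator_le
        ((Subgroup.commutator_mono (piCoreOf_le _ _) hAH').trans hcomm)
    refine h1.trans ?_
    have hAF' : A ≤ Subgroup.normalizer ((D ⊓ fittingOf H' : Subgroup G) : Set G) :=
      le_normalizer_inf' hAD (hAH'.trans (le_normalizer_fittingOf H'))
    have hactF := hact.mono inf_le_left hAF'
    apply le_of_forall_invariant_sylow_le hactF
    intro q hq Q hQF hQq hAQ
    by_cases hqs : q = s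
    · subst hqs
      exact b.invariant_le c hQq hAQ
    · have hQ' : Q ≤ Fq H' q :=
        le_piCoreOf_of_nilpotent (fittingOf_isNilpotent H') (hQF.trans inf_le_right)
          (isPiCard_card_of_isPGroup (Set.mem_singleton q) hQq)
      exact (hQ'.trans (Fq_le_centralizer_Fq H' hqs)).trans
        ((centralizer_anti hUX').trans hU.cent)
  · exact inf_le_right.trans (b.centralizer_A_le c)

end Big

/-- the distinguished point of a big maximal subgroup. -/
structure Pt (A E H : Subgroup G) (p : ℕ) (w : G) : Prop where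
  mem : w ∈ E
  ne : w ≠ 1
  cent : Subgroup.centralizer ({w} : Set G) ≤ H
  good : ∀ g ∈ E, th p g ≤ H → g ∈ Subgroup.zpowers w

namespace Big

variable {A E H : Subgroup G} {s : ℕ}

theorem exists_pt (b : Big A H s) (c : Ctx p A E) :
    ∃ w, Pt A E H p w ∧ ∃ U₁ ℓ₁ U₂ ℓ₂ : Subgroup G, Adm A E H p s U₁ ℓ₁ ∧ Adm A E H p s U₂ ℓ₂ ∧
      ℓ₁ ≠ ℓ₂ := by
  obtain ⟨w, hwE, hw1, hwH, U₁, ℓ₁, U₂, ℓ₂, h₁, h₂, -, -, hne, hinf⟩ := b.exists_point c
  refine ⟨w, ⟨hwE, hw1, hwH, ?_⟩, U₁, ℓ₁, U₂, ℓ₂, h₁, h₂, hne⟩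
  intro g hgE hg
  rw [← hinf]
  refine ⟨?_, ?_⟩
  · by_contra h
    exact b.key c h₁ hgE h hg
  · by_contra h
    exact b.key c h₂ hgE h hg

theorem _root_.Cfsg.Agent.Lib.H16.BG.Pt.mem_line {w : G} (hw : Pt A E H p w) (b : Big A H s)
    (c : Ctx p A E) {U ℓ : Subgroup G} (hU : Adm A E H p s U ℓ) : w ∈ ℓ := by
  by_contra h
  exact b.key c hU hw.mem h ((Ctx.th_le_centralizer w).trans hw.cent)

theorem _root_.Cfsg.Agent.Lib.H16.BG.Pt.not_le {w : G} (hw : Pt A E H p w) {x : G} (hxE : x ∈ E)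
    (hx : x ∉ Subgroup.zpowers w) : ¬ th p x ≤ H := fun h => hx (hw.good x hxE h)

/-- a point of `E` whose centralizer lies in `H` is (a generator of) the distinguished point. -/
theorem _root_.Cfsg.Agent.Lib.H16.BG.Pt.of_centralizer_le {w : G} (hw : Pt A E H p w)
    (c : Ctx p A E) {x : G} (hxE : x ∈ E) (hx1 : x ≠ 1)
    (hx : Subgroup.centralizer ({x} : Set G) ≤ H) : Pt A E H p x := by
  have h1 : x ∈ Subgroup.zpowers w := hw.good x hxE ((Ctx.th_le_centralizer x).trans hx)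
  have h2 : Subgroup.zpowers x = Subgroup.zpowers w := E3.zpowers_eq_of_mem c.hEe hw.mem h1 hx1
  refine ⟨hxE, hx1, hx, ?_⟩
  rw [h2]
  exact hw.good

end Big

end Cfsg.Agent.Lib.H16.BG
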