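import Mathlib
import Cfsg.Agent.Lib.H16.BGv
import Cfsg.Agent.Lib.H1.Complement

/-! # Bender–Glauberman Lemma 9.5, Part E: two incoming subgroups (helper16)

At a big maximal subgroup `H'` with distinguished point `z'`, two "incoming" admissible
subgroups (admissible for other big maximal subgroups, contained in `H'`) whose kernel lines
pass through `z'` have the same kernel line. -/

set_option autoImplicit false
set_option linter.unusedSectionVars false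
set_option linter.unusedVariables false

namespace Cfsg.Agent.Lib.H16.BG

open Cfsg Cfsg.Agent.Lib.H7.BG7
open scoped commutatorElement

variable {G : Type*} [Group G] [Finite G] {p : ℕ} [hp : Fact p.Prime]

variable {A E H H' : Subgroup G} {s t : ℕ}

/-- distinct big maximal subgroups belong to distinct primes. -/
theorem Big.prime_ne (b : Big A H s) (b' : Big A H' t) (c : Ctx p A E) (hne : H ≠ H') :
    s ≠ t := by
  rintro rfl
  apply hne
  have h1 : Fq H' s ≤ H := b.invariant_le c b'.isPGroup_X b'.A_le_normalizer_X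
  have h2 : H ≤ H' := b'.le_of_X_le c.hG h1 b.coatom.1
  by_contra hne'
  exact b'.coatom.1 (b.coatom.2 H' (lt_of_le_of_ne h2 hne'))

/-- `U` is admissible for some big maximal subgroup other than `H'`, and lies in `H'`. -/
structure Inc (A E H' : Subgroup G) (p : ℕ) (U ℓ : Subgroup G) : Prop where
  src : ∃ (H₁ : Subgroup G) (s₁ : ℕ), Big A H₁ s₁ ∧ Adm A E H₁ p s₁ U ℓ ∧ H₁ ≠ H'
  le : U ≤ H'

namespace Inc

variable {U ℓ : Subgroup G}

theorem not_le_centralizer (hI : Inc A E H' p U ℓ) (b' : Big A H' t) (c : Ctx p A E)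
    {R : Subgroup G} (hR : InUniqueMaximal R) (hRH' : R ≤ H') :
    ¬ R ≤ Subgroup.centralizer (U : Set G) := by
  obtain ⟨H₁, s₁, b₁, hU, hne⟩ := hI.src
  intro h
  apply hne
  have h2 : H₁ ≤ H' := le_of_inUniqueMaximal hR b'.coatom hRH' b₁.coatom.1 (h.trans hU.cent)
  by_contra hne'
  exact b'.coatom.1 (b₁.coatom.2 H' (lt_of_le_of_ne h2 hne'))

theorem line_le (hI : Inc A E H' p U ℓ) : ℓ ≤ E := by
  obtain ⟨H₁, s₁, b₁, hU, hne⟩ := hI.src
  exact hU.line_le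

theorem line_card (hI : Inc A E H' p U ℓ) : Nat.card ℓ = p ^ 2 := by
  obtain ⟨H₁, s₁, b₁, hU, hne⟩ := hI.src
  exact hU.line

theorem inv (hI : Inc A E H' p U ℓ) : A ≤ Subgroup.normalizer (U : Set G) := by
  obtain ⟨H₁, s₁, b₁, hU, hne⟩ := hI.src
  exact hU.inv

theorem not_E_le (hI : Inc A E H' p U ℓ) (c : Ctx p A E) :
    ¬ E ≤ Subgroup.centralizer (U : Set G) := by
  obtain ⟨H₁, s₁, b₁, hU, hne⟩ := hI.src
  intro h
  have h1 : E ⊓ Subgroup.centralizer (U : Set G) = E := inf_eq_left.2 h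
  rw [hU.ker] at h1
  have h2 := hU.line
  rw [h1, c.hEc] at h2
  have : p ^ 2 < p ^ 3 := Nat.pow_lt_pow_right hp.out.one_lt (by norm_num)
  omega

end Inc

namespace Frame

variable {T : Subgroup G}

/-- the distinguished point centralizes the frame. -/
theorem le_centralizer_pt (hT : Frame A E H' p t T) (b' : Big A H' t) (c : Ctx p A E) {z' : G}
    (hz' : Pt A E H' p z') : T ≤ Subgroup.centralizer ({z'} : Set G) := by
  apply le_of_forall_line_le c.hEe c.hEc (b'.coprime_of_isPGroup c hT.isPGroup)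
    ((c.hEA.trans b'.le).trans hT.norm)
  intro B hBE hB
  by_cases hne : T ⊓ Subgroup.centralizer (B : Set G) = ⊥
  · rw [hne]; exact bot_le
  · have hz : z' ∈ B := hz'.mem_line b' c (hT.adm B hBE hB hne)
    exact inf_le_right.trans (Subgroup.centralizer_le (Set.singleton_subset_iff.2 hz))

theorem inf_centralizer_eq (hT : Frame A E H' p t T) (b' : Big A H' t) (c : Ctx p A E) {z' : G}
    (hz' : Pt A E H' p z') {m : Subgroup G} (hmE : m ≤ E) (hm : Nat.card m = p ^ 2)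
    (hzm : z' ∈ m) {b : G} (hbm : b ∈ m) (hb : b ∉ Subgroup.zpowers z') {D : Subgroup G}
    (hDT : D ≤ T) :
    D ⊓ Subgroup.centralizer ({b} : Set G) = D ⊓ Subgroup.centralizer (m : Set G) := by
  rw [E3.centralizer_eq c.hEe hmE hm hzm hbm hz'.ne hb]
  apply le_antisymm
  · exact le_inf inf_le_left (le_inf (inf_le_left.trans (hDT.trans (hT.le_centralizer_pt b' c hz')))
      inf_le_right)
  · exact le_inf inf_le_left (inf_le_right.trans inf_le_right)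

end Frame

namespace Inc

variable {U ℓ T : Subgroup G}

theorem coprime_of_le (hI : Inc A E H' p U ℓ) (b' : Big A H' t) (c : Ctx p A E)
    (hT : Frame A E H' p t T) {D : Subgroup G} (hDT : D ≤ T) :
    (Nat.card D).Coprime (Nat.card U) ∧ (Nat.card D).Coprime p := by
  obtain ⟨H₁, s₁, b₁, hU, hne⟩ := hI.src
  have hst : s₁ ≠ t := b₁.prime_ne b' c hne
  have htF : Fact t.Prime := ⟨b'.prime⟩
  obtain ⟨k, hk⟩ := IsPGroup.iff_card.1 (hT.isPGroup.to_le hDT)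
  refine ⟨?_, b'.coprime_of_isPGroup c (hT.isPGroup.to_le hDT)⟩
  rw [hk, hU.card]
  exact Nat.Coprime.pow_left k ((Nat.coprime_primes b'.prime b₁.prime).2 hst.symm)

/-- the counting lemma. -/
theorem card_eq_pow (hI : Inc A E H' p U ℓ) (b' : Big A H' t) (c : Ctx p A E)
    (hT : Frame A E H' p t T) {z' : G} (hz' : Pt A E H' p z') (hzℓ : z' ∈ ℓ) {D : Subgroup G}
    (hDT : D ≤ T) (hUD : U ≤ Subgroup.normalizer (D : Set G))
    (hED : E ≤ Subgroup.normalizer (D : Set G))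
    (hfix : D ⊓ Subgroup.centralizer (U : Set G) = ⊥) {m : Subgroup G} (hmE : m ≤ E)
    (hm : Nat.card m = p ^ 2) (hzm : z' ∈ m) (hmℓ : m ≠ ℓ) :
    Nat.card D = Nat.card (D ⊓ Subgroup.centralizer (m : Set G) : Subgroup G) ^ p := by
  have hpp : p.Prime := hp.out
  obtain ⟨hDs, hDp⟩ := hI.coprime_of_le b' c hT hDT
  obtain ⟨H₁, s₁, b₁, hU, hne⟩ := hI.src
  rw [hU.card] at hDs
  obtain ⟨b, hbm, hbℓ⟩ := exists_mem_not_mem_of_card_le hmℓ (by rw [hm, hU.line])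
  have hbE : b ∈ E := hmE hbm
  have hbz : b ∉ Subgroup.zpowers z' := fun h => hbℓ ((Subgroup.zpowers_le.2 hzℓ) h)
  have hbC : b ∉ Subgroup.centralizer (U : Set G) := fun h => hbℓ (hU.ker ▸ ⟨hbE, h⟩)
  have hb1 : b ≠ 1 := by
    rintro rfl
    exact hbℓ ℓ.one_mem
  have hsolv : Group.IsSolvable ↥D := solvable_of_ne_top c.hG (Big.ne_top_of_coprime c hDp)
  have hF := frobAct_of_prime b₁.prime (b₁.ne c) hU.card (c.hEe.2 b hbE) (hU.inv (c.hEA hbE)) hbC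
    hDs hDp hUD (hED hbE) hsolv
  have f := Cfsg.Agent.Lib.H8.frobFormula _ _ _ hF
  unfold Cfsg.Agent.Lib.H8.FrobFormula at f
  have h1 : D ⊓ Subgroup.centralizer ((U ⊔ Subgroup.zpowers b : Subgroup G) : Set G) = ⊥ := by
    rw [eq_bot_iff, ← hfix]
    exact inf_le_inf_left _ (centralizer_anti le_sup_left)
  have h2 : D ⊓ Subgroup.centralizer ((Subgroup.zpowers b : Subgroup G) : Set G) =
      D ⊓ Subgroup.centralizer (m : Set G) := by
    rw [centralizer_zpowers_eq]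
    exact hT.inf_centralizer_eq b' c hz' hmE hm hzm hbm hbz hDT
  have h3 : Nat.card (Subgroup.zpowers b) = p := by
    rw [Nat.card_zpowers]; exact orderOf_eq_prime (c.hEe.2 b hbE) hb1
  rw [h1, hfix, h2, h3, Subgroup.card_bot, one_pow, one_mul, mul_one] at f
  exact f

theorem card_eq_of_ne_bot (hI : Inc A E H' p U ℓ) (b' : Big A H' t) (c : Ctx p A E)
    (hT : Frame A E H' p t T) {z' : G} (hz' : Pt A E H' p z') (hzℓ : z' ∈ ℓ) {D : Subgroup G}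
    (hDT : D ≤ T) (hUD : U ≤ Subgroup.normalizer (D : Set G))
    (hED : E ≤ Subgroup.normalizer (D : Set G))
    (hfix : D ⊓ Subgroup.centralizer (U : Set G) = ⊥) (hD1 : D ≠ ⊥) {m : Subgroup G}
    (hmE : m ≤ E) (hm : Nat.card m = p ^ 2) (hzm : z' ∈ m) (hmℓ : m ≠ ℓ) :
    Nat.card D = t ^ p ∧
      D ⊓ Subgroup.centralizer (m : Set G) = T ⊓ Subgroup.centralizer (m : Set G) ∧
      Nat.card (T ⊓ Subgroup.centralizer (m : Set G) : Subgroup G) = t := by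
  have hcl := hI.card_eq_pow b' c hT hz' hzℓ hDT hUD hED hfix hmE hm hzm hmℓ
  have hle : D ⊓ Subgroup.centralizer (m : Set G) ≤ T ⊓ Subgroup.centralizer (m : Set G) :=
    inf_le_inf_right _ hDT
  have hTm := hT.card_le m hmE hm
  have hne : D ⊓ Subgroup.centralizer (m : Set G) ≠ ⊥ := by
    intro h
    rw [h, Subgroup.card_bot, one_pow] at hcl
    exact hD1 (Subgroup.card_eq_one.1 hcl)
  have hc : Nat.card (D ⊓ Subgroup.centralizer (m : Set G) : Subgroup G) = t :=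
    card_eq_of_le_of_ne_bot b'.prime (hT.isPGroup.to_le (inf_le_left.trans hDT))
      ((Subgroup.card_le_of_le hle).trans hTm) hne
  have heq := Subgroup.eq_of_le_of_card_ge hle (by rw [hc]; exact hTm)
  refine ⟨by rw [hcl, hc], heq, by rw [← heq, hc]⟩

end Inc

theorem le_normalizer_commutator {X K L : Subgroup G} (hK : X ≤ Subgroup.normalizer (K : Set G))
    (hL : X ≤ Subgroup.normalizer (L : Set G)) :
    X ≤ Subgroup.normalizer ((⁅K, L⁆ : Subgroup G) : Set G) := by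
  intro g hg
  apply mem_normalizer_of_map_conj_le
  rw [Subgroup.map_commutator]
  have h1 : K.map (MulAut.conj g).toMonoidHom = K :=
    Subgroup.mem_normalizer_iff_map_conj_eq.1 (hK hg)
  have h2 : L.map (MulAut.conj g).toMonoidHom = L :=
    Subgroup.mem_normalizer_iff_map_conj_eq.1 (hL hg)
  rw [h1, h2]

namespace Inc

variable {U ℓ T : Subgroup G}

/-- Case I: the structure of `[T, U]` for an incoming `U` (with `T` abelian, in `𝓤`). -/
theorem caseI_lines (hI : Inc A E H' p U ℓ) (b' : Big A H' t) (c : Ctx p A E)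
    (hT : Frame A E H' p t T) (hTc : IsMulCommutative T) (hTU : InUniqueMaximal T) {z' : G}
    (hz' : Pt A E H' p z') (hzℓ : z' ∈ ℓ) :
    ⁅T, U⁆ ≤ T ∧ U ≤ Subgroup.normalizer ((⁅T, U⁆ : Subgroup G) : Set G) ∧
    E ≤ Subgroup.normalizer ((⁅T, U⁆ : Subgroup G) : Set G) ∧
    ⁅T, U⁆ ⊓ Subgroup.centralizer (U : Set G) = ⊥ ∧ ⁅T, U⁆ ≠ ⊥ := by
  have hUT : U ≤ Subgroup.normalizer (T : Set G) := hI.le.trans hT.norm
  have hET : E ≤ Subgroup.normalizer (T : Set G) := (c.hEA.trans b'.le).trans hT.norm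
  have hDT : ⁅T, U⁆ ≤ T := Subgroup.le_normalizer_iff_commutator_le_left.1 hUT
  refine ⟨hDT, Subgroup.normalizer_commutator_ge_right T U,
    le_normalizer_commutator hET (c.hEA.trans hI.inv), ?_, ?_⟩
  · obtain ⟨hcop, -⟩ := hI.coprime_of_le b' c hT (le_refl T)
    have := Cfsg.Agent.Lib.H1.coprime_abelian_centralizer_inf_commutator hUT hcop.symm
    rw [eq_bot_iff, ← this]
    exact le_inf (le_inf (inf_le_left.trans hDT) inf_le_right) inf_le_left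
  · intro h
    exact hI.not_le_centralizer b' c hTU hT.le (le_centralizer_of_commutator_eq_bot h)

/-- Case I: an element of the kernel line of an incoming `U` acts on `[T, U]` as a power map. -/
theorem caseI_scalar (hI : Inc A E H' p U ℓ) (b' : Big A H' t) (c : Ctx p A E)
    (hT : Frame A E H' p t T) (hTc : IsMulCommutative T) (hTU : InUniqueMaximal T) {z' : G}
    (hz' : Pt A E H' p z') (hzℓ : z' ∈ ℓ) {m : Subgroup G} (hmE : m ≤ E)
    (hm : Nat.card m = p ^ 2) (hzm : z' ∈ m) (hmℓ : m ≠ ℓ) {y : G} (hyℓ : y ∈ ℓ) :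
    ∃ k : ℤ, ∀ d ∈ ⁅T, U⁆, y * d * y⁻¹ = d ^ k := by
  obtain ⟨hDT, hUD, hED, hfix, hD1⟩ := hI.caseI_lines b' c hT hTc hTU hz' hzℓ
  obtain ⟨hDc, hDm, hRc⟩ :=
    hI.card_eq_of_ne_bot b' c hT hz' hzℓ hDT hUD hED hfix hD1 hmE hm hzm hmℓ
  have hyE : y ∈ E := hI.line_le hyℓ
  have hyA : y ∈ A := c.hEA hyE
  have hTcomm : ∀ a ∈ T, ∀ b ∈ T, a * b = b * a := fun a ha b hb =>
    congrArg Subtype.val (hTc.is_comm.comm ⟨a, ha⟩ ⟨b, hb⟩)
  -- the generator of `R_m`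
  have hR1 : T ⊓ Subgroup.centralizer (m : Set G) ≠ ⊥ := by
    intro h
    rw [h, Subgroup.card_bot] at hRc
    exact b'.prime.one_lt.ne' hRc.symm
  obtain ⟨⟨r, hr⟩, hr1'⟩ := (Subgroup.ne_bot_iff_exists_ne_one).1 hR1
  have hr1 : r ≠ 1 := fun h => hr1' (Subtype.ext h)
  have hrz := zpowers_eq_of_card_prime b'.prime hRc hr hr1
  have hyR : y ∈ Subgroup.normalizer
      ((T ⊓ Subgroup.centralizer (m : Set G) : Subgroup G) : Set G) :=
    le_normalizer_inf' (b'.le.trans hT.norm) (c.le_normalizer_centralizer (hmE.trans c.hEA)) hyA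
  have hyr : y * r * y⁻¹ ∈ Subgroup.zpowers r := by
    rw [hrz]
    exact (Subgroup.mem_normalizer_iff.1 hyR r).1 hr
  obtain ⟨k, hk⟩ := Subgroup.mem_zpowers_iff.1 hyr
  refine ⟨k, ?_⟩
  -- the eigen-subgroup
  let Dk : Subgroup G :=
    { carrier := {d | d ∈ ⁅T, U⁆ ∧ y * d * y⁻¹ = d ^ k}
      one_mem' := ⟨Subgroup.one_mem _, by simp⟩
      mul_mem' := by
        rintro d₁ d₂ ⟨h₁, h₁'⟩ ⟨h₂, h₂'⟩
        refine ⟨Subgroup.mul_mem _ h₁ h₂, ?_⟩
        have hcomm : Commute d₁ d₂ := hTcomm d₁ (hDT h₁) d₂ (hDT h₂)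
        rw [hcomm.mul_zpow, ← h₁', ← h₂']
        group
      inv_mem' := by
        rintro d ⟨h₁, h₁'⟩
        refine ⟨Subgroup.inv_mem _ h₁, ?_⟩
        rw [inv_zpow, ← h₁']
        group }
  have hDkD : Dk ≤ ⁅T, U⁆ := fun d hd => hd.1
  have hUDk : U ≤ Subgroup.normalizer (Dk : Set G) := by
    intro u hu
    apply mem_normalizer_of_map_conj_le
    rintro _ ⟨d, ⟨hd, hd'⟩, rfl⟩
    refine ⟨(Subgroup.mem_normalizer_iff.1 (hUD hu) d).1 hd, ?_⟩
    show y * (u * d * u⁻¹) * y⁻¹ = (u * d * u⁻¹) ^ k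
    obtain ⟨H₁, s₁, b₁, hUadm, hne⟩ := hI.src
    have huy : u * y = y * u :=
      Subgroup.mem_centralizer_iff.1 (hUadm.line_le_centralizer hyℓ) u hu
    rw [conj_zpow, ← hd']
    calc y * (u * d * u⁻¹) * y⁻¹ = (y * u) * d * (y * u)⁻¹ := by group
      _ = (u * y) * d * (u * y)⁻¹ := by rw [huy]
      _ = u * (y * d * y⁻¹) * u⁻¹ := by group
  have hEDk : E ≤ Subgroup.normalizer (Dk : Set G) := by
    intro e he
    apply mem_normalizer_of_map_conj_le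
    rintro _ ⟨d, ⟨hd, hd'⟩, rfl⟩
    refine ⟨(Subgroup.mem_normalizer_iff.1 (hED he) d).1 hd, ?_⟩
    show y * (e * d * e⁻¹) * y⁻¹ = (e * d * e⁻¹) ^ k
    have hey : e * y = y * e := c.comm e (c.hEA he) y hyA
    rw [conj_zpow, ← hd']
    calc y * (e * d * e⁻¹) * y⁻¹ = (y * e) * d * (y * e)⁻¹ := by group
      _ = (e * y) * d * (e * y)⁻¹ := by rw [hey]
      _ = e * (y * d * y⁻¹) * e⁻¹ := by group
  have hfixk : Dk ⊓ Subgroup.centralizer (U : Set G) = ⊥ := by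
    rw [eq_bot_iff, ← hfix]
    exact inf_le_inf_right _ hDkD
  have hrD : r ∈ ⁅T, U⁆ := by
    have : r ∈ ⁅T, U⁆ ⊓ Subgroup.centralizer (m : Set G) := by rw [hDm]; exact hr
    exact this.1
  have hrDk : r ∈ Dk := ⟨hrD, hk.symm⟩
  have hDk1 : Dk ≠ ⊥ := by
    intro h
    rw [h, Subgroup.mem_bot] at hrDk
    exact hr1 hrDk
  obtain ⟨hDkc, -, -⟩ := hI.card_eq_of_ne_bot b' c hT hz' hzℓ (hDkD.trans hDT) hUDk hEDk hfixk
    hDk1 hmE hm hzm hmℓ
  have heq : Dk = ⁅T, U⁆ := Subgroup.eq_of_le_of_card_ge hDkD (by rw [hDkc, hDc])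
  intro d hd
  have : d ∈ Dk := by rw [heq]; exact hd
  exact this.2

end Inc

/-- Case I of Part E. -/
theorem Inc.caseI_false {U₁ ℓ₁ U₂ ℓ₂ T : Subgroup G} (hI₁ : Inc A E H' p U₁ ℓ₁)
    (hI₂ : Inc A E H' p U₂ ℓ₂) (b' : Big A H' t) (c : Ctx p A E) (hT : Frame A E H' p t T)
    (hTc : IsMulCommutative T) (hTU : InUniqueMaximal T) {z' : G} (hz' : Pt A E H' p z')
    (hz₁ : z' ∈ ℓ₁) (hz₂ : z' ∈ ℓ₂) (hne : ℓ₁ ≠ ℓ₂) : False := by
  have hpp : p.Prime := hp.out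
  obtain ⟨m, m', hmE, hm'E, hm, hm', hzm, hzm', hmm', hmℓ₁, hmℓ₂, hm'ℓ₁, hm'ℓ₂⟩ :=
    E3.exists_two_lines c.hp2 c.hEe c.hEc hI₁.line_le hI₂.line_le hI₁.line_card hI₂.line_card hne
      hz₁ hz₂ hz'.ne
  obtain ⟨hD₁T, hU₁D, hE₁D, hfix₁, hD₁1⟩ := hI₁.caseI_lines b' c hT hTc hTU hz' hz₁
  obtain ⟨hD₂T, hU₂D, hE₂D, hfix₂, hD₂1⟩ := hI₂.caseI_lines b' c hT hTc hTU hz' hz₂
  obtain ⟨-, hDm₁, hRc⟩ :=
    hI₁.card_eq_of_ne_bot b' c hT hz' hz₁ hD₁T hU₁D hE₁D hfix₁ hD₁1 hmE hm hzm hmℓ₁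
  obtain ⟨-, hDm'₁, hR'c⟩ :=
    hI₁.card_eq_of_ne_bot b' c hT hz' hz₁ hD₁T hU₁D hE₁D hfix₁ hD₁1 hm'E hm' hzm' hm'ℓ₁
  obtain ⟨-, hDm₂, -⟩ :=
    hI₂.card_eq_of_ne_bot b' c hT hz' hz₂ hD₂T hU₂D hE₂D hfix₂ hD₂1 hmE hm hzm hmℓ₂
  obtain ⟨-, hDm'₂, -⟩ :=
    hI₂.card_eq_of_ne_bot b' c hT hz' hz₂ hD₂T hU₂D hE₂D hfix₂ hD₂1 hm'E hm' hzm' hm'ℓ₂
  -- `R_m`, `R_m'` lie in both `D₁`, `D₂`
  have hR₁ : T ⊓ Subgroup.centralizer (m : Set G) ≤ ⁅T, U₁⁆ := by rw [← hDm₁]; exact inf_le_left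
  have hR₂ : T ⊓ Subgroup.centralizer (m : Set G) ≤ ⁅T, U₂⁆ := by rw [← hDm₂]; exact inf_le_left
  have hR'₁ : T ⊓ Subgroup.centralizer (m' : Set G) ≤ ⁅T, U₁⁆ := by
    rw [← hDm'₁]; exact inf_le_left
  have hR'₂ : T ⊓ Subgroup.centralizer (m' : Set G) ≤ ⁅T, U₂⁆ := by
    rw [← hDm'₂]; exact inf_le_left
  have hR'1 : T ⊓ Subgroup.centralizer (m' : Set G) ≠ ⊥ := by
    intro h
    rw [h, Subgroup.card_bot] at hR'c
    exact b'.prime.one_lt.ne' hR'c.symm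
  have hadm' := hT.adm m' hm'E hm' hR'1
  -- generator of `R_m`
  have hR1 : T ⊓ Subgroup.centralizer (m : Set G) ≠ ⊥ := by
    intro h
    rw [h, Subgroup.card_bot] at hRc
    exact b'.prime.one_lt.ne' hRc.symm
  obtain ⟨⟨r, hr⟩, hr1'⟩ := (Subgroup.ne_bot_iff_exists_ne_one).1 hR1
  have hr1 : r ≠ 1 := fun h => hr1' (Subtype.ext h)
  have hro : orderOf r = t := by
    have h1 : orderOf r ∣ t := by
      have := orderOf_dvd_natCard (⟨r, hr⟩ : ↥(T ⊓ Subgroup.centralizer (m : Set G)))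
      rwa [hRc, Subgroup.orderOf_mk] at this
    rcases (Nat.dvd_prime b'.prime).1 h1 with h | h
    · exact absurd (orderOf_eq_one_iff.1 h) hr1
    · exact h
  -- `m ≤ m'`
  have hmle : m ≤ m' := by
    rw [← hadm'.ker]
    refine le_inf hmE ?_
    intro e he
    have heE : e ∈ ℓ₁ ⊔ ℓ₂ := by
      rw [E3.sup_eq_of_ne c.hEc hI₁.line_le hI₂.line_le hI₁.line_card hI₂.line_card hne]
      exact hmE he
    obtain ⟨y₁, hy₁, y₂, hy₂, rfl⟩ := Cfsg.Agent.Lib.H1.mem_sup_of_le_normalizer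
      (E3.le_normalizer c.hEe hI₂.line_le hI₁.line_le) heE
    obtain ⟨k₁, hk₁⟩ := hI₁.caseI_scalar b' c hT hTc hTU hz' hz₁ hmE hm hzm hmℓ₁ hy₁
    obtain ⟨k₂, hk₂⟩ := hI₂.caseI_scalar b' c hT hTc hTU hz' hz₂ hmE hm hzm hmℓ₂ hy₂
    have hact : ∀ R : Subgroup G, R ≤ ⁅T, U₁⁆ → R ≤ ⁅T, U₂⁆ → ∀ d ∈ R,
        (y₁ * y₂) * d * (y₁ * y₂)⁻¹ = d ^ (k₂ * k₁) := by
      intro R hRD₁ hRD₂ d hd
      have h1 : y₂ * d * y₂⁻¹ = d ^ k₂ := hk₂ d (hRD₂ hd)
      have h2 : y₁ * d ^ k₂ * y₁⁻¹ = (d ^ k₂) ^ k₁ := hk₁ _ (hRD₁ (R.zpow_mem hd k₂))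
      calc (y₁ * y₂) * d * (y₁ * y₂)⁻¹ = y₁ * (y₂ * d * y₂⁻¹) * y₁⁻¹ := by group
        _ = (d ^ k₂) ^ k₁ := by rw [h1, h2]
        _ = d ^ (k₂ * k₁) := by rw [zpow_mul]
    -- `e` centralizes `r`
    have her : (y₁ * y₂) * r * (y₁ * y₂)⁻¹ = r := by
      have := Subgroup.mem_centralizer_iff.1 hr.2 (y₁ * y₂) he
      rw [this]; group
    have h3 := hact _ hR₁ hR₂ r hr
    rw [her] at h3
    have h4 : r ^ (k₂ * k₁ - 1) = 1 := by
      rw [zpow_sub, zpow_one, ← h3, mul_inv_cancel]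
    have h5 : (t : ℤ) ∣ k₂ * k₁ - 1 := by
      rw [← hro]; exact orderOf_dvd_iff_zpow_eq_one.2 h4
    refine Subgroup.mem_centralizer_iff.2 ?_
    intro d hd
    have h6 := hact _ hR'₁ hR'₂ d hd
    have hdt : d ^ t = 1 := by
      have := pow_card_eq_one' (G := ↥(T ⊓ Subgroup.centralizer (m' : Set G))) (x := ⟨d, hd⟩)
      rw [hR'c] at this
      exact congrArg Subtype.val this
    have h7 : d ^ (k₂ * k₁ - 1) = 1 := by
      obtain ⟨j, hj⟩ := h5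
      rw [hj, zpow_mul, zpow_natCast, hdt, one_zpow]
    have h8 : d ^ (k₂ * k₁) = d := by
      have : k₂ * k₁ = (k₂ * k₁ - 1) + 1 := by ring
      rw [this, zpow_add, h7, one_mul, zpow_one]
    rw [h8] at h6
    calc d * (y₁ * y₂) = ((y₁ * y₂) * d * (y₁ * y₂)⁻¹) * (y₁ * y₂) := by rw [h6]
      _ = (y₁ * y₂) * d := by group
  exact hmm' (Subgroup.eq_of_le_of_card_ge hmle (by rw [hm, hm']))

/-- Case II of Part E: the kernel line of an incoming subgroup is `B₀`. -/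
theorem Inc.caseII_line {U ℓ T W B₀ : Subgroup G} (hI : Inc A E H' p U ℓ) (b' : Big A H' t)
    (c : Ctx p A E) (hT : Frame A E H' p t T) (hWc : Nat.card W = t)
    (hHW : H' ≤ Subgroup.normalizer (W : Set G)) (hB₀E : B₀ ≤ E) (hB₀ : Nat.card B₀ = p ^ 2)
    (hTB₀ : T ⊓ Subgroup.centralizer (B₀ : Set G) = W)
    (hVU : ∀ B : Subgroup G, B ≤ E → Nat.card B = p ^ 2 → B ≠ B₀ →
      T ⊓ Subgroup.centralizer (B : Set G) ≠ ⊥ →
      InUniqueMaximal (W ⊔ (T ⊓ Subgroup.centralizer (B : Set G)) : Subgroup G))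
    {z' : G} (hz' : Pt A E H' p z') (hzℓ : z' ∈ ℓ) : ℓ = B₀ := by
  have hpp : p.Prime := hp.out
  obtain ⟨hTs, hTp⟩ := hI.coprime_of_le b' c hT (le_refl T)
  obtain ⟨H₁, s₁, b₁, hU, hne⟩ := hI.src
  rw [hU.card] at hTs
  have hW1 : W ≠ ⊥ := by
    intro h
    rw [h, Subgroup.card_bot] at hWc
    exact b'.prime.one_lt.ne' hWc.symm
  have hWT : W ≤ T := by rw [← hTB₀]; exact inf_le_left
  have hadm₀ : Adm A E H' p t W B₀ := by
    have := hT.adm B₀ hB₀E hB₀ (by rw [hTB₀]; exact hW1)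
    rwa [hTB₀] at this
  have hzB₀ : z' ∈ B₀ := hz'.mem_line b' c hadm₀
  have hUW : U ≤ Subgroup.centralizer (W : Set G) :=
    le_centralizer_of_cyclic_of_not_le_centralizer b₁.prime hU.card (c.hEA.trans hU.inv)
      (hI.not_E_le c) (isCyclic_of_card_prime' b'.prime hWc)
      ((c.hEA.trans b'.le).trans hHW) (hI.le.trans hHW)
  -- `U` does not centralize `T`
  have hTU : ¬ T ≤ Subgroup.centralizer (U : Set G) := by
    obtain ⟨B₁, B₂, hB₁E, hB₂E, hB₁, hB₂, hB₁₂, hR₁, hR₂, -⟩ := hT.two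
    obtain ⟨B, hBE, hB, hBB₀, hR⟩ : ∃ B : Subgroup G, B ≤ E ∧ Nat.card B = p ^ 2 ∧ B ≠ B₀ ∧
        T ⊓ Subgroup.centralizer (B : Set G) ≠ ⊥ := by
      by_cases h : B₁ = B₀
      · exact ⟨B₂, hB₂E, hB₂, fun h' => hB₁₂ (h.trans h'.symm), hR₂⟩
      · exact ⟨B₁, hB₁E, hB₁, h, hR₁⟩
    have hV := hVU B hBE hB hBB₀ hR
    have hle : (W ⊔ (T ⊓ Subgroup.centralizer (B : Set G)) : Subgroup G) ≤ T :=
      sup_le hWT inf_le_left
    intro h
    exact hI.not_le_centralizer b' c hV (hle.trans hT.le) (hle.trans h)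
  by_contra hℓ
  obtain ⟨b, hbB₀, hbℓ⟩ := exists_mem_not_mem_of_card_le (Ne.symm hℓ) (by rw [hB₀, hU.line])
  have hbE : b ∈ E := hB₀E hbB₀
  have hbz : b ∉ Subgroup.zpowers z' := fun h => hbℓ ((Subgroup.zpowers_le.2 hzℓ) h)
  have hbC : b ∉ Subgroup.centralizer (U : Set G) := fun h => hbℓ (hU.ker ▸ ⟨hbE, h⟩)
  have hb1 : b ≠ 1 := by
    rintro rfl
    exact hbℓ ℓ.one_mem
  have hTb : T ⊓ Subgroup.centralizer ({b} : Set G) = W := by
    rw [hT.inf_centralizer_eq b' c hz' hB₀E hB₀ hzB₀ hbB₀ hbz (le_refl T), hTB₀]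
  have hUT : U ≤ Subgroup.normalizer (T : Set G) := hI.le.trans hT.norm
  have hbT : b ∈ Subgroup.normalizer (T : Set G) := hT.norm (b'.le (c.hEA hbE))
  have hsolv : Group.IsSolvable ↥T := solvable_of_ne_top c.hG (Big.ne_top_of_coprime c hTp)
  have hF := frobAct_of_prime b₁.prime (b₁.ne c) hU.card (c.hEe.2 b hbE) (hU.inv (c.hEA hbE)) hbC
    hTs hTp hUT hbT hsolv
  have f := Cfsg.Agent.Lib.H8.frobFormula _ _ _ hF
  unfold Cfsg.Agent.Lib.H8.FrobFormula at f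
  have h2 : T ⊓ Subgroup.centralizer ((Subgroup.zpowers b : Subgroup G) : Set G) = W := by
    rw [centralizer_zpowers_eq]; exact hTb
  have h1 : T ⊓ Subgroup.centralizer ((U ⊔ Subgroup.zpowers b : Subgroup G) : Set G) = W := by
    rw [centralizer_sup_eq]
    apply le_antisymm
    · rw [← h2]
      exact inf_le_inf_left _ inf_le_right
    · exact le_inf hWT (le_inf (le_centralizer_comm hUW) (by rw [← h2]; exact inf_le_right))
  rw [h1, h2] at f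
  have hpos : 0 < Nat.card ↥W ^ Nat.card ↥(Subgroup.zpowers b) := pow_pos Nat.card_pos _
  have hcard : Nat.card T = Nat.card (T ⊓ Subgroup.centralizer (U : Set G) : Subgroup G) :=
    Nat.eq_of_mul_eq_mul_left hpos f
  exact hTU (inf_eq_left.1 (Subgroup.eq_of_le_of_card_ge inf_le_left (le_of_eq hcard)))

/-- **Part E**: two incoming subgroups whose kernel lines pass through the distinguished point
have the same kernel line. -/
theorem Inc.line_eq {U₁ ℓ₁ U₂ ℓ₂ : Subgroup G} (hI₁ : Inc A E H' p U₁ ℓ₁)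
    (hI₂ : Inc A E H' p U₂ ℓ₂) (b' : Big A H' t) (c : Ctx p A E) {z' : G}
    (hz' : Pt A E H' p z') (hz₁ : z' ∈ ℓ₁) (hz₂ : z' ∈ ℓ₂) : ℓ₁ = ℓ₂ := by
  obtain ⟨T, hT⟩ := b'.exists_frame c
  rcases hT.cases with ⟨hTc, hTU⟩ | ⟨W, B₀, hWc, hHW, hB₀E, hB₀, hTB₀, hVU⟩
  · by_contra hne
    exact Inc.caseI_false hI₁ hI₂ b' c hT hTc hTU hz' hz₁ hz₂ hne
  · rw [hI₁.caseII_line b' c hT hWc hHW hB₀E hB₀ hTB₀ hVU hz' hz₁,
      hI₂.caseII_line b' c hT hWc hHW hB₀E hB₀ hTB₀ hVU hz' hz₂]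

end Cfsg.Agent.Lib.H16.BG
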