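import Mathlib
import Cfsg.Agent.Lib.H16.BGw

/-! # Bender–Glauberman Lemma 9.5, Part F and the final statement (helper16) -/

set_option autoImplicit false
set_option linter.unusedSectionVars false
set_option linter.unusedVariables false

namespace Cfsg.Agent.Lib.H16.BG

open Cfsg Cfsg.Agent.Lib.H7.BG7
open scoped commutatorElement

variable {G : Type*} [Group G] [Finite G] {p : ℕ} [hp : Fact p.Prime]

variable {A E H : Subgroup G} {s : ℕ}

/-- **Part F**: the configuration of three big maximal subgroups is contradictory. -/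
theorem Big.false (b : Big A H s) (c : Ctx p A E) : False := by
  have hpp : p.Prime := hp.out
  obtain ⟨w, hw, U', B', U'', B'', hU', hU'', hne⟩ := b.exists_pt c
  have hB'E : B' ≤ E := hU'.line_le
  have hB''E : B'' ≤ E := hU''.line_le
  have hwB' : w ∈ B' := hw.mem_line b c hU'
  have hwB'' : w ∈ B'' := hw.mem_line b c hU''
  have hinf : B' ⊓ B'' = Subgroup.zpowers w :=
    E3.inf_eq_zpowers c.hEe c.hEc hB'E hB''E hU'.line hU''.line hne hwB' hwB'' hw.ne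
  have hwc : Nat.card (Subgroup.zpowers w) = p := E3.card_zpowers c.hEe hw.mem hw.ne
  -- the point `z₁`
  obtain ⟨z₁, hz₁B', hz₁w⟩ : ∃ z₁ ∈ B', z₁ ∉ Subgroup.zpowers w := by
    apply exists_mem_not_mem_of_card_le
    · intro h
      have := hU'.line
      rw [h, hwc] at this
      have : p < p ^ 2 := by nlinarith [hpp.one_lt]
      omega
    · rw [hwc, hU'.line]
      nlinarith [hpp.one_lt]
  have hz₁E : z₁ ∈ E := hB'E hz₁B'
  have hz₁1 : z₁ ≠ 1 := by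
    rintro rfl
    exact hz₁w (Subgroup.one_mem _)
  have hz₁B'' : z₁ ∉ B'' := fun h => hz₁w (hinf ▸ ⟨hz₁B', h⟩)
  obtain ⟨H₁, hH₁, hCH₁⟩ := exists_coatom_ge (centralizer_singleton_ne_top c.hG hz₁1)
  obtain ⟨hH₁H, s₁, b₁⟩ :=
    b.big_of_mem_line c hU' hz₁B' (hw.not_le hz₁E hz₁w) hH₁ hCH₁
  obtain ⟨w₁, hw₁, V₁, m₁, V₂, m₂, hV₁, hV₂, hm₁₂⟩ := b₁.exists_pt c
  have hz₁pt : Pt A E H₁ p z₁ := hw₁.of_centralizer_le c hz₁E hz₁1 hCH₁
  -- a kernel line `m ≠ B'` at `H₁`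
  obtain ⟨Um, m, hUm, hmB'⟩ : ∃ Um m : Subgroup G, Adm A E H₁ p s₁ Um m ∧ m ≠ B' := by
    by_cases h : m₁ = B'
    · exact ⟨V₂, m₂, hV₂, fun h' => hm₁₂ (h.trans h'.symm)⟩
    · exact ⟨V₁, m₁, hV₁, h⟩
  have hmE : m ≤ E := hUm.line_le
  have hz₁m : z₁ ∈ m := hz₁pt.mem_line b₁ c hUm
  have hmB'' : m ≠ B'' := fun h => hz₁B'' (h ▸ hz₁m)
  have hcard := E3.card_inf_of_ne c.hEe c.hEc hmE hB''E hUm.line hU''.line hmB''
  have hne1 : m ⊓ B'' ≠ ⊥ := by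
    intro h
    rw [h, Subgroup.card_bot] at hcard
    exact hpp.one_lt.ne' hcard.symm
  obtain ⟨⟨z', hz'⟩, hz'1'⟩ := (Subgroup.ne_bot_iff_exists_ne_one).1 hne1
  have hz'1 : z' ≠ 1 := fun h => hz'1' (Subtype.ext h)
  have hz'E : z' ∈ E := hmE hz'.1
  have hz'z₁ : z' ∉ Subgroup.zpowers z₁ := by
    intro h
    exact hz₁B'' ((Subgroup.zpowers_le.2 hz'.2) (E3.mem_zpowers_of_mem c.hEe hz₁E h hz'1))
  have hz'w : z' ∉ Subgroup.zpowers w := by
    intro h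
    have hwz' : w ∈ Subgroup.zpowers z' := E3.mem_zpowers_of_mem c.hEe hw.mem h hz'1
    have hwm : w ∈ m := (Subgroup.zpowers_le.2 hz'.1) hwz'
    have h3 := E3.inf_eq_zpowers c.hEe c.hEc hmE hB'E hUm.line hU'.line hmB' hz₁m hz₁B' hz₁1
    have hwz₁ : w ∈ Subgroup.zpowers z₁ := by rw [← h3]; exact ⟨hwm, hwB'⟩
    exact hz₁w (E3.mem_zpowers_of_mem c.hEe hz₁E hwz₁ hw.ne)
  obtain ⟨H', hH', hCH'⟩ := exists_coatom_ge (centralizer_singleton_ne_top c.hG hz'1)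
  obtain ⟨hH'H, t, b'⟩ :=
    b.big_of_mem_line c hU'' hz'.2 (hw.not_le hz'E hz'w) hH' hCH'
  obtain ⟨hH'H₁, -⟩ :=
    b₁.big_of_mem_line c hUm hz'.1 (hz₁pt.not_le hz'E hz'z₁) hH' hCH'
  obtain ⟨w', hw', -⟩ := b'.exists_pt c
  have hz'pt : Pt A E H' p z' := hw'.of_centralizer_le c hz'E hz'1 hCH'
  have hle : ∀ {U ℓ : Subgroup G}, ℓ ≤ Subgroup.centralizer (U : Set G) → z' ∈ ℓ → U ≤ H' := by
    intro U ℓ hℓ hz
    refine le_trans ?_ hCH'
    intro u hu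
    rw [Subgroup.mem_centralizer_singleton_iff]
    exact Subgroup.mem_centralizer_iff.1 (hℓ hz) u hu
  have hI₁ : Inc A E H' p U'' B'' :=
    ⟨⟨H, s, b, hU'', fun h => hH'H h.symm⟩, hle hU''.line_le_centralizer hz'.2⟩
  have hI₂ : Inc A E H' p Um m :=
    ⟨⟨H₁, s₁, b₁, hUm, fun h => hH'H₁ h.symm⟩, hle hUm.line_le_centralizer hz'.1⟩
  exact hmB'' (hI₁.line_eq hI₂ b' c hz'pt hz'.2 hz'.1).symm

/-- **BG Lemma 9.5**: `SCN₃(P) ⊆ 𝓤`. -/
theorem inUniqueMaximal_of_scn_three (hG : IsMinSimpleOddOrder G) (P : Sylow p G)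
    {A : Subgroup G} (hA : IsSCN (P : Subgroup G) A) (hA3 : ¬ PRankLE p 2 ↥A) :
    InUniqueMaximal A := by
  have hpp : p.Prime := hp.out
  by_contra hAU
  obtain ⟨E₀, hE₀A, hE₀e, hE₀c⟩ := exists_elemAb_of_not_pRankLE hpp hA3
  rw [show (2 + 1 : ℕ) = 3 from rfl] at hE₀c
  have hE₀p : IsPGroup p E₀ := isPGroup_of_elemAb hE₀e
  obtain ⟨k, hk⟩ := IsPGroup.iff_card.1 hE₀p
  have hk3 : 3 ≤ k := by
    rw [hk] at hE₀c
    exact (Nat.pow_le_pow_iff_right hpp.one_lt).1 hE₀c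
  obtain ⟨E', hE'⟩ := Sylow.exists_subgroup_card_pow_prime p (G := ↥E₀) (n := 3)
    (by rw [hk]; exact pow_dvd_pow p hk3)
  set E := E'.map E₀.subtype with hE
  have hEE₀ : E ≤ E₀ := Subgroup.map_subtype_le E'
  have hEc : Nat.card E = p ^ 3 := by
    rw [← hE']
    exact (Nat.card_congr (E'.equivMapOfInjective E₀.subtype E₀.subtype_injective).toEquiv).symm
  have hAp : IsPGroup p A := P.2.to_le hA.1
  have hAc : IsMulCommutative A := scn_isMulCommutative hA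
  have hpG : p ∣ Nat.card G := by
    have h1 : p ∣ Nat.card E := by rw [hEc]; exact dvd_pow_self p (by norm_num)
    exact h1.trans (Subgroup.card_subgroup_dvd_card E)
  have hA1 : ¬ PRankLE p 1 ↥A := by
    intro h
    apply hA3
    intro B hBc hBp
    exact (h B hBc hBp).trans (Nat.pow_le_pow_right hpp.pos (by norm_num))
  have hTH : TransitivityHypothesis A :=
    Cfsg.Agent.S1396.result hG p hpG A hAp hAc (Or.inr ⟨P, hA, hA1⟩)
  have c : Ctx p A E :=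
    ⟨hG, hAp, hAc, hTH, hEE₀.trans hE₀A, isElementaryAbelian_of_le hE₀e hEE₀, hEc, hAU⟩
  obtain ⟨H, s, b⟩ := c.exists_big P hA
  exact b.false c

end Cfsg.Agent.Lib.H16.BG
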