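import Mathlib
import Cfsg.Agent.Lib.H16.BGx

/-! # Bender–Glauberman Theorem 9.6 (helper16) -/

set_option autoImplicit false
set_option linter.unusedSectionVars false
set_option linter.unusedVariables false

namespace Cfsg.Agent.Lib.H16.BG

open Cfsg Cfsg.Agent.Lib.H7.BG7

variable {G : Type*} [Group G] [Finite G]

/-- every elementary abelian subgroup of order at least `q ^ 3` is a uniqueness subgroup. -/
theorem inUniqueMaximal_of_elemAb_cube (hG : IsMinSimpleOddOrder G) {q : ℕ} [hq : Fact q.Prime]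
    {B : Subgroup G} (hBe : IsElementaryAbelian q B) (hBc : q ^ 3 ≤ Nat.card B) :
    InUniqueMaximal B := by
  have hqq : q.Prime := hq.out
  have hBp : IsPGroup q B := isPGroup_of_elemAb hBe
  have hple : q ≤ q ^ 3 := by
    calc q = q ^ 1 := (pow_one q).symm
      _ ≤ q ^ 3 := Nat.pow_le_pow_right hqq.pos (by norm_num)
  have hq2 : q ≠ 2 :=
    prime_ne_two_of_dvd_card hG (dvd_card_of_elemAb hqq hBe le_rfl (hple.trans hBc))
  have hB3 : ¬ PRankLE q 2 ↥B := by
    refine not_pRankLE_of_elemAb le_rfl hBe ?_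
    have : q ^ 2 < q ^ 3 := Nat.pow_lt_pow_right hqq.one_lt (by norm_num)
    omega
  obtain ⟨Q, hBQ⟩ := hBp.exists_le_sylow
  have hQ3 : ¬ PRankLE q 2 ↥(Q : Subgroup G) := fun h => hB3 (pRankLE_of_le hBQ h)
  obtain ⟨A, hA, hA3⟩ := exists_scn3 hq2 Q.2 hQ3
  have hAU : InUniqueMaximal A := inUniqueMaximal_of_scn_three hG Q hA hA3
  exact inUniqueMaximal_of_abelian_rank_three hG (Q.2.to_le hA.1) (scn_isMulCommutative hA) hA3
    hAU hBp hBe.1 hB3

/-- a proper subgroup of `q`-rank at least three is a uniqueness subgroup. -/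
theorem inUniqueMaximal_of_not_pRankLE (hG : IsMinSimpleOddOrder G) {q : ℕ} (hq : q.Prime)
    {K : Subgroup G} (hK : K ≠ ⊤) (hr : ¬ PRankLE q 2 ↥K) : InUniqueMaximal K := by
  have : Fact q.Prime := ⟨hq⟩
  obtain ⟨B, hBK, hBe, hBc⟩ := exists_elemAb_of_not_pRankLE hq hr
  rw [show (2 + 1 : ℕ) = 3 from rfl] at hBc
  exact InUniqueMaximal.mono (inUniqueMaximal_of_elemAb_cube hG hBe hBc) hBK hK

/-- **BG Theorem 9.6**. -/
theorem inUniqueMaximal_of_rank (hG : IsMinSimpleOddOrder G) {K : Subgroup G} (hK : K ≠ ⊤)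
    (hK2 : ¬ RankLE 1 ↥K)
    (hK3 : ¬ RankLE 2 ↥K ∨ ¬ RankLE 2 ↥(Subgroup.centralizer (K : Set G))) :
    InUniqueMaximal K := by
  rcases hK3 with h | h
  · unfold RankLE at h
    push Not at h
    obtain ⟨q, hq, hr⟩ := h
    exact inUniqueMaximal_of_not_pRankLE hG hq hK hr
  · unfold RankLE at h
    push Not at h
    obtain ⟨q, hq, hr⟩ := h
    have : Fact q.Prime := ⟨hq⟩
    obtain ⟨B, hBC, hBe, hBc⟩ := exists_elemAb_of_not_pRankLE hq hr
    rw [show (2 + 1 : ℕ) = 3 from rfl] at hBc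
    exact inUniqueMaximal_of_le_centralizer hG (inUniqueMaximal_of_elemAb_cube hG hBe hBc)
      (le_centralizer_comm hBC) hK2

end Cfsg.Agent.Lib.H16.BG
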