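import Mathlib
import Cfsg.Prelude
import Cfsg.Agent.Lib.H16.NarrowD
import Cfsg.Agent.Lib.H16.PGroupCenter

set_option autoImplicit false

/-!
# Narrow `p`-groups of rank at least 3 have a maximal elementary abelian subgroup of order `p ^ 2`

If `C_R(R₀) = R₀ × R₁` with `R₀` of order `p` and `R₁` cyclic, and `R` has rank at least 3, then
`E = Ω₁(C_R(R₀))` is elementary abelian of order `p ^ 2` and is contained in no larger elementary
abelian subgroup.
-/

namespace Cfsg.Agent.Lib.H16.Narrow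

open Cfsg.Agent.Lib.H16

universe u

variable {R : Type u} [Group R]

theorem exists_mul_of_mem_sup {H K : Subgroup R} (hc : ∀ a ∈ H, ∀ b ∈ K, a * b = b * a) {x : R}
    (hx : x ∈ H ⊔ K) : ∃ a ∈ H, ∃ b ∈ K, a * b = x := by
  have hn : H ≤ Subgroup.normalizer (K : Set R) := by
    apply le_normalizer_of_conj_mem
    intro a ha b hb
    rw [hc a ha b hb, mul_inv_cancel_right]
    exact hb
  have h1 : x ∈ ((H ⊔ K : Subgroup R) : Set R) := hx
  rw [Subgroup.coe_mul_of_left_le_normalizer_right H K hn] at h1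
  obtain ⟨a, ha, b, hb, hab⟩ := Set.mem_mul.mp h1
  exact ⟨a, ha, b, hb, hab⟩

theorem exists_maxSq_of_narrow [Finite R] {p : ℕ} [hp : Fact p.Prime] (hp2 : p ≠ 2)
    (hR : IsPGroup p R) (hr : ¬ Cfsg.PRankLE p 2 R)
    (R₀ R₁ : Subgroup R) (h0 : Nat.card R₀ = p) (h1 : IsCyclic R₁) (hd : R₀ ⊓ R₁ = ⊥)
    (hc : ∀ a ∈ R₀, ∀ b ∈ R₁, a * b = b * a)
    (hC : R₀ ⊔ R₁ = Subgroup.centralizer (R₀ : Set R)) :
    ∃ E : Subgroup R, MaxSq R p E := by
  have hR₁comm : ∀ a ∈ R₁, ∀ b ∈ R₁, a * b = b * a := by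
    obtain ⟨g, hg⟩ := IsCyclic.exists_generator (α := ↥R₁)
    intro a ha b hb
    obtain ⟨i, hi⟩ := Subgroup.mem_zpowers_iff.mp (hg ⟨a, ha⟩)
    obtain ⟨j, hj⟩ := Subgroup.mem_zpowers_iff.mp (hg ⟨b, hb⟩)
    have hi' : (g : R) ^ i = a := by
      have := congrArg Subtype.val hi
      simpa using this
    have hj' : (g : R) ^ j = b := by
      have := congrArg Subtype.val hj
      simpa using this
    rw [← hi', ← hj', ← zpow_add, ← zpow_add, add_comm]
  have hR₀C : R₀ ≤ Subgroup.centralizer (R₀ : Set R) := hC ▸ le_sup_left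
  have hCcomm : ∀ x ∈ Subgroup.centralizer (R₀ : Set R),
      ∀ y ∈ Subgroup.centralizer (R₀ : Set R), x * y = y * x := by
    have hle : R₀ ⊔ R₁ ≤ Subgroup.centralizer ((R₀ ⊔ R₁ : Subgroup R) : Set R) := by
      apply sup_le
      · intro a ha
        rw [Subgroup.mem_centralizer_iff]
        intro c hc'
        have hc'' : c ∈ Subgroup.centralizer (R₀ : Set R) := hC ▸ hc'
        exact ((Subgroup.mem_centralizer_iff.mp hc'') a ha).symm
      · intro b hb
        rw [Subgroup.mem_centralizer_iff]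
        intro c hc'
        obtain ⟨a, ha, b', hb', rfl⟩ := exists_mul_of_mem_sup hc hc'
        rw [mul_assoc, hR₁comm b' hb' b hb, ← mul_assoc, hc a ha b hb, mul_assoc]
    intro x hx y hy
    rw [← hC] at hx hy
    exact (Subgroup.mem_centralizer_iff.mp (hle hy)) x hx
  set E := NormalSq.omegaP p (Subgroup.centralizer (R₀ : Set R)) hCcomm with hEdef
  have hE : Cfsg.IsElementaryAbelian p E := NormalSq.omegaP_elemAb p _ hCcomm
  have hR₀p : ∀ a ∈ R₀, a ^ p = 1 := by
    intro a ha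
    have h2 := pow_card_eq_one' (G := ↥R₀) (x := ⟨a, ha⟩)
    rw [h0] at h2
    have h3 := congrArg Subtype.val h2
    simpa using h3
  have hR₀E : R₀ ≤ E := fun a ha => NormalSq.mem_omegaP.mpr ⟨hR₀C ha, hR₀p a ha⟩
  have hEmax : ∀ B : Subgroup R, Cfsg.IsElementaryAbelian p B → E ≤ B → B = E := by
    intro B hB hEB
    apply le_antisymm _ hEB
    intro b hb
    refine NormalSq.mem_omegaP.mpr ⟨?_, hB.2 b hb⟩
    rw [Subgroup.mem_centralizer_iff]
    intro a ha
    exact congrArg Subtype.val (hB.1.is_comm.comm (⟨a, hEB (hR₀E ha)⟩ : B) ⟨b, hb⟩)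
  -- the order of `E` is at most `p ^ 2`
  have hle : Nat.card E ≤ p ^ 2 := by
    have hcyc : IsCyclic ↥(R₁ ⊓ E : Subgroup R) := by
      haveI := h1
      exact Subgroup.isCyclic_of_le (inf_le_left : R₁ ⊓ E ≤ R₁)
    have hc1 : Nat.card ↥(R₁ ⊓ E : Subgroup R) ≤ p := by
      apply NormalSq.card_le_of_isCyclic_of_pow p hp.out.pos
      intro x
      apply Subtype.ext
      have := hE.2 x x.2.2
      simpa using this
    have hdec : ∀ x : ↥E, ∃ ab : ↥R₀ × ↥(R₁ ⊓ E : Subgroup R), (ab.1 : R) * (ab.2 : R) = (x : R) := by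
      intro x
      have hx : (x : R) ∈ R₀ ⊔ R₁ := by
        rw [hC]
        exact x.2.1
      obtain ⟨a, ha, b, hb, hab⟩ := exists_mul_of_mem_sup hc hx
      have hbE : b ∈ E := by
        have : b = a⁻¹ * (x : R) := by rw [← hab]; group
        rw [this]
        exact E.mul_mem (E.inv_mem (hR₀E ha)) x.2
      exact ⟨(⟨a, ha⟩, ⟨b, ⟨hb, hbE⟩⟩), hab⟩
    choose f hf using hdec
    have hinj : Function.Injective f := by
      intro x y hxy
      apply Subtype.ext
      rw [← hf x, ← hf y, hxy]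
    have h2 := Nat.card_le_card_of_injective f hinj
    rw [Nat.card_prod, h0] at h2
    calc Nat.card E ≤ p * Nat.card ↥(R₁ ⊓ E : Subgroup R) := h2
      _ ≤ p * p := Nat.mul_le_mul_left p hc1
      _ = p ^ 2 := (sq p).symm
  -- `E` is strictly larger than `R₀`
  have hnot : ¬ E ≤ R₀ := by
    intro hER
    have hr' := hr
    unfold Cfsg.PRankLE at hr'
    push Not at hr'
    obtain ⟨B₀, hB₀c, hB₀e, hB₀⟩ := hr'
    have hne : (⊤ : Subgroup R) ≠ ⊥ := by
      intro htop
      have h2 := Subgroup.card_le_of_le (le_top : B₀ ≤ ⊤)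
      rw [htop, Subgroup.card_bot] at h2
      have := hp.out.one_lt
      nlinarith
    obtain ⟨z, -, hz, hzc⟩ := H15.exists_central_orderOf_eq_prime (hR.to_subgroup ⊤) hne
    have hzE : z ∈ E := by
      refine NormalSq.mem_omegaP.mpr ⟨?_, ?_⟩
      · rw [Subgroup.mem_centralizer_iff]
        intro a _
        exact hzc a (Subgroup.mem_top a)
      · rw [← hz]
        exact pow_orderOf_eq_one z
    have hzR₀ : z ∈ R₀ := hER hzE
    have hzp : Subgroup.zpowers z = R₀ := by
      apply Subgroup.eq_of_le_of_card_ge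
      · rw [Subgroup.zpowers_le]
        exact hzR₀
      · rw [Nat.card_zpowers, hz, h0]
    have hcen : ∀ a ∈ R₀, ∀ s : R, a * s = s * a := by
      intro a ha s
      rw [← hzp] at ha
      obtain ⟨i, rfl⟩ := Subgroup.mem_zpowers_iff.mp ha
      have hcs : Commute s z := hzc s (Subgroup.mem_top s)
      exact (hcs.zpow_right i).symm.eq
    have hB₀E : B₀ ≤ E := by
      intro b hb
      refine NormalSq.mem_omegaP.mpr ⟨?_, hB₀e b hb⟩
      rw [Subgroup.mem_centralizer_iff]
      intro a ha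
      exact hcen a ha b
    have h2 := Subgroup.card_le_of_le (hB₀E.trans hER)
    rw [h0] at h2
    have := hp.out.one_lt
    nlinarith
  have hge : p ^ 2 ≤ Nat.card E := by
    obtain ⟨k, hk⟩ := IsPGroup.iff_card.mp (hR.to_subgroup E)
    have h2 := Subgroup.card_le_of_le hR₀E
    rw [h0, hk] at h2
    have hk2 : 2 ≤ k := by
      by_contra hlt
      have hk1 : k = 0 ∨ k = 1 := by omega
      rcases hk1 with rfl | rfl
      · rw [pow_zero] at h2
        have := hp.out.one_lt
        omega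
      · apply hnot
        have : R₀ = E := by
          apply Subgroup.eq_of_le_of_card_ge hR₀E
          rw [hk, h0, pow_one]
        rw [← this]
    rw [hk]
    exact Nat.pow_le_pow_right hp.out.pos hk2
  exact ⟨E, ⟨hp2, hR, hr, hE, le_antisymm hle hge, hEmax⟩⟩

end Cfsg.Agent.Lib.H16.Narrow
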