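import Mathlib
import Cfsg.Prelude
import Cfsg.Agent.Lib.H16.NarrowAutE
import Cfsg.Agent.Lib.H1.PCore

set_option autoImplicit false

/-!
# Groups acting on a narrow `p`-group of rank at least 3

If a finite group `A` acts on `P` (with `MaxSq P p E`) with a kernel that is a `p`-group, then
`A'` is a `p`-group (Bender--Glauberman, Theorem 5.5(a)).
-/

namespace Cfsg.Agent.Lib.H16.Narrow

open scoped commutatorElement
open Cfsg.Agent.Lib.H16 Cfsg.Agent.Lib.H16.AutAct

universe u v

/-- An element whose order divides both a power of `p` and a power of `q ≠ p` is trivial. -/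
theorem eq_one_of_pow_pow {X : Type*} [Group X] {p q : ℕ} (hp : p.Prime) (hq : q.Prime)
    (hpq : q ≠ p) {c : X} {i j : ℕ} (h1 : c ^ (p ^ i) = 1) (h2 : c ^ (q ^ j) = 1) : c = 1 := by
  have hd1 : orderOf c ∣ p ^ i := orderOf_dvd_of_pow_eq_one h1
  have hd2 : orderOf c ∣ q ^ j := orderOf_dvd_of_pow_eq_one h2
  have hcop : (p ^ i).Coprime (q ^ j) :=
    Nat.Coprime.pow _ _ ((Nat.coprime_primes hp hq).mpr (Ne.symm hpq))
  have : orderOf c = 1 := Nat.eq_one_of_dvd_coprimes hcop hd1 hd2
  exact orderOf_eq_one_iff.mp this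

variable {P : Type u} [Group P] [Finite P] {p : ℕ} [hp : Fact p.Prime] {E : Subgroup P}

/-- With a `p`-group kernel, the normalizer of a Sylow `q`-subgroup (`q ≠ p`) centralizes it. -/
theorem normalizer_le_centralizer_of_action (h : MaxSq P p E) {A : Type v} [Group A] [Finite A]
    (ρ : A →* MulAut P) (hker : IsPGroup p ρ.ker) {q : ℕ} [hq : Fact q.Prime] (hqp : q ≠ p)
    (Q : Sylow q A) :
    Subgroup.normalizer ((Q : Subgroup A) : Set A) ≤ Subgroup.centralizer ((Q : Subgroup A) : Set A) := by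
  have hfin : Finite (MulAut P) := finite_mulAut
  intro n hn
  rw [Subgroup.mem_centralizer_iff]
  intro g hg
  set 𝒴 : Subgroup (MulAut P) := (Subgroup.normalizer ((Q : Subgroup A) : Set A)).map ρ with h𝒴
  set 𝒬 : Subgroup (MulAut P) := (Q : Subgroup A).map ρ with h𝒬
  have hle : 𝒬 ≤ 𝒴 := Subgroup.map_mono Subgroup.le_normalizer
  have hnorm : ∀ y ∈ 𝒴, ∀ x ∈ 𝒬, y * x * y⁻¹ ∈ 𝒬 := by
    rintro _ ⟨n', hn', rfl⟩ _ ⟨g', hg', rfl⟩
    refine ⟨n' * g' * n'⁻¹, (Subgroup.mem_normalizer_iff.mp hn' g').mp hg', ?_⟩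
    rw [map_mul, map_mul, map_inv]
  have hcop : (Nat.card 𝒬).Coprime p := by
    have hQq : IsPGroup q 𝒬 := Q.2.map ρ
    obtain ⟨k, hk⟩ := IsPGroup.iff_card.mp hQq
    rw [hk]
    exact Nat.Coprime.pow_left _ ((Nat.coprime_primes hq.out hp.out).mpr hqp)
  have hcomm := commute_of_normalized h 𝒴 𝒬 hle hnorm hcop (ρ g) ⟨g, hg, rfl⟩ (ρ n) ⟨n, hn, rfl⟩
  have hc1 : ⁅g, n⁆ ∈ ρ.ker := by
    rw [MonoidHom.mem_ker, map_commutatorElement, commutatorElement_eq_one_iff_mul_comm]
    exact hcomm
  have hc2 : ⁅g, n⁆ ∈ (Q : Subgroup A) := by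
    rw [commutatorElement_def]
    have h1 : n * g⁻¹ * n⁻¹ ∈ (Q : Subgroup A) :=
      (Subgroup.mem_normalizer_iff.mp hn g⁻¹).mp (inv_mem hg)
    have h2 : g * n * g⁻¹ * n⁻¹ = g * (n * g⁻¹ * n⁻¹) := by group
    rw [h2]
    exact mul_mem hg h1
  obtain ⟨i, hi⟩ := hker ⟨_, hc1⟩
  obtain ⟨j, hj⟩ := Q.2 ⟨_, hc2⟩
  have hi' : ⁅g, n⁆ ^ (p ^ i) = 1 := by
    have := congrArg Subtype.val hi
    simpa using this
  have hj' : ⁅g, n⁆ ^ (q ^ j) = 1 := by
    have := congrArg Subtype.val hj
    simpa using this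
  have hone := eq_one_of_pow_pow hp.out hq.out hqp hi' hj'
  exact commutatorElement_eq_one_iff_mul_comm.mp hone

/-- Bender--Glauberman 5.5(a) for narrow groups of rank at least 3, in terms of an action. -/
theorem isPGroup_commutator_of_action_maxSq (h : MaxSq P p E) {A : Type v} [Group A] [Finite A]
    (ρ : A →* MulAut P) (hker : IsPGroup p ρ.ker) : IsPGroup p ↥(commutator A) := by
  have hnd : ∀ q : ℕ, q.Prime → q ∣ Nat.card ↥(commutator A) → q = p := by
    intro q hq hdvd
    by_contra hqp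
    have : Fact q.Prime := ⟨hq⟩
    obtain ⟨Q⟩ : Nonempty (Sylow q A) := inferInstance
    have hNC := normalizer_le_centralizer_of_action h ρ hker hqp Q
    have hle : commutator A ≤ (MonoidHom.transferSylow Q hNC).ker := by
      rw [commutator_def, Subgroup.commutator_le]
      intro g₁ _ g₂ _
      rw [MonoidHom.mem_ker, map_commutatorElement, commutatorElement_eq_one_iff_mul_comm]
      generalize (MonoidHom.transferSylow Q hNC) g₁ = a
      generalize (MonoidHom.transferSylow Q hNC) g₂ = b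
      apply Subtype.ext
      have hb : (b : A) ∈ Subgroup.centralizer ((Q : Subgroup A) : Set A) :=
        hNC (Subgroup.le_normalizer b.2)
      exact (Subgroup.mem_centralizer_iff.mp hb) a a.2
    exact MonoidHom.not_dvd_card_ker_transferSylow Q hNC
      (hdvd.trans (Subgroup.card_dvd_of_le hle))
  have hpos : Nat.card ↥(commutator A) ≠ 0 := Nat.card_pos.ne'
  have := Nat.eq_prime_pow_of_unique_prime_dvd hpos (fun {d} hd hdd => hnd d hd hdd)
  exact IsPGroup.of_card this

end Cfsg.Agent.Lib.H16.Narrow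

namespace Cfsg.Agent.Lib.H16

open scoped commutatorElement

/-- If `A'` is a `p`-group then `A' ≤ O_p(A)` and `A ⧸ O_p(A)` is a `p'`-group. -/
theorem commutator_le_pCore_of_isPGroup {A : Type*} [Group A] [Finite A] {p : ℕ}
    [hp : Fact p.Prime] (hcomm : IsPGroup p ↥(commutator A)) :
    commutator A ≤ Cfsg.pCore p A ∧ ((Cfsg.pCore p A).index).Coprime p := by
  set R : Subgroup A := Cfsg.pCore p A with hR
  have hRp : IsPGroup p R := Cfsg.Agent.Lib.H1.pCore_isPGroup p A
  have hRn : R.Normal := Cfsg.Agent.Lib.H1.pCore_normal p A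
  have hcommle : commutator A ≤ R := Cfsg.Agent.Lib.H1.le_pCore inferInstance hcomm
  refine ⟨hcommle, ?_⟩
  rw [Nat.coprime_comm, Nat.Prime.coprime_iff_not_dvd hp.out]
  intro hdvd
  rw [Subgroup.index_eq_card] at hdvd
  obtain ⟨t, ht⟩ := exists_prime_orderOf_dvd_card' p hdvd
  set T : Subgroup (A ⧸ R) := Subgroup.zpowers t with hT
  have hTp : IsPGroup p T := by
    rw [hT]
    apply IsPGroup.of_card (n := 1)
    rw [Nat.card_zpowers, ht, pow_one]
  have hTn : T.Normal := by
    constructor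
    intro n hn g
    have hc : g * n = n * g := by
      induction g using QuotientGroup.induction_on with
      | H g =>
      induction n using QuotientGroup.induction_on with
      | H n =>
      rw [← QuotientGroup.mk_mul, ← QuotientGroup.mk_mul, QuotientGroup.eq]
      apply hcommle
      have : (g * n)⁻¹ * (n * g) = ⁅n⁻¹, g⁻¹⁆ := by
        rw [commutatorElement_def]; group
      rw [this]
      exact Subgroup.commutator_mem_commutator (Subgroup.mem_top _) (Subgroup.mem_top _)
    rw [hc, mul_inv_cancel_right]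
    exact hn
  set T' : Subgroup A := T.comap (QuotientGroup.mk' R) with hT'
  have hT'n : T'.Normal := Subgroup.Normal.comap hTn _
  have hT'p : IsPGroup p T' := by
    apply IsPGroup.comap_of_ker_isPGroup hTp
    rw [QuotientGroup.ker_mk']
    exact hRp
  have hT'le : T' ≤ R := Cfsg.Agent.Lib.H1.le_pCore hT'n hT'p
  have ht1 : t = 1 := by
    obtain ⟨g, rfl⟩ := QuotientGroup.mk'_surjective R t
    have hg : g ∈ T' := by
      rw [hT', Subgroup.mem_comap]
      exact Subgroup.mem_zpowers _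
    exact (QuotientGroup.eq_one_iff g).mpr (hT'le hg)
  rw [ht1, orderOf_one] at ht
  exact hp.out.one_lt.ne ht

end Cfsg.Agent.Lib.H16
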