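import Mathlib
import Cfsg.Prelude
import Cfsg.Agent.Lib.H16.NarrowAutF
import Cfsg.Agent.Lib.H16.NarrowMaxSq
import Cfsg.Agent.Lib.H16.RankTwoFitC

set_option autoImplicit false

/-!
# `G' ≤ F(G)` from an abstract hypothesis, and narrow `O_p(G)`

* `commutator_le_fittingSubgroup_of_centralizes`: if for every prime `q` the `q'`-elements of `G'`
  centralize `O_q(G)`, then `G' ≤ F(G)` (`G` solvable).
* `maxSq_of_maximal`: a maximal elementary abelian subgroup of order at most `p ^ 2` in a
  `p`-group of rank at least three gives the `MaxSq` structure.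
* `map_eq_one_of_mem_commutator_maxSq`: `p'`-elements of `A'` act trivially on `P`.
-/

namespace Cfsg.Agent.Lib.H16.Narrow

open Cfsg
open scoped commutatorElement
open Cfsg.Agent.Lib.H16 Cfsg.Agent.Lib.H16.RankTwo

universe u v

section fit

variable {G : Type u} [Group G] [Finite G]

theorem Mr_isNilpotent_of_centralizes (hs : Group.IsSolvable G)
    (hK : ∀ q : ℕ, q.Prime → ∀ d ∈ commutator G, (orderOf d).Coprime q →
      d ∈ Subgroup.centralizer (pCore q G : Set G)) (r : ℕ) [hr : Fact r.Prime] :
    Group.IsNilpotent ↥(Mr G r) := by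
  haveI := hs
  have hcentral : ∀ y ∈ Mr G r, (orderOf y).Coprime r → ∀ m ∈ Mr G r, m * y = y * m := by
    intro y hy hcop m hm
    have hy1 : y ∈ Subgroup.centralizer (pCore r G : Set G) := hK r hr.out y hy.1 hcop
    have hy2 : y ∈ Subgroup.centralizer (Vr G r : Set G) := hy.2
    have hyF : y ∈ Subgroup.centralizer (fittingSubgroup G : Set G) := by
      rw [← pCore_sup_Vr r]
      rw [Subgroup.mem_centralizer_iff]
      intro z hz
      obtain ⟨a, ha, b, hb, rfl⟩ := Subgroup.mem_sup_of_normal_right.mp hz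
      have h1 := Subgroup.mem_centralizer_iff.mp hy1 a ha
      have h2 := Subgroup.mem_centralizer_iff.mp hy2 b hb
      calc a * b * y = a * (b * y) := by group
        _ = a * (y * b) := by rw [h2]
        _ = (a * y) * b := by group
        _ = (y * a) * b := by rw [h1]
        _ = y * (a * b) := by group
    have hyF' : y ∈ fittingSubgroup G :=
      Cfsg.Agent.Lib.H7.centralizer_fittingSubgroup_le_of_isSolvable G hyF
    have hyV : y ∈ Vr G r := mem_Vr_of_mem_fitting r hyF' hcop
    exact Subgroup.mem_centralizer_iff.mp hm.2 y hyV |>.symm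
  apply Group.of_quotient_center_nilpotent
  have hquot : IsPGroup r (↥(Mr G r) ⧸ Subgroup.center ↥(Mr G r)) := by
    intro t
    induction t using QuotientGroup.induction_on with
    | H m =>
    obtain ⟨j, hj⟩ := exists_pow_coprime_order (p := r) m
    refine ⟨j, ?_⟩
    rw [← QuotientGroup.mk_pow, QuotientGroup.eq_one_iff, Subgroup.mem_center_iff]
    intro g
    apply Subtype.ext
    rw [Subgroup.coe_mul, Subgroup.coe_mul]
    have hmem : ((m ^ r ^ j : ↥(Mr G r)) : G) ∈ Mr G r := (m ^ r ^ j).2
    have hord : orderOf ((m ^ r ^ j : ↥(Mr G r)) : G) = orderOf (m ^ r ^ j) :=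
      Subgroup.orderOf_coe _
    exact hcentral _ hmem (hord ▸ hj) g g.2
  exact hquot.isNilpotent

theorem mem_Mr_of_orderOf_of_centralizes
    (hK : ∀ q : ℕ, q.Prime → ∀ d ∈ commutator G, (orderOf d).Coprime q →
      d ∈ Subgroup.centralizer (pCore q G : Set G)) (r : ℕ) [hr : Fact r.Prime]
    {x : G} (hx : x ∈ commutator G) {k : ℕ} (hk : orderOf x = r ^ k) : x ∈ Mr G r := by
  refine ⟨hx, ?_⟩
  show x ∈ Subgroup.centralizer (Vr G r : Set G)
  rw [Subgroup.mem_centralizer_iff]
  intro v hv
  have hle : Vr G r ≤ Subgroup.centralizer ({x} : Set G) := by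
    apply iSup_le
    rintro ⟨q, hqr⟩
    have : Fact (q : ℕ).Prime := ⟨q.2⟩
    intro z hz
    rw [Subgroup.mem_centralizer_singleton_iff]
    have hcop : (orderOf x).Coprime (q : ℕ) := by
      rw [hk]
      exact Nat.Coprime.pow_left k ((Nat.coprime_primes hr.out q.2).mpr (Ne.symm hqr))
    have := hK q q.2 x hx hcop
    exact (Subgroup.mem_centralizer_iff.mp this z hz)
  exact (Subgroup.mem_centralizer_singleton_iff.mp (hle hv))

/-- **`G' ≤ F(G)`** for a solvable group in which, for every prime `q`, the `q'`-elements of `G'`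
centralize `O_q(G)`. -/
theorem commutator_le_fittingSubgroup_of_centralizes (hs : Group.IsSolvable G)
    (hK : ∀ q : ℕ, q.Prime → ∀ d ∈ commutator G, (orderOf d).Coprime q →
      d ∈ Subgroup.centralizer (pCore q G : Set G)) :
    commutator G ≤ fittingSubgroup G := by
  have htop : (fittingSubgroup G).subgroupOf (commutator G) = ⊤ := by
    apply Cfsg.Agent.Lib.H1.eq_top_of_forall_sylow_le
    intro r hr
    obtain ⟨P⟩ : Nonempty (Sylow r ↥(commutator G)) := inferInstance
    refine ⟨P, ?_⟩
    intro x hx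
    rw [Subgroup.mem_subgroupOf]
    obtain ⟨k, hk⟩ := (IsPGroup.iff_orderOf.mp P.2) ⟨x, hx⟩
    have hk' : orderOf (x : G) = r ^ k := by
      rw [Subgroup.orderOf_coe]
      have : orderOf (⟨x, hx⟩ : (P : Subgroup ↥(commutator G))) = orderOf x :=
        Subgroup.orderOf_mk x hx
      rw [← this]
      exact hk
    have hnil : Group.IsNilpotent ↥(Mr G r) := Mr_isNilpotent_of_centralizes hs hK r
    exact Cfsg.Agent.Lib.H1.le_fittingSubgroup inferInstance hnil
      (mem_Mr_of_orderOf_of_centralizes hK r x.2 hk')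
  intro x hx
  have : (⟨x, hx⟩ : commutator G) ∈ (fittingSubgroup G).subgroupOf (commutator G) := by
    rw [htop]; trivial
  exact Subgroup.mem_subgroupOf.mp this

end fit

section maxsq

variable {R : Type u} [Group R] [Finite R] {p : ℕ} [hp : Fact p.Prime]

/-- A maximal elementary abelian subgroup of order at most `p ^ 2` in a `p`-group of rank at
least three has order exactly `p ^ 2`. -/
theorem maxSq_of_maximal (hp2 : p ≠ 2) (hR : IsPGroup p R) (hr : ¬ Cfsg.PRankLE p 2 R)
    (B : Subgroup R) (hB : Cfsg.IsElementaryAbelian p B)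
    (hBmax : ∀ B' : Subgroup R, Cfsg.IsElementaryAbelian p B' → B ≤ B' → B' = B)
    (hle : Nat.card B ≤ p ^ 2) : MaxSq R p B := by
  have hr' := hr
  unfold Cfsg.PRankLE at hr'
  push Not at hr'
  obtain ⟨B₀, hB₀c, hB₀e, hB₀⟩ := hr'
  have hne : (⊤ : Subgroup R) ≠ ⊥ := by
    intro htop
    have h2 := Subgroup.card_le_of_le (le_top : B₀ ≤ ⊤)
    rw [htop, Subgroup.card_bot] at h2
    have := hp.out.one_lt
    nlinarith
  obtain ⟨z, -, hz, hzc⟩ := H15.exists_central_orderOf_eq_prime (hR.to_subgroup ⊤) hne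
  have hzB : z ∈ B := by
    apply mem_of_max B hB hBmax
    · rw [← hz]
      exact pow_orderOf_eq_one z
    · intro e _
      exact (hzc e (Subgroup.mem_top e)).symm
  have hge : p ^ 2 ≤ Nat.card B := by
    obtain ⟨k, hk⟩ := IsPGroup.iff_card.mp (hR.to_subgroup B)
    have hzle : Subgroup.zpowers z ≤ B := by
      rw [Subgroup.zpowers_le]
      exact hzB
    have h2 := Subgroup.card_le_of_le hzle
    rw [Nat.card_zpowers, hz, hk] at h2
    have hk2 : 2 ≤ k := by
      by_contra hlt
      have hk1 : k = 0 ∨ k = 1 := by omega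
      rcases hk1 with rfl | rfl
      · rw [pow_zero] at h2
        have := hp.out.one_lt
        omega
      · have hBz : Subgroup.zpowers z = B := by
          apply Subgroup.eq_of_le_of_card_ge hzle
          rw [hk, Nat.card_zpowers, hz, pow_one]
        have hcen : ∀ b ∈ B, ∀ s : R, s * b = b * s := by
          intro b hb s
          rw [← hBz] at hb
          obtain ⟨i, rfl⟩ := Subgroup.mem_zpowers_iff.mp hb
          have hcs : Commute s z := hzc s (Subgroup.mem_top s)
          exact (hcs.zpow_right i).eq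
        have hB₀B : B₀ ≤ B := by
          intro b hb
          apply mem_of_max B hB hBmax (hB₀e b hb)
          intro e he
          exact hcen e he b
        have h3 := Subgroup.card_le_of_le hB₀B
        rw [hk, pow_one] at h3
        have := hp.out.one_lt
        nlinarith
    rw [hk]
    exact Nat.pow_le_pow_right hp.out.pos hk2
  exact ⟨hp2, hR, hr, hB, le_antisymm hle hge, hBmax⟩

/-- If the centralizer of an elementary abelian subgroup `E` has rank at most two and `R` has
rank at least three, then `R` has the `MaxSq` structure. -/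
theorem exists_maxSq_of_centralizer (hp2 : p ≠ 2) (hR : IsPGroup p R)
    (hr : ¬ Cfsg.PRankLE p 2 R) (E : Subgroup R) (hE : Cfsg.IsElementaryAbelian p E)
    (hC : ∀ B : Subgroup R, Cfsg.IsElementaryAbelian p B →
      B ≤ Subgroup.centralizer (E : Set R) → Nat.card B ≤ p ^ 2) :
    ∃ B : Subgroup R, MaxSq R p B := by
  -- choose `B ⊇ E` elementary abelian of largest order
  have hex : ∃ n : ℕ, ∃ B : Subgroup R, Cfsg.IsElementaryAbelian p B ∧ E ≤ B ∧ Nat.card B = n :=
    ⟨_, E, hE, le_rfl, rfl⟩
  have hbdd : ∀ n : ℕ, (∃ B : Subgroup R, Cfsg.IsElementaryAbelian p B ∧ E ≤ B ∧ Nat.card B = n) →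
      n ≤ Nat.card R := by
    rintro n ⟨B, -, -, rfl⟩
    exact Subgroup.card_le_card_group B
  classical
  obtain ⟨B, hB, hEB, hBcard⟩ := Nat.findGreatest_spec (P := fun n => ∃ B : Subgroup R,
    Cfsg.IsElementaryAbelian p B ∧ E ≤ B ∧ Nat.card B = n) (hbdd _ hex.choose_spec) hex.choose_spec
  have hBmax : ∀ B' : Subgroup R, Cfsg.IsElementaryAbelian p B' → B ≤ B' → B' = B := by
    intro B' hB' hBB'
    have h1 : Nat.card B' ≤ Nat.findGreatest (fun n => ∃ B : Subgroup R,
        Cfsg.IsElementaryAbelian p B ∧ E ≤ B ∧ Nat.card B = n) (Nat.card R) :=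
      Nat.le_findGreatest (Subgroup.card_le_card_group B') ⟨B', hB', hEB.trans hBB', rfl⟩
    rw [← hBcard] at h1
    exact (Subgroup.eq_of_le_of_card_ge hBB' h1).symm
  have hBC : B ≤ Subgroup.centralizer (E : Set R) := by
    intro b hb
    rw [Subgroup.mem_centralizer_iff]
    intro e he
    exact congrArg Subtype.val (hB.1.is_comm.comm (⟨e, hEB he⟩ : B) ⟨b, hb⟩)
  exact ⟨B, maxSq_of_maximal hp2 hR hr B hB hBmax (hC B hB hBC)⟩

end maxsq

section act

variable {P : Type u} [Group P] [Finite P] {p : ℕ} [hp : Fact p.Prime] {E : Subgroup P}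

/-- `p'`-elements of the derived subgroup of an operator group act trivially on `P`. -/
theorem map_eq_one_of_mem_commutator_maxSq (h : MaxSq P p E) {A : Type v} [Group A] [Finite A]
    (ρ : A →* MulAut P) {d : A} (hd : d ∈ commutator A) (hcop : (orderOf d).Coprime p) :
    ρ d = 1 := by
  have hfin : Finite (MulAut P) := AutAct.finite_mulAut
  have hkerp : IsPGroup p (ρ.range.subtype).ker := by
    rw [Subgroup.ker_subtype]
    exact IsPGroup.of_bot
  have h1 : IsPGroup p ↥(commutator ↥ρ.range) :=
    isPGroup_commutator_of_action_maxSq h ρ.range.subtype hkerp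
  have hmem : ρ.rangeRestrict d ∈ commutator ↥ρ.range := by
    have h2 : (commutator A).map ρ.rangeRestrict ≤ commutator ↥ρ.range := by
      rw [commutator_def, Subgroup.map_commutator, commutator_def]
      exact Subgroup.commutator_mono le_top le_top
    exact h2 (Subgroup.mem_map_of_mem _ hd)
  obtain ⟨k, hk⟩ := h1 ⟨_, hmem⟩
  have hk' : (ρ.rangeRestrict d) ^ (p ^ k) = 1 := by
    have := congrArg Subtype.val hk
    simpa using this
  have h2 : orderOf (ρ.rangeRestrict d) ∣ p ^ k := orderOf_dvd_of_pow_eq_one hk'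
  have h3 : (orderOf (ρ.rangeRestrict d)).Coprime (p ^ k) :=
    Nat.Coprime.pow_right k (Nat.Coprime.coprime_dvd_left (orderOf_map_dvd _ d) hcop)
  have h4 : ρ.rangeRestrict d = 1 := orderOf_eq_one_iff.mp (Nat.Coprime.eq_one_of_dvd h3 h2)
  have := congrArg Subtype.val h4
  simpa using this

end act

end Cfsg.Agent.Lib.H16.Narrow
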