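import Mathlib
import Cfsg.Prelude
import Cfsg.Agent.Lib.H16.NarrowAutF
import Cfsg.Agent.Lib.H16.NarrowMaxSq
import Cfsg.Agent.Lib.H16.RankTwoSolv
import Cfsg.Agent.Lib.H16.SylowBasic
import Cfsg.Agent.Lib.H19.PLength
import Cfsg.Agent.Lib.L0.NPCBasic
import Cfsg.Agent.Lib.L0.TransferPC

set_option autoImplicit false

/-!
# Solvable groups of odd order with a narrow Sylow `p`-subgroup

The analogue of `RankTwo.structure_quotient` for a narrow Sylow `p`-subgroup of rank at least
three, under the hypothesis that `G` has `p`-length one.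
-/

namespace Cfsg.Agent.Lib.H16.Narrow

open Cfsg
open scoped commutatorElement
open Cfsg.Agent.Lib.H16 Cfsg.Agent.Lib.H16.AutAct

universe u v

/-- The `p`-rank of a finite group is attained in a Sylow `p`-subgroup. -/
theorem pRankLE_of_sylow {G : Type*} [Group G] [Finite G] {p k : ℕ} [Fact p.Prime]
    (S : Sylow p G) (h : Cfsg.PRankLE p k ↥(S : Subgroup G)) : Cfsg.PRankLE p k G := by
  intro A hA hexp
  have hAp : IsPGroup p A := by
    intro a
    refine ⟨1, ?_⟩
    rw [pow_one]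
    apply Subtype.ext
    rw [Subgroup.coe_pow, Subgroup.coe_one]
    exact hexp a a.2
  obtain ⟨g, hg⟩ := exists_conj_mem_sylow A hAp S
  set A' : Subgroup G := A.map (MulAut.conj g).toMonoidHom with hA'
  have hA'S : A' ≤ (S : Subgroup G) := by
    rintro _ ⟨a, ha, rfl⟩
    exact hg a ha
  have hc1 : Nat.card A' = Nat.card A :=
    Subgroup.card_map_of_injective (MulAut.conj g).injective
  have hc2 : Nat.card (A'.subgroupOf (S : Subgroup G)) = Nat.card A' :=
    Nat.card_congr (Subgroup.subgroupOfEquivOfLe hA'S).toEquiv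
  rw [← hc1, ← hc2]
  have hA'c : IsMulCommutative A' := Subgroup.map_isMulCommutative A _
  apply h
  · refine ⟨⟨fun a b => ?_⟩⟩
    apply Subtype.ext
    apply Subtype.ext
    have h4 := hA'c.is_comm.comm (⟨((a : ↥(S : Subgroup G)) : G), a.2⟩ : A')
      ⟨((b : ↥(S : Subgroup G)) : G), b.2⟩
    show ((a : ↥(S : Subgroup G)) : G) * ((b : ↥(S : Subgroup G)) : G) =
      ((b : ↥(S : Subgroup G)) : G) * ((a : ↥(S : Subgroup G)) : G)
    exact congrArg Subtype.val h4
  · intro a ha
    apply Subtype.ext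
    rw [Subgroup.coe_pow, Subgroup.coe_one]
    obtain ⟨a', ha', haa⟩ := Subgroup.mem_subgroupOf.mp ha
    have : ((a : ↥(S : Subgroup G)) : G) = (MulAut.conj g) a' := haa.symm
    rw [this, ← map_pow, hexp a' ha', map_one]

section StructA

variable {H : Type u} [Group H] [Finite H] {p : ℕ} [hp : Fact p.Prime]

/-- If `O_{p'}(H) = 1` for a solvable group `H` and `O_p(H)` is isomorphic to a group with the
`MaxSq` structure, then `H' ≤ O_p(H)`, `H ⧸ O_p(H)` is a `p'`-group and every prime divisor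
`q ≠ p` of `|H|` divides `p - 1`. -/
theorem structure_of_maxSq (hs : Group.IsSolvable H) (hO : pPrimeCore p H = ⊥)
    {P : Type v} [Group P] [Finite P] {E : Subgroup P} (h : MaxSq P p E)
    (e : ↥(pCore p H) ≃* P) :
    commutator H ≤ pCore p H ∧ ¬ p ∣ (pCore p H).index ∧
      ∀ q : ℕ, q.Prime → q ≠ p → q ∣ Nat.card H → q ∣ p - 1 := by
  have hRp : IsPGroup p ↥(pCore p H) := Cfsg.Agent.Lib.H1.pCore_isPGroup p H
  have hCR : Subgroup.centralizer (pCore p H : Set H) ≤ pCore p H :=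
    centralizer_pCore_le_of_isSolvable p hs hO
  let ρ₀ : H →* MulAut ↥(pCore p H) := MulAut.conjNormal
  let ρ : H →* MulAut P := (MulAut.congr e).toMonoidHom.comp ρ₀
  have hker0 : ρ₀.ker ≤ pCore p H := by
    intro a ha
    apply hCR
    rw [Subgroup.mem_centralizer_iff]
    intro r hr'
    have ha' : ρ₀ a = 1 := MonoidHom.mem_ker.mp ha
    have h1 := congrArg (fun β : MulAut ↥(pCore p H) => ((β ⟨r, hr'⟩ : ↥(pCore p H)) : H)) ha'
    simp only [MulAut.one_apply, ρ₀, MulAut.conjNormal_apply] at h1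
    calc r * a = (a * r * a⁻¹) * a := by rw [h1]
      _ = a * r := by group
  have hkerle : ρ.ker ≤ pCore p H := by
    intro a ha
    apply hker0
    rw [MonoidHom.mem_ker] at ha ⊢
    have h2 : (MulAut.congr e) (ρ₀ a) = 1 := ha
    exact (MulAut.congr e).injective (by rw [h2, map_one])
  have hkerp : IsPGroup p ρ.ker := hRp.to_le hkerle
  have hcomm : IsPGroup p ↥(commutator H) := isPGroup_commutator_of_action_maxSq h ρ hkerp
  obtain ⟨hc1, hc2⟩ := commutator_le_pCore_of_isPGroup hcomm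
  refine ⟨hc1, ?_, ?_⟩
  · intro hdvd
    exact hp.out.one_lt.ne' (Nat.eq_one_of_dvd_coprimes hc2 hdvd dvd_rfl)
  · intro q hq hqp hqd
    have : Fact q.Prime := ⟨hq⟩
    obtain ⟨a, ha⟩ := exists_prime_orderOf_dvd_card' q hqd
    have hαq : (ρ a) ^ q = 1 := by rw [← map_pow, ← ha, pow_orderOf_eq_one, map_one]
    have hqcop : q.Coprime p := (Nat.coprime_primes hq hp.out).mpr hqp
    have h1 : (ρ a) ^ (p - 1) = 1 := pow_pred_eq_one h (ρ a) hαq hqcop
    have h2 : a ^ (p - 1) ∈ ρ.ker := by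
      rw [MonoidHom.mem_ker, map_pow, h1]
    obtain ⟨j, hj⟩ := hkerp ⟨_, h2⟩
    have hj' : (a ^ (p - 1)) ^ (p ^ j) = 1 := by
      have := congrArg Subtype.val hj
      simpa using this
    have h3 : (a ^ (p - 1)) ^ (q ^ 1) = 1 := by
      rw [pow_one, ← pow_mul, mul_comm, pow_mul, ← ha, pow_orderOf_eq_one, one_pow]
    have h4 : a ^ (p - 1) = 1 := eq_one_of_pow_pow hp.out hq hqp hj' h3
    rw [← ha]
    exact orderOf_dvd_of_pow_eq_one h4

end StructA

section QuotA

variable {G : Type u} [Group G] [Finite G] {p : ℕ} [hp : Fact p.Prime]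

/-- In a group of `p`-length one with `O_{p'} = 1`, the index of `O_p` is prime to `p`. -/
theorem index_pCore_coprime_of_plengthLE_one {H : Type u} [Group H] [Finite H]
    (hO : pPrimeCore p H = ⊥) (hpl : PLengthLE p 1 H) : ((pCore p H).index).Coprime p := by
  have h3 : (upperPSeries p H 3).1 = ⊤ := hpl
  have h1 : (upperPSeries p H 1).1 = ⊥ := by
    have hc := Cfsg.Agent.Lib.H19.upper_relIndex_even (G := H) p (j := 0) (by decide)
    rw [Cfsg.Agent.Lib.H19.upper_zero, Subgroup.relIndex_bot_left] at hc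
    have hle := Cfsg.Agent.Lib.H22.le_pPrimeCore p _ (upperPSeries p H 1).2 hc
    rw [hO] at hle
    exact le_bot_iff.mp hle
  have h2 : (upperPSeries p H 2).1 ≤ pCore p H := by
    obtain ⟨m, hm⟩ := Cfsg.Agent.Lib.H19.upper_relIndex_odd (G := H) p (j := 1) (by decide)
    rw [h1, Subgroup.relIndex_bot_left] at hm
    exact Cfsg.Agent.Lib.H1.le_pCore (upperPSeries p H 2).2 (IsPGroup.of_card hm)
  have hc := Cfsg.Agent.Lib.H19.upper_relIndex_even (G := H) p (j := 2) (by decide)
  rw [h3, Subgroup.relIndex_top_right] at hc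
  exact Nat.Coprime.coprime_dvd_left (Subgroup.index_dvd_of_le h2) hc

/-- With `p`-length one, a Sylow `p`-subgroup of `G` is isomorphic to `O_p(G ⧸ O_{p'}(G))`. -/
theorem nonempty_mulEquiv_pCore_quotient (S : Sylow p G) (hpl : PLengthLE p 1 G) :
    Nonempty (↥(pCore p (G ⧸ pPrimeCore p G)) ≃* ↥(S : Subgroup G)) := by
  set N : Subgroup G := pPrimeCore p G with hN
  have hNc : (Nat.card N).Coprime p := Cfsg.Agent.Lib.H22.card_pPrimeCore_coprime p
  have hO : pPrimeCore p (G ⧸ N) = ⊥ := Cfsg.Agent.Lib.H9.pPrimeCore_quotient_eq_bot p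
  have hplH : PLengthLE p 1 (G ⧸ N) := Cfsg.Agent.Lib.H19.plengthLE_quotient hpl N
  have hidx := index_pCore_coprime_of_plengthLE_one hO hplH
  set R : Subgroup (G ⧸ N) := pCore p (G ⧸ N) with hR
  have hRn : R.Normal := Cfsg.Agent.Lib.H1.pCore_normal p (G ⧸ N)
  have hRp : IsPGroup p R := Cfsg.Agent.Lib.H1.pCore_isPGroup p (G ⧸ N)
  let f : ↥(S : Subgroup G) →* G ⧸ N := (QuotientGroup.mk' N).comp (S : Subgroup G).subtype
  have hfR : ∀ s, f s ∈ R := by
    intro s
    obtain ⟨k, hk⟩ := S.2 s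
    have h1 : (f s) ^ (p ^ k) = 1 := by rw [← map_pow, hk, map_one]
    have h2 : ((f s : G ⧸ N) : (G ⧸ N) ⧸ R) ^ (p ^ k) = 1 := by
      rw [← QuotientGroup.mk_pow, h1]
      rfl
    have h3 : ((f s : G ⧸ N) : (G ⧸ N) ⧸ R) ^ (R.index) = 1 := by
      rw [Subgroup.index_eq_card]
      exact pow_card_eq_one'
    have h4 : orderOf ((f s : G ⧸ N) : (G ⧸ N) ⧸ R) = 1 := by
      apply Nat.eq_one_of_dvd_coprimes (Nat.Coprime.pow_right k hidx)
        (orderOf_dvd_of_pow_eq_one h3) (orderOf_dvd_of_pow_eq_one h2)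
    exact (QuotientGroup.eq_one_iff _).mp (orderOf_eq_one_iff.mp h4)
  let f' : ↥(S : Subgroup G) →* ↥R := f.codRestrict R hfR
  have hinj : Function.Injective f' := by
    rw [injective_iff_map_eq_one]
    intro s hs
    have h1 : f s = 1 := by
      have := congrArg Subtype.val hs
      exact this
    have h2 : (s : G) ∈ N := by
      have h3 : ((s : G) : G ⧸ N) = 1 := h1
      exact (QuotientGroup.eq_one_iff _).mp h3
    obtain ⟨k, hk⟩ := S.2 s
    have h4 : (s : G) ^ (p ^ k) = 1 := by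
      have := congrArg Subtype.val hk
      simpa using this
    have h5 : (s : G) ^ (Nat.card N) = 1 := by
      have h6 : (⟨(s : G), h2⟩ : N) ^ Nat.card N = 1 := pow_card_eq_one'
      have h8 := congrArg Subtype.val h6
      rw [Subgroup.coe_pow, Subgroup.coe_one] at h8
      exact h8
    have h7 : orderOf (s : G) = 1 :=
      Nat.eq_one_of_dvd_coprimes (Nat.Coprime.pow_right k hNc)
        (orderOf_dvd_of_pow_eq_one h5) (orderOf_dvd_of_pow_eq_one h4)
    exact Subtype.ext (orderOf_eq_one_iff.mp h7)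
  have hcard : Nat.card ↥R ≤ Nat.card ↥(S : Subgroup G) := by
    obtain ⟨j, hj⟩ := IsPGroup.iff_card.mp hRp
    have h1 : p ^ j ∣ Nat.card G := by
      rw [← hj]
      exact (Subgroup.card_subgroup_dvd_card R).trans
        (by rw [← Subgroup.index_eq_card]; exact Subgroup.index_dvd_card N)
    rw [hj, Sylow.card_eq_multiplicity]
    exact Nat.pow_le_pow_right hp.out.pos
      ((Nat.Prime.pow_dvd_iff_le_factorization hp.out Nat.card_pos.ne').mp h1)
  have hbij : Function.Bijective f' := hinj.bijective_of_nat_card_le hcard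
  exact ⟨(MulEquiv.ofBijective f' hbij).symm⟩

/-- The structure of `G ⧸ O_{p'}(G)` for a narrow Sylow `p`-subgroup of rank at least three
and `p`-length one. -/
theorem structure_quotient_narrow (hp2 : p ≠ 2) (hs : Group.IsSolvable G) (S : Sylow p G)
    (hS : Cfsg.IsNarrow p ↥(S : Subgroup G)) (hrk : ¬ Cfsg.PRankLE p 2 ↥(S : Subgroup G))
    (hpl : PLengthLE p 1 G) :
    commutator (G ⧸ pPrimeCore p G) ≤ pCore p (G ⧸ pPrimeCore p G) ∧
      ¬ p ∣ (pCore p (G ⧸ pPrimeCore p G)).index ∧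
      ∀ q : ℕ, q.Prime → q ≠ p → q ∣ Nat.card (G ⧸ pPrimeCore p G) → q ∣ p - 1 := by
  rcases hS with hS | ⟨R₀, R₁, h0, h1, hd, hc, hC⟩
  · exact absurd hS hrk
  obtain ⟨E, hE⟩ := exists_maxSq_of_narrow hp2 S.2 hrk R₀ R₁ h0 h1 hd hc hC
  obtain ⟨e⟩ := nonempty_mulEquiv_pCore_quotient S hpl
  exact structure_of_maxSq
    (Group.isSolvable_of_surjective (QuotientGroup.mk'_surjective (pPrimeCore p G)))
    (Cfsg.Agent.Lib.H9.pPrimeCore_quotient_eq_bot p) hE e

end QuotA

section Concl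

variable {G : Type u} [Group G] [Finite G]

/-- The conclusions of Bender--Glauberman 4.20 / 5.6 from the structure of `G ⧸ O_{p'}(G)`. -/
theorem conclusion_of_structure (hodd : Odd (Nat.card G)) (p : ℕ) [Fact p.Prime]
    (h1 : commutator (G ⧸ pPrimeCore p G) ≤ pCore p (G ⧸ pPrimeCore p G))
    (h2 : ¬ p ∣ (pCore p (G ⧸ pPrimeCore p G)).index)
    (hlt : ∀ q : ℕ, q.Prime → q ≠ p → q ∣ Nat.card (G ⧸ pPrimeCore p G) → q < p) :
    (∀ q : ℕ, q.Prime → q ∣ (Cfsg.pPrimeCore p G).index → q ≤ p) ∧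
      ((p = 3 ∨ ∀ q : ℕ, q.Prime → q ∣ Nat.card G → p ≤ q) → Cfsg.HasNormalPComplement p G) ∧
      Cfsg.HasNormalPComplement p ↥(commutator G) ∧
      (∀ L : Subgroup ↥(commutator G), (Nat.card L).Coprime p →
        L ≤ Cfsg.pPrimeCore p ↥(commutator G)) ∧
      commutator G ≤ Cfsg.pPrimePCore p G ∧ ((Cfsg.pPrimePCore p G).index).Coprime p := by
  classical
  have hpp : p.Prime := Fact.out
  set N : Subgroup G := Cfsg.pPrimeCore p G with hN
  set π : G →* G ⧸ N := QuotientGroup.mk' N with hπ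
  have hsurj : Function.Surjective π := QuotientGroup.mk'_surjective N
  have hNc : (Nat.card N).Coprime p := Cfsg.Agent.Lib.H22.card_pPrimeCore_coprime p
  have hNp : ¬ p ∣ Nat.card N := fun h =>
    hpp.one_lt.ne' (Nat.eq_one_of_dvd_coprimes hNc h dvd_rfl)
  have hcardQ : Nat.card (G ⧸ N) ∣ Nat.card G := by
    rw [← Subgroup.index_eq_card]
    exact Subgroup.index_dvd_card _
  have hq2 : ∀ q : ℕ, q ∣ Nat.card G → q ≠ 2 := by
    intro q hq h
    rw [h] at hq
    obtain ⟨k, hk⟩ := hodd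
    omega
  set M : Subgroup G := Cfsg.pPrimePCore p G with hM
  have hMdef : M = (Cfsg.pCore p (G ⧸ N)).comap π := rfl
  have hcommM : commutator G ≤ M := by
    rw [hMdef, ← Subgroup.map_le_iff_le_comap]
    refine le_trans ?_ h1
    rw [commutator_def, Subgroup.map_commutator, commutator_def]
    exact Subgroup.commutator_mono le_top le_top
  have hNM : N ≤ M := by
    intro x hx
    rw [hMdef, Subgroup.mem_comap, hπ, QuotientGroup.mk'_apply, (QuotientGroup.eq_one_iff x).mpr hx]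
    exact Subgroup.one_mem _
  have hMnpc : Cfsg.HasNormalPComplement p ↥M := by
    haveI : (N.subgroupOf M).Normal := Subgroup.normal_subgroupOf
    apply Cfsg.Agent.Lib.L0.hasNormalPComplement_of_normal (N.subgroupOf M)
    · rw [Nat.card_congr (Subgroup.subgroupOfEquivOfLe hNM).toEquiv]
      exact hNp
    · have h4 : N.relIndex M = Nat.card (Cfsg.pCore p (G ⧸ N)) := by
        have h5 := Subgroup.relIndex_ker π (K := M)
        rw [hMdef, Subgroup.map_comap_eq_self_of_surjective hsurj, hπ, QuotientGroup.ker_mk'] at h5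
        exact h5
      obtain ⟨k, hk⟩ := IsPGroup.iff_card.mp (Cfsg.Agent.Lib.H1.pCore_isPGroup p (G ⧸ N))
      exact ⟨k, by rw [← hk, ← h4]; rfl⟩
  have hDnpc : Cfsg.HasNormalPComplement p ↥(commutator G) :=
    Cfsg.Agent.Lib.L0.HasNormalPComplement.of_le hcommM hMnpc
  refine ⟨?_, ?_, hDnpc, ?_, hcommM, ?_⟩
  · intro q hq hqd
    rw [Subgroup.index_eq_card] at hqd
    by_cases hqp : q = p
    · exact hqp.le
    · exact (hlt q hq hqp hqd).le
  · intro hyp
    have hQp : IsPGroup p (G ⧸ N) := by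
      apply IsPGroup.of_card (n := (Nat.card (G ⧸ N)).primeFactorsList.length)
      apply Nat.eq_prime_pow_of_unique_prime_dvd Nat.card_pos.ne'
      intro q hq hqd
      by_contra hqp
      have hqlt := hlt q hq hqp hqd
      rcases hyp with h | h
      · have hq2' := hq2 q (hqd.trans hcardQ)
        have := hq.two_le
        omega
      · have := h q hq (hqd.trans hcardQ)
        omega
    exact Cfsg.Agent.Lib.L0.hasNormalPComplement_of_quotient N hNp
      (Cfsg.Agent.Lib.L0.hasNormalPComplement_of_isPGroup hQp)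
  · intro L hL
    obtain ⟨ND, hNDn, hpND, k, hk⟩ := Cfsg.Agent.Lib.L0.HasNormalPComplement.exists_normal hDnpc
    haveI := hNDn
    have hle : ND ≤ Cfsg.pPrimeCore p ↥(commutator G) :=
      Cfsg.Agent.Lib.H22.le_pPrimeCore p ND hNDn
        ((Nat.Prime.coprime_iff_not_dvd hpp).mpr hpND).symm
    intro l hl
    apply hle
    apply Cfsg.Agent.Lib.L0.mem_of_coprime_orderOf_of_index_pow ND k hk l
    have h5 : orderOf (⟨l, hl⟩ : L) = orderOf l := Subgroup.orderOf_mk l hl
    rw [← h5]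
    exact Nat.Coprime.coprime_dvd_left (orderOf_dvd_natCard _) hL
  · rw [hMdef, Subgroup.index_comap_of_surjective _ hsurj]
    exact ((Nat.Prime.coprime_iff_not_dvd hpp).mpr h2).symm

end Concl

end Cfsg.Agent.Lib.H16.Narrow
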