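import Mathlib
import Cfsg.Prelude
import Cfsg.Agent.Lib.H16.SylCommA

/-! A Sylow `p`-subgroup `P ≤ G'` of a group of `p`-length one satisfies `P = [P, A]` for a
`p'`-complement `A` of `P` in `N_G(P)` (helper16), main lemma. -/

set_option autoImplicit false

namespace Cfsg.Agent.Lib.H16.SylComm

open scoped commutatorElement

variable {M : Type*} [Group M] [Finite M] {p : ℕ} [hp : Fact p.Prime]

/-- Schur–Zassenhaus complement of a Sylow subgroup in its normalizer. -/
theorem exists_compl_in_normalizer (P : Sylow p M) :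
    ∃ A : Subgroup M, A ≤ Subgroup.normalizer ((P : Subgroup M) : Set M) ∧
      (Nat.card A).Coprime p ∧
      (P : Subgroup M) ⊔ A = Subgroup.normalizer ((P : Subgroup M) : Set M) := by
  set N : Subgroup M := Subgroup.normalizer ((P : Subgroup M) : Set M) with hN
  have hPN : (P : Subgroup M) ≤ N := Subgroup.le_normalizer
  have hnorm : ((P : Subgroup M).subgroupOf N).Normal := Subgroup.normal_in_normalizer
  have hcard : Nat.card ((P : Subgroup M).subgroupOf N) = Nat.card (P : Subgroup M) :=
    Nat.card_congr (Subgroup.subgroupOfEquivOfLe hPN).toEquiv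
  have hidx : ((P : Subgroup M).subgroupOf N).index = (P : Subgroup M).relIndex N := rfl
  have hdvd : (P : Subgroup M).relIndex N ∣ (P : Subgroup M).index :=
    Subgroup.relIndex_dvd_index_of_le hPN
  have hnd : ¬ p ∣ (P : Subgroup M).relIndex N := fun h => P.not_dvd_index (h.trans hdvd)
  obtain ⟨n, hn⟩ := IsPGroup.iff_card.mp P.2
  have hcop : Nat.Coprime (Nat.card ((P : Subgroup M).subgroupOf N))
      ((P : Subgroup M).subgroupOf N).index := by
    rw [hcard, hidx, hn]
    exact Nat.Coprime.pow_left n ((Nat.Prime.coprime_iff_not_dvd hp.out).mpr hnd)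
  obtain ⟨A₀, hA₀⟩ := Subgroup.exists_right_complement'_of_coprime hcop
  refine ⟨A₀.map N.subtype, ?_, ?_, ?_⟩
  · rintro _ ⟨a, -, rfl⟩
    exact a.2
  · rw [Subgroup.card_map_of_injective N.subtype_injective]
    have h1 : Nat.card A₀ = ((P : Subgroup M).subgroupOf N).index := hA₀.symm.index_eq_card.symm
    rw [h1, hidx]
    exact ((Nat.Prime.coprime_iff_not_dvd hp.out).mpr hnd).symm
  · have h1 : ((P : Subgroup M).subgroupOf N) ⊔ A₀ = ⊤ := hA₀.sup_eq_top
    have h2 := congrArg (Subgroup.map N.subtype) h1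
    rw [Subgroup.map_sup, Subgroup.subgroupOf_map_subtype, inf_of_le_left hPN,
      ← MonoidHom.range_eq_map, Subgroup.range_subtype] at h2
    exact h2

/-- Key lemma: with `X` a normal `p'`-subgroup, `XP ⊴ M`, `P ≤ M'` and `N_M(P) = PA`, `A` a
`p'`-group: `[P, A] = P`. -/
theorem commutator_eq_of_compl (P : Sylow p M) (X : Subgroup M) [hXn : X.Normal]
    (hX : (Nat.card X).Coprime p) (hXP : (X ⊔ (P : Subgroup M)).Normal)
    (hP' : (P : Subgroup M) ≤ commutator M) (A : Subgroup M)
    (hAN : A ≤ Subgroup.normalizer ((P : Subgroup M) : Set M)) (hA : (Nat.card A).Coprime p)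
    (hPA : (P : Subgroup M) ⊔ A = Subgroup.normalizer ((P : Subgroup M) : Set M)) :
    ⁅(P : Subgroup M), A⁆ = (P : Subgroup M) := by
  set N : Subgroup M := Subgroup.normalizer ((P : Subgroup M) : Set M) with hN
  have hPN : (P : Subgroup M) ≤ N := Subgroup.le_normalizer
  -- Frattini
  have hfr : N ⊔ X = ⊤ := by
    have hPL : (P : Subgroup M) ≤ X ⊔ (P : Subgroup M) := le_sup_right
    have h1 := Sylow.normalizer_sup_eq_top' (N := X ⊔ (P : Subgroup M)) P hPL
    rw [eq_top_iff, ← h1]
    exact sup_le le_sup_left (sup_le le_sup_right (hPN.trans le_sup_left))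
  set D : Subgroup M := ⁅(P : Subgroup M), A⁆ with hD
  have hDP : D ≤ (P : Subgroup M) := commutator_le_left_of_le_normalizer hAN
  have hPD : (P : Subgroup M) ≤ Subgroup.normalizer (D : Set M) :=
    left_le_normalizer_commutator _ _
  have hAD : A ≤ Subgroup.normalizer (D : Set M) := right_le_normalizer_commutator _ _
  set K : Subgroup M := X ⊔ (D ⊔ A) with hK
  have hXK : X ≤ K := le_sup_left
  have hAK : A ≤ K := le_sup_right.trans le_sup_right
  have hDK : D ≤ K := le_sup_left.trans le_sup_right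
  -- `P` normalizes `K`
  have hPK : (P : Subgroup M) ≤ Subgroup.normalizer (K : Set M) := by
    apply le_normalizer_of_conj_mem
    intro x hx
    have h1 : K ≤ K.comap (MulAut.conj x).toMonoidHom := by
      rw [hK]
      refine sup_le ?_ (sup_le ?_ ?_)
      · intro y hy
        rw [Subgroup.mem_comap]
        exact hXK (hXn.conj_mem y hy x)
      · intro y hy
        rw [Subgroup.mem_comap]
        exact hDK ((Subgroup.mem_normalizer_iff.mp (hPD hx) y).mp hy)
      · intro a ha
        rw [Subgroup.mem_comap]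
        show x * a * x⁻¹ ∈ K
        have h2 : x * a * x⁻¹ = ⁅x, a⁆ * a := by simp only [commutatorElement_def]; group
        rw [h2]
        exact K.mul_mem (hDK (Subgroup.commutator_mem_commutator hx ha)) (hAK ha)
    intro z hz
    exact h1 hz
  have hKn : K.Normal := by
    rw [← Subgroup.normalizer_eq_top_iff, eq_top_iff, ← hfr, ← hPA]
    refine sup_le (sup_le hPK (hAK.trans Subgroup.le_normalizer))
      (hXK.trans Subgroup.le_normalizer)
  have hKP : K ⊔ (P : Subgroup M) = ⊤ := by
    rw [eq_top_iff, ← hfr, ← hPA]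
    refine sup_le (sup_le le_sup_right (hAK.trans le_sup_left)) (hXK.trans le_sup_left)
  -- the quotient `M ⧸ K` is a `p`-group, image of `P`
  set φ : (P : Subgroup M) →* M ⧸ K := (QuotientGroup.mk' K).comp (P : Subgroup M).subtype with hφ
  have hφs : Function.Surjective φ := by
    intro q
    obtain ⟨m, rfl⟩ := QuotientGroup.mk'_surjective K q
    have hm : m ∈ K ⊔ (P : Subgroup M) := hKP ▸ Subgroup.mem_top m
    rw [← SetLike.mem_coe, Subgroup.normal_mul] at hm
    obtain ⟨k, hk, u, hu, rfl⟩ := hm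
    refine ⟨⟨u, hu⟩, ?_⟩
    rw [hφ, MonoidHom.comp_apply, map_mul]
    have : (QuotientGroup.mk' K) k = 1 := (QuotientGroup.eq_one_iff k).mpr hk
    rw [this, one_mul]
    rfl
  have hQp : IsPGroup p (M ⧸ K) := IsPGroup.of_surjective P.2 φ hφs
  have hmapP : (P : Subgroup M).map (QuotientGroup.mk' K) = ⊤ := by
    rw [eq_top_iff]
    intro q _
    obtain ⟨u, rfl⟩ := hφs q
    exact ⟨u.1, u.2, rfl⟩
  have hcomm : commutator (M ⧸ K) = ⊤ := by
    rw [eq_top_iff, ← hmapP]
    have h1 : (commutator M).map (QuotientGroup.mk' K) = commutator (M ⧸ K) := by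
      rw [commutator_def, commutator_def, Subgroup.map_commutator, ← MonoidHom.range_eq_map,
        MonoidHom.range_eq_top.mpr (QuotientGroup.mk'_surjective K)]
    rw [← h1]
    exact Subgroup.map_mono hP'
  have hKtop : K = ⊤ := by
    by_contra hne
    have hnt : Nontrivial (M ⧸ K) := by
      rw [← not_subsingleton_iff_nontrivial]
      intro hss
      apply hne
      rw [eq_top_iff]
      intro m _
      exact (QuotientGroup.eq_one_iff m).mp (Subsingleton.elim _ _)
    have hnil : Group.IsNilpotent (M ⧸ K) := hQp.isNilpotent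
    have hsol : Group.IsSolvable (M ⧸ K) := inferInstance
    exact (ne_of_lt (Group.IsSolvable.commutator_lt_top_of_nontrivial (M ⧸ K))) hcomm
  -- counting
  have hc1 : Nat.card K ∣ Nat.card X * (Nat.card D * Nat.card A) := by
    have h1 : Nat.card K ∣ Nat.card (D ⊔ A : Subgroup M) * Nat.card X := by
      rw [hK, sup_comm]
      exact card_sup_dvd_of_le_normalizer
        (le_trans le_top (Subgroup.normalizer_eq_top_iff.mpr hXn).ge)
    have h2 : Nat.card (D ⊔ A : Subgroup M) ∣ Nat.card A * Nat.card D := by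
      rw [sup_comm]
      exact card_sup_dvd_of_le_normalizer hAD
    calc Nat.card K ∣ Nat.card (D ⊔ A : Subgroup M) * Nat.card X := h1
      _ ∣ (Nat.card A * Nat.card D) * Nat.card X := Nat.mul_dvd_mul_right h2 _
      _ = Nat.card X * (Nat.card D * Nat.card A) := by ring
  obtain ⟨n, hn⟩ := IsPGroup.iff_card.mp P.2
  have hc2 : Nat.card (P : Subgroup M) ∣ Nat.card K := by
    rw [hKtop]
    exact Subgroup.card_dvd_of_le le_top
  have hc3 : Nat.card (P : Subgroup M) ∣ Nat.card D := by
    have h1 := hc2.trans hc1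
    have hcX : Nat.Coprime (Nat.card (P : Subgroup M)) (Nat.card X) := by
      rw [hn]; exact Nat.Coprime.pow_left n hX.symm
    have hcA : Nat.Coprime (Nat.card (P : Subgroup M)) (Nat.card A) := by
      rw [hn]; exact Nat.Coprime.pow_left n hA.symm
    have h2 := hcX.dvd_of_dvd_mul_left h1
    exact hcA.dvd_of_dvd_mul_right h2
  exact Subgroup.eq_of_le_of_card_ge hDP (Nat.le_of_dvd Nat.card_pos hc3)

/-- If a Sylow `p`-subgroup lies in `O_{p',p}(M)`, then `O_{p'}(M) P` is normal in `M`. -/
theorem pPrimeCore_sup_normal (P : Sylow p M) (hPL : (P : Subgroup M) ≤ Cfsg.pPrimePCore p M) :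
    (Cfsg.pPrimeCore p M ⊔ (P : Subgroup M)).Normal := by
  have hXn : (Cfsg.pPrimeCore p M).Normal := Cfsg.Agent.Lib.H22.pPrimeCore_normal p
  set X : Subgroup M := Cfsg.pPrimeCore p M with hX
  have hOn : (Cfsg.pCore p (M ⧸ X)).Normal := Cfsg.Agent.Lib.H1.pCore_normal p _
  have hLn : (Cfsg.pPrimePCore p M).Normal := by
    unfold Cfsg.pPrimePCore
    exact Subgroup.Normal.comap hOn _
  have heq : X ⊔ (P : Subgroup M) = Cfsg.pPrimePCore p M := by
    apply le_antisymm
    · refine sup_le ?_ hPL
      intro x hx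
      unfold Cfsg.pPrimePCore
      rw [Subgroup.mem_comap]
      have : (QuotientGroup.mk' X) x = 1 := (QuotientGroup.eq_one_iff x).mpr hx
      rw [this]
      exact Subgroup.one_mem _
    · intro g hg
      unfold Cfsg.pPrimePCore at hg
      rw [Subgroup.mem_comap] at hg
      have hs : Function.Surjective (QuotientGroup.mk' X) := QuotientGroup.mk'_surjective X
      have h1 : Cfsg.pCore p (M ⧸ X) ≤ (P.mapSurjective hs : Subgroup (M ⧸ X)) :=
        Cfsg.Agent.Lib.H1.pCore_le_sylow _
      have h2 := h1 hg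
      rw [Sylow.coe_mapSurjective] at h2
      obtain ⟨u, hu, hug⟩ := h2
      have h3 : u⁻¹ * g ∈ X := by
        rw [← QuotientGroup.eq_one_iff, ← QuotientGroup.mk'_apply, map_mul, map_inv, hug]
        exact inv_mul_cancel _
      have h4 : g = u * (u⁻¹ * g) := by group
      rw [h4]
      exact Subgroup.mul_mem _ (Subgroup.mem_sup_right hu) (Subgroup.mem_sup_left h3)
  rw [heq]
  exact hLn

/-- **Main lemma**: a Sylow `p`-subgroup `P` of `M` with `P ≤ M'` and `P ≤ O_{p',p}(M)` satisfies
`P = [P, A]` for some `p'`-subgroup `A` of `N_M(P)`. -/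
theorem exists_compl_comm_eq (P : Sylow p M) (hP' : (P : Subgroup M) ≤ commutator M)
    (hPL : (P : Subgroup M) ≤ Cfsg.pPrimePCore p M) :
    ∃ A : Subgroup M, A ≤ Subgroup.normalizer ((P : Subgroup M) : Set M) ∧
      (Nat.card A).Coprime p ∧ ⁅(P : Subgroup M), A⁆ = (P : Subgroup M) := by
  obtain ⟨A, hAN, hA, hPA⟩ := exists_compl_in_normalizer P
  have hXn : (Cfsg.pPrimeCore p M).Normal := Cfsg.Agent.Lib.H22.pPrimeCore_normal p
  exact ⟨A, hAN, hA, commutator_eq_of_compl P (Cfsg.pPrimeCore p M)
    (Cfsg.Agent.Lib.H22.card_pPrimeCore_coprime p) (pPrimeCore_sup_normal P hPL) hP' A hAN hA hPA⟩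

end Cfsg.Agent.Lib.H16.SylComm
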