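import Mathlib
import Cfsg.Prelude
import Cfsg.Agent.Lib.H16.OmegaQuotA
import Cfsg.Agent.Lib.H16.R2ActD

/-! Auxiliary lemmas for Sylow subgroups of rank at most two in minimal simple groups
(helper16): nonabelian groups of order `p ^ 3`, simple groups are not `p`-groups. -/

set_option autoImplicit false

namespace Cfsg.Agent.Lib.H16.SylComm

open scoped commutatorElement

variable {G : Type*} [Group G] [Finite G] {p : ℕ} [hp : Fact p.Prime]

/-- In a nonabelian subgroup of order `p ^ 3` the derived subgroup is the centre. -/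
theorem commutator_eq_inf_centralizer_of_card_cube (R : Subgroup G) (hcard : Nat.card R = p ^ 3)
    (hnc : ¬ IsMulCommutative R) : ⁅R, R⁆ = R ⊓ Subgroup.centralizer (R : Set G) := by
  have hle : ⁅R, R⁆ ≤ R ⊓ Subgroup.centralizer (R : Set G) := by
    rw [Subgroup.commutator_le]
    intro u hu v hv
    rw [Subgroup.mem_inf, Subgroup.mem_centralizer_iff]
    refine ⟨Subgroup.commutator_le_self R (Subgroup.commutator_mem_commutator hu hv), ?_⟩
    intro t ht
    have h1 := OmegaQuot.commute_commutator_of_card_cube (X := ↥R) hcard ⟨u, hu⟩ ⟨v, hv⟩ ⟨t, ht⟩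
    have h2 := congrArg Subtype.val h1.eq
    simp only [Subgroup.coe_mul] at h2
    have h3 : ((⁅(⟨u, hu⟩ : R), ⟨v, hv⟩⁆ : R) : G) = ⁅u, v⁆ := by
      simp [commutatorElement_def]
    rw [h3] at h2
    exact h2.symm
  have hnc' : ¬ ∀ a b : R, a * b = b * a := fun h => hnc ⟨⟨h⟩⟩
  have hZ : Nat.card (Subgroup.center ↥R) = p := R2A.card_center_of_card_cube hcard hnc'
  have hmap : (Subgroup.center ↥R).map R.subtype = R ⊓ Subgroup.centralizer (R : Set G) := by
    ext x
    constructor
    · rintro ⟨y, hy, rfl⟩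
      rw [Subgroup.mem_inf, Subgroup.mem_centralizer_iff]
      refine ⟨y.2, fun t ht => ?_⟩
      exact congrArg Subtype.val (Subgroup.mem_center_iff.mp hy ⟨t, ht⟩)
    · intro hx
      rw [Subgroup.mem_inf, Subgroup.mem_centralizer_iff] at hx
      refine ⟨⟨x, hx.1⟩, Subgroup.mem_center_iff.mpr ?_, rfl⟩
      intro t
      exact Subtype.ext (hx.2 t.1 t.2)
  have hcz : Nat.card (R ⊓ Subgroup.centralizer (R : Set G) : Subgroup G) = p := by
    rw [← hmap, Subgroup.card_map_of_injective R.subtype_injective, hZ]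
  have hne : ⁅R, R⁆ ≠ ⊥ := by
    intro h
    apply hnc'
    intro a b
    have h1 : ⁅(a : G), (b : G)⁆ ∈ ⁅R, R⁆ := Subgroup.commutator_mem_commutator a.2 b.2
    rw [h, Subgroup.mem_bot] at h1
    exact Subtype.ext (commutatorElement_eq_one_iff_commute.mp h1).eq
  have hd : Nat.card (⁅R, R⁆ : Subgroup G) ∣ p := by
    rw [← hcz]
    exact Subgroup.card_dvd_of_le hle
  have hcc : Nat.card (⁅R, R⁆ : Subgroup G) = p := by
    rcases (Nat.dvd_prime hp.out).mp hd with h | h
    · exact absurd (Subgroup.card_eq_one.mp h) hne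
    · exact h
  exact Subgroup.eq_of_le_of_card_ge hle (by rw [hcz, hcc])

/-- A finite simple nonabelian group is not a `p`-group. -/
theorem not_isPGroup_of_simple (hs : IsSimpleGroup G) (hnc : ¬ IsMulCommutative G) :
    ¬ IsPGroup p G := by
  intro hG
  have hnt : Nontrivial G := hs.toNontrivial
  have hZ : Subgroup.center G ≠ ⊥ := (ne_of_gt hG.bot_lt_center)
  have hZn : (Subgroup.center G).Normal := inferInstance
  rcases hZn.eq_bot_or_eq_top with h | h
  · exact hZ h
  · apply hnc
    refine ⟨⟨fun a b => ?_⟩⟩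
    have : b ∈ Subgroup.center G := h ▸ Subgroup.mem_top b
    exact Subgroup.mem_center_iff.mp this a

/-- A finite simple nonabelian group with a nontrivial Sylow `p`-subgroup has no normal
`p`-complement. -/
theorem not_hasNormalPComplement_of_simple (hs : IsSimpleGroup G) (hnc : ¬ IsMulCommutative G)
    (P : Sylow p G) (hP : (P : Subgroup G) ≠ ⊥) : ¬ Cfsg.HasNormalPComplement p G := by
  rintro ⟨Q, N, hN, hc⟩
  have hcard : Nat.card (Q : Subgroup G) = Nat.card (P : Subgroup G) := by
    rw [Sylow.card_eq_multiplicity, Sylow.card_eq_multiplicity]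
  have hQ : (Q : Subgroup G) ≠ ⊥ := by
    intro h
    apply hP
    apply Subgroup.card_eq_one.mp
    rw [← hcard, h, Subgroup.card_bot]
  rcases hN.eq_bot_or_eq_top with h | h
  · -- `N = ⊥`, so `Q = ⊤`
    have h1 := hc.card_mul
    rw [h, Subgroup.card_bot, one_mul] at h1
    have h2 : (Q : Subgroup G) = ⊤ := Subgroup.card_eq_iff_eq_top _ |>.mp h1
    have h3 : IsPGroup p G := by
      have h4 : IsPGroup p (⊤ : Subgroup G) := h2 ▸ Q.2
      exact h4.of_equiv Subgroup.topEquiv
    exact not_isPGroup_of_simple hs hnc h3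
  · have h1 := hc.card_mul
    rw [h, Subgroup.card_top] at h1
    have h2 : Nat.card (Q : Subgroup G) = 1 := by
      have hpos : 0 < Nat.card G := Nat.card_pos
      nlinarith [Nat.eq_of_mul_eq_mul_left hpos (by rw [h1, mul_one] :
        Nat.card G * Nat.card (Q : Subgroup G) = Nat.card G * 1)]
    exact hQ (Subgroup.card_eq_one.mp h2)

theorem five_le_of_prime {q : ℕ} (hq : q.Prime) (h2 : q ≠ 2) (h3 : q ≠ 3) : 5 ≤ q := by
  by_contra h
  push Not at h
  have h2le := hq.two_le
  interval_cases q
  · exact h2 rfl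
  · exact h3 rfl
  · exact absurd hq (by decide)

end Cfsg.Agent.Lib.H16.SylComm
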