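import Mathlib
import Cfsg.Agent.Lib.H16.MetaCoprimeA

/-!
# Metacyclic `p`-groups with a coprime operator group, part B (helper16)

General index lemmas and the determinant congruence.
-/

set_option autoImplicit false

namespace Cfsg.Agent.Lib.H16.Meta

open Subgroup
open scoped commutatorElement

variable {K : Type*} [Group K]

/-- a subgroup of the centre is normal -/
theorem normal_of_le_center' {F : Subgroup K} (hF : F ≤ Subgroup.center K) : F.Normal := by
  constructor
  intro f hf g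
  have := Subgroup.mem_center_iff.mp (hF hf) g
  have h2 : g * f * g⁻¹ = f := by
    calc g * f * g⁻¹ = f * g * g⁻¹ := by rw [this]
      _ = f := by group
  rw [h2]; exact hf

/-- In a chain `F ≤ M ≤ K` with `|K : F| = p ^ 2` and both inclusions strict, both indices are `p`. -/
theorem chain_index [Finite K] {p : ℕ} (hp : p.Prime) (F M : Subgroup K) (hFM : F ≤ M)
    (hidx : F.index = p ^ 2) (h1 : ¬ M ≤ F) (h2 : M ≠ ⊤) : F.relIndex M = p ∧ M.index = p := by
  have h3 := Subgroup.relIndex_mul_index hFM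
  rw [hidx] at h3
  have ha : F.relIndex M ≠ 1 := by
    intro h
    exact h1 (Subgroup.relIndex_eq_one.mp h)
  have hb : M.index ≠ 1 := by
    intro h
    exact h2 (Subgroup.index_eq_one.mp h)
  exact (Nat.Prime.mul_eq_prime_sq_iff hp ha hb).mp h3

/-- coordinates over a subgroup of prime relative index -/
theorem exists_zpow_mul_of_relIndex_prime {p : ℕ} (hp : p.Prime) (F H : Subgroup K) [F.Normal]
    (hFH : F ≤ H) (hidx : F.relIndex H = p) {m : K} (hm : m ∈ H) (hmF : m ∉ F) :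
    ∀ u ∈ H, ∃ (j : ℤ) (f : K), f ∈ F ∧ u = m ^ j * f := by
  set X := Subgroup.zpowers m ⊔ F with hX
  have hFX : F ≤ X := le_sup_right
  have hXH : X ≤ H := sup_le (Subgroup.zpowers_le.mpr hm) hFH
  have h1 := Subgroup.relIndex_mul_relIndex F X H hFX hXH
  rw [hidx] at h1
  have h2 : F.relIndex X ≠ 1 := by
    intro h
    have := Subgroup.relIndex_eq_one.mp h
    exact hmF (this (le_sup_left (a := Subgroup.zpowers m) (Subgroup.mem_zpowers m)))
  have h3 : X.relIndex H = 1 := by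
    rcases (Nat.dvd_prime hp).mp (Dvd.intro _ h1) with h | h
    · exact absurd h h2
    · rw [h] at h1
      have hp0 : 0 < p := hp.pos
      nlinarith [h1]
  have hHX : H ≤ X := Subgroup.relIndex_eq_one.mp h3
  intro u hu
  have huX := hHX hu
  rw [hX] at huX
  obtain ⟨a, ha, f, hf, rfl⟩ := Subgroup.mem_sup_of_normal_right.mp huX
  obtain ⟨j, rfl⟩ := Subgroup.mem_zpowers_iff.mp ha
  exact ⟨j, f, hf, rfl⟩

/-- The determinant congruence. -/
theorem det_congr {p : ℕ} (hp : p.Prime) (h : C2 K p) (α : MulAut K) {z₀ m n f ℓ : K}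
    (hz₀ : orderOf z₀ = p) {c e lam mu : ℤ} (hf : f ∈ Subgroup.center K) (hℓ : Commute m ℓ)
    (hm : α m = m ^ lam * f) (hn : α n = n ^ mu * ℓ) (hmn : ⁅m, n⁆ = z₀ ^ e)
    (he : ¬ (p : ℤ) ∣ e) (hc : α z₀ = z₀ ^ c) : (p : ℤ) ∣ c - lam * mu := by
  have h1 : α ⁅m, n⁆ = ⁅α m, α n⁆ := by
    simp only [commutatorElement_def, map_mul, map_inv]
  have h2 : ⁅α m, α n⁆ = z₀ ^ (e * (lam * mu)) := by
    rw [hm, hn, h.comm_central_left hf]
    have hℓ' : Commute (m ^ lam) ℓ := hℓ.zpow_left lam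
    rw [h.comm_commute_right hℓ', h.comm_zpow_left, h.comm_zpow_right, hmn, ← zpow_mul, ← zpow_mul,
      mul_comm mu lam]
  have h3 : α ⁅m, n⁆ = z₀ ^ (c * e) := by
    rw [hmn, map_zpow, hc, ← zpow_mul]
  rw [h1, h2] at h3
  rw [zpow_eq_zpow_iff_modEq, hz₀] at h3
  have h4 : (p : ℤ) ∣ c * e - e * (lam * mu) := (Int.modEq_iff_dvd.mp h3)
  have h5 : c * e - e * (lam * mu) = e * (c - lam * mu) := by ring
  rw [h5] at h4
  have hpi : Prime (p : ℤ) := Nat.prime_iff_prime_int.mp hp
  rcases hpi.dvd_or_dvd h4 with h6 | h6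
  · exact absurd h6 he
  · exact h6

end Cfsg.Agent.Lib.H16.Meta
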