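import Mathlib
import Cfsg.Agent.Lib.H16.MetaCoprimeB

/-!
# Metacyclic `p`-groups with a coprime operator group, part C (helper16)

The class two case: a non-abelian metacyclic `p`-group of class two with derived subgroup of
exponent `p` (`p` odd) is not generated by the commutators with a `p'`-group of automorphisms.
-/

set_option autoImplicit false

namespace Cfsg.Agent.Lib.H16.Meta

open Subgroup
open scoped commutatorElement

theorem false_of_class_two {K : Type*} [Group K] [Finite K] {p : ℕ} [hpf : Fact p.Prime]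
    (hp2 : p ≠ 2) (hK : IsPGroup p K) (hm : Cfsg.IsMetacyclic K) (h : C2 K p)
    (hna : ¬ ∀ x y : K, x * y = y * x) (A : Subgroup (MulAut K)) (hA : (Nat.card A).Coprime p)
    (hKA : Subgroup.closure {x : K | ∃ g : K, ∃ a ∈ A, x = g⁻¹ * a g} = ⊤) : False := by
  classical
  have hp : p.Prime := hpf.out
  have hodd : Odd p := hp.odd_of_ne_two hp2
  have hpi : Prime (p : ℤ) := Nat.prime_iff_prime_int.mp hp
  set F := h.P hodd 1 with hF
  have hFc : F ≤ Subgroup.center K := h.P_one_le_center hodd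
  haveI hFn : F.Normal := normal_of_le_center' hFc
  have hpowF : ∀ x : K, x ^ p ∈ F := fun x => (h.mem_P hodd 1 _).mpr ⟨x, by rw [pow_one]⟩
  have hzpowF : ∀ (x : K) (i : ℤ), (p : ℤ) ∣ i → x ^ i ∈ F := fun x i hi => h.zpow_mem_P_one hodd x hi
  have hFaut : ∀ α : MulAut K, ∀ x ∈ F, α x ∈ F := fun α x hx => h.aut_mem_P hodd 1 α hx
  -- the quotient `K / F` has order `p ^ 2`
  have hqp : IsPGroup p (K ⧸ F) := hK.to_quotient F
  obtain ⟨n, hn⟩ := IsPGroup.iff_card.mp hqp
  have hcardle : Nat.card (K ⧸ F) ≤ p ^ 2 := by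
    apply card_le_sq_of_pow_eq_one (isMetacyclic_quot hm F) hp.pos
    intro a
    obtain ⟨x, rfl⟩ := QuotientGroup.mk'_surjective F a
    rw [← map_pow, QuotientGroup.mk'_apply, QuotientGroup.eq_one_iff]
    exact hpowF x
  have hn2 : n ≤ 2 := by
    rw [hn] at hcardle
    exact (Nat.pow_le_pow_iff_right hp.one_lt).mp hcardle
  have hn2' : n = 2 := by
    by_contra hne
    have hn1 : n ≤ 1 := by omega
    have hcyc : IsCyclic (K ⧸ F) := by
      rcases Nat.le_one_iff_eq_zero_or_eq_one.mp hn1 with h0 | h1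
      · rw [h0, pow_zero] at hn
        haveI : Subsingleton (K ⧸ F) := (Nat.card_eq_one_iff_unique.mp hn).1
        infer_instance
      · rw [h1, pow_one] at hn
        exact isCyclic_of_prime_card hn
    apply hna
    apply commutative_of_cyclic_center_quotient (QuotientGroup.mk' F)
    rw [QuotientGroup.ker_mk']
    exact hFc
  have hFidx : F.index = p ^ 2 := by rw [Subgroup.index_eq_card, hn, hn2']
  -- `K' ≤ F`
  have hK'F : commutator K ≤ F := by
    apply (Subgroup.Normal.quotient_commutative_iff_commutator_le).mp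
    apply IsPGroup.isMulCommutative_of_card_eq_prime_sq (p := p)
    rw [hn, hn2']
  have hnormal_of_le : ∀ M : Subgroup K, F ≤ M → M.Normal := fun M hM =>
    Cfsg.Agent.Lib.H1.normal_of_commutator_le (hK'F.trans hM)
  -- `K'` is cyclic of order `p`
  have hK'exp : ∀ c ∈ commutator K, c ^ p = 1 := by
    let T0 : Subgroup K :=
      { carrier := {c | c ∈ Subgroup.center K ∧ c ^ p = 1}
        one_mem' := ⟨Subgroup.one_mem _, one_pow p⟩
        mul_mem' := by
          rintro a b ⟨ha, ha'⟩ ⟨hb, hb'⟩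
          refine ⟨Subgroup.mul_mem _ ha hb, ?_⟩
          have hcomm : Commute a b := (Subgroup.mem_center_iff.mp ha b).symm
          rw [hcomm.mul_pow, ha', hb', one_mul]
        inv_mem' := by
          rintro a ⟨ha, ha'⟩
          exact ⟨Subgroup.inv_mem _ ha, by rw [inv_pow, ha', inv_one]⟩ }
    have hle : commutator K ≤ T0 := by
      rw [commutator_def, Subgroup.commutator_le]
      intro x _ y _
      exact ⟨h.central x y, h.exp x y⟩
    intro c hc
    exact (hle hc).2
  obtain ⟨N, hNn, hNc, hQc⟩ := hm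
  have hK'N : commutator K ≤ N :=
    (Subgroup.Normal.quotient_commutative_iff_commutator_le).mp hQc.isMulCommutative
  have hK'cyc : IsCyclic (commutator K) :=
    isCyclic_of_injective (Subgroup.inclusion hK'N) (Subgroup.inclusion_injective hK'N)
  obtain ⟨⟨z₀, hz₀K'⟩, hgen⟩ := IsCyclic.exists_generator (α := commutator K)
  have hz₀gen : ∀ c ∈ commutator K, c ∈ Subgroup.zpowers z₀ := by
    intro c hc
    obtain ⟨i, hi⟩ := Subgroup.mem_zpowers_iff.mp (hgen ⟨c, hc⟩)
    refine Subgroup.mem_zpowers_iff.mpr ⟨i, ?_⟩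
    have := congrArg Subtype.val hi
    simpa using this
  have hz₀1 : z₀ ≠ 1 := by
    intro h1
    apply hna
    intro x y
    have hxy : ⁅x, y⁆ ∈ commutator K :=
      Subgroup.commutator_mem_commutator (Subgroup.mem_top x) (Subgroup.mem_top y)
    have := hz₀gen _ hxy
    rw [h1, Subgroup.zpowers_one_eq_bot, Subgroup.mem_bot] at this
    exact commutatorElement_eq_one_iff_mul_comm.mp this
  have hz₀o : orderOf z₀ = p := orderOf_eq_prime (hK'exp z₀ hz₀K') hz₀1
  have hcomm_pow : ∀ x y : K, ∃ e : ℤ, ⁅x, y⁆ = z₀ ^ e := by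
    intro x y
    have hxy : ⁅x, y⁆ ∈ commutator K :=
      Subgroup.commutator_mem_commutator (Subgroup.mem_top x) (Subgroup.mem_top y)
    obtain ⟨e, he⟩ := Subgroup.mem_zpowers_iff.mp (hz₀gen _ hxy)
    exact ⟨e, he.symm⟩
  -- the index `k`
  have hPbot : ∃ m, h.P hodd m = ⊥ := by
    obtain ⟨m, hm⟩ := IsPGroup.iff_card.mp hK
    refine ⟨m, ?_⟩
    rw [eq_bot_iff]
    intro x hx
    obtain ⟨u, rfl⟩ := (h.mem_P hodd m x).mp hx
    rw [Subgroup.mem_bot, ← hm, pow_card_eq_one']
  have hk : ∃ k, commutator K ≤ h.P hodd k ∧ ¬ commutator K ≤ h.P hodd (k + 1) := by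
    by_contra hno
    push_neg at hno
    have hall : ∀ j, commutator K ≤ h.P hodd j := by
      intro j
      induction j with
      | zero =>
        intro x _
        exact (h.mem_P hodd 0 x).mpr ⟨x, by rw [pow_zero, pow_one]⟩
      | succ j ih => exact hno j ih
    obtain ⟨m, hm⟩ := hPbot
    have := hall m hz₀K'
    rw [hm, Subgroup.mem_bot] at this
    exact hz₀1 this
  obtain ⟨k, hk1, hk2⟩ := hk
  have hk0 : k ≠ 0 := by
    rintro rfl
    exact hk2 hK'F
  obtain ⟨w, hw⟩ : ∃ w, h.pw hodd k w = z₀ := hk1 hz₀K'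
  have hzP : ∀ i : ℤ, z₀ ^ i ∈ h.P hodd (k + 1) → (p : ℤ) ∣ i := by
    intro i hi
    by_contra hnd
    have hcop : IsCoprime (p : ℤ) i := (hpi.irreducible.coprime_iff_not_dvd).mpr hnd
    obtain ⟨a, b, hab⟩ := hcop
    have hz : z₀ = (z₀ ^ i) ^ b := by
      have h1 : z₀ ^ (a * (p : ℤ) + b * i) = z₀ := by rw [hab, zpow_one]
      rw [zpow_add, zpow_mul', zpow_natCast, hK'exp z₀ hz₀K', one_zpow, one_mul, mul_comm,
        zpow_mul] at h1
      exact h1.symm
    apply hk2
    intro c hc
    have h1 : z₀ ∈ h.P hodd (k + 1) := by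
      rw [hz]; exact Subgroup.zpow_mem _ hi _
    exact (Subgroup.zpowers_le.mpr h1) (hz₀gen c hc)
  have hzc : ∀ α : MulAut K, ∃ c : ℤ, α z₀ = z₀ ^ c := by
    intro α
    have h1 : α z₀ ∈ commutator K := by
      have hchar : (commutator K).Characteristic := by
        rw [commutator_def]; infer_instance
      have := (Subgroup.characteristic_iff_map_le.mp hchar) α
      exact this ⟨z₀, hz₀K', rfl⟩
    obtain ⟨c, hc⟩ := Subgroup.mem_zpowers_iff.mp (hz₀gen _ h1)
    exact ⟨c, hc.symm⟩
  -- `pw k` sends `F` into `P (k+1)`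
  have hpwF : ∀ f ∈ F, h.pw hodd k f ∈ h.P hodd (k + 1) := fun f hf => h.pw_mem_P_succ hodd k hf
  have hpwK' : ∀ c ∈ commutator K, h.pw hodd k c = 1 := by
    intro c hc
    rw [h.pw_apply]
    obtain ⟨k', rfl⟩ := Nat.exists_eq_succ_of_ne_zero hk0
    rw [pow_succ', pow_mul, hK'exp c hc, one_pow]
  -- commutativity criterion
  have hne_of_gen : ∀ (M : Subgroup K) (m n : K), F ≤ M → (∀ u ∈ M, ∃ (j : ℤ) (f : K), f ∈ F ∧ u = m ^ j * f) →
      (∀ u : K, ∃ (i : ℤ) (ℓ : K), ℓ ∈ M ∧ u = n ^ i * ℓ) → ⁅m, n⁆ ≠ 1 := by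
    intro M m n _ hM hKM hcomm
    apply hna
    have hmn : Commute m n := commutatorElement_eq_one_iff_commute.mp hcomm
    have hrep : ∀ u : K, ∃ (i j : ℤ) (f : K), f ∈ Subgroup.center K ∧ u = n ^ i * (m ^ j * f) := by
      intro u
      obtain ⟨i, ℓ, hℓ, rfl⟩ := hKM u
      obtain ⟨j, f, hf, rfl⟩ := hM ℓ hℓ
      exact ⟨i, j, f, hFc hf, rfl⟩
    intro x y
    obtain ⟨i, j, f, hf, rfl⟩ := hrep x
    obtain ⟨i', j', f', hf', rfl⟩ := hrep y
    have c1 : Commute f (n ^ i' * (m ^ j' * f')) := (Subgroup.mem_center_iff.mp hf _).symm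
    have c2 : Commute f' (n ^ i * (m ^ j * f)) := (Subgroup.mem_center_iff.mp hf' _).symm
    have c3 : Commute (n ^ i) (n ^ i') := (Commute.refl n).zpow_zpow i i'
    have c4 : Commute (m ^ j) (m ^ j') := (Commute.refl m).zpow_zpow j j'
    have c5 : Commute (n ^ i) (m ^ j') := (hmn.symm).zpow_zpow i j'
    have c6 : Commute (m ^ j) (n ^ i') := hmn.zpow_zpow j i'
    have c7 : Commute f f' := (Subgroup.mem_center_iff.mp hf _).symm
    have c8 : Commute (n ^ i) f' := (Subgroup.mem_center_iff.mp hf' _)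
    have c9 : Commute (m ^ j) f' := (Subgroup.mem_center_iff.mp hf' _)
    have c10 : Commute f (n ^ i') := (Subgroup.mem_center_iff.mp hf _).symm
    have c11 : Commute f (m ^ j') := (Subgroup.mem_center_iff.mp hf _).symm
    have : Commute (n ^ i * (m ^ j * f)) (n ^ i' * (m ^ j' * f')) := by
      apply Commute.mul_left
      · exact Commute.mul_right c3 (Commute.mul_right c5 c8)
      · apply Commute.mul_left
        · exact Commute.mul_right c6 (Commute.mul_right c4 c9)
        · exact Commute.mul_right c10 (Commute.mul_right c11 c7)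
    exact this.eq
  -- the two subgroups
  set L := (commutator K ⊔ h.P hodd (k + 1)).comap (h.pw hodd k) with hL
  set L₁ := (h.P hodd (k + 1)).comap (h.pw hodd k) with hL₁
  have hFL₁ : F ≤ L₁ := fun f hf => hpwF f hf
  have hL₁L : L₁ ≤ L := Subgroup.comap_mono le_sup_right
  have hwL : w ∈ L := by
    rw [hL, Subgroup.mem_comap, hw]
    exact le_sup_left (a := commutator K) hz₀K'
  have hwL₁ : w ∉ L₁ := by
    intro hc
    have : z₀ ∈ h.P hodd (k + 1) := by rw [← hw]; exact hc
    have h1 := hzP 1 (by rwa [zpow_one])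
    have : (p : ℤ) ∣ 1 := h1
    have := Int.eq_one_of_dvd_one (by exact_mod_cast hp.pos.le) this
    have hp1 : p = 1 := by exact_mod_cast this
    exact hp.ne_one hp1
  have hwF : w ∉ F := fun hc => hwL₁ (hFL₁ hc)
  have hLaut : ∀ α : MulAut K, ∀ x ∈ L, α x ∈ L := by
    intro α x hx
    rw [hL, Subgroup.mem_comap, h.pw_aut]
    have hx' : h.pw hodd k x ∈ commutator K ⊔ h.P hodd (k + 1) := hx
    obtain ⟨a, ha, b, hb, hab⟩ := Subgroup.mem_sup_of_normal_left.mp hx'
    rw [← hab, map_mul]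
    apply Subgroup.mul_mem
    · apply le_sup_left (a := commutator K)
      have hchar : (commutator K).Characteristic := by
        rw [commutator_def]; infer_instance
      exact (Subgroup.characteristic_iff_map_le.mp hchar) α ⟨a, ha, rfl⟩
    · exact le_sup_right (a := commutator K) (h.aut_mem_P hodd (k + 1) α hb)
  have hL₁aut : ∀ α : MulAut K, ∀ x ∈ L₁, α x ∈ L₁ := by
    intro α x hx
    rw [hL₁, Subgroup.mem_comap, h.pw_aut]
    exact h.aut_mem_P hodd (k + 1) α hx
  -- not fixed modulo `F` implies exponent prime to `p`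
  have hnotdvd : ∀ (M : Subgroup K), F ≤ M → (∀ α : MulAut K, ∀ x ∈ M, α x ∈ M) → ∀ α ∈ A, ∀ (x g : K) (i : ℤ),
      g ∈ M → x ∉ M → α x = x ^ i * g → ¬ (p : ℤ) ∣ i := by
    intro M hFM hMaut α hα x g i hg hx hαx hdvd
    apply hx
    have h1 : α x ∈ M := by
      rw [hαx]
      exact M.mul_mem (hFM (hzpowF x i hdvd)) hg
    have h2 := hMaut α⁻¹ _ h1
    simpa using h2
  by_cases hLtop : L = ⊤
  · -- Case B
    have hL₁top : L₁ ≠ ⊤ := fun hc => hwL₁ (hc ▸ Subgroup.mem_top w)
    have hL₁F : ¬ L₁ ≤ F := by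
      intro hle
      have heq : L₁ = F := le_antisymm hle hFL₁
      have h1 : L₁.index = (h.P hodd (k + 1)).relIndex (h.pw hodd k).range := Subgroup.index_comap _ _
      have hrange : (h.pw hodd k).range = commutator K ⊔ h.P hodd (k + 1) := by
        apply le_antisymm
        · rintro _ ⟨u, rfl⟩
          have : u ∈ L := hLtop ▸ Subgroup.mem_top u
          exact this
        · exact sup_le hk1 (h.P_succ_le hodd k)
      haveI : (h.P hodd (k + 1)).Normal :=
        normal_of_le_center' (((h.P_succ_le hodd k).trans (by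
          clear_value F L L₁
          have : ∀ j, h.P hodd (j + 1) ≤ h.P hodd 1 := by
            intro j
            induction j with
            | zero => exact le_rfl
            | succ j ih => exact (h.P_succ_le hodd (j + 1)).trans ih
          obtain ⟨k', rfl⟩ := Nat.exists_eq_succ_of_ne_zero hk0
          exact this k')).trans (h.P_one_le_center hodd))
      rw [hrange, Subgroup.relIndex_sup_right] at h1
      have h2 : (h.P hodd (k + 1)).relIndex (commutator K) ≤ Nat.card (commutator K) := by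
        rw [← Subgroup.inf_relIndex_right]
        have := Subgroup.relIndex_dvd_card (h.P hodd (k + 1) ⊓ commutator K) (commutator K)
        exact Nat.le_of_dvd Nat.card_pos this
      have h3 : Nat.card (commutator K) ≤ p := by
        haveI := hK'cyc
        apply card_le_of_cyclic_of_pow hp.pos
        intro a
        apply Subtype.ext
        rw [Subgroup.coe_pow, Subgroup.coe_one]
        exact hK'exp a a.2
      rw [heq, hFidx] at h1
      have : p ^ 2 ≤ p := by rw [h1]; exact h2.trans h3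
      have hp1 := hp.one_lt
      nlinarith
    obtain ⟨hi1, hi2⟩ := chain_index hp F L₁ hFL₁ hFidx hL₁F hL₁top
    obtain ⟨x, hxL₁, hxF⟩ : ∃ x, x ∈ L₁ ∧ x ∉ F := by
      by_contra hno
      push_neg at hno
      exact hL₁F hno
    haveI hL₁n : L₁.Normal := hnormal_of_le L₁ hFL₁
    have hcoordM := exists_zpow_mul_of_relIndex_prime hp F L₁ hFL₁ hi1 hxL₁ hxF
    have hcoordK : ∀ u : K, ∃ (i : ℤ) (ℓ : K), ℓ ∈ L₁ ∧ u = w ^ i * ℓ := by
      intro u
      have hidx : L₁.relIndex ⊤ = p := by rw [Subgroup.relIndex_top_right]; exact hi2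
      exact exists_zpow_mul_of_relIndex_prime hp L₁ ⊤ le_top hidx (Subgroup.mem_top w) hwL₁ u
        (Subgroup.mem_top u)
    have hxw : ⁅x, w⁆ ≠ 1 := hne_of_gen L₁ x w hFL₁ hcoordM hcoordK
    obtain ⟨e, he⟩ := hcomm_pow x w
    have hend : ¬ (p : ℤ) ∣ e := by
      intro hd
      apply hxw
      rw [he]
      obtain ⟨e', rfl⟩ := hd
      rw [zpow_mul, zpow_natCast, hK'exp z₀ hz₀K', one_zpow]
    -- every `α ∈ A` fixes `x` modulo `F`
    have hfix : ∀ α ∈ A, x⁻¹ * α x ∈ F := by
      intro α hα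
      obtain ⟨lam, f, hf, hαx⟩ := hcoordM (α x) (hL₁aut α x hxL₁)
      obtain ⟨mu, ℓ, hℓ, hαw⟩ := hcoordK (α w)
      obtain ⟨c, hc⟩ := hzc α
      have hxℓ : Commute x ℓ := by
        obtain ⟨j, f', hf', rfl⟩ := hcoordM ℓ hℓ
        exact Commute.mul_right ((Commute.refl x).zpow_right j) (Subgroup.mem_center_iff.mp (hFc hf') x)
      have hdet := det_congr hp h α hz₀o (hFc hf) hxℓ hαx hαw he hend hc
      have hmu : ¬ (p : ℤ) ∣ mu := hnotdvd L₁ hFL₁ hL₁aut α hα w ℓ mu hℓ hwL₁ hαw
      -- `c ≡ mu`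
      have hcmu : (p : ℤ) ∣ c - mu := by
        apply hzP
        have h1 : h.pw hodd k (α w) = z₀ ^ c := by rw [h.pw_aut, hw, hc]
        rw [hαw, map_mul, map_zpow, hw] at h1
        have h2 : z₀ ^ (c - mu) = h.pw hodd k ℓ := by
          have hcm : c - mu = -mu + c := by ring
          rw [hcm, zpow_add, ← h1, ← mul_assoc, ← zpow_add, neg_add_cancel, zpow_zero, one_mul]
        rw [h2]
        exact hℓ
      have hlam : (p : ℤ) ∣ lam - 1 := by
        have h1 : (p : ℤ) ∣ mu * (lam - 1) := by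
          have : mu * (lam - 1) = (c - mu) - (c - lam * mu) := by ring
          rw [this]
          exact dvd_sub hcmu hdet
        rcases hpi.dvd_or_dvd h1 with h2 | h2
        · exact absurd h2 hmu
        · exact h2
      have h3 : x⁻¹ * α x = x ^ (lam - 1) * f := by
        rw [hαx, zpow_sub, zpow_one]; group
      rw [h3]
      exact F.mul_mem (hzpowF x _ hlam) hf
    exact hxF (Cfsg.Agent.S0119.mem_of_fixed_mod hK A hA hKA F hK'F x hfix)
  · -- Case A
    have hLF : ¬ L ≤ F := fun hle => hwF (hle hwL)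
    have hFL : F ≤ L := hFL₁.trans hL₁L
    obtain ⟨hi1, hi2⟩ := chain_index hp F L hFL hFidx hLF hLtop
    obtain ⟨n', hn'⟩ : ∃ n', n' ∉ L := by
      by_contra hno
      push_neg at hno
      exact hLtop (eq_top_iff.mpr (fun u _ => hno u))
    haveI hLn : L.Normal := hnormal_of_le L hFL
    have hcoordM := exists_zpow_mul_of_relIndex_prime hp F L hFL hi1 hwL hwF
    have hcoordK : ∀ u : K, ∃ (i : ℤ) (ℓ : K), ℓ ∈ L ∧ u = n' ^ i * ℓ := by
      intro u
      have hidx : L.relIndex ⊤ = p := by rw [Subgroup.relIndex_top_right]; exact hi2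
      exact exists_zpow_mul_of_relIndex_prime hp L ⊤ le_top hidx (Subgroup.mem_top n') hn' u
        (Subgroup.mem_top u)
    have hwn : ⁅w, n'⁆ ≠ 1 := hne_of_gen L w n' hFL hcoordM hcoordK
    obtain ⟨e, he⟩ := hcomm_pow w n'
    have hend : ¬ (p : ℤ) ∣ e := by
      intro hd
      apply hwn
      rw [he]
      obtain ⟨e', rfl⟩ := hd
      rw [zpow_mul, zpow_natCast, hK'exp z₀ hz₀K', one_zpow]
    have hfix : ∀ α ∈ A, n'⁻¹ * α n' ∈ L := by
      intro α hα
      obtain ⟨lam, f, hf, hαw⟩ := hcoordM (α w) (hLaut α w hwL)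
      obtain ⟨mu, ℓ, hℓ, hαn⟩ := hcoordK (α n')
      obtain ⟨c, hc⟩ := hzc α
      have hwℓ : Commute w ℓ := by
        obtain ⟨j, f', hf', rfl⟩ := hcoordM ℓ hℓ
        exact Commute.mul_right ((Commute.refl w).zpow_right j) (Subgroup.mem_center_iff.mp (hFc hf') w)
      have hdet := det_congr hp h α hz₀o (hFc hf) hwℓ hαw hαn he hend hc
      have hlam : ¬ (p : ℤ) ∣ lam := hnotdvd F le_rfl hFaut α hα w f lam hf hwF hαw
      have hclam : (p : ℤ) ∣ c - lam := by
        apply hzP
        have h1 : h.pw hodd k (α w) = z₀ ^ c := by rw [h.pw_aut, hw, hc]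
        rw [hαw, map_mul, map_zpow, hw] at h1
        have h2 : z₀ ^ (c - lam) = h.pw hodd k f := by
          have hcm : c - lam = -lam + c := by ring
          rw [hcm, zpow_add, ← h1, ← mul_assoc, ← zpow_add, neg_add_cancel, zpow_zero, one_mul]
        rw [h2]
        exact hpwF f hf
      have hmu : (p : ℤ) ∣ mu - 1 := by
        have h1 : (p : ℤ) ∣ lam * (mu - 1) := by
          have : lam * (mu - 1) = (c - lam) - (c - lam * mu) := by ring
          rw [this]
          exact dvd_sub hclam hdet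
        rcases hpi.dvd_or_dvd h1 with h2 | h2
        · exact absurd h2 hlam
        · exact h2
      have h3 : n'⁻¹ * α n' = n' ^ (mu - 1) * ℓ := by
        rw [hαn, zpow_sub, zpow_one]; group
      rw [h3]
      exact L.mul_mem (hFL (hzpowF n' _ hmu)) hℓ
    -- hence `[K, A] ≤ L`
    have hle : Subgroup.closure {x : K | ∃ g : K, ∃ a ∈ A, x = g⁻¹ * a g} ≤ L := by
      rw [Subgroup.closure_le]
      rintro _ ⟨g, α, hα, rfl⟩
      obtain ⟨i, ℓ, hℓ, rfl⟩ := hcoordK g
      rw [SetLike.mem_coe, ← QuotientGroup.eq_one_iff (N := L)]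
      have e1 : ((α n' : K) : K ⧸ L) = (n' : K ⧸ L) := by
        have := hfix α hα
        rw [← QuotientGroup.eq_one_iff (N := L)] at this
        have h4 : ((n'⁻¹ * α n' : K) : K ⧸ L) = (n' : K ⧸ L)⁻¹ * ((α n' : K) : K ⧸ L) := by
          rw [QuotientGroup.mk_mul, QuotientGroup.mk_inv]
        rw [h4] at this
        exact (inv_mul_eq_one.mp this).symm
      have e2 : ((α ℓ : K) : K ⧸ L) = 1 := (QuotientGroup.eq_one_iff _).mpr (hLaut α ℓ hℓ)
      have e3 : ((ℓ : K) : K ⧸ L) = 1 := (QuotientGroup.eq_one_iff _).mpr hℓ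
      rw [map_mul, map_zpow, QuotientGroup.mk_mul, QuotientGroup.mk_inv, QuotientGroup.mk_mul,
        QuotientGroup.mk_mul, QuotientGroup.mk_zpow, QuotientGroup.mk_zpow, e1, e2, e3]
      group
    rw [hKA] at hle
    exact hLtop (eq_top_iff.mpr hle)

end Cfsg.Agent.Lib.H16.Meta
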