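import Mathlib
import Cfsg.Agent.Lib.H16.MetaCoprimeC
import Cfsg.Agent.Lib.H16.PGroupCenter

/-!
# Metacyclic `p`-groups with a coprime operator group, part D (helper16)

`comm_of_metacyclic_of_comm_eq_top`: a metacyclic `p`-group `K` (`p` odd) with `K = [K, A]` for a
`p'`-group `A` of automorphisms is abelian.
-/

set_option autoImplicit false

universe u

namespace Cfsg.Agent.Lib.H16.Meta

open Subgroup
open scoped commutatorElement

/-- `Ω₁(K' ∩ Z(K))` -/
def omegaT (K : Type*) [Group K] (p : ℕ) : Subgroup K where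
  carrier := {c | c ∈ commutator K ∧ c ∈ Subgroup.center K ∧ c ^ p = 1}
  one_mem' := ⟨Subgroup.one_mem _, Subgroup.one_mem _, one_pow p⟩
  mul_mem' := by
    rintro a b ⟨ha, ha', ha''⟩ ⟨hb, hb', hb''⟩
    refine ⟨Subgroup.mul_mem _ ha hb, Subgroup.mul_mem _ ha' hb', ?_⟩
    have hcomm : Commute a b := (Subgroup.mem_center_iff.mp ha' b).symm
    rw [hcomm.mul_pow, ha'', hb'', one_mul]
  inv_mem' := by
    rintro a ⟨ha, ha', ha''⟩
    exact ⟨Subgroup.inv_mem _ ha, Subgroup.inv_mem _ ha', by rw [inv_pow, ha'', inv_one]⟩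

theorem mem_omegaT {K : Type*} [Group K] {p : ℕ} {c : K} :
    c ∈ omegaT K p ↔ c ∈ commutator K ∧ c ∈ Subgroup.center K ∧ c ^ p = 1 := Iff.rfl

instance omegaT_characteristic (K : Type*) [Group K] (p : ℕ) : (omegaT K p).Characteristic := by
  rw [Subgroup.characteristic_iff_map_le]
  intro φ
  rintro _ ⟨c, ⟨hc1, hc2, hc3⟩, rfl⟩
  have hchar : (commutator K).Characteristic := by
    rw [commutator_def]; infer_instance
  refine ⟨?_, ?_, ?_⟩
  · exact (Subgroup.characteristic_iff_map_le.mp hchar) φ ⟨c, hc1, rfl⟩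
  · exact (Subgroup.characteristic_iff_map_le.mp (Subgroup.centerCharacteristic (G := K))) φ
      ⟨c, hc2, rfl⟩
  · show (φ c) ^ p = 1
    rw [← map_pow, hc3, map_one]

theorem omegaT_ne_bot {K : Type*} [Group K] [Finite K] {p : ℕ} [hpf : Fact p.Prime]
    (hK : IsPGroup p K) (hna : ¬ ∀ x y : K, x * y = y * x) : omegaT K p ≠ ⊥ := by
  have hp : p.Prime := hpf.out
  have hK' : commutator K ≠ ⊥ := by
    intro hb
    apply hna
    intro x y
    have hxy : ⁅x, y⁆ ∈ commutator K :=
      Subgroup.commutator_mem_commutator (Subgroup.mem_top x) (Subgroup.mem_top y)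
    rw [hb, Subgroup.mem_bot] at hxy
    exact commutatorElement_eq_one_iff_mul_comm.mp hxy
  haveI : (commutator K).Normal := by rw [commutator_def]; infer_instance
  obtain ⟨x, hx1, hx2, hx3⟩ :=
    Cfsg.Agent.Lib.H16.exists_ne_one_mem_center_of_normal' hp hK (commutator K) hK'
  set S := commutator K ⊓ Subgroup.center K with hS
  have hSp : IsPGroup p S := hK.to_subgroup S
  obtain ⟨j, hj⟩ := IsPGroup.iff_card.mp hSp
  have hj0 : j ≠ 0 := by
    intro h0
    rw [h0, pow_zero] at hj
    have hbot : S = ⊥ := Subgroup.card_eq_one.mp hj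
    have : x ∈ S := ⟨hx1, hx3⟩
    rw [hbot, Subgroup.mem_bot] at this
    exact hx2 this
  have hdvd : p ∣ Nat.card S := by rw [hj]; exact dvd_pow_self p hj0
  obtain ⟨y, hy⟩ := exists_prime_orderOf_dvd_card' p hdvd
  intro hbot
  have hyT : (y : K) ∈ omegaT K p := by
    refine ⟨y.2.1, y.2.2, ?_⟩
    have : y ^ p = 1 := by rw [← hy]; exact pow_orderOf_eq_one y
    have := congrArg Subtype.val this
    simpa using this
  rw [hbot, Subgroup.mem_bot] at hyT
  have : y = 1 := Subtype.ext hyT
  rw [this, orderOf_one] at hy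
  exact hp.ne_one hy.symm

theorem comm_aux {p : ℕ} [hpf : Fact p.Prime] (hp2 : p ≠ 2) :
    ∀ (n : ℕ) (K : Type u) [Group K] [Finite K], Nat.card K = n → IsPGroup p K →
      Cfsg.IsMetacyclic K → ∀ (A : Subgroup (MulAut K)), (Nat.card A).Coprime p →
      Subgroup.closure {x : K | ∃ g : K, ∃ a ∈ A, x = g⁻¹ * a g} = ⊤ →
      ∀ x y : K, x * y = y * x := by
  intro n
  induction n using Nat.strong_induction_on with
  | _ n ih =>
    intro K _ _ hcard hK hm A hA hKA
    by_contra hna
    have hp : p.Prime := hpf.out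
    haveI : Finite (MulAut K) :=
      Finite.of_injective (fun a : MulAut K => (a : K → K)) DFunLike.coe_injective
    set T := omegaT K p with hT
    have hTne : T ≠ ⊥ := omegaT_ne_bot hK hna
    have hlt : Nat.card (K ⧸ T) < n := by
      rw [← hcard, Subgroup.card_eq_card_quotient_mul_card_subgroup T]
      have h1 : 1 < Nat.card T := by
        rcases Nat.lt_or_ge 1 (Nat.card T) with h | h
        · exact h
        · exfalso
          have hpos : 0 < Nat.card T := Nat.card_pos
          have : Nat.card T = 1 := by omega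
          exact hTne (Subgroup.card_eq_one.mp this)
      have h2 : 0 < Nat.card (K ⧸ T) := Nat.card_pos
      nlinarith
    let φ : MulAut K →* MulAut (K ⧸ T) := Cfsg.Agent.Lib.H20.quotAutHom T
    have hAq : (Nat.card (A.map φ)).Coprime p :=
      Nat.Coprime.coprime_dvd_left (Subgroup.card_map_dvd A φ) hA
    have hKAq : Subgroup.closure {x : K ⧸ T | ∃ g : K ⧸ T, ∃ a ∈ A.map φ, x = g⁻¹ * a g} = ⊤ := by
      rw [eq_top_iff]
      have h1 : (Subgroup.closure {x : K | ∃ g : K, ∃ a ∈ A, x = g⁻¹ * a g}).map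
          (QuotientGroup.mk' T) = ⊤ := by
        rw [hKA, ← MonoidHom.range_eq_map, MonoidHom.range_eq_top]
        exact QuotientGroup.mk'_surjective T
      rw [← h1, MonoidHom.map_closure, Subgroup.closure_le]
      rintro _ ⟨_, ⟨g, a, ha, rfl⟩, rfl⟩
      apply Subgroup.subset_closure
      refine ⟨QuotientGroup.mk' T g, φ a, ⟨a, ha, rfl⟩, ?_⟩
      rw [map_mul, map_inv]
      rfl
    have hquot : ∀ a b : K ⧸ T, a * b = b * a :=
      ih (Nat.card (K ⧸ T)) hlt (K ⧸ T) rfl (hK.to_quotient T) (isMetacyclic_quot hm T)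
        (A.map φ) hAq hKAq
    have hK'T : commutator K ≤ T :=
      (Subgroup.Normal.quotient_commutative_iff_commutator_le).mp ⟨⟨hquot⟩⟩
    have hc2 : C2 K p := by
      refine ⟨fun x y => ?_, fun x y => ?_⟩
      · exact (hK'T (Subgroup.commutator_mem_commutator (Subgroup.mem_top x)
          (Subgroup.mem_top y))).2.1
      · exact (hK'T (Subgroup.commutator_mem_commutator (Subgroup.mem_top x)
          (Subgroup.mem_top y))).2.2
    exact false_of_class_two hp2 hK hm hc2 hna A hA hKA

/-- A metacyclic `p`-group `K`, `p` odd, with `K = [K, A]` for a `p'`-group `A` of automorphisms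
is abelian. -/
theorem comm_of_metacyclic_of_comm_eq_top {K : Type u} [Group K] [Finite K] {p : ℕ}
    [Fact p.Prime] (hp2 : p ≠ 2) (hK : IsPGroup p K) (hm : Cfsg.IsMetacyclic K)
    (A : Subgroup (MulAut K)) (hA : (Nat.card A).Coprime p)
    (hKA : Subgroup.closure {x : K | ∃ g : K, ∃ a ∈ A, x = g⁻¹ * a g} = ⊤) :
    ∀ x y : K, x * y = y * x :=
  comm_aux hp2 (Nat.card K) K rfl hK hm A hA hKA

end Cfsg.Agent.Lib.H16.Meta
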