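import Mathlib

/-! The power formula in groups of class three (helper16), elementwise: `b * a = a * b * c`,
`c * a = a * c * u`, `c * b = b * c * w` with `u`, `w` commuting with everything in sight. -/

set_option autoImplicit false

namespace Cfsg.Agent.Lib.H16.ClassThree

variable {G : Type*} [Group G]

/-- If `y * x = x * y * c` with `c` commuting with `y`, then `y ^ n * x = x * y ^ n * c ^ n`. -/
theorem pow_mul_comm {x y c : G} (h : y * x = x * y * c) (hcy : Commute c y) (n : ℕ) :
    y ^ n * x = x * y ^ n * c ^ n := by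
  induction n with
  | zero => simp
  | succ k ih =>
    have hcyk : Commute c (y ^ k) := hcy.pow_right k
    calc y ^ (k + 1) * x = y * (y ^ k * x) := by rw [pow_succ', mul_assoc]
      _ = y * (x * y ^ k * c ^ k) := by rw [ih]
      _ = (y * x) * y ^ k * c ^ k := by group
      _ = x * y * c * y ^ k * c ^ k := by rw [h]
      _ = x * y * (c * y ^ k) * c ^ k := by group
      _ = x * y * (y ^ k * c) * c ^ k := by rw [hcyk.eq]
      _ = x * (y * y ^ k) * (c * c ^ k) := by group
      _ = x * y ^ (k + 1) * c ^ (k + 1) := by rw [← pow_succ', ← pow_succ']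

/-- If `x * y = y * x * c` with `c` commuting with `x` and `y`, then
`x * y ^ n = y ^ n * x * c ^ n`. -/
theorem mul_pow_comm {x y c : G} (h : x * y = y * x * c) (hcx : Commute c x) (hcy : Commute c y)
    (n : ℕ) : x * y ^ n = y ^ n * x * c ^ n := by
  induction n with
  | zero => simp
  | succ k ih =>
    have hcky : Commute (c ^ k) y := hcy.pow_left k
    calc x * y ^ (k + 1) = (x * y ^ k) * y := by rw [pow_succ, mul_assoc]
      _ = y ^ k * x * c ^ k * y := by rw [ih]
      _ = y ^ k * x * (c ^ k * y) := by group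
      _ = y ^ k * x * (y * c ^ k) := by rw [hcky.eq]
      _ = y ^ k * (x * y) * c ^ k := by group
      _ = y ^ k * (y * x * c) * c ^ k := by rw [h]
      _ = (y ^ k * y) * x * (c * c ^ k) := by group
      _ = y ^ (k + 1) * x * c ^ (k + 1) := by rw [← pow_succ, ← pow_succ']

section

variable {a b c u w : G} (h1 : b * a = a * b * c) (h2 : c * a = a * c * u)
  (h3 : c * b = b * c * w) (hua : Commute u a) (hub : Commute u b) (huc : Commute u c)
  (hwa : Commute w a) (hwb : Commute w b) (hwc : Commute w c) (huw : Commute u w)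

include h1 h3 hwb hwc in
/-- `b ^ n * a = a * b ^ n * c ^ n * w ^ (n choose 2)`. -/
theorem pow_mul_class_three (n : ℕ) :
    b ^ n * a = a * b ^ n * c ^ n * w ^ (n.choose 2) := by
  induction n with
  | zero => simp
  | succ k ih =>
    have hA3 : c * b ^ k = b ^ k * c * w ^ k := mul_pow_comm h3 hwc hwb k
    have hwkc : Commute (w ^ k) (c ^ k) := (hwc.pow_left k).pow_right k
    have hch : (k + 1).choose 2 = k + k.choose 2 := by
      rw [Nat.choose_succ_succ, Nat.choose_one_right]
    calc b ^ (k + 1) * a = b * (b ^ k * a) := by rw [pow_succ', mul_assoc]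
      _ = b * (a * b ^ k * c ^ k * w ^ (k.choose 2)) := by rw [ih]
      _ = (b * a) * b ^ k * c ^ k * w ^ (k.choose 2) := by group
      _ = a * b * c * b ^ k * c ^ k * w ^ (k.choose 2) := by rw [h1]
      _ = a * b * (c * b ^ k) * c ^ k * w ^ (k.choose 2) := by group
      _ = a * b * (b ^ k * c * w ^ k) * c ^ k * w ^ (k.choose 2) := by rw [hA3]
      _ = a * (b * b ^ k) * c * (w ^ k * c ^ k) * w ^ (k.choose 2) := by group
      _ = a * (b * b ^ k) * c * (c ^ k * w ^ k) * w ^ (k.choose 2) := by rw [hwkc.eq]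
      _ = a * (b * b ^ k) * (c * c ^ k) * (w ^ k * w ^ (k.choose 2)) := by group
      _ = a * b ^ (k + 1) * c ^ (k + 1) * w ^ ((k + 1).choose 2) := by
          rw [← pow_succ', ← pow_succ', ← pow_add, hch]

include h1 h2 h3 hua hub huc hwa hwb hwc huw in
/-- The class-three power formula. -/
theorem mul_pow_class_three (n : ℕ) :
    (a * b) ^ n = a ^ n * b ^ n * c ^ (n.choose 2) * u ^ (n.choose 3) *
      w ^ (∑ k ∈ Finset.range n, k ^ 2) := by
  induction n with
  | zero => simp
  | succ n ih =>
    set f := n.choose 2 with hf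
    set g := n.choose 3 with hg
    set h := ∑ k ∈ Finset.range n, k ^ 2 with hh
    have hA1 : c ^ f * a = a * c ^ f * u ^ f := pow_mul_comm h2 huc f
    have hA2 : c ^ (n + f) * b = b * c ^ (n + f) * w ^ (n + f) := pow_mul_comm h3 hwc (n + f)
    have hA4 : b ^ n * a = a * b ^ n * c ^ n * w ^ f := pow_mul_class_three h1 h3 hwb hwc n
    -- commutation of the central powers
    have e1 : u ^ g * w ^ h * a = a * (u ^ g * w ^ h) :=
      ((hua.pow_left g).mul_left (hwa.pow_left h)).eq
    have e2 : w ^ f * c ^ f = c ^ f * w ^ f := ((hwc.pow_left f).pow_right f).eq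
    have e3 : (w ^ f * u ^ f * u ^ g * w ^ h) * b = b * (w ^ f * u ^ f * u ^ g * w ^ h) :=
      ((((hwb.pow_left f).mul_left (hub.pow_left f)).mul_left (hub.pow_left g)).mul_left
        (hwb.pow_left h)).eq
    have e4 : (w ^ f * u ^ f * u ^ g * w ^ h) * c ^ (n + f) =
        c ^ (n + f) * (w ^ f * u ^ f * u ^ g * w ^ h) :=
      (((((hwc.pow_left f).mul_left (huc.pow_left f)).mul_left (huc.pow_left g)).mul_left
        (hwc.pow_left h)).pow_right (n + f)).eq
    have e5 : w ^ (n + f) * (w ^ f * u ^ f * u ^ g * w ^ h) =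
        u ^ (f + g) * w ^ (h + n ^ 2) := by
      have hn2 : h + n ^ 2 = (n + f) + f + h := by
        have : n ^ 2 = n + 2 * f := by
          rw [hf, Nat.choose_two_right]
          rcases Nat.even_or_odd n with ⟨m, hm⟩ | ⟨m, hm⟩
          · subst hm
            cases m with
            | zero => simp
            | succ j =>
              have : (j + 1 + (j + 1)) * (j + 1 + (j + 1) - 1) / 2 = (j + 1) * (2 * j + 1) := by
                have : (j + 1 + (j + 1)) * (j + 1 + (j + 1) - 1) = 2 * ((j + 1) * (2 * j + 1)) := by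
                  have : j + 1 + (j + 1) - 1 = 2 * j + 1 := by omega
                  rw [this]; ring
                rw [this, Nat.mul_div_cancel_left _ (by norm_num : 0 < 2)]
              rw [this]; ring
          · subst hm
            have : (2 * m + 1) * (2 * m + 1 - 1) / 2 = (2 * m + 1) * m := by
              have : (2 * m + 1) * (2 * m + 1 - 1) = 2 * ((2 * m + 1) * m) := by
                have : 2 * m + 1 - 1 = 2 * m := by omega
                rw [this]; ring
              rw [this, Nat.mul_div_cancel_left _ (by norm_num : 0 < 2)]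
            rw [this]; ring
        omega
      have c1 : Commute (w ^ (n + f)) (u ^ f) := ((huw.pow_left f).pow_right (n + f)).symm
      have c2 : Commute (w ^ f) (u ^ f) := ((huw.pow_left f).pow_right f).symm
      have c3 : Commute (w ^ (n + f) * w ^ f) (u ^ f * u ^ g) := by
        rw [← pow_add, ← pow_add]
        exact ((huw.pow_left (f + g)).pow_right (n + f + f)).symm
      calc w ^ (n + f) * (w ^ f * u ^ f * u ^ g * w ^ h)
          = (w ^ (n + f) * w ^ f) * (u ^ f * u ^ g) * w ^ h := by group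
        _ = (u ^ f * u ^ g) * (w ^ (n + f) * w ^ f) * w ^ h := by rw [c3.eq]
        _ = u ^ (f + g) * w ^ (n + f + f + h) := by
            rw [← pow_add, ← pow_add, mul_assoc, ← pow_add]
        _ = u ^ (f + g) * w ^ (h + n ^ 2) := by rw [hn2]
    have hch2 : (n + 1).choose 2 = n + f := by
      rw [Nat.choose_succ_succ, Nat.choose_one_right]
    have hch3 : (n + 1).choose 3 = f + g := by
      rw [Nat.choose_succ_succ]
    have hsum : ∑ k ∈ Finset.range (n + 1), k ^ 2 = h + n ^ 2 := Finset.sum_range_succ _ _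
    rw [hch2, hch3, hsum]
    calc (a * b) ^ (n + 1) = (a * b) ^ n * (a * b) := pow_succ _ _
      _ = a ^ n * b ^ n * c ^ f * u ^ g * w ^ h * (a * b) := by rw [ih]
      _ = a ^ n * b ^ n * c ^ f * (u ^ g * w ^ h * a) * b := by group
      _ = a ^ n * b ^ n * c ^ f * (a * (u ^ g * w ^ h)) * b := by rw [e1]
      _ = a ^ n * b ^ n * (c ^ f * a) * (u ^ g * w ^ h) * b := by group
      _ = a ^ n * b ^ n * (a * c ^ f * u ^ f) * (u ^ g * w ^ h) * b := by rw [hA1]
      _ = a ^ n * (b ^ n * a) * c ^ f * u ^ f * (u ^ g * w ^ h) * b := by group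
      _ = a ^ n * (a * b ^ n * c ^ n * w ^ f) * c ^ f * u ^ f * (u ^ g * w ^ h) * b := by
          rw [hA4]
      _ = a ^ n * a * b ^ n * c ^ n * (w ^ f * c ^ f) * u ^ f * (u ^ g * w ^ h) * b := by group
      _ = a ^ n * a * b ^ n * c ^ n * (c ^ f * w ^ f) * u ^ f * (u ^ g * w ^ h) * b := by rw [e2]
      _ = a ^ n * a * b ^ n * (c ^ n * c ^ f) * ((w ^ f * u ^ f * u ^ g * w ^ h) * b) := by group
      _ = a ^ n * a * b ^ n * (c ^ n * c ^ f) * (b * (w ^ f * u ^ f * u ^ g * w ^ h)) := by
          rw [e3]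
      _ = a ^ n * a * b ^ n * (c ^ (n + f) * b) * (w ^ f * u ^ f * u ^ g * w ^ h) := by
          rw [← pow_add]; group
      _ = a ^ n * a * b ^ n * (b * c ^ (n + f) * w ^ (n + f)) *
            (w ^ f * u ^ f * u ^ g * w ^ h) := by rw [hA2]
      _ = (a ^ n * a) * (b ^ n * b) * c ^ (n + f) *
            (w ^ (n + f) * (w ^ f * u ^ f * u ^ g * w ^ h)) := by group
      _ = a ^ (n + 1) * b ^ (n + 1) * c ^ (n + f) * u ^ (f + g) * w ^ (h + n ^ 2) := by
          rw [e5, ← pow_succ, ← pow_succ]; group

end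

/-- For a prime `p ≥ 5`, `p` divides `∑ k < p, k ^ 2`. -/
theorem dvd_sum_sq {p : ℕ} (hp : p.Prime) (hp5 : 5 ≤ p) : p ∣ ∑ k ∈ Finset.range p, k ^ 2 := by
  have h6 : ∀ n : ℕ, 6 * ∑ k ∈ Finset.range n, k ^ 2 = (n - 1) * n * (2 * n - 1) := by
    intro n
    induction n with
    | zero => simp
    | succ m ih =>
      rw [Finset.sum_range_succ, mul_add, ih]
      cases m with
      | zero => simp
      | succ j =>
        have h1 : j + 1 - 1 = j := by omega
        have h2 : j + 1 + 1 - 1 = j + 1 := by omega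
        have h3 : 2 * (j + 1) - 1 = 2 * j + 1 := by omega
        have h4 : 2 * (j + 1 + 1) - 1 = 2 * j + 3 := by omega
        rw [h1, h2, h3, h4]
        ring
  have h1 : p ∣ 6 * ∑ k ∈ Finset.range p, k ^ 2 := by
    rw [h6 p]
    exact Dvd.dvd.mul_right (Dvd.intro_left _ rfl) _
  have hcop : Nat.Coprime p 6 := by
    rw [Nat.Prime.coprime_iff_not_dvd hp]
    intro h
    have := Nat.le_of_dvd (by norm_num) h
    interval_cases p
    · norm_num at h
    · norm_num at hp
  exact hcop.dvd_of_dvd_mul_left h1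

/-- For a prime `p ≥ 5` and `c ^ p = u ^ p = w ^ p = 1`, `(a * b) ^ p = a ^ p * b ^ p`. -/
theorem mul_pow_prime {a b c u w : G} (h1 : b * a = a * b * c) (h2 : c * a = a * c * u)
    (h3 : c * b = b * c * w) (hua : Commute u a) (hub : Commute u b) (huc : Commute u c)
    (hwa : Commute w a) (hwb : Commute w b) (hwc : Commute w c) (huw : Commute u w)
    {p : ℕ} (hp : p.Prime) (hp5 : 5 ≤ p) (hc : c ^ p = 1) (hu : u ^ p = 1) (hw : w ^ p = 1) :
    (a * b) ^ p = a ^ p * b ^ p := by
  rw [mul_pow_class_three h1 h2 h3 hua hub huc hwa hwb hwc huw p]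
  obtain ⟨k2, hk2⟩ : p ∣ p.choose 2 := hp.dvd_choose_self (by norm_num) (by omega)
  obtain ⟨k3, hk3⟩ : p ∣ p.choose 3 := hp.dvd_choose_self (by norm_num) (by omega)
  obtain ⟨k4, hk4⟩ := dvd_sum_sq hp hp5
  rw [hk2, hk3, hk4, pow_mul, pow_mul, pow_mul, hc, hu, hw, one_pow, one_pow, one_pow, mul_one,
    mul_one, mul_one]

end Cfsg.Agent.Lib.H16.ClassThree
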