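import Mathlib
import Cfsg.Prelude
import Cfsg.Agent.Lib.H16.ClassThree
import Cfsg.Agent.Lib.H16.OmegaQuotA
import Cfsg.Agent.Lib.H16.PGroupCenter
import Cfsg.Agent.Lib.H1.QuotientBasic

/-! `|Ω₁(R)| ≤ p ^ 2` passes to quotients of `p`-groups, `p ≥ 5` (helper16).

* `mul_pow_of_central`: the `p`-th power map is multiplicative on a pair `a`, `b` whose iterated
  commutators land in a central subgroup of exponent `p` containing `b ^ p` (`p ≥ 5`).
* `card_omegaOne_quotient_central`: the case of a central subgroup of order `p`.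
* `card_omegaOne_quotient_le`: the general statement. -/

set_option autoImplicit false

namespace Cfsg.Agent.Lib.H16.OmegaQuot

open scoped commutatorElement
open Cfsg.Agent.Lib

theorem mul_pow_of_central {G : Type*} [Group G] (T : Subgroup G)
    (hTc : ∀ t ∈ T, ∀ x : G, Commute t x) {p : ℕ} (hp : p.Prime) (hp5 : 5 ≤ p)
    (hTe : ∀ t ∈ T, t ^ p = 1) (a b : G) (hb : b ^ p ∈ T)
    (hu : (a * ((a * b)⁻¹ * (b * a)))⁻¹ * (((a * b)⁻¹ * (b * a)) * a) ∈ T)
    (hw : (b * ((a * b)⁻¹ * (b * a)))⁻¹ * (((a * b)⁻¹ * (b * a)) * b) ∈ T) :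
    (a * b) ^ p = a ^ p * b ^ p := by
  set c : G := (a * b)⁻¹ * (b * a) with hc
  set u : G := (a * c)⁻¹ * (c * a) with hu'
  set w : G := (b * c)⁻¹ * (c * b) with hw'
  have h1 : b * a = a * b * c := by rw [hc]; group
  have h2 : c * a = a * c * u := by rw [hu']; group
  have h3 : c * b = b * c * w := by rw [hw']; group
  have hcp : c ^ p = 1 := by
    have h4 := ClassThree.pow_mul_class_three h1 h3 (hTc w hw b) (hTc w hw c) p
    have h5 : b ^ p * a = a * b ^ p := (hTc _ hb a).eq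
    obtain ⟨k2, hk2⟩ : p ∣ p.choose 2 := hp.dvd_choose_self (by norm_num) (by omega)
    rw [h5, hk2, pow_mul, hTe w hw, one_pow, mul_one] at h4
    have h6 : a * b ^ p * 1 = a * b ^ p * c ^ p := by rw [mul_one]; exact h4
    exact (mul_left_cancel h6).symm
  exact ClassThree.mul_pow_prime h1 h2 h3 (hTc u hu a) (hTc u hu b) (hTc u hu c) (hTc w hw a)
    (hTc w hw b) (hTc w hw c) (hTc u hu w) hp hp5 hcp (hTe u hu) (hTe w hw)

/-- Transport of `|Ω₁|` along an isomorphism. -/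
theorem card_omegaOne_top_congr {A B : Type*} [Group A] [Group B] (e : A ≃* B) (p : ℕ) :
    Nat.card (Cfsg.omegaOne p (⊤ : Subgroup A)) = Nat.card (Cfsg.omegaOne p (⊤ : Subgroup B)) := by
  have h : (Cfsg.omegaOne p (⊤ : Subgroup A)).map e.toMonoidHom =
      Cfsg.omegaOne p (⊤ : Subgroup B) := by
    unfold Cfsg.omegaOne
    rw [MonoidHom.map_closure]
    congr 1
    ext y
    constructor
    · rintro ⟨x, ⟨-, hx⟩, rfl⟩
      refine ⟨Subgroup.mem_top _, ?_⟩
      show (e x) ^ p = 1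
      rw [← map_pow, hx, map_one]
    · rintro ⟨-, hy⟩
      refine ⟨e.symm y, ⟨Subgroup.mem_top _, ?_⟩, ?_⟩
      · rw [← map_pow, hy, map_one]
      · show e (e.symm y) = y
        exact e.apply_symm_apply y
  rw [← h]
  exact (Subgroup.card_map_of_injective e.injective).symm

variable {R : Type*} [Group R] [Finite R] {p : ℕ} [hp : Fact p.Prime]

/-- Central subgroup of order `p`. -/
theorem card_omegaOne_quotient_central (hp5 : 5 ≤ p) (hR : IsPGroup p R)
    (hO : Nat.card (Cfsg.omegaOne p (⊤ : Subgroup R)) ≤ p ^ 2) (T : Subgroup R) [T.Normal]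
    (hTc : T ≤ Subgroup.center R) (hTcard : Nat.card T = p) :
    Nat.card (Cfsg.omegaOne p (⊤ : Subgroup (R ⧸ T))) ≤ p ^ 2 := by
  by_contra hcon
  push Not at hcon
  have hp2 : p ≠ 2 := by omega
  obtain ⟨Lb, hLbcard, hLbe⟩ := exists_card_cube_exp hp2 (hR.to_quotient T) hcon
  set L : Subgroup R := Lb.comap (QuotientGroup.mk' T) with hL
  have hLcard : Nat.card L = p ^ 4 := by
    rw [hL, H1.card_comap_mk', hLbcard, hTcard]; ring
  have hcomm : ∀ t ∈ T, ∀ x : R, Commute t x := fun t ht x =>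
    ((Subgroup.mem_center_iff.mp (hTc ht)) x).symm
  have hTe : ∀ t ∈ T, t ^ p = 1 := by
    intro t ht
    have h1 : (⟨t, ht⟩ : T) ^ Nat.card T = 1 := pow_card_eq_one'
    rw [hTcard] at h1
    have := congrArg Subtype.val h1
    simpa using this
  have hpowT : ∀ x ∈ L, x ^ p ∈ T := by
    intro x hx
    rw [← QuotientGroup.eq_one_iff, QuotientGroup.mk_pow]
    exact hLbe _ hx
  have hcl := commute_commutator_of_card_cube (X := ↥Lb) hLbcard
  have hcT : ∀ a ∈ L, ∀ b ∈ L, ∀ z ∈ L,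
      (z * ((a * b)⁻¹ * (b * a)))⁻¹ * (((a * b)⁻¹ * (b * a)) * z) ∈ T := by
    intro a ha b hb z hz
    rw [← QuotientGroup.eq_one_iff]
    set bb : Lb := ⟨((b⁻¹ : R) : R ⧸ T), Lb.inv_mem hb⟩ with hbb
    set aa : Lb := ⟨((a⁻¹ : R) : R ⧸ T), Lb.inv_mem ha⟩ with haa
    set zz : Lb := ⟨((z : R) : R ⧸ T), hz⟩ with hzz
    have h1 := hcl bb aa zz
    have h2 := congrArg Subtype.val h1.eq
    have h3 : (((a * b)⁻¹ * (b * a) : R) : R ⧸ T) = ⁅((b⁻¹ : R) : R ⧸ T), ((a⁻¹ : R) : R ⧸ T)⁆ := by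
      rw [commutatorElement_def]
      simp only [QuotientGroup.mk_mul, QuotientGroup.mk_inv]
      group
    have h4 : ((⁅bb, aa⁆ : Lb) : R ⧸ T) = ⁅((b⁻¹ : R) : R ⧸ T), ((a⁻¹ : R) : R ⧸ T)⁆ := by
      simp [commutatorElement_def, hbb, haa]
    rw [Subgroup.coe_mul, Subgroup.coe_mul, h4, ← h3] at h2
    have h5 : (((z * ((a * b)⁻¹ * (b * a)))⁻¹ * (((a * b)⁻¹ * (b * a)) * z) : R) : R ⧸ T) =
        ((z : R ⧸ T) * (((a * b)⁻¹ * (b * a) : R) : R ⧸ T))⁻¹ *
          ((((a * b)⁻¹ * (b * a) : R) : R ⧸ T) * (z : R ⧸ T)) := rfl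
    rw [h5]
    have h6 : (((a * b)⁻¹ * (b * a) : R) : R ⧸ T) * (z : R ⧸ T) =
        (z : R ⧸ T) * (((a * b)⁻¹ * (b * a) : R) : R ⧸ T) := h2
    rw [h6]
    group
  -- the `p`-th power map is a homomorphism on `L`
  have hmul : ∀ a ∈ L, ∀ b ∈ L, (a * b) ^ p = a ^ p * b ^ p := fun a ha b hb =>
    mul_pow_of_central T hcomm hp.out hp5 hTe a b (hpowT b hb) (hcT a ha b hb a ha)
      (hcT a ha b hb b hb)
  let φ : ↥L →* R := MonoidHom.mk' (fun x => (x : R) ^ p) (fun x y => hmul x x.2 y y.2)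
  have hrange : φ.range ≤ T := by
    rintro _ ⟨x, rfl⟩
    exact hpowT x x.2
  have h1 := Subgroup.card_mul_index φ.ker
  rw [Subgroup.index_ker, hLcard] at h1
  have h2 : Nat.card φ.range ≤ p := hTcard ▸ Subgroup.card_le_of_le hrange
  have hker : p ^ 3 ≤ Nat.card φ.ker := by
    have hpos := hp.out.pos
    have : p ^ 4 ≤ Nat.card φ.ker * p := h1 ▸ Nat.mul_le_mul_left _ h2
    have h3 : p ^ 3 * p ≤ Nat.card φ.ker * p := by
      calc p ^ 3 * p = p ^ 4 := by ring
        _ ≤ _ := this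
    exact Nat.le_of_mul_le_mul_right h3 hpos
  have hle : φ.ker.map L.subtype ≤ Cfsg.omegaOne p (⊤ : Subgroup R) := by
    rintro _ ⟨x, hx, rfl⟩
    apply Subgroup.subset_closure
    refine ⟨Subgroup.mem_top _, ?_⟩
    exact MonoidHom.mem_ker.mp hx
  have h4 := Subgroup.card_le_of_le hle
  rw [Subgroup.card_map_of_injective L.subtype_injective] at h4
  have h5 : p ^ 3 ≤ p ^ 2 := hker.trans (h4.trans hO)
  have := (Nat.pow_le_pow_iff_right hp.out.one_lt).mp h5
  omega

omit [Finite R] hp in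
/-- A central element of prime order in a nontrivial normal subgroup of a `p`-group. -/
theorem exists_central_prime_order [Finite R] [Fact p.Prime] (hR : IsPGroup p R) (T : Subgroup R)
    [T.Normal] (hT : T ≠ ⊥) : ∃ z ∈ T, z ∈ Subgroup.center R ∧ orderOf z = p := by
  obtain ⟨x, hxT, hx1, hxc⟩ :=
    Cfsg.Agent.Lib.H16.exists_ne_one_mem_center_of_normal' (Fact.out : p.Prime) hR T hT
  obtain ⟨k, hk⟩ := hR x
  -- take the least `k` with `x ^ (p ^ k) = 1`
  classical
  have hex : ∃ k, x ^ p ^ k = 1 := ⟨k, hk⟩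
  set m := Nat.find hex with hm
  have hm1 : x ^ p ^ m = 1 := Nat.find_spec hex
  have hm0 : m ≠ 0 := by
    intro h0
    rw [h0, pow_zero, pow_one] at hm1
    exact hx1 hm1
  obtain ⟨j, hj⟩ := Nat.exists_eq_succ_of_ne_zero hm0
  have hj1 : x ^ p ^ j ≠ 1 := Nat.find_min hex (by omega)
  refine ⟨x ^ p ^ j, T.pow_mem hxT _, (Subgroup.center R).pow_mem hxc _, ?_⟩
  apply orderOf_eq_prime
  · rw [← pow_mul, ← pow_succ, ← Nat.succ_eq_add_one, ← hj]
    exact hm1
  · exact hj1

/-- Auxiliary induction for `card_omegaOne_quotient_le`. -/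
theorem card_omegaOne_quotient_aux.{u} {p : ℕ} [hp : Fact p.Prime] (hp5 : 5 ≤ p) (n : ℕ) :
    ∀ (R : Type u) [Group R] [Finite R], IsPGroup p R →
      Nat.card (Cfsg.omegaOne p (⊤ : Subgroup R)) ≤ p ^ 2 →
      ∀ (T : Subgroup R) [T.Normal], Nat.card T ≤ n →
        Nat.card (Cfsg.omegaOne p (⊤ : Subgroup (R ⧸ T))) ≤ p ^ 2 := by
  induction n with
  | zero =>
    intro R _ _ _ _ T _ hT
    have : 0 < Nat.card T := Nat.card_pos
    omega
  | succ n ih =>
    intro R _ _ hR hO T _ hT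
    by_cases hbot : T = ⊥
    · subst hbot
      rw [card_omegaOne_top_congr (QuotientGroup.quotientBot (G := R)) p]
      exact hO
    · obtain ⟨z, hzT, hzc, hzo⟩ := exists_central_prime_order hR T hbot
      set T₀ : Subgroup R := Subgroup.zpowers z with hT₀
      have hT₀c : T₀ ≤ Subgroup.center R := by
        rw [hT₀, Subgroup.zpowers_le]; exact hzc
      haveI : T₀.Normal := by
        constructor
        intro x hx g
        have hxc := hT₀c hx
        have : g * x * g⁻¹ = x := by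
          rw [(Subgroup.mem_center_iff.mp hxc) g, mul_inv_cancel_right]
        rw [this]; exact hx
      have hT₀card : Nat.card T₀ = p := by rw [hT₀, Nat.card_zpowers, hzo]
      have hT₀T : T₀ ≤ T := by rw [hT₀, Subgroup.zpowers_le]; exact hzT
      have h1 := card_omegaOne_quotient_central hp5 hR hO T₀ hT₀c hT₀card
      have hcard : Nat.card (T.map (QuotientGroup.mk' T₀)) ≤ n := by
        have h2 := H1.card_comap_mk' T₀ (T.map (QuotientGroup.mk' T₀))
        have h3 : (T.map (QuotientGroup.mk' T₀)).comap (QuotientGroup.mk' T₀) = T := by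
          rw [QuotientGroup.comap_map_mk']
          exact sup_eq_right.mpr hT₀T
        rw [h3, hT₀card] at h2
        have hp2 := hp.out.two_le
        have hpos : 0 < Nat.card (T.map (QuotientGroup.mk' T₀)) := Nat.card_pos
        nlinarith
      have h4 := ih (R ⧸ T₀) (hR.to_quotient T₀) h1 (T.map (QuotientGroup.mk' T₀)) hcard
      rw [card_omegaOne_top_congr (QuotientGroup.quotientQuotientEquivQuotient T₀ T hT₀T) p] at h4
      exact h4

/-- For `p ≥ 5`, `|Ω₁(R)| ≤ p ^ 2` passes to quotients of the `p`-group `R`. -/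
theorem card_omegaOne_quotient_le (hp5 : 5 ≤ p) (hR : IsPGroup p R)
    (hO : Nat.card (Cfsg.omegaOne p (⊤ : Subgroup R)) ≤ p ^ 2) (T : Subgroup R) [T.Normal] :
    Nat.card (Cfsg.omegaOne p (⊤ : Subgroup (R ⧸ T))) ≤ p ^ 2 :=
  card_omegaOne_quotient_aux hp5 (Nat.card T) R hR hO T le_rfl

end Cfsg.Agent.Lib.H16.OmegaQuot
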