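import Mathlib
import Cfsg.Prelude
import Cfsg.Agent.Lib.H16.ClassTwo
import Cfsg.Agent.Lib.H16.OmegaQuotB
import Cfsg.Agent.Lib.H1.QuotientBasic

/-! Huppert's metacyclicity criterion, class-two step (helper16).

`isMetacyclic_of_commutator_le`: for `p ≥ 5`, a `p`-group `R` with `|Ω₁(R)| ≤ p ^ 2` whose commutator
subgroup is central of order at most `p` is metacyclic. -/

set_option autoImplicit false

namespace Cfsg.Agent.Lib.H16.MetaCrit

open scoped commutatorElement
open Cfsg.Agent.Lib

variable {R : Type*} [Group R] [Finite R] {p : ℕ} [hp : Fact p.Prime]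

omit [Finite R] hp in
/-- In class two with commutators of order dividing the odd number `p`, the `p`-th power map is a
homomorphism. -/
theorem exists_powHom (hodd : Odd p) (hc : commutator R ≤ Subgroup.center R)
    (hexp : ∀ c ∈ commutator R, c ^ p = 1) : ∃ φ : R →* R, ∀ x, φ x = x ^ p := by
  refine ⟨MonoidHom.mk' (fun x => x ^ p) ?_, fun x => rfl⟩
  intro x y
  have hmem : (x * y)⁻¹ * (y * x) ∈ commutator R := by
    have h1 : (x * y)⁻¹ * (y * x) = ⁅y⁻¹, x⁻¹⁆ := by rw [commutatorElement_def]; group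
    rw [h1, commutator_def]
    exact Subgroup.commutator_mem_commutator (Subgroup.mem_top _) (Subgroup.mem_top _)
  have hcen := hc hmem
  have h : y * x = x * y * ((x * y)⁻¹ * (y * x)) := by group
  exact mul_pow_eq_of_central h ((Subgroup.mem_center_iff.mp hcen x).symm)
    ((Subgroup.mem_center_iff.mp hcen y).symm) hodd (hexp _ hmem)

theorem isMetacyclic_of_commutator_le (hp5 : 5 ≤ p) (hR : IsPGroup p R)
    (hO : Nat.card (Cfsg.omegaOne p (⊤ : Subgroup R)) ≤ p ^ 2)
    (hc : commutator R ≤ Subgroup.center R) (hcard : Nat.card (commutator R) ≤ p) :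
    Cfsg.IsMetacyclic R := by
  have hp2 : p ≠ 2 := by omega
  have hodd : Odd p := hp.out.odd_of_ne_two hp2
  have hp1 := hp.out.one_lt
  -- the commutator subgroup has order `1` or `p`
  have hTcases : Nat.card (commutator R) = 1 ∨ Nat.card (commutator R) = p := by
    obtain ⟨j, hj⟩ := IsPGroup.iff_card.mp (hR.to_subgroup (commutator R))
    have hj1 : j ≤ 1 := by
      by_contra h
      push Not at h
      have h2 : p ^ 2 ≤ p ^ j := Nat.pow_le_pow_right hp.out.pos h
      rw [← hj] at h2
      nlinarith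
    interval_cases j
    · left; rw [hj, pow_zero]
    · right; rw [hj, pow_one]
  have hexp : ∀ c ∈ commutator R, c ^ p = 1 := by
    intro c hcm
    have h1 : (⟨c, hcm⟩ : commutator R) ^ Nat.card (commutator R) = 1 := pow_card_eq_one'
    have h2 : (⟨c, hcm⟩ : commutator R) ^ p = 1 := by
      rcases hTcases with h | h
      · rw [h, pow_one] at h1; rw [h1, one_pow]
      · rw [h] at h1; exact h1
    have := congrArg Subtype.val h2
    simpa using this
  obtain ⟨φ, hφ⟩ := exists_powHom hodd hc hexp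
  haveI hrn : φ.range.Normal := by
    constructor
    rintro _ ⟨x, rfl⟩ g
    exact ⟨g * x * g⁻¹, by rw [hφ, hφ, conj_pow]⟩
  -- the quotient by the `p`-th powers has exponent `p`, hence order at most `p ^ 2`
  have hq : Nat.card (R ⧸ φ.range) ≤ p ^ 2 := by
    have h1 := OmegaQuot.card_omegaOne_quotient_le hp5 hR hO φ.range
    have h2 : Cfsg.omegaOne p (⊤ : Subgroup (R ⧸ φ.range)) = ⊤ := by
      rw [eq_top_iff]
      intro x _
      apply Subgroup.subset_closure
      refine ⟨Subgroup.mem_top _, ?_⟩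
      obtain ⟨y, rfl⟩ := QuotientGroup.mk'_surjective _ x
      rw [← map_pow, QuotientGroup.mk'_apply, QuotientGroup.eq_one_iff]
      exact ⟨y, hφ y⟩
    rw [h2, Subgroup.card_top] at h1
    exact h1
  have hqd : Nat.card (R ⧸ φ.range) ∣ p ^ 2 := by
    obtain ⟨j, hj⟩ := IsPGroup.iff_card.mp (hR.to_quotient φ.range)
    rw [hj] at hq ⊢
    exact pow_dvd_pow p ((Nat.pow_le_pow_iff_right hp1).mp hq)
  have hcomm := ChiefRank.comm_of_card_dvd_sq hqd
  have hcr : commutator R ≤ φ.range := by
    rw [commutator_def, Subgroup.commutator_le]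
    intro x _ y _
    rw [← QuotientGroup.eq_one_iff, commutatorElement_def]
    have h1 : ((x * y * x⁻¹ * y⁻¹ : R) : R ⧸ φ.range) =
        (x : R ⧸ φ.range) * y * (x : R ⧸ φ.range)⁻¹ * (y : R ⧸ φ.range)⁻¹ := rfl
    rw [h1, hcomm (x : R ⧸ φ.range) y]; group
  -- a cyclic subgroup containing the commutator subgroup
  have hex : ∃ z : R, commutator R ≤ Subgroup.zpowers z := by
    rcases hTcases with h | h
    · refine ⟨1, ?_⟩
      rw [Subgroup.card_eq_one.mp h]; exact bot_le
    · haveI : IsCyclic ↥(commutator R) := isCyclic_of_prime_card h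
      obtain ⟨t, ht⟩ := (Subgroup.isCyclic_iff_exists_zpowers_eq_top (commutator R)).mp inferInstance
      have htm : t ∈ commutator R := by rw [← ht]; exact Subgroup.mem_zpowers t
      obtain ⟨z, hz⟩ := hcr htm
      refine ⟨z, ?_⟩
      rw [← ht, Subgroup.zpowers_le, ← hz, hφ]
      exact Subgroup.pow_mem _ (Subgroup.mem_zpowers z) p
  obtain ⟨z₀, hz₀⟩ := hex
  haveI : Nonempty {C : Subgroup R // IsCyclic C ∧ commutator R ≤ C} :=
    ⟨⟨Subgroup.zpowers z₀, inferInstance, hz₀⟩⟩
  obtain ⟨⟨C, hCc, hTC⟩, hmax⟩ :=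
    Finite.exists_max (fun C : {C : Subgroup R // IsCyclic C ∧ commutator R ≤ C} => Nat.card C.1)
  have hmax' : ∀ D : Subgroup R, IsCyclic D → commutator R ≤ D → Nat.card D ≤ Nat.card C :=
    fun D hD hTD => hmax ⟨D, hD, hTD⟩
  haveI hCn : C.Normal := by
    constructor
    intro n hn g
    have h1 : g * n * g⁻¹ = ⁅g, n⁆ * n := by rw [commutatorElement_def]; group
    rw [h1]
    apply C.mul_mem _ hn
    apply hTC
    rw [commutator_def]
    exact Subgroup.commutator_mem_commutator (Subgroup.mem_top _) (Subgroup.mem_top _)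
  refine ⟨C, hCn, hCc, ?_⟩
  by_contra hnc
  obtain ⟨U, -, -, hUe, hUcard⟩ :=
    OmegaQuot.exists_normal_sq_of_not_cyclic hp2 (hR.to_quotient C) hnc
  obtain ⟨z, hz⟩ := (Subgroup.isCyclic_iff_exists_zpowers_eq_top C).mp hCc
  have hzC : z ∈ C := by rw [← hz]; exact Subgroup.mem_zpowers z
  -- every element of `U` lifts to an element of order dividing `p`
  have hlift : ∀ u ∈ U, ∃ x ∈ φ.ker, (x : R ⧸ C) = u := by
    intro u hu
    obtain ⟨x, rfl⟩ := QuotientGroup.mk'_surjective _ u
    have hxp : x ^ p ∈ C := by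
      rw [← QuotientGroup.eq_one_iff, QuotientGroup.mk_pow]
      exact hUe _ hu
    rw [← hz, ← mem_powers_iff_mem_zpowers, Submonoid.mem_powers_iff] at hxp
    obtain ⟨k, hk⟩ := hxp
    by_cases hpk : p ∣ k
    · obtain ⟨j, rfl⟩ := hpk
      refine ⟨x * (z ^ j)⁻¹, ?_, ?_⟩
      · rw [MonoidHom.mem_ker, map_mul, map_inv, hφ, hφ, ← pow_mul, mul_comm j p, hk,
          mul_inv_cancel]
      · rw [QuotientGroup.mk'_apply, QuotientGroup.eq]
        have : (x * (z ^ j)⁻¹)⁻¹ * x = z ^ j := by group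
        rw [this]
        exact C.pow_mem hzC j
    · obtain ⟨m, hm⟩ := (IsPGroup.iff_orderOf.mp hR) z
      have hcop : (orderOf z).Coprime k := by
        rw [hm]
        exact Nat.Coprime.pow_left m ((Nat.Prime.coprime_iff_not_dvd hp.out).mpr hpk)
      have ho : orderOf (x ^ p) = orderOf z := by rw [← hk]; exact hcop.orderOf_pow
      have hCx : C = Subgroup.zpowers (x ^ p) := by
        symm
        apply Subgroup.eq_of_le_of_card_ge
        · rw [Subgroup.zpowers_le, ← hk]; exact C.pow_mem hzC k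
        · rw [← hz, Nat.card_zpowers, Nat.card_zpowers, ho]
      have hCx' : C ≤ Subgroup.zpowers x := by
        rw [hCx, Subgroup.zpowers_le]
        exact Subgroup.pow_mem _ (Subgroup.mem_zpowers x) p
      have hcard' := hmax' (Subgroup.zpowers x) inferInstance (hTC.trans hCx')
      have hCeq : C = Subgroup.zpowers x := Subgroup.eq_of_le_of_card_ge hCx' hcard'
      refine ⟨1, φ.ker.one_mem, ?_⟩
      rw [QuotientGroup.mk'_apply, QuotientGroup.mk_one]
      symm
      rw [QuotientGroup.eq_one_iff, hCeq]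
      exact Subgroup.mem_zpowers x
  have hUle : U ≤ φ.ker.map (QuotientGroup.mk' C) := by
    intro u hu
    obtain ⟨x, hx, rfl⟩ := hlift u hu
    exact ⟨x, hx, rfl⟩
  have hcardU : p ^ 2 ≤ Nat.card (φ.ker.map (QuotientGroup.mk' C)) :=
    hUcard ▸ Subgroup.card_le_of_le hUle
  -- `C` is nontrivial
  have hCne : C ≠ ⊥ := by
    intro hCb
    have hUnt : ∃ u ∈ U, u ≠ 1 := by
      by_contra hcon
      push Not at hcon
      have : U = ⊥ := by
        rw [eq_bot_iff]; intro u hu; rw [Subgroup.mem_bot]; exact hcon u hu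
      rw [this, Subgroup.card_bot] at hUcard
      nlinarith
    obtain ⟨u, hu, hu1⟩ := hUnt
    obtain ⟨x, rfl⟩ := QuotientGroup.mk'_surjective _ u
    have h1 := hmax' (Subgroup.zpowers x) inferInstance (by rw [hCb] at hTC; exact hTC.trans bot_le)
    rw [hCb, Subgroup.card_bot, Nat.card_zpowers] at h1
    have hx1 : x = 1 := by
      have hpos : 0 < orderOf x := orderOf_pos x
      exact orderOf_eq_one_iff.mp (by omega)
    apply hu1
    rw [hx1]; rfl
  have hinf : p ≤ Nat.card (C ⊓ φ.ker : Subgroup R) := by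
    have hCnt : Nontrivial C := (Subgroup.nontrivial_iff_ne_bot C).mpr hCne
    obtain ⟨m, hm0, hm⟩ := (IsPGroup.nontrivial_iff_card (hR.to_subgroup C)).mp hCnt
    have hdvd : p ∣ Nat.card C := by rw [hm]; exact dvd_pow_self p (by omega)
    obtain ⟨y, hy⟩ := exists_prime_orderOf_dvd_card' p hdvd
    have hy' : orderOf (y : R) = p := by rw [Subgroup.orderOf_coe]; exact hy
    have hle : Subgroup.zpowers (y : R) ≤ C ⊓ φ.ker := by
      rw [Subgroup.zpowers_le]
      refine Subgroup.mem_inf.mpr ⟨y.2, ?_⟩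
      rw [MonoidHom.mem_ker, hφ, ← hy', pow_orderOf_eq_one]
    have := Subgroup.card_le_of_le hle
    rwa [Nat.card_zpowers, hy'] at this
  have hker : Nat.card φ.ker ≤ p ^ 2 := by
    refine le_trans ?_ hO
    have hle : φ.ker ≤ Cfsg.omegaOne p (⊤ : Subgroup R) := by
      intro x hx
      apply Subgroup.subset_closure
      refine ⟨Subgroup.mem_top _, ?_⟩
      rw [← hφ]; exact MonoidHom.mem_ker.mp hx
    exact Subgroup.card_le_of_le hle
  have hprod := H1.card_map_mk'_mul C φ.ker
  have : p ^ 2 * p ≤ Nat.card φ.ker := by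
    rw [← hprod]
    exact Nat.mul_le_mul hcardU hinf
  nlinarith

end Cfsg.Agent.Lib.H16.MetaCrit
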