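import Mathlib
import Cfsg.Prelude
import Cfsg.Agent.Lib.H16.MetaCritA

/-! Huppert's metacyclicity criterion (helper16): for `p ≥ 5`, a `p`-group `R` with
`|Ω₁(R)| ≤ p ^ 2` is metacyclic. -/

set_option autoImplicit false

namespace Cfsg.Agent.Lib.H16.MetaCrit

open scoped commutatorElement
open Cfsg.Agent.Lib

section gens

variable {R : Type*} [Group R] (T : Subgroup R) (hTc : T ≤ Subgroup.center R) (a b : R)
  (hgen : ∀ x : R, ∃ (k l : ℕ), ∃ t ∈ T, x = a ^ k * t * b ^ l) (i : ℕ) (t₁ : R) (ht₁ : t₁ ∈ T)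
  (hnorm : b * a * b⁻¹ = a ^ i * t₁)

include hTc hgen ht₁ hnorm in
/-- If `R = ⟨a⟩ T ⟨b⟩` with `T` central and `b a b⁻¹ = a ^ i t₁`, then the commutator subgroup of `R`
is generated by `a (a ^ i t₁)⁻¹`. -/
theorem commutator_le_zpowers : commutator R ≤ Subgroup.zpowers (a * (a ^ i * t₁)⁻¹) := by
  have hcen : ∀ t ∈ T, ∀ x : R, Commute t x := fun t ht x =>
    ((Subgroup.mem_center_iff.mp (hTc ht)) x).symm
  set d : R := a ^ i * t₁ with hd
  set c : R := a * d⁻¹ with hc
  have had : Commute a d := by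
    rw [hd]
    exact ((Commute.refl a).pow_right i).mul_right (hcen t₁ ht₁ a).symm
  have hac : Commute a c := (Commute.refl a).mul_right had.inv_right
  have hbd : b * d * b⁻¹ = d ^ i * t₁ := by
    have h1 : b * d * b⁻¹ = (b * a * b⁻¹) ^ i * (b * t₁ * b⁻¹) := by
      rw [hd, conj_pow]; group
    rw [h1, hnorm, (hcen t₁ ht₁ b).symm.eq, mul_inv_cancel_right]
  have hbc : b * c * b⁻¹ = c ^ i := by
    have h1 : b * c * b⁻¹ = (b * a * b⁻¹) * (b * d * b⁻¹)⁻¹ := by rw [hc]; group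
    have h2 : c ^ i = a ^ i * (d ^ i)⁻¹ := by
      rw [hc, had.inv_right.mul_pow, inv_pow]
    rw [h1, hbd, hnorm, h2, mul_inv_rev]
    calc d * (t₁⁻¹ * (d ^ i)⁻¹) = (d * t₁⁻¹) * (d ^ i)⁻¹ := by group
      _ = a ^ i * (d ^ i)⁻¹ := by rw [hd, mul_inv_cancel_right]
  set Z : Subgroup R := Subgroup.zpowers c with hZ
  have hbZ : ∀ l : ℕ, ∀ n ∈ Z, b ^ l * n * (b ^ l)⁻¹ ∈ Z := by
    intro l
    induction l with
    | zero => intro n hn; simpa using hn
    | succ l ih =>
      intro n hn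
      have h1 : b ^ (l + 1) * n * (b ^ (l + 1))⁻¹ = b * (b ^ l * n * (b ^ l)⁻¹) * b⁻¹ := by
        rw [pow_succ']; group
      rw [h1]
      obtain ⟨j, hj⟩ := Subgroup.mem_zpowers_iff.mp (ih n hn)
      rw [← hj]
      have h2 : b * c ^ j * b⁻¹ = (b * c * b⁻¹) ^ j := by
        rw [conj_zpow]
      rw [h2, hbc, ← zpow_natCast, ← zpow_mul]
      exact Subgroup.zpow_mem _ (Subgroup.mem_zpowers c) _
  haveI hZn : Z.Normal := by
    constructor
    intro n hn g
    obtain ⟨k, l, t, ht, rfl⟩ := hgen g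
    have h1 := hbZ l n hn
    obtain ⟨j, hj⟩ := Subgroup.mem_zpowers_iff.mp h1
    have hcomm1 : Commute (a ^ k * t) (c ^ j) :=
      ((hac.pow_left k).mul_left (hcen t ht c)).zpow_right j
    have h2 : a ^ k * t * b ^ l * n * (a ^ k * t * b ^ l)⁻¹ =
        (a ^ k * t) * (b ^ l * n * (b ^ l)⁻¹) * (a ^ k * t)⁻¹ := by group
    rw [h2, ← hj, hcomm1.eq, mul_inv_cancel_right]
    exact Subgroup.zpow_mem _ (Subgroup.mem_zpowers c) _
  -- the quotient is commutative
  have hαβ : Commute ((a : R) : R ⧸ Z) ((b : R) : R ⧸ Z) := by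
    rw [← commutatorElement_eq_one_iff_commute, commutatorElement_def]
    have h1 : ((a : R) : R ⧸ Z) * (b : R ⧸ Z) * (a : R ⧸ Z)⁻¹ * (b : R ⧸ Z)⁻¹ =
        ((a * b * a⁻¹ * b⁻¹ : R) : R ⧸ Z) := rfl
    rw [h1, QuotientGroup.eq_one_iff]
    have h2 : a * b * a⁻¹ * b⁻¹ = c := by rw [hc, ← hnorm]; group
    rw [h2]
    exact Subgroup.mem_zpowers c
  have hτ : ∀ t ∈ T, ∀ q : R ⧸ Z, Commute ((t : R) : R ⧸ Z) q := by
    intro t ht q
    obtain ⟨x, rfl⟩ := QuotientGroup.mk'_surjective _ q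
    show ((t : R) : R ⧸ Z) * (x : R ⧸ Z) = (x : R ⧸ Z) * (t : R ⧸ Z)
    rw [← QuotientGroup.mk_mul, ← QuotientGroup.mk_mul, (hcen t ht x).eq]
  rw [commutator_def, Subgroup.commutator_le]
  intro x _ y _
  rw [← QuotientGroup.eq_one_iff, commutatorElement_def]
  have h1 : ((x * y * x⁻¹ * y⁻¹ : R) : R ⧸ Z) =
      (x : R ⧸ Z) * (y : R ⧸ Z) * (x : R ⧸ Z)⁻¹ * (y : R ⧸ Z)⁻¹ := rfl
  rw [h1, ← commutatorElement_def, commutatorElement_eq_one_iff_commute]
  obtain ⟨k, l, t, ht, rfl⟩ := hgen x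
  obtain ⟨k', l', t', ht', rfl⟩ := hgen y
  simp only [QuotientGroup.mk_mul, QuotientGroup.mk_pow]
  have e1 : Commute ((a : R ⧸ Z) ^ k) ((a : R ⧸ Z) ^ k' * (t' : R ⧸ Z) * (b : R ⧸ Z) ^ l') :=
    (((Commute.refl _).pow_pow k k').mul_right (hτ t' ht' _).symm).mul_right (hαβ.pow_pow k l')
  have e2 : Commute ((b : R ⧸ Z) ^ l) ((a : R ⧸ Z) ^ k' * (t' : R ⧸ Z) * (b : R ⧸ Z) ^ l') :=
    ((hαβ.symm.pow_pow l k').mul_right (hτ t' ht' _).symm).mul_right
      ((Commute.refl _).pow_pow l l')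
  exact (e1.mul_left (hτ t ht _)).mul_left e2

end gens

variable {R : Type*} [Group R] [Finite R] {p : ℕ} [hp : Fact p.Prime]

/-- If moreover `T` has order `p`, lies in the commutator subgroup and meets `⟨a⟩` trivially, then the
commutator subgroup is `T`. -/
theorem commutator_le_of_disjoint (hR : IsPGroup p R) (T : Subgroup R)
    (hTc : T ≤ Subgroup.center R) (hTcard : Nat.card T = p) (hTR : T ≤ commutator R) (a b : R)
    (hgen : ∀ x : R, ∃ (k l : ℕ), ∃ t ∈ T, x = a ^ k * t * b ^ l) (i : ℕ) (t₁ : R) (ht₁ : t₁ ∈ T)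
    (hnorm : b * a * b⁻¹ = a ^ i * t₁) (hdisj : ∀ x ∈ T, x ∈ Subgroup.zpowers a → x = 1) :
    commutator R ≤ T := by
  have hle := commutator_le_zpowers T hTc a b hgen i t₁ ht₁ hnorm
  have hcen : ∀ t ∈ T, ∀ x : R, Commute t x := fun t ht x =>
    ((Subgroup.mem_center_iff.mp (hTc ht)) x).symm
  have hTe : ∀ t ∈ T, t ^ p = 1 := by
    intro t ht
    have h1 : (⟨t, ht⟩ : T) ^ Nat.card T = 1 := pow_card_eq_one'
    rw [hTcard] at h1
    have := congrArg Subtype.val h1
    simpa using this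
  set e : R := a * (a ^ i)⁻¹ with he
  have hce : a * (a ^ i * t₁)⁻¹ = e * t₁⁻¹ := by
    rw [he, mul_inv_rev, ((hcen t₁ ht₁ (a ^ i)).inv_left.inv_right).eq, mul_assoc]
  have hemem : e ∈ Subgroup.zpowers a :=
    Subgroup.mul_mem _ (Subgroup.mem_zpowers a)
      (Subgroup.inv_mem _ (Subgroup.pow_mem _ (Subgroup.mem_zpowers a) i))
  -- a nontrivial element of `T`
  obtain ⟨t₀, ht₀, ht₀1⟩ : ∃ t₀ ∈ T, t₀ ≠ 1 := by
    by_contra hcon
    push Not at hcon
    have : T = ⊥ := by
      rw [eq_bot_iff]; intro u hu; rw [Subgroup.mem_bot]; exact hcon u hu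
    rw [this, Subgroup.card_bot] at hTcard
    exact hp.out.one_lt.ne hTcard
  obtain ⟨k, hk⟩ := Subgroup.mem_zpowers_iff.mp (hle (hTR ht₀))
  rw [hce, ((hcen t₁ ht₁ e).symm.inv_right).mul_zpow] at hk
  have hek : e ^ k = t₀ * t₁ ^ k := by
    rw [← hk, inv_zpow, inv_mul_cancel_right]
  have hek1 : e ^ k = 1 :=
    hdisj _ (hek ▸ T.mul_mem ht₀ (T.zpow_mem ht₁ k)) (Subgroup.zpow_mem _ hemem k)
  rw [hek1, one_mul] at hk
  have hpk : ¬ (p : ℤ) ∣ k := by
    rintro ⟨j, rfl⟩
    apply ht₀1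
    rw [← hk, zpow_mul, zpow_natCast, inv_pow, hTe t₁ ht₁, inv_one, one_zpow]
  have he1 : e = 1 := by
    obtain ⟨m, hm⟩ := (IsPGroup.iff_orderOf.mp hR) e
    have hdvd : ((orderOf e : ℕ) : ℤ) ∣ k := orderOf_dvd_iff_zpow_eq_one.mpr hek1
    rcases Nat.eq_zero_or_pos m with h0 | hpos
    · rw [h0, pow_zero] at hm
      exact orderOf_eq_one_iff.mp hm
    · exfalso
      apply hpk
      refine dvd_trans ?_ hdvd
      rw [hm]
      exact_mod_cast dvd_pow_self p (by omega)
  refine hle.trans ?_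
  rw [Subgroup.zpowers_le, hce, he1, one_mul]
  exact T.inv_mem ht₁

/-- Auxiliary induction for `isMetacyclic_of_card_omegaOne_le`. -/
theorem isMetacyclic_aux.{u} {p : ℕ} [hp : Fact p.Prime] (hp5 : 5 ≤ p) (n : ℕ) :
    ∀ (R : Type u) [Group R] [Finite R], Nat.card R ≤ n → IsPGroup p R →
      Nat.card (Cfsg.omegaOne p (⊤ : Subgroup R)) ≤ p ^ 2 → Cfsg.IsMetacyclic R := by
  induction n with
  | zero =>
    intro R _ _ hn _ _
    have : 0 < Nat.card R := Nat.card_pos
    omega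
  | succ n ih =>
    intro R _ _ hn hR hO
    by_cases hcomm : commutator R = ⊥
    · apply isMetacyclic_of_commutator_le hp5 hR hO
      · rw [hcomm]; exact bot_le
      · rw [hcomm, Subgroup.card_bot]; exact hp.out.pos
    · obtain ⟨z, hzR', hzc, hzo⟩ :=
        OmegaQuot.exists_central_prime_order hR (commutator R) hcomm
      set T : Subgroup R := Subgroup.zpowers z with hT
      have hTc : T ≤ Subgroup.center R := by
        rw [hT, Subgroup.zpowers_le]; exact hzc
      haveI hTn : T.Normal := by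
        constructor
        intro x hx g
        have hxc := hTc hx
        have : g * x * g⁻¹ = x := by
          rw [(Subgroup.mem_center_iff.mp hxc) g, mul_inv_cancel_right]
        rw [this]; exact hx
      have hTcard : Nat.card T = p := by rw [hT, Nat.card_zpowers, hzo]
      have hTR : T ≤ commutator R := by rw [hT, Subgroup.zpowers_le]; exact hzR'
      have hQ := OmegaQuot.card_omegaOne_quotient_le hp5 hR hO T
      have hcardQ : Nat.card (R ⧸ T) ≤ n := by
        have h1 := Subgroup.card_eq_card_quotient_mul_card_subgroup T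
        rw [hTcard] at h1
        have hp2 := hp.out.two_le
        have hpos : 0 < Nat.card (R ⧸ T) := Nat.card_pos
        nlinarith
      obtain ⟨Nb, hNbn, hNbc, hQc⟩ := ih (R ⧸ T) hcardQ (hR.to_quotient T) hQ
      haveI := hNbn
      obtain ⟨g, hg⟩ := hNbc.exists_generator
      obtain ⟨a, ha⟩ := QuotientGroup.mk'_surjective T g.1
      obtain ⟨γ, hγ⟩ := hQc.exists_generator
      obtain ⟨b', hb'⟩ := QuotientGroup.mk'_surjective Nb γ
      obtain ⟨b, hb⟩ := QuotientGroup.mk'_surjective T b'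
      set A : Subgroup R := Nb.comap (QuotientGroup.mk' T) with hA
      have haA : a ∈ A := by
        rw [hA, Subgroup.mem_comap, ha]; exact g.2
      have hTA : T ≤ A := by
        intro t ht
        rw [hA, Subgroup.mem_comap, QuotientGroup.mk'_apply, (QuotientGroup.eq_one_iff t).mpr ht]
        exact Nb.one_mem
      have hAel : ∀ x ∈ A, ∃ k : ℕ, ∃ t ∈ T, x = a ^ k * t := by
        intro x hx
        have h1 : (⟨QuotientGroup.mk' T x, hx⟩ : Nb) ∈ Subgroup.zpowers g := hg _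
        rw [← mem_powers_iff_mem_zpowers, Submonoid.mem_powers_iff] at h1
        obtain ⟨k, hk⟩ := h1
        have h2 := congrArg Subtype.val hk
        rw [Subgroup.coe_pow, ← ha, ← map_pow] at h2
        have h3 : (a ^ k)⁻¹ * x ∈ T := by
          rw [← QuotientGroup.eq]; exact h2
        exact ⟨k, (a ^ k)⁻¹ * x, h3, by group⟩
      have hgen : ∀ x : R, ∃ (k l : ℕ), ∃ t ∈ T, x = a ^ k * t * b ^ l := by
        intro x
        have h1 : QuotientGroup.mk' Nb (QuotientGroup.mk' T x) ∈ Subgroup.zpowers γ := hγ _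
        rw [← mem_powers_iff_mem_zpowers, Submonoid.mem_powers_iff] at h1
        obtain ⟨l, hl⟩ := h1
        rw [← hb', ← hb, ← map_pow, ← map_pow] at hl
        have h2 : QuotientGroup.mk' T x / QuotientGroup.mk' T (b ^ l) ∈ Nb := by
          rw [← QuotientGroup.eq_iff_div_mem]; exact hl.symm
        rw [← map_div] at h2
        obtain ⟨k, t, ht, hkt⟩ := hAel (x / b ^ l) h2
        refine ⟨k, l, t, ht, ?_⟩
        rw [← hkt, div_mul_cancel]
      obtain ⟨i, t₁, ht₁, hnorm⟩ := hAel (b * a * b⁻¹)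
        ((inferInstance : A.Normal).conj_mem a haA b)
      by_cases hTa : T ≤ Subgroup.zpowers a
      · have hAeq : Subgroup.zpowers a = A := by
          apply le_antisymm
          · rw [Subgroup.zpowers_le]; exact haA
          · intro x hx
            obtain ⟨k, t, ht, rfl⟩ := hAel x hx
            exact Subgroup.mul_mem _ (Subgroup.pow_mem _ (Subgroup.mem_zpowers a) k) (hTa ht)
        refine ⟨A, inferInstance, (Subgroup.isCyclic_iff_exists_zpowers_eq_top A).mpr ⟨a, hAeq⟩, ?_⟩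
        refine ⟨⟨QuotientGroup.mk' A b, fun q => ?_⟩⟩
        obtain ⟨x, rfl⟩ := QuotientGroup.mk'_surjective _ q
        obtain ⟨k, l, t, ht, rfl⟩ := hgen x
        refine Subgroup.mem_zpowers_iff.mpr ⟨l, ?_⟩
        rw [zpow_natCast, ← map_pow, QuotientGroup.mk'_apply, QuotientGroup.mk'_apply,
          QuotientGroup.eq]
        have : (b ^ l)⁻¹ * (a ^ k * t * b ^ l) = (b ^ l)⁻¹ * (a ^ k * t) * (b ^ l)⁻¹⁻¹ := by group
        rw [this]
        exact (inferInstance : A.Normal).conj_mem _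
          (A.mul_mem (A.pow_mem haA k) (hTA ht)) _
      · have hdisj : ∀ x ∈ T, x ∈ Subgroup.zpowers a → x = 1 := by
          intro x hxT hxa
          by_contra hx1
          apply hTa
          have hxo : orderOf x = p := by
            apply orderOf_eq_prime _ hx1
            have h1 : (⟨x, hxT⟩ : T) ^ Nat.card T = 1 := pow_card_eq_one'
            rw [hTcard] at h1
            have := congrArg Subtype.val h1
            simpa using this
          have hTx : Subgroup.zpowers x = T := by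
            apply Subgroup.eq_of_le_of_card_ge
            · rw [Subgroup.zpowers_le]; exact hxT
            · rw [Nat.card_zpowers x, hxo]; exact hTcard.le
          rw [← hTx, Subgroup.zpowers_le]
          exact hxa
        have hle := commutator_le_of_disjoint hR T hTc hTcard hTR a b hgen i t₁ ht₁ hnorm hdisj
        apply isMetacyclic_of_commutator_le hp5 hR hO (hle.trans hTc)
        rw [← hTcard]
        exact Subgroup.card_le_of_le hle

/-- **Huppert's criterion**: for `p ≥ 5`, a `p`-group `R` with `|Ω₁(R)| ≤ p ^ 2` is metacyclic. -/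
theorem isMetacyclic_of_card_omegaOne_le (hp5 : 5 ≤ p) (hR : IsPGroup p R)
    (hO : Nat.card (Cfsg.omegaOne p (⊤ : Subgroup R)) ≤ p ^ 2) : Cfsg.IsMetacyclic R :=
  isMetacyclic_aux hp5 (Nat.card R) R le_rfl hR hO

end Cfsg.Agent.Lib.H16.MetaCrit
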