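import Mathlib
import Cfsg.Prelude
import Cfsg.Agent.Lib.H16.ChiefRankD

/-! Chief factors inside a normal `p`-subgroup of rank at most two (helper16): the case in which
`Q` contains no normal elementary abelian subgroup of `G` of order `p ^ 2`, conclusion. -/

set_option autoImplicit false

namespace Cfsg.Agent.Lib.H16.ChiefRank

open scoped commutatorElement

universe u

variable {G : Type u} [Group G]

/-- The elements of order dividing `p` of a subgroup in which they are closed under products. -/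
def omegaSub (p : ℕ) (D : Subgroup G)
    (h : ∀ d ∈ D, ∀ d' ∈ D, d ^ p = 1 → d' ^ p = 1 → (d * d') ^ p = 1) : Subgroup G where
  carrier := {d | d ∈ D ∧ d ^ p = 1}
  one_mem' := ⟨D.one_mem, one_pow _⟩
  mul_mem' := by
    rintro d d' ⟨hd, hdp⟩ ⟨hd', hdp'⟩
    exact ⟨D.mul_mem hd hd', h d hd d' hd' hdp hdp'⟩
  inv_mem' := by
    rintro d ⟨hd, hdp⟩
    exact ⟨D.inv_mem hd, by rw [inv_pow, hdp, inv_one]⟩

theorem mem_omegaSub {p : ℕ} {D : Subgroup G}
    {h : ∀ d ∈ D, ∀ d' ∈ D, d ^ p = 1 → d' ^ p = 1 → (d * d') ^ p = 1} {x : G} :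
    x ∈ omegaSub p D h ↔ x ∈ D ∧ x ^ p = 1 := Iff.rfl

theorem omegaSub_normal {p : ℕ} {D : Subgroup G} [hD : D.Normal]
    (h : ∀ d ∈ D, ∀ d' ∈ D, d ^ p = 1 → d' ^ p = 1 → (d * d') ^ p = 1) :
    (omegaSub p D h).Normal := by
  constructor
  rintro d ⟨hd, hdp⟩ g
  exact ⟨hD.conj_mem d hd g, by rw [conj_pow, hdp, mul_one, mul_inv_cancel]⟩

variable [Finite G] {p : ℕ} [hp : Fact p.Prime]

/-- The extraspecial case: a normal subgroup `E ≤ Q` of exponent `p`, not commutative, with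
`[Q, E]` inside a cyclic normal subgroup `A` central in `Q`, has a centralizer in `Q` of index
dividing `p ^ 2`. -/
theorem relIndex_centralizer_dvd_sq {Q A E : Subgroup G} [hQn : Q.Normal]
    [hAn : A.Normal] [hEn : E.Normal] (hQ : IsPGroup p Q) (hrk : RankTwo p Q)
    (hAcyc : IsCyclic ↥A) (hAcent : ∀ a ∈ A, ∀ x ∈ Q, a * x = x * a) (hEQ : E ≤ Q)
    (hEA : ∀ x ∈ Q, ∀ e ∈ E, ⁅x, e⁆ ∈ A) (hEexp : ∀ e ∈ E, e ^ p = 1)
    (hEnc : ¬ ∀ x y : ↥E, x * y = y * x) :
    (Q ⊓ Subgroup.centralizer (E : Set G)).relIndex Q ∣ p ^ 2 := by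
  have hexp : ∀ w : ↥E, w ^ p = 1 := by
    intro w
    apply Subtype.ext
    rw [Subgroup.coe_pow, Subgroup.coe_one]
    exact hEexp w w.2
  have hcl : ∀ x y z : ↥E, Commute ⁅x, y⁆ z := by
    intro x y z
    have h1 : ((⁅x, y⁆ : ↥E) : G) ∈ A := by
      have : ((⁅x, y⁆ : ↥E) : G) = ⁅(x : G), (y : G)⁆ := by
        simp [commutatorElement_def]
      rw [this]
      exact hEA _ (hEQ x.2) _ y.2
    exact Subtype.ext (hAcent _ h1 z (hEQ z.2))
  have hr : Cfsg.PRankLE p 2 ↥E := by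
    intro F hFc hFe
    have h1 := hrk (F.map E.subtype) ((Subgroup.map_subtype_le F).trans hEQ) ?_ ?_
    · rwa [Subgroup.card_map_of_injective E.subtype_injective] at h1
    · rintro _ ⟨a, ha, rfl⟩ _ ⟨b, hb, rfl⟩
      have := hFc.is_comm.comm ⟨a, ha⟩ ⟨b, hb⟩
      have h2 := congrArg Subtype.val this
      have h3 := congrArg Subtype.val h2
      simpa using h3
    · rintro _ ⟨a, ha, rfl⟩
      have := hFe a ha
      have h2 := congrArg Subtype.val this
      simpa using h2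
  obtain ⟨hquot, hcomm⟩ := RankTwo.card_of_not_comm hexp hcl hr hEnc
  have hEp : IsPGroup p ↥E := hQ.to_le hEQ
  push Not at hEnc
  obtain ⟨e₁, e₂, hne⟩ := hEnc
  -- the subgroup `U = E ⊓ A`
  set U : Subgroup G := E ⊓ A with hU
  have hUcyc : IsCyclic ↥U := Subgroup.isCyclic_of_le (inf_le_right : E ⊓ A ≤ A)
  have hUle : Nat.card U ≤ p := by
    apply NormalSq.card_le_of_isCyclic_of_pow p hp.out.pos
    intro x
    apply Subtype.ext
    rw [Subgroup.coe_pow, Subgroup.coe_one]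
    exact hEexp x (Subgroup.mem_inf.mp x.2).1
  have hUdvd : Nat.card U ∣ p := by
    obtain ⟨i, hi⟩ := IsPGroup.iff_card.mp (hEp.to_le (inf_le_left : E ⊓ A ≤ E))
    rw [hi] at hUle ⊢
    have hi1 : i ≤ 1 := by
      by_contra h
      have h2 : 2 ≤ i := by omega
      have h3 : p ^ 2 ≤ p ^ i := Nat.pow_le_pow_right hp.out.pos h2
      have := hp.out.one_lt
      nlinarith
    calc p ^ i ∣ p ^ 1 := pow_dvd_pow p hi1
      _ = p := pow_one p
  -- the centre of `E` lies in `U`, so has order `p`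
  have hcenter : ∀ z : ↥E, z ∈ Subgroup.center ↥E → (z : G) ∈ U := by
    intro z hz
    obtain ⟨w, x, rfl⟩ := hcomm z hz
    refine Subgroup.mem_inf.mpr ⟨(⁅w, x⁆ : ↥E).2, ?_⟩
    have : ((⁅w, x⁆ : ↥E) : G) = ⁅(w : G), (x : G)⁆ := by
      simp [commutatorElement_def]
    rw [this]
    exact hEA _ (hEQ w.2) _ x.2
  have hZle : Nat.card (Subgroup.center ↥E) ≤ p := by
    refine le_trans ?_ hUle
    apply Nat.card_le_card_of_injective
      (fun z : Subgroup.center ↥E => (⟨((z : ↥E) : G), hcenter z z.2⟩ : ↥U))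
    intro x y hxy
    have := congrArg Subtype.val hxy
    exact Subtype.ext (Subtype.ext this)
  haveI : Nontrivial ↥E := ⟨⟨e₁ * e₂, e₂ * e₁, hne⟩⟩
  have hZcard : Nat.card (Subgroup.center ↥E) = p := by
    have hZnt : Nontrivial (Subgroup.center ↥E) := hEp.center_nontrivial
    obtain ⟨j, hj0, hj⟩ := (IsPGroup.nontrivial_iff_card (hEp.to_subgroup _)).mp hZnt
    rw [hj] at hZle ⊢
    have : p ^ 1 ≤ p ^ j := Nat.pow_le_pow_right hp.out.pos hj0
    rw [pow_one] at this
    omega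
  have hEcard : Nat.card E = p ^ 3 := by
    rw [Subgroup.card_eq_card_quotient_mul_card_subgroup (Subgroup.center ↥E), hquot, hZcard]
    ring
  -- `E` is generated by `e₁` and `e₂`
  set S : Subgroup G := Subgroup.closure {(e₁ : G), (e₂ : G)} with hS
  have hSE : S ≤ E := by
    rw [hS, Subgroup.closure_le]
    rintro x (rfl | rfl)
    · exact e₁.2
    · exact e₂.2
  have h1S : (e₁ : G) ∈ S := Subgroup.subset_closure (Or.inl rfl)
  have h2S : (e₂ : G) ∈ S := Subgroup.subset_closure (Or.inr rfl)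
  have hSeq : S = E := by
    apply Subgroup.eq_of_le_of_card_ge hSE
    have hd : Nat.card S ∣ p ^ 3 := hEcard ▸ Subgroup.card_dvd_of_le hSE
    obtain ⟨i, hi, hSi⟩ := (Nat.dvd_prime_pow hp.out).mp hd
    rw [hEcard, hSi]
    have hi3 : i = 3 := by
      by_contra h
      have hi2 : i ≤ 2 := by omega
      have hdvd : Nat.card S ∣ p ^ 2 := by rw [hSi]; exact pow_dvd_pow p hi2
      have := comm_of_card_dvd_sq hdvd ⟨(e₁ : G), h1S⟩ ⟨(e₂ : G), h2S⟩
      have h3 := congrArg Subtype.val this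
      apply hne
      apply Subtype.ext
      simpa using h3
    rw [hi3]
  -- the two centralizers
  have hUcent : ∀ d ∈ U, ∀ k ∈ Q, Commute d k :=
    fun d hd k hk => hAcent d (Subgroup.mem_inf.mp hd).2 k hk
  have hmem : ∀ e ∈ E, ∀ k ∈ Q, ⁅k, e⁆ ∈ U := by
    intro e he k hk
    refine Subgroup.mem_inf.mpr ⟨?_, hEA k hk e he⟩
    rw [commutatorElement_def]
    exact E.mul_mem (hEn.conj_mem e he k) (E.inv_mem he)
  have hidx1 : (Subgroup.centralizer ({(e₁ : G)} : Set G)).relIndex Q ∣ p :=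
    (relIndex_centralizer_dvd_card Q U (e₁ : G) (hmem _ e₁.2)
      (fun d hd => hUcent d hd _ (hEQ e₁.2)) hUcent).trans hUdvd
  have hidx2 : (Subgroup.centralizer ({(e₂ : G)} : Set G)).relIndex
      (Subgroup.centralizer ({(e₁ : G)} : Set G) ⊓ Q) ∣ p :=
    (relIndex_centralizer_dvd_card (Subgroup.centralizer ({(e₁ : G)} : Set G) ⊓ Q) U (e₂ : G)
      (fun k hk => hmem _ e₂.2 k (Subgroup.mem_inf.mp hk).2)
      (fun d hd => hUcent d hd _ (hEQ e₂.2))
      (fun d hd k hk => hUcent d hd k (Subgroup.mem_inf.mp hk).2)).trans hUdvd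
  have hidx : (Subgroup.centralizer ({(e₂ : G)} : Set G) ⊓
      Subgroup.centralizer ({(e₁ : G)} : Set G)).relIndex Q ∣ p ^ 2 := by
    rw [← Subgroup.relIndex_inf_mul_relIndex, sq]
    exact mul_dvd_mul hidx2 hidx1
  have hle : Subgroup.centralizer ({(e₂ : G)} : Set G) ⊓
      Subgroup.centralizer ({(e₁ : G)} : Set G) ⊓ Q ≤ Q ⊓ Subgroup.centralizer (E : Set G) := by
    intro x hx
    obtain ⟨hx12, hxQ⟩ := Subgroup.mem_inf.mp hx
    obtain ⟨hx2, hx1⟩ := Subgroup.mem_inf.mp hx12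
    refine Subgroup.mem_inf.mpr ⟨hxQ, ?_⟩
    have hSx : S ≤ Subgroup.centralizer ({x} : Set G) := by
      rw [hS, Subgroup.closure_le]
      rintro y (rfl | rfl)
      · rw [SetLike.mem_coe, Subgroup.mem_centralizer_singleton_iff]
        rw [Subgroup.mem_centralizer_singleton_iff] at hx1
        exact hx1.symm
      · rw [SetLike.mem_coe, Subgroup.mem_centralizer_singleton_iff]
        rw [Subgroup.mem_centralizer_singleton_iff] at hx2
        exact hx2.symm
    rw [Subgroup.mem_centralizer_iff]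
    intro e he
    have h3 := hSx (hSeq ▸ he)
    rw [Subgroup.mem_centralizer_singleton_iff] at h3
    exact h3
  have h4 := Subgroup.relIndex_dvd_of_le_left Q hle
  rw [Subgroup.inf_relIndex_right] at h4
  exact h4.trans hidx

end Cfsg.Agent.Lib.H16.ChiefRank
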