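import Mathlib
import Cfsg.Prelude
import Cfsg.Agent.Lib.H16.OmegaQuotB
import Cfsg.Agent.Lib.H16.CommHom
import Cfsg.Agent.Lib.H16.ChiefRankA
import Cfsg.Agent.Lib.H8.PGroup

/-! `p`-groups of rank at most two, `p ≥ 5`: elements of order dividing `p` (helper16), part A.

* `central_of_normal_card_prime`: a normal subgroup of order `p` of a `p`-group is central.
* `card_sup_zpowers_of_not_mem`: `|U ⟨y⟩| = |U| p` for `U` normal, `y` of order `p` outside `U`.
* `card_dvd_cube_of_exp`: a group of exponent `p` and rank at most two has order dividing `p ^ 3`. -/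

set_option autoImplicit false

namespace Cfsg.Agent.Lib.H16.RkOmega

open scoped commutatorElement
open Cfsg.Agent.Lib

variable {P : Type*} [Group P] [Finite P] {p : ℕ} [hp : Fact p.Prime]

/-- A normal subgroup of order `p` of a `p`-group is central. -/
theorem central_of_normal_card_prime (hP : IsPGroup p P) (N : Subgroup P) [N.Normal]
    (hN : Nat.card N = p) : N ≤ Subgroup.center P := by
  have hne : N ≠ ⊥ := by
    intro h
    rw [h, Subgroup.card_bot] at hN
    exact hp.out.one_lt.ne hN
  obtain ⟨z, hzN, hzc, hzo⟩ := OmegaQuot.exists_central_prime_order hP N hne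
  have h1 : Subgroup.zpowers z = N := by
    apply Subgroup.eq_of_le_of_card_ge
    · rw [Subgroup.zpowers_le]; exact hzN
    · rw [Nat.card_zpowers, hzo, hN]
  rw [← h1, Subgroup.zpowers_le]
  exact hzc

omit hp in
/-- `⟨y⟩` meets `U` trivially when `y` has prime order and lies outside `U`. -/
theorem inf_zpowers_eq_bot (hpp : p.Prime) (U : Subgroup P) {y : P} (hyo : orderOf y = p)
    (hyU : y ∉ U) : U ⊓ Subgroup.zpowers y = ⊥ := by
  haveI : Fact p.Prime := ⟨hpp⟩
  have hyp : y ^ p = 1 := by rw [← hyo]; exact pow_orderOf_eq_one y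
  rw [eq_bot_iff]
  intro x hx
  obtain ⟨hxU, hxy⟩ := Subgroup.mem_inf.mp hx
  rw [Subgroup.mem_bot]
  by_contra hx1
  have hxo : orderOf x = p := by
    obtain ⟨k, rfl⟩ := Subgroup.mem_zpowers_iff.mp hxy
    apply orderOf_eq_prime
    · rw [← zpow_natCast, ← zpow_mul, mul_comm, zpow_mul, zpow_natCast, hyp, one_zpow]
    · exact hx1
  have hzx : Subgroup.zpowers x = Subgroup.zpowers y := by
    apply Subgroup.eq_of_le_of_card_ge
    · rw [Subgroup.zpowers_le]; exact hxy
    · rw [Nat.card_zpowers, Nat.card_zpowers, hxo, hyo]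
  apply hyU
  have : y ∈ Subgroup.zpowers x := by rw [hzx]; exact Subgroup.mem_zpowers y
  exact (Subgroup.zpowers_le.mpr hxU) this

omit hp in
/-- `|U ⟨y⟩| = |U| p` for `U` normal and `y` of prime order `p` outside `U`. -/
theorem card_sup_zpowers_of_not_mem (hpp : p.Prime) (U : Subgroup P) [U.Normal] {y : P}
    (hyo : orderOf y = p) (hyU : y ∉ U) :
    Nat.card (U ⊔ Subgroup.zpowers y : Subgroup P) = Nat.card U * p := by
  have hinf := inf_zpowers_eq_bot hpp U hyo hyU
  have h1 : U.relIndex (U ⊔ Subgroup.zpowers y) = p := by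
    rw [Subgroup.relIndex_sup_left, ← Subgroup.inf_relIndex_right, hinf,
      Subgroup.relIndex_bot_left, Nat.card_zpowers, hyo]
  have h2 := Subgroup.relIndex_mul_relIndex ⊥ U (U ⊔ Subgroup.zpowers y) bot_le le_sup_left
  rw [Subgroup.relIndex_bot_left, Subgroup.relIndex_bot_left, h1] at h2
  exact h2.symm

/-- A finite group of exponent `p` in which every abelian subgroup has order at most `p ^ 2` has
order dividing `p ^ 3`. -/
theorem card_dvd_cube_of_exp (hexp : ∀ x : P, x ^ p = 1) (hr : Cfsg.PRankLE p 2 P) :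
    Nat.card P ∣ p ^ 3 := by
  have hP : IsPGroup p P := fun g => ⟨1, by rw [pow_one]; exact hexp g⟩
  have hbotc : IsMulCommutative (⊥ : Subgroup P) := ⟨⟨fun a b => Subsingleton.elim _ _⟩⟩
  obtain ⟨A, -, hAn, hAc, hCA⟩ := H8.exists_normal_selfCentralizing hP ⊥
  have := hAn
  have hAcomm : ∀ x ∈ A, ∀ y ∈ A, x * y = y * x := fun x hx y hy =>
    congrArg Subtype.val (hAc.is_comm.comm (⟨x, hx⟩ : A) ⟨y, hy⟩)
  have hAle : Nat.card A ≤ p ^ 2 := hr A hAc (fun a _ => hexp a)
  obtain ⟨j, hj⟩ := IsPGroup.iff_card.mp (hP.to_subgroup A)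
  have hj2 : j ≤ 2 := by
    rw [hj] at hAle
    exact (Nat.pow_le_pow_iff_right hp.out.one_lt).mp hAle
  -- if `A` is central then `A = P`
  have hcentral : A ≤ Subgroup.center P → Nat.card P = Nat.card A := by
    intro hc
    have : Subgroup.centralizer (A : Set P) = ⊤ := by
      rw [eq_top_iff]
      intro g _
      rw [Subgroup.mem_centralizer_iff]
      intro a ha
      exact Subgroup.mem_center_iff.mp (hc ha) g |>.symm
    rw [this] at hCA
    rw [← hCA, Subgroup.card_top]
  interval_cases j
  · rw [pow_zero] at hj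
    have hAbot : A = ⊥ := Subgroup.card_eq_one.mp hj
    rw [hcentral (by rw [hAbot]; exact bot_le), hj]
    exact one_dvd _
  · rw [pow_one] at hj
    rw [hcentral (central_of_normal_card_prime hP A hj), hj]
    exact dvd_pow_self p (by norm_num)
  · -- `|A| = p ^ 2`
    have hAne : A ≠ ⊥ := by
      intro h
      rw [h, Subgroup.card_bot] at hj
      have := hp.out.one_lt
      nlinarith
    obtain ⟨z, hzA, hzc, hzo⟩ := OmegaQuot.exists_central_prime_order hP A hAne
    set Z : Subgroup P := Subgroup.zpowers z with hZ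
    have hZc : Z ≤ Subgroup.center P := by rw [hZ, Subgroup.zpowers_le]; exact hzc
    have hZn : Z.Normal := by
      constructor
      intro x hx g
      have hxc := hZc hx
      have : g * x * g⁻¹ = x := by
        rw [(Subgroup.mem_center_iff.mp hxc) g, mul_inv_cancel_right]
      rw [this]; exact hx
    have hZcard : Nat.card Z = p := by rw [hZ, Nat.card_zpowers, hzo]
    have hZA : Z ≤ A := by rw [hZ, Subgroup.zpowers_le]; exact hzA
    have hAZ : ¬ A ≤ Z := by
      intro h
      have := Subgroup.card_le_of_le h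
      rw [hj, hZcard] at this
      have := hp.out.one_lt
      nlinarith
    have hPtop : IsPGroup p (⊤ : Subgroup P) := hP.to_subgroup ⊤
    obtain ⟨b, hbA, hbZ, hbc⟩ := ChiefRank.exists_not_mem_comm_mem (Q := ⊤) (M := Z) (L := A)
      hPtop le_top (fun g _ => by
        rw [Subgroup.mem_normalizer_iff]
        intro h
        constructor
        · intro hh; exact hAn.conj_mem h hh g
        · intro hh
          have := hAn.conj_mem _ hh g⁻¹
          simpa [mul_assoc] using this) hAZ
    have hb1 : b ≠ 1 := fun h => hbZ (h ▸ Z.one_mem)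
    have hbo : orderOf b = p := orderOf_eq_prime (hexp b) hb1
    -- `A = Z ⟨b⟩`
    have hAeq : Z ⊔ Subgroup.zpowers b = A := by
      apply Subgroup.eq_of_le_of_card_ge
      · exact sup_le hZA (by rw [Subgroup.zpowers_le]; exact hbA)
      · rw [card_sup_zpowers_of_not_mem hp.out Z hbo hbZ, hZcard, hj]
        exact (sq p).le
    -- the centralizer of `b` is `A`
    have hCb : Subgroup.centralizer ({b} : Set P) = A := by
      apply le_antisymm
      · intro g hg
        rw [← hCA, Subgroup.mem_centralizer_iff]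
        intro a ha
        rw [← hAeq, Subgroup.normal_mul Z (Subgroup.zpowers b), Set.mem_mul] at ha
        obtain ⟨z', hz', b', hb', rfl⟩ := ha
        obtain ⟨k, rfl⟩ := Subgroup.mem_zpowers_iff.mp hb'
        have h1 : Commute z' g := (Subgroup.mem_center_iff.mp (hZc hz') g).symm
        have h2 : Commute b g := (Subgroup.mem_centralizer_singleton_iff.mp hg).symm
        exact (h1.mul_left (h2.zpow_left k)).eq
      · intro a ha
        rw [Subgroup.mem_centralizer_singleton_iff]
        exact hAcomm a ha b hbA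
    have hdvd := relIndex_centralizer_dvd_card (⊤ : Subgroup P) Z b
      (fun k _ => hbc k (Subgroup.mem_top k))
      (fun d hd => (Subgroup.mem_center_iff.mp (hZc hd) b).symm)
      (fun d hd k _ => (Subgroup.mem_center_iff.mp (hZc hd) k).symm)
    rw [hCb, Subgroup.relIndex_top_right, hZcard] at hdvd
    have h3 := Subgroup.card_mul_index A
    rw [hj] at h3
    rw [← h3, pow_succ]
    exact Nat.mul_dvd_mul_left _ hdvd

end Cfsg.Agent.Lib.H16.RkOmega
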