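import Mathlib
import Cfsg.Prelude
import Cfsg.Agent.Lib.H16.RkOmegaA

/-! `p`-groups of rank at most two, `p ≥ 5`: elements of order dividing `p` (helper16), part B.

* `commute_commutator_of_card_dvd_cube`: groups of order dividing `p ^ 3` have class at most two.
* `mul_pow_of_card_dvd`: in a group of order dividing `p ^ 4` (`p ≥ 5`), `(a b) ^ p = a ^ p` when
  `b ^ p = 1`. -/

set_option autoImplicit false

namespace Cfsg.Agent.Lib.H16.RkOmega

open scoped commutatorElement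
open Cfsg.Agent.Lib

variable {X : Type*} [Group X] [Finite X] {p : ℕ} [hp : Fact p.Prime]

theorem commute_commutator_of_card_dvd_cube (h : Nat.card X ∣ p ^ 3) (x y z : X) :
    Commute ⁅x, y⁆ z := by
  obtain ⟨i, hi, hXi⟩ := (Nat.dvd_prime_pow hp.out).mp h
  by_cases h3 : i = 3
  · rw [h3] at hXi
    exact OmegaQuot.commute_commutator_of_card_cube hXi x y z
  · have hd : Nat.card X ∣ p ^ 2 := by
      rw [hXi]; exact pow_dvd_pow p (by omega)
    have hc := ChiefRank.comm_of_card_dvd_sq hd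
    have : ⁅x, y⁆ = 1 := by
      rw [commutatorElement_def, hc x y]; group
    rw [this]
    exact Commute.one_left z

/-- In a group of order dividing `p ^ 4`, double commutators lie in a central subgroup of
exponent `p`. -/
theorem exists_central_of_card_dvd_four (h : Nat.card X ∣ p ^ 4) :
    ∃ T₀ : Subgroup X, T₀ ≤ Subgroup.center X ∧ (∀ t ∈ T₀, t ^ p = 1) ∧
      ∀ a b g : X, (g * ((a * b)⁻¹ * (b * a)))⁻¹ * (((a * b)⁻¹ * (b * a)) * g) ∈ T₀ := by
  obtain ⟨i, hi, hXi⟩ := (Nat.dvd_prime_pow hp.out).mp h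
  by_cases h4 : i = 4
  · rw [h4] at hXi
    have hX : IsPGroup p X := IsPGroup.of_card hXi
    have hnt : (⊤ : Subgroup X) ≠ ⊥ := by
      intro hb
      have : Nat.card (⊤ : Subgroup X) = 1 := by rw [hb, Subgroup.card_bot]
      rw [Subgroup.card_top, hXi] at this
      have := hp.out.one_lt
      have : 1 < p ^ 4 := Nat.one_lt_pow (by norm_num) this
      omega
    obtain ⟨z, -, hzc, hzo⟩ := OmegaQuot.exists_central_prime_order hX ⊤ hnt
    set T₀ : Subgroup X := Subgroup.zpowers z with hT₀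
    have hT₀c : T₀ ≤ Subgroup.center X := by rw [hT₀, Subgroup.zpowers_le]; exact hzc
    haveI hT₀n : T₀.Normal := by
      constructor
      intro x hx g
      have hxc := hT₀c hx
      have : g * x * g⁻¹ = x := by
        rw [(Subgroup.mem_center_iff.mp hxc) g, mul_inv_cancel_right]
      rw [this]; exact hx
    have hT₀card : Nat.card T₀ = p := by rw [hT₀, Nat.card_zpowers, hzo]
    have hT₀e : ∀ t ∈ T₀, t ^ p = 1 := by
      intro t ht
      have h1 : (⟨t, ht⟩ : T₀) ^ Nat.card T₀ = 1 := pow_card_eq_one'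
      rw [hT₀card] at h1
      have := congrArg Subtype.val h1
      simpa using this
    have hQcard : Nat.card (X ⧸ T₀) = p ^ 3 := by
      have h1 := Subgroup.card_eq_card_quotient_mul_card_subgroup T₀
      rw [hXi, hT₀card] at h1
      have hpos := hp.out.pos
      have : p ^ 3 * p = Nat.card (X ⧸ T₀) * p := by rw [← h1]; ring
      exact (Nat.eq_of_mul_eq_mul_right hpos this).symm
    refine ⟨T₀, hT₀c, hT₀e, ?_⟩
    intro a b g
    rw [← QuotientGroup.eq_one_iff]
    have h1 := OmegaQuot.commute_commutator_of_card_cube hQcard ((b⁻¹ : X) : X ⧸ T₀)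
      ((a⁻¹ : X) : X ⧸ T₀) ((g : X) : X ⧸ T₀)
    have h3 : (((a * b)⁻¹ * (b * a) : X) : X ⧸ T₀) =
        ⁅((b⁻¹ : X) : X ⧸ T₀), ((a⁻¹ : X) : X ⧸ T₀)⁆ := by
      rw [commutatorElement_def]
      simp only [QuotientGroup.mk_mul, QuotientGroup.mk_inv]
      group
    have h5 : (((g * ((a * b)⁻¹ * (b * a)))⁻¹ * (((a * b)⁻¹ * (b * a)) * g) : X) : X ⧸ T₀) =
        ((g : X ⧸ T₀) * (((a * b)⁻¹ * (b * a) : X) : X ⧸ T₀))⁻¹ *
          ((((a * b)⁻¹ * (b * a) : X) : X ⧸ T₀) * (g : X ⧸ T₀)) := rfl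
    rw [h5, h3, h1.eq]
    group
  · have hd : Nat.card X ∣ p ^ 3 := by
      rw [hXi]; exact pow_dvd_pow p (by omega)
    refine ⟨⊥, bot_le, fun t ht => by rw [Subgroup.mem_bot.mp ht, one_pow], ?_⟩
    intro a b g
    rw [Subgroup.mem_bot]
    have h1 := commute_commutator_of_card_dvd_cube hd b⁻¹ a⁻¹ g
    have h3 : (a * b)⁻¹ * (b * a) = ⁅b⁻¹, a⁻¹⁆ := by
      rw [commutatorElement_def]; group
    rw [h3, h1.eq]
    group

/-- In a group of order dividing `p ^ 4`, `p ≥ 5`: `(a b) ^ p = a ^ p` when `b ^ p = 1`. -/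
theorem mul_pow_of_card_dvd (hp5 : 5 ≤ p) (h : Nat.card X ∣ p ^ 4) (a b : X) (hb : b ^ p = 1) :
    (a * b) ^ p = a ^ p := by
  obtain ⟨T₀, hT₀c, hT₀e, hT₀⟩ := exists_central_of_card_dvd_four h
  have hcomm : ∀ t ∈ T₀, ∀ x : X, Commute t x := fun t ht x =>
    ((Subgroup.mem_center_iff.mp (hT₀c ht)) x).symm
  have := OmegaQuot.mul_pow_of_central T₀ hcomm hp.out hp5 hT₀e a b (hb ▸ T₀.one_mem)
    (hT₀ a b a) (hT₀ a b b)
  rw [this, hb, mul_one]

end Cfsg.Agent.Lib.H16.RkOmega
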