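import Mathlib
import Cfsg.Prelude
import Cfsg.Agent.Lib.H16.RkOmegaB
import Cfsg.Agent.Lib.H16.RankTwoC
import Cfsg.Agent.Lib.H16.ChiefRankE
import Cfsg.Agent.Lib.H22.CyclicIndexP

/-! `p`-groups of rank at most two, `p ≥ 5`: elements of order dividing `p` (helper16), part C.

* `mul_pow_eq_one_of_rank`: in a `p`-group of rank at most two (`p ≥ 5`), the product of two elements
  of order dividing `p` has order dividing `p`.
* `omegaTop`: the (characteristic) subgroup of elements of order dividing `p`; it has order dividing
  `p ^ 3` and equals `Cfsg.omegaOne p ⊤`. -/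

set_option autoImplicit false

namespace Cfsg.Agent.Lib.H16.RkOmega

open scoped commutatorElement
open Cfsg.Agent.Lib

theorem mul_pow_eq_one_aux.{u} {p : ℕ} [hp : Fact p.Prime] (hp5 : 5 ≤ p) (n : ℕ) :
    ∀ (P : Type u) [Group P] [Finite P], Nat.card P ≤ n → IsPGroup p P → Cfsg.PRankLE p 2 P →
      ∀ x y : P, x ^ p = 1 → y ^ p = 1 → (x * y) ^ p = 1 := by
  induction n with
  | zero =>
    intro P _ _ hn
    have : 0 < Nat.card P := Nat.card_pos
    omega
  | succ n ih =>
    intro P _ _ hn hP hr x y hx hy
    set H : Subgroup P := Subgroup.closure {x, y} with hH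
    have hxH : x ∈ H := Subgroup.subset_closure (by simp)
    have hyH : y ∈ H := Subgroup.subset_closure (by simp)
    by_cases hHtop : H = ⊤
    · by_cases hc : Commute x y
      · rw [hc.mul_pow, hx, hy, one_mul]
      · have hx1 : x ≠ 1 := by
          intro h; apply hc; rw [h]; exact Commute.one_left y
        have hxo : orderOf x = p := orderOf_eq_prime hx hx1
        obtain ⟨N, hN⟩ := IsPGroup.iff_card.mp hP
        have hcx : Nat.card (Subgroup.zpowers x) = p ^ 1 := by
          rw [Nat.card_zpowers, hxo, pow_one]
        -- `⟨x⟩` is proper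
        have hlt : Subgroup.zpowers x ≠ ⊤ := by
          intro h
          apply hc
          have hy' : y ∈ Subgroup.zpowers x := by rw [h]; exact Subgroup.mem_top y
          obtain ⟨k, rfl⟩ := Subgroup.mem_zpowers_iff.mp hy'
          exact (Commute.refl x).zpow_right k
        have hN2 : 2 ≤ N := by
          by_contra hN2
          push Not at hN2
          apply hlt
          apply Subgroup.eq_top_of_card_eq
          rw [hcx, hN]
          have hle : Nat.card (Subgroup.zpowers x) ≤ Nat.card P := Subgroup.card_le_card_group _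
          rw [hcx, hN] at hle
          have : 1 ≤ N := (Nat.pow_le_pow_iff_right hp.out.one_lt).mp hle
          have : N = 1 := by omega
          rw [this]
        obtain ⟨M, hMcard, hxM⟩ := Sylow.exists_subgroup_card_pow_prime_le p
          (show p ^ (N - 1) ∣ Nat.card P by rw [hN]; exact pow_dvd_pow p (by omega))
          (Subgroup.zpowers x) hcx (by omega)
        have hMidx : M.index = p := by
          have h1 := Subgroup.card_mul_index M
          rw [hMcard, hN] at h1
          have h2 : p ^ (N - 1) * p = p ^ N := by
            rw [← pow_succ]; congr 1; omega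
          rw [← h2] at h1
          exact Nat.eq_of_mul_eq_mul_left (pow_pos hp.out.pos _) h1
        haveI hMn : M.Normal := H22.normal_of_index_eq_prime hP M hMidx
        have hxM' : x ∈ M := hxM (Subgroup.mem_zpowers x)
        have hyM : y ∉ M := by
          intro hyM
          have : H ≤ M := by
            rw [hH, Subgroup.closure_le]
            intro g hg
            rcases hg with rfl | rfl
            · exact hxM'
            · exact hyM
          rw [hHtop, top_le_iff] at this
          rw [this, Subgroup.index_top] at hMidx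
          exact hp.out.one_lt.ne hMidx
        have hMlt : Nat.card M ≤ n := by
          have h1 := Subgroup.card_mul_index M
          rw [hMidx] at h1
          have hpos : 0 < Nat.card M := Nat.card_pos
          have := hp.out.two_le
          nlinarith
        have hMcl : ∀ d ∈ M, ∀ d' ∈ M, d ^ p = 1 → d' ^ p = 1 → (d * d') ^ p = 1 := by
          intro d hd d' hd' hdp hdp'
          have h1 := ih ↥M hMlt (hP.to_subgroup M) (RankTwo.pRankLE_subgroup hr M) ⟨d, hd⟩ ⟨d', hd'⟩
            (by apply Subtype.ext; simpa using hdp) (by apply Subtype.ext; simpa using hdp')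
          have := congrArg Subtype.val h1
          simpa using this
        set W : Subgroup P := ChiefRank.omegaSub p M hMcl with hW
        haveI hWn : W.Normal := ChiefRank.omegaSub_normal hMcl
        have hxW : x ∈ W := ⟨hxM', hx⟩
        have hyW : y ∉ W := fun h => hyM h.1
        have hWexp : ∀ w : ↥W, w ^ p = 1 := by
          intro w
          apply Subtype.ext
          rw [Subgroup.coe_pow, Subgroup.coe_one]
          exact w.2.2
        have hWcard : Nat.card W ∣ p ^ 3 :=
          card_dvd_cube_of_exp hWexp (RankTwo.pRankLE_subgroup hr W)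
        have hy1 : y ≠ 1 := fun h => hyW (h ▸ W.one_mem)
        have hyo : orderOf y = p := orderOf_eq_prime hy hy1
        have hsup : W ⊔ Subgroup.zpowers y = ⊤ := by
          rw [eq_top_iff, ← hHtop, hH, Subgroup.closure_le]
          intro g hg
          rcases hg with rfl | rfl
          · exact Subgroup.mem_sup_left hxW
          · exact Subgroup.mem_sup_right (Subgroup.mem_zpowers g)
        have hPcard : Nat.card P ∣ p ^ 4 := by
          have h1 := card_sup_zpowers_of_not_mem hp.out W hyo hyW
          rw [hsup, Subgroup.card_top] at h1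
          rw [h1, pow_succ]
          exact Nat.mul_dvd_mul_right hWcard p
        rw [mul_pow_of_card_dvd hp5 hPcard x y hy, hx]
    · have hlt : Nat.card H ≤ n := by
        have h1 : Nat.card H < Nat.card P := by
          have h2 := Subgroup.card_mul_index H
          have h3 : H.index ≠ 1 := fun h => hHtop (Subgroup.index_eq_one.mp h)
          have h4 : 0 < H.index := Nat.pos_of_ne_zero Subgroup.index_ne_zero_of_finite
          have hpos : 0 < Nat.card H := Nat.card_pos
          have : 2 ≤ H.index := by omega
          nlinarith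
        omega
      have h1 := ih ↥H hlt (hP.to_subgroup H) (RankTwo.pRankLE_subgroup hr H) ⟨x, hxH⟩ ⟨y, hyH⟩
        (by apply Subtype.ext; simpa using hx) (by apply Subtype.ext; simpa using hy)
      have := congrArg Subtype.val h1
      simpa using this

variable {P : Type*} [Group P] [Finite P] {p : ℕ} [hp : Fact p.Prime]

/-- In a `p`-group of rank at most two, `p ≥ 5`, the product of two elements of order dividing `p`
has order dividing `p`. -/
theorem mul_pow_eq_one_of_rank (hp5 : 5 ≤ p) (hP : IsPGroup p P) (hr : Cfsg.PRankLE p 2 P)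
    (x y : P) (hx : x ^ p = 1) (hy : y ^ p = 1) : (x * y) ^ p = 1 :=
  mul_pow_eq_one_aux hp5 (Nat.card P) P le_rfl hP hr x y hx hy

/-- The subgroup of elements of order dividing `p`. -/
def omegaTop (hp5 : 5 ≤ p) (hP : IsPGroup p P) (hr : Cfsg.PRankLE p 2 P) : Subgroup P where
  carrier := {x | x ^ p = 1}
  one_mem' := one_pow p
  mul_mem' := fun {x y} hx hy => mul_pow_eq_one_of_rank hp5 hP hr x y hx hy
  inv_mem' := fun {x} hx => by
    show x⁻¹ ^ p = 1
    rw [inv_pow, show x ^ p = 1 from hx, inv_one]

theorem mem_omegaTop {hp5 : 5 ≤ p} {hP : IsPGroup p P} {hr : Cfsg.PRankLE p 2 P} {x : P} :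
    x ∈ omegaTop hp5 hP hr ↔ x ^ p = 1 := Iff.rfl

instance omegaTop_characteristic (hp5 : 5 ≤ p) (hP : IsPGroup p P) (hr : Cfsg.PRankLE p 2 P) :
    (omegaTop hp5 hP hr).Characteristic := by
  rw [Subgroup.characteristic_iff_map_le]
  rintro φ _ ⟨x, hx, rfl⟩
  have hx' : x ^ p = 1 := hx
  show (φ x) ^ p = 1
  rw [← map_pow, hx', map_one]

theorem omegaOne_top_eq (hp5 : 5 ≤ p) (hP : IsPGroup p P) (hr : Cfsg.PRankLE p 2 P) :
    Cfsg.omegaOne p (⊤ : Subgroup P) = omegaTop hp5 hP hr := by
  unfold Cfsg.omegaOne
  apply le_antisymm
  · rw [Subgroup.closure_le]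
    intro x hx
    exact hx.2
  · intro x hx
    exact Subgroup.subset_closure ⟨Subgroup.mem_top x, hx⟩

theorem card_omegaTop_dvd (hp5 : 5 ≤ p) (hP : IsPGroup p P) (hr : Cfsg.PRankLE p 2 P) :
    Nat.card (omegaTop hp5 hP hr) ∣ p ^ 3 := by
  apply card_dvd_cube_of_exp _ (RankTwo.pRankLE_subgroup hr _)
  intro w
  apply Subtype.ext
  rw [Subgroup.coe_pow, Subgroup.coe_one]
  exact w.2

end Cfsg.Agent.Lib.H16.RkOmega
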