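import Mathlib
import Cfsg.Prelude
import Cfsg.Agent.Lib.H16.RkOmegaC
import Cfsg.Agent.Lib.H16.ChiefRankD

/-! Structure of `p`-groups of rank at most two whose elements of order dividing `p` form a
subgroup `T` of order `p ^ 3` (helper16), part A: the centre `Z` of `T`, the cyclic centralizer of
`T`, and the central-product conclusion when `P = T C_P(T)`. -/

set_option autoImplicit false

namespace Cfsg.Agent.Lib.H16.RkStruct

open scoped commutatorElement
open Cfsg.Agent.Lib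

variable {P : Type*} [Group P]

/-- The centre of `T`, as a subgroup of `P`. -/
abbrev zT (T : Subgroup P) : Subgroup P := T ⊓ Subgroup.centralizer (T : Set P)

theorem mem_zT {T : Subgroup P} {x : P} : x ∈ zT T ↔ x ∈ T ∧ ∀ t ∈ T, t * x = x * t := by
  rw [Subgroup.mem_inf, Subgroup.mem_centralizer_iff]
  rfl

variable [Finite P] {p : ℕ} [hp : Fact p.Prime]

section

variable (hp2 : p ≠ 2) (hP : IsPGroup p P) (hr : Cfsg.PRankLE p 2 P)
  (T : Subgroup P) [hTc : T.Characteristic] (hTmem : ∀ x, x ∈ T ↔ x ^ p = 1)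
  (hTcard : Nat.card T = p ^ 3)

include hr hTmem hTcard in
theorem exists_not_commute : ∃ u ∈ T, ∃ v ∈ T, u * v ≠ v * u := by
  by_contra hcon
  push Not at hcon
  have h1 : Nat.card T ≤ p ^ 2 :=
    hr T ⟨⟨fun a b => Subtype.ext (hcon a a.2 b b.2)⟩⟩ (fun a ha => (hTmem a).mp ha)
  rw [hTcard] at h1
  have := (Nat.pow_le_pow_iff_right hp.out.one_lt).mp h1
  omega

include hTcard in
theorem comm_mem_zT {u v : P} (hu : u ∈ T) (hv : v ∈ T) : ⁅u, v⁆ ∈ zT T := by
  rw [mem_zT]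
  refine ⟨Subgroup.commutator_mem_commutator hu hv |> fun h =>
    (Subgroup.commutator_le_self T) h, ?_⟩
  intro t ht
  have h1 := OmegaQuot.commute_commutator_of_card_cube (X := ↥T) hTcard ⟨u, hu⟩ ⟨v, hv⟩ ⟨t, ht⟩
  have h2 := congrArg Subtype.val h1.eq
  simp only [Subgroup.coe_mul] at h2
  have h3 : ((⁅(⟨u, hu⟩ : T), ⟨v, hv⟩⁆ : T) : P) = ⁅u, v⁆ := by
    simp [commutatorElement_def]
  rw [h3] at h2
  exact h2.symm

include hP hr hTmem hTcard in
theorem card_zT : Nat.card (zT T) = p := by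
  obtain ⟨u, hu, v, hv, huv⟩ := exists_not_commute hr T hTmem hTcard
  have hcz := comm_mem_zT T hTcard hu hv
  have hc1 : ⁅u, v⁆ ≠ 1 := by
    intro h
    exact huv (commutatorElement_eq_one_iff_commute.mp h).eq
  have hZne : zT T ≠ ⊥ := by
    intro h
    rw [h, Subgroup.mem_bot] at hcz
    exact hc1 hcz
  have huZ : u ∉ zT T := by
    intro h
    exact huv ((mem_zT.mp h).2 v hv).symm
  have hu1 : u ≠ 1 := fun h => huZ (h ▸ (zT T).one_mem)
  have huo : orderOf u = p := orderOf_eq_prime ((hTmem u).mp hu) hu1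
  have hcard := RkOmega.card_sup_zpowers_of_not_mem hp.out (zT T) huo huZ
  have hle : zT T ⊔ Subgroup.zpowers u ≤ T :=
    sup_le inf_le_left (by rw [Subgroup.zpowers_le]; exact hu)
  have hcomm : ∀ a ∈ zT T ⊔ Subgroup.zpowers u, ∀ b ∈ zT T ⊔ Subgroup.zpowers u,
      a * b = b * a := by
    intro a ha b hb
    rw [← SetLike.mem_coe, Subgroup.normal_mul (zT T) (Subgroup.zpowers u), Set.mem_mul] at ha hb
    obtain ⟨z, hz, x, hx, rfl⟩ := ha
    obtain ⟨z', hz', x', hx', rfl⟩ := hb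
    obtain ⟨k, rfl⟩ := Subgroup.mem_zpowers_iff.mp hx
    obtain ⟨k', rfl⟩ := Subgroup.mem_zpowers_iff.mp hx'
    have hzc : ∀ t ∈ T, Commute z t := fun t ht => ((mem_zT.mp hz).2 t ht).symm
    have hzc' : ∀ t ∈ T, Commute z' t := fun t ht => ((mem_zT.mp hz').2 t ht).symm
    have huk : u ^ k ∈ T := T.zpow_mem hu k
    have huk' : u ^ k' ∈ T := T.zpow_mem hu k'
    have e1 : Commute z (z' * u ^ k') :=
      (hzc z' (mem_zT.mp hz').1).mul_right (hzc _ huk')
    have e2 : Commute (u ^ k) (z' * u ^ k') :=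
      ((hzc' _ huk).symm).mul_right ((Commute.refl u).zpow_zpow k k')
    exact (e1.mul_left e2).eq
  have h2 : Nat.card (zT T ⊔ Subgroup.zpowers u : Subgroup P) ≤ p ^ 2 :=
    hr _ ⟨⟨fun a b => Subtype.ext (hcomm a a.2 b b.2)⟩⟩ (fun a ha => (hTmem a).mp (hle ha))
  rw [hcard] at h2
  obtain ⟨i, hi⟩ := IsPGroup.iff_card.mp (hP.to_subgroup (zT T))
  have hi0 : i ≠ 0 := by
    intro h0
    rw [h0, pow_zero] at hi
    exact hZne (Subgroup.card_eq_one.mp hi)
  have hi1 : i ≤ 1 := by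
    rw [hi, ← pow_succ] at h2
    have := (Nat.pow_le_pow_iff_right hp.out.one_lt).mp h2
    omega
  have : i = 1 := by omega
  rw [hi, this, pow_one]

include hP hr hTmem hTcard in
theorem zT_le_center : zT T ≤ Subgroup.center P :=
  RkOmega.central_of_normal_card_prime hP (zT T) (card_zT hP hr T hTmem hTcard)

include hp2 hP hr hTmem hTcard in
/-- The centralizer of `T` is cyclic. -/
theorem isCyclic_centralizer : IsCyclic ↥(Subgroup.centralizer (T : Set P)) := by
  set C : Subgroup P := Subgroup.centralizer (T : Set P) with hC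
  apply ChiefRank.isCyclic_of_rankOne hp2 (hP.to_subgroup C)
  intro F _ hFe
  rw [pow_one]
  have hle : F.map C.subtype ≤ zT T := by
    rintro _ ⟨f, hf, rfl⟩
    refine Subgroup.mem_inf.mpr ⟨?_, f.2⟩
    rw [hTmem]
    have := hFe f hf
    have h3 := congrArg Subtype.val this
    simpa using h3
  calc Nat.card F = Nat.card (F.map C.subtype) :=
        (Subgroup.card_map_of_injective C.subtype_injective).symm
    _ ≤ Nat.card (zT T) := Subgroup.card_le_of_le hle
    _ = p := card_zT hP hr T hTmem hTcard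

include hP hr hTmem hTcard in
/-- `[T, T] = Z(T)`. -/
theorem commutator_eq_zT : ⁅T, T⁆ = zT T := by
  obtain ⟨u, hu, v, hv, huv⟩ := exists_not_commute hr T hTmem hTcard
  have hle : ⁅T, T⁆ ≤ zT T := by
    rw [Subgroup.commutator_le]
    intro a ha b hb
    exact comm_mem_zT T hTcard ha hb
  have hc1 : ⁅u, v⁆ ≠ 1 := by
    intro h
    exact huv (commutatorElement_eq_one_iff_commute.mp h).eq
  have hne : ⁅T, T⁆ ≠ ⊥ := by
    intro h
    have := Subgroup.commutator_mem_commutator hu hv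
    rw [h, Subgroup.mem_bot] at this
    exact hc1 this
  apply Subgroup.eq_of_le_of_card_ge hle
  rw [card_zT hP hr T hTmem hTcard]
  obtain ⟨i, hi⟩ := IsPGroup.iff_card.mp (hP.to_subgroup ⁅T, T⁆)
  rcases Nat.eq_zero_or_pos i with h0 | hpos
  · rw [h0, pow_zero] at hi
    exact absurd (Subgroup.card_eq_one.mp hi) hne
  · rw [hi]
    calc p = p ^ 1 := (pow_one p).symm
      _ ≤ p ^ i := Nat.pow_le_pow_right hp.out.pos hpos

include hp2 hP hr hTmem hTcard in
/-- The central-product conclusion when `P = T C_P(T)`. -/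
theorem struct_of_sup_eq_top (htop : T ⊔ Subgroup.centralizer (T : Set P) = ⊤) :
    ∃ P₁ P₂ : Subgroup P, P₁ ⊔ P₂ = ⊤ ∧ (∀ a ∈ P₁, ∀ b ∈ P₂, a * b = b * a) ∧
      (¬ ∀ a ∈ P₁, ∀ b ∈ P₁, a * b = b * a) ∧ Nat.card P₁ = p ^ 3 ∧ (∀ a ∈ P₁, a ^ p = 1) ∧
      IsCyclic ↥P₂ ∧ Subgroup.closure {x : P | x ∈ P₂ ∧ x ^ p = 1} = ⁅P₁, P₁⁆ := by
  refine ⟨T, Subgroup.centralizer (T : Set P), htop, ?_, ?_, hTcard, fun a ha => (hTmem a).mp ha,
    isCyclic_centralizer hp2 hP hr T hTmem hTcard, ?_⟩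
  · intro a ha b hb
    exact (Subgroup.mem_centralizer_iff.mp hb a ha)
  · intro h
    obtain ⟨u, hu, v, hv, huv⟩ := exists_not_commute hr T hTmem hTcard
    exact huv (h u hu v hv)
  · rw [commutator_eq_zT hP hr T hTmem hTcard]
    apply le_antisymm
    · rw [Subgroup.closure_le]
      intro x hx
      exact Subgroup.mem_inf.mpr ⟨(hTmem x).mpr hx.2, hx.1⟩
    · intro x hx
      apply Subgroup.subset_closure
      exact ⟨(Subgroup.mem_inf.mp hx).2, (hTmem x).mp (Subgroup.mem_inf.mp hx).1⟩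

end

end Cfsg.Agent.Lib.H16.RkStruct
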