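import Mathlib
import Cfsg.Prelude
import Cfsg.Agent.Lib.H16.RkStructA

/-! Structure of `p`-groups of rank at most two, part B (helper16): the subgroup `T₁` of `T` acting
trivially on `P` modulo `Z(T)`, and the case `T₁ = T`, which gives `P = T C_P(T)`. -/

set_option autoImplicit false

namespace Cfsg.Agent.Lib.H16.RkStruct

open scoped commutatorElement
open Cfsg.Agent.Lib

variable {P : Type*} [Group P]

/-- The elements of `T` commuting with `P` modulo `Z(T)`. -/
abbrev tOne (T : Subgroup P) [T.Characteristic] : Subgroup P :=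
  T ⊓ Subgroup.upperCentralSeriesStep (zT T)

theorem mem_tOne {T : Subgroup P} [T.Characteristic] {x : P} :
    x ∈ tOne T ↔ x ∈ T ∧ ∀ g : P, ⁅x, g⁆ ∈ zT T := by
  rw [Subgroup.mem_inf, Subgroup.mem_upperCentralSeriesStep]

theorem zT_le_tOne (T : Subgroup P) [T.Characteristic] : zT T ≤ tOne T := by
  intro z hz
  rw [mem_tOne]
  refine ⟨(mem_zT.mp hz).1, fun g => ?_⟩
  rw [commutatorElement_def]
  have h1 : z * g * z⁻¹ * g⁻¹ = z * (g * z⁻¹ * g⁻¹) := by group
  rw [h1]
  exact (zT T).mul_mem hz ((inferInstance : (zT T).Normal).conj_mem _ ((zT T).inv_mem hz) g)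

variable [Finite P] {p : ℕ} [hp : Fact p.Prime]

section

variable (hp2 : p ≠ 2) (hP : IsPGroup p P) (hr : Cfsg.PRankLE p 2 P)
  (T : Subgroup P) [hTc : T.Characteristic] (hTmem : ∀ x, x ∈ T ↔ x ^ p = 1)
  (hTcard : Nat.card T = p ^ 3)

include hP hr hTmem hTcard in
theorem exists_mem_tOne_not_mem_zT : ∃ t₁ ∈ tOne T, t₁ ∉ zT T := by
  have hTZ : ¬ T ≤ zT T := by
    intro h
    have := Subgroup.card_le_of_le h
    rw [card_zT hP hr T hTmem hTcard, hTcard] at this
    have h1 : p ^ 3 ≤ p ^ 1 := by rwa [pow_one]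
    have := (Nat.pow_le_pow_iff_right hp.out.one_lt).mp h1
    omega
  have hPtop : IsPGroup p (⊤ : Subgroup P) := hP.to_subgroup ⊤
  have hTn : T.Normal := inferInstance
  obtain ⟨l, hlT, hlZ, hlc⟩ := ChiefRank.exists_not_mem_comm_mem (Q := ⊤) (M := zT T) (L := T)
    hPtop le_top (fun g _ => by
      rw [Subgroup.mem_normalizer_iff]
      intro h
      constructor
      · intro hh; exact hTn.conj_mem h hh g
      · intro hh
        have := hTn.conj_mem _ hh g⁻¹
        simpa [mul_assoc] using this) hTZ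
  refine ⟨l, mem_tOne.mpr ⟨hlT, fun g => ?_⟩, hlZ⟩
  rw [← commutatorElement_inv]
  exact (zT T).inv_mem (hlc g (Subgroup.mem_top g))

include hP hr hTmem hTcard in
/-- If `T₁ ≠ T` then `|T₁| = p ^ 2`. -/
theorem card_tOne (hne : tOne T ≠ T) : Nat.card (tOne T) = p ^ 2 := by
  obtain ⟨t₁, ht₁, ht₁Z⟩ := exists_mem_tOne_not_mem_zT hP hr T hTmem hTcard
  have h1 : zT T < tOne T := lt_of_le_of_ne (zT_le_tOne T) (fun h => ht₁Z (h ▸ ht₁))
  have h2 : tOne T < T := lt_of_le_of_ne inf_le_left hne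
  have c1 := RankTwo.card_lt_of_lt h1
  have c2 := RankTwo.card_lt_of_lt h2
  rw [card_zT hP hr T hTmem hTcard] at c1
  rw [hTcard] at c2
  obtain ⟨i, hi⟩ := IsPGroup.iff_card.mp (hP.to_subgroup (tOne T))
  rw [hi] at c1 c2 ⊢
  have e1 : 1 < i := by
    have : p ^ 1 < p ^ i := by rwa [pow_one]
    exact (Nat.pow_lt_pow_iff_right hp.out.one_lt).mp this
  have e2 : i < 3 := (Nat.pow_lt_pow_iff_right hp.out.one_lt).mp c2
  have : i = 2 := by omega
  rw [this]

include hr hTmem hTcard in
/-- A subgroup of `T` containing two non-commuting elements is `T`. -/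
theorem eq_of_not_commute {L : Subgroup P} (hLT : L ≤ T) {u v : P} (hu : u ∈ L) (hv : v ∈ L)
    (huv : u * v ≠ v * u) : L = T := by
  apply Subgroup.eq_of_le_of_card_ge hLT
  have hd : Nat.card L ∣ p ^ 3 := hTcard ▸ Subgroup.card_dvd_of_le hLT
  obtain ⟨i, hi, hLi⟩ := (Nat.dvd_prime_pow hp.out).mp hd
  by_cases h3 : i = 3
  · rw [hTcard, hLi, h3]
  · exfalso
    have hd2 : Nat.card L ∣ p ^ 2 := by rw [hLi]; exact pow_dvd_pow p (by omega)
    have hc := ChiefRank.comm_of_card_dvd_sq hd2 ⟨u, hu⟩ ⟨v, hv⟩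
    exact huv (congrArg Subtype.val hc)

include hP hr hTmem hTcard in
/-- If all of `T` commutes with `P` modulo `Z(T)`, then `P = T C_P(T)`. -/
theorem sup_eq_top_of_tOne_eq (heq : tOne T = T) :
    T ⊔ Subgroup.centralizer (T : Set P) = ⊤ := by
  obtain ⟨u, hu, v, hv, huv⟩ := exists_not_commute hr T hTmem hTcard
  have hZcard := card_zT hP hr T hTmem hTcard
  have hZc := zT_le_center hP hr T hTmem hTcard
  have hcomm : ∀ t ∈ T, ∀ g : P, ⁅g, t⁆ ∈ zT T := by
    intro t ht g
    have : t ∈ tOne T := by rw [heq]; exact ht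
    rw [← commutatorElement_inv]
    exact (zT T).inv_mem ((mem_tOne.mp this).2 g)
  have hZx : ∀ d ∈ zT T, ∀ x : P, Commute d x := fun d hd x =>
    (Subgroup.mem_center_iff.mp (hZc hd) x).symm
  set Cu : Subgroup P := Subgroup.centralizer ({u} : Set P) with hCu
  set Cv : Subgroup P := Subgroup.centralizer ({v} : Set P) with hCv
  set C : Subgroup P := Subgroup.centralizer (T : Set P) with hC
  have h1 := relIndex_centralizer_dvd_card (⊤ : Subgroup P) (zT T) u
    (fun k _ => hcomm u hu k) (fun d hd => hZx d hd u) (fun d hd k _ => hZx d hd k)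
  rw [Subgroup.relIndex_top_right, hZcard] at h1
  have h2 := relIndex_centralizer_dvd_card Cu (zT T) v
    (fun k _ => hcomm v hv k) (fun d hd => hZx d hd v) (fun d hd k _ => hZx d hd k)
  rw [hZcard] at h2
  have hinf : Cu ⊓ Cv = C := by
    apply le_antisymm
    · intro g hg
      obtain ⟨hgu, hgv⟩ := Subgroup.mem_inf.mp hg
      rw [hC, Subgroup.mem_centralizer_iff]
      intro t ht
      have hL : T ⊓ Subgroup.centralizer ({g} : Set P) = T := by
        apply eq_of_not_commute hr T hTmem hTcard inf_le_left (u := u) (v := v) _ _ huv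
        · refine Subgroup.mem_inf.mpr ⟨hu, ?_⟩
          rw [Subgroup.mem_centralizer_singleton_iff]
          exact (Subgroup.mem_centralizer_singleton_iff.mp hgu).symm
        · refine Subgroup.mem_inf.mpr ⟨hv, ?_⟩
          rw [Subgroup.mem_centralizer_singleton_iff]
          exact (Subgroup.mem_centralizer_singleton_iff.mp hgv).symm
      have : t ∈ T ⊓ Subgroup.centralizer ({g} : Set P) := by rw [hL]; exact ht
      exact (Subgroup.mem_centralizer_singleton_iff.mp (Subgroup.mem_inf.mp this).2)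
    · intro g hg
      rw [hC, Subgroup.mem_centralizer_iff] at hg
      refine Subgroup.mem_inf.mpr ⟨?_, ?_⟩
      · rw [hCu, Subgroup.mem_centralizer_singleton_iff]; exact (hg u hu).symm
      · rw [hCv, Subgroup.mem_centralizer_singleton_iff]; exact (hg v hv).symm
  have hCidx : C.index ∣ p ^ 2 := by
    have h3 := Subgroup.relIndex_mul_index (inf_le_left : Cu ⊓ Cv ≤ Cu)
    rw [Subgroup.inf_relIndex_left, hinf] at h3
    rw [← h3, sq]
    exact Nat.mul_dvd_mul h2 h1
  have hCn : C.Normal := inferInstance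
  have hrel : C.relIndex (T ⊔ C) = p ^ 2 := by
    rw [Subgroup.relIndex_sup_right, ← Subgroup.inf_relIndex_right, inf_comm]
    have h4 := Subgroup.relIndex_mul_relIndex ⊥ (zT T) T bot_le inf_le_left
    rw [Subgroup.relIndex_bot_left, Subgroup.relIndex_bot_left, hZcard, hTcard] at h4
    have hpos := hp.out.pos
    have : p * (zT T).relIndex T = p * p ^ 2 := by rw [h4]; ring
    exact Nat.eq_of_mul_eq_mul_left hpos this
  have h5 := Subgroup.relIndex_mul_index (le_sup_right : C ≤ T ⊔ C)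
  rw [hrel] at h5
  rw [← Subgroup.index_eq_one]
  rw [← h5] at hCidx
  have hpos : 0 < p ^ 2 := pow_pos hp.out.pos 2
  have := Nat.le_of_dvd hpos hCidx
  have hidxpos : 0 < (T ⊔ C).index := Nat.pos_of_ne_zero Subgroup.index_ne_zero_of_finite
  nlinarith

end

end Cfsg.Agent.Lib.H16.RkStruct
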