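import Mathlib
import Cfsg.Agent.Lib.H16.ClassTwo

/-! Structure of `p`-groups of rank at most two, part C (helper16): the eigenvalue computation.

Setting: `Z ≤ T₁ ≤ T` and `D` are subgroups of `P`, `Z` central, `T₁` abelian and centralized by `D`,
`[T₁, T] ≤ Z`, `T` of exponent `p`, `D = ⟨x'⟩ T₁`, `T = ⟨t₂⟩ T₁`, `Z ≤ ⟨x' ^ p⟩`, and
`[t₂, [x', t₂]] ≠ 1`.  Then an automorphism `α` preserving `D` and `T` satisfies
`α t₂ ∈ t₂ ^ k T₁` with `k ^ 2 ≡ 1 (mod p)`. -/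

set_option autoImplicit false

namespace Cfsg.Agent.Lib.H16.RkStruct

open scoped commutatorElement

variable {P : Type*} [Group P]

/-- `[d ^ n, t] = [d, t] ^ n` when `d` commutes with `[d, t]`. -/
theorem commutator_pow_left {d t : P} (h : Commute d ⁅d, t⁆) (n : ℕ) : ⁅d ^ n, t⁆ = ⁅d, t⁆ ^ n := by
  have key : ∀ n : ℕ, d ^ n * t * (d ^ n)⁻¹ = ⁅d, t⁆ ^ n * t := by
    intro n
    induction n with
    | zero => simp
    | succ n ih =>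
      have h1 : d ^ (n + 1) * t * (d ^ (n + 1))⁻¹ = d * (d ^ n * t * (d ^ n)⁻¹) * d⁻¹ := by
        rw [pow_succ']; group
      rw [h1, ih]
      have h2 : d * (⁅d, t⁆ ^ n * t) * d⁻¹ = (d * ⁅d, t⁆ ^ n) * (t * d⁻¹) := by group
      rw [h2, (h.pow_right n).eq, pow_succ]
      rw [commutatorElement_def]
      group
  rw [commutatorElement_def (d ^ n) t, key n, mul_inv_cancel_right]

/-- Powers of `t s` with `s` in a normal subgroup. -/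
theorem mul_pow_mem_of_normal (N : Subgroup P) [hN : N.Normal] (t s : P) (hs : s ∈ N) (e : ℕ) :
    ∃ s' ∈ N, (t * s) ^ e = t ^ e * s' := by
  induction e with
  | zero => exact ⟨1, N.one_mem, by simp⟩
  | succ e ih =>
    obtain ⟨s', hs', h⟩ := ih
    refine ⟨(t⁻¹ * s' * t⁻¹⁻¹) * s, N.mul_mem (hN.conj_mem s' hs' t⁻¹) hs, ?_⟩
    rw [pow_succ, h, pow_succ]
    group

/-- The elements on which `β` acts trivially modulo the normal subgroup `D`. -/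
def trivOn (β : MulAut P) (D : Subgroup P) [hD : D.Normal] : Subgroup P where
  carrier := {g | β g * g⁻¹ ∈ D}
  one_mem' := by
    show β 1 * 1⁻¹ ∈ D
    rw [map_one, inv_one, mul_one]; exact D.one_mem
  mul_mem' := by
    intro g h hg hh
    show β (g * h) * (g * h)⁻¹ ∈ D
    have h1 : β (g * h) * (g * h)⁻¹ = (β g * g⁻¹) * (g * (β h * h⁻¹) * g⁻¹) := by
      rw [map_mul]; group
    rw [h1]
    exact D.mul_mem hg (hD.conj_mem _ hh g)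
  inv_mem' := by
    intro g hg
    show β g⁻¹ * g⁻¹⁻¹ ∈ D
    have h1 : β g⁻¹ * g⁻¹⁻¹ = g⁻¹ * (β g * g⁻¹)⁻¹ * g⁻¹⁻¹ := by
      rw [map_inv]; group
    rw [h1]
    exact hD.conj_mem _ (D.inv_mem hg) g⁻¹

theorem mem_trivOn {β : MulAut P} {D : Subgroup P} [D.Normal] {g : P} :
    g ∈ trivOn β D ↔ β g * g⁻¹ ∈ D := Iff.rfl

/-- If `α ^ 2` acts trivially on `P / D` and `α` has odd order, then `α` acts trivially on `P / D`. -/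
theorem trivOn_of_sq [Finite P] (α : MulAut P) (D : Subgroup P) [hD : D.Normal]
    (hαD : ∀ d ∈ D, α d ∈ D) (hodd : Odd (orderOf α)) (hsq : ∀ g : P, α (α g) * g⁻¹ ∈ D) :
    ∀ g : P, α g * g⁻¹ ∈ D := by
  have hβD : ∀ j : ℕ, ∀ g : P, ((α * α) ^ j) g * g⁻¹ ∈ D := by
    intro j
    induction j with
    | zero =>
      intro g
      rw [pow_zero, MulAut.one_apply, mul_inv_cancel]; exact D.one_mem
    | succ j ih =>
      intro g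
      rw [pow_succ', MulAut.mul_apply, MulAut.mul_apply]
      set h := ((α * α) ^ j) g with hh
      have h1 : h * g⁻¹ ∈ D := ih g
      have h2 : α (α h) * g⁻¹ = (α (α h) * h⁻¹) * (h * g⁻¹) := by group
      rw [h2]
      exact D.mul_mem (hsq h) h1
  obtain ⟨m, hm⟩ := hodd
  have hα : (α * α) ^ (m + 1) = α := by
    rw [← pow_two, ← pow_mul]
    have : 2 * (m + 1) = orderOf α + 1 := by omega
    rw [this, pow_succ, pow_orderOf_eq_one, one_mul]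
  intro g
  have := hβD (m + 1) g
  rwa [hα] at this

section eigen

variable {p : ℕ} (hp : p.Prime) (Z T₁ T D : Subgroup P) [hT₁n : T₁.Normal]
  (hZc : ∀ z ∈ Z, ∀ g : P, Commute z g)
  (hT₁comm : ∀ s ∈ T₁, ∀ s' ∈ T₁, Commute s s')
  (hDT₁ : ∀ d ∈ D, ∀ s ∈ T₁, Commute d s)
  (hT₁T : ∀ s ∈ T₁, ∀ t ∈ T, ⁅s, t⁆ ∈ Z)
  (hT₁le : T₁ ≤ T)
  (hexp : ∀ t ∈ T, t ^ p = 1)
  (x' t₂ : P) (hx'D : x' ∈ D) (ht₂T : t₂ ∈ T)
  (hc1 : ⁅x', t₂⁆ ∈ T₁) (hc2 : ⁅t₂, ⁅x', t₂⁆⁆ ≠ 1)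
  (hZpow : ∀ z ∈ Z, ∃ r : ℕ, z = x' ^ (p * r))
  (hDgen : ∀ d ∈ D, ∃ m : ℕ, ∃ s ∈ T₁, d = x' ^ m * s)
  (hTgen : ∀ t ∈ T, ∃ k : ℕ, ∃ s ∈ T₁, t = t₂ ^ k * s)
  (α : MulAut P) (hαD : ∀ d ∈ D, α d ∈ D) (hαT : ∀ t ∈ T, α t ∈ T)

include hp hZc hT₁comm hDT₁ hT₁T hT₁le hexp hx'D ht₂T hc1 hc2 hZpow hDgen hTgen hαD hαT in
theorem exists_eigen :
    ∃ k : ℕ, ∃ s₂ ∈ T₁, α t₂ = t₂ ^ k * s₂ ∧ k * k ≡ 1 [MOD p] := by
  obtain ⟨m, s₁, hs₁, hm⟩ := hDgen (α x') (hαD x' hx'D)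
  obtain ⟨k, s₂, hs₂, hk⟩ := hTgen (α t₂) (hαT t₂ ht₂T)
  refine ⟨k, s₂, hs₂, hk, ?_⟩
  set t₁ : P := ⁅x', t₂⁆ with ht₁
  set z₀ : P := ⁅t₂, t₁⁆ with hz₀
  have hz₀Z : z₀ ∈ Z := by
    rw [hz₀, ← commutatorElement_inv]
    exact Z.inv_mem (hT₁T t₁ hc1 t₂ ht₂T)
  have hz₀c : ∀ g : P, Commute z₀ g := hZc z₀ hz₀Z
  have hz₀p : z₀ ^ p = 1 := by
    obtain ⟨r, hr⟩ := hZpow z₀ hz₀Z
    -- `z₀ ∈ T`?  use the commutator description instead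
    have h1 : t₁ ^ p = 1 := hexp t₁ (hT₁le hc1)
    have h2 : ⁅t₂, t₁⁆⁻¹ = ⁅t₁, t₂⁆ := commutatorElement_inv t₂ t₁
    have h3 : Commute t₁ ⁅t₁, t₂⁆ := by
      rw [← h2]; exact ((hz₀c t₁).inv_left).symm
    have h4 := commutator_pow_left h3 p
    rw [h1, ← h2, inv_pow] at h4
    have h5 : ⁅(1 : P), t₂⁆ = 1 := commutatorElement_one_left t₂
    rw [h5] at h4
    exact inv_eq_one.mp h4.symm
  have hz₀o : orderOf z₀ = p := by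
    haveI : Fact p.Prime := ⟨hp⟩
    exact orderOf_eq_prime hz₀p hc2
  -- (A) `α z₀ = z₀ ^ m`
  have hA : α z₀ = z₀ ^ m := by
    obtain ⟨r, hr⟩ := hZpow z₀ hz₀Z
    have hs₁p : s₁ ^ p = 1 := hexp s₁ (hT₁le hs₁)
    have hxs : Commute (x' ^ m) s₁ := (hDT₁ x' hx'D s₁ hs₁).pow_left m
    calc α z₀ = (α x') ^ (p * r) := by rw [hr, map_pow]
      _ = (x' ^ m * s₁) ^ (p * r) := by rw [hm]
      _ = (x' ^ m) ^ (p * r) * s₁ ^ (p * r) := hxs.mul_pow _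
      _ = (x' ^ m) ^ (p * r) := by rw [pow_mul s₁, hs₁p, one_pow, mul_one]
      _ = (x' ^ (p * r)) ^ m := by rw [← pow_mul, ← pow_mul, mul_comm]
      _ = z₀ ^ m := by rw [← hr]
  -- (B) `α t₁ = z * t₁ ^ (m * k)` with `z ∈ Z`
  have hB : ∃ z ∈ Z, α t₁ = z * t₁ ^ (m * k) := by
    set g : P := x' ^ m * s₁ with hg
    have hgD : ∀ s ∈ T₁, Commute g s := fun s hs =>
      ((hDT₁ x' hx'D s hs).pow_left m).mul_left (hT₁comm s₁ hs₁ s hs)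
    have hxt₁ : Commute x' t₁ := hDT₁ x' hx'D t₁ hc1
    have hB2 : ⁅x' ^ m, t₂⁆ = t₁ ^ m := commutator_pow_left hxt₁ m
    set z₁ : P := ⁅s₁, t₂⁆ with hz₁
    have hz₁Z : z₁ ∈ Z := hT₁T s₁ hs₁ t₂ ht₂T
    -- `g t₂ g⁻¹ = z₁ t₁ ^ m t₂`
    have hB3 : g * t₂ * g⁻¹ = z₁ * (t₁ ^ m * t₂) := by
      have e1 : g * t₂ * g⁻¹ = x' ^ m * (s₁ * t₂ * s₁⁻¹) * (x' ^ m)⁻¹ := by rw [hg]; group
      have e2 : s₁ * t₂ * s₁⁻¹ = z₁ * t₂ := by rw [hz₁, commutatorElement_def]; group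
      have e3 : x' ^ m * t₂ * (x' ^ m)⁻¹ = t₁ ^ m * t₂ := by
        rw [← hB2, commutatorElement_def]; group
      rw [e1, e2]
      calc x' ^ m * (z₁ * t₂) * (x' ^ m)⁻¹ = (x' ^ m * z₁) * t₂ * (x' ^ m)⁻¹ := by group
        _ = (z₁ * x' ^ m) * t₂ * (x' ^ m)⁻¹ := by rw [(hZc z₁ hz₁Z (x' ^ m)).eq]
        _ = z₁ * (x' ^ m * t₂ * (x' ^ m)⁻¹) := by group
        _ = z₁ * (t₁ ^ m * t₂) := by rw [e3]
    -- the class-two power formula in `T`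
    set c : P := (t₁ ^ m * t₂)⁻¹ * (t₂ * t₁ ^ m) with hc
    have hcZ : c ∈ Z := by
      have h1 : ⁅(t₁ ^ m)⁻¹, t₂⁆ ∈ Z := hT₁T _ (T₁.inv_mem (T₁.pow_mem hc1 m)) t₂ ht₂T
      have e' : c = t₂⁻¹ * ⁅(t₁ ^ m)⁻¹, t₂⁆ * t₂⁻¹⁻¹ := by
        rw [hc, commutatorElement_def]; group
      rw [e', ((hZc _ h1 t₂⁻¹).symm).eq, mul_inv_cancel_right]
      exact h1
    have hpow := Cfsg.Agent.Lib.H16.mul_pow_of_central (x := t₁ ^ m) (y := t₂) (c := c)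
      (by rw [hc]; group) (hZc c hcZ _) (hZc c hcZ _) k
    -- `g (t₂ ^ k s₂) g⁻¹`
    have hB4 : g * (t₂ ^ k * s₂) * g⁻¹ =
        (z₁ ^ k * c ^ (k * (k - 1) / 2)) * t₁ ^ (m * k) * (t₂ ^ k * s₂) := by
      have e1 : g * (t₂ ^ k * s₂) * g⁻¹ = (g * t₂ * g⁻¹) ^ k * (g * s₂ * g⁻¹) := by
        rw [conj_pow]; group
      have e2 : g * s₂ * g⁻¹ = s₂ := by rw [(hgD s₂ hs₂).eq, mul_inv_cancel_right]
      have e3 : (z₁ * (t₁ ^ m * t₂)) ^ k = z₁ ^ k * (t₁ ^ m * t₂) ^ k :=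
        (hZc z₁ hz₁Z _).mul_pow k
      rw [e1, e2, hB3, e3, hpow, ← pow_mul]
      have hcc : Commute (c ^ (k * (k - 1) / 2)) (t₁ ^ (m * k) * t₂ ^ k) :=
        (hZc c hcZ _).pow_left _
      calc z₁ ^ k * (t₁ ^ (m * k) * t₂ ^ k * c ^ (k * (k - 1) / 2)) * s₂
          = z₁ ^ k * (c ^ (k * (k - 1) / 2) * (t₁ ^ (m * k) * t₂ ^ k)) * s₂ := by rw [hcc.eq]
        _ = (z₁ ^ k * c ^ (k * (k - 1) / 2)) * t₁ ^ (m * k) * (t₂ ^ k * s₂) := by group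
    refine ⟨z₁ ^ k * c ^ (k * (k - 1) / 2), Z.mul_mem (Z.pow_mem hz₁Z k) (Z.pow_mem hcZ _), ?_⟩
    have e0 : α t₁ = ⁅α x', α t₂⁆ := by rw [ht₁, map_commutatorElement]
    rw [e0, hm, hk, commutatorElement_def, hB4]
    group
  -- (C) `α z₀ = z₀ ^ (k * (m * k))`
  obtain ⟨z, hzZ, hBz⟩ := hB
  have hC : α z₀ = z₀ ^ (k * (m * k)) := by
    set h : P := t₂ ^ k * s₂ with hh
    have e0 : α z₀ = ⁅α t₂, α t₁⁆ := by rw [hz₀, map_commutatorElement]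
    have hC1 : ⁅t₂ ^ k, t₁⁆ = z₀ ^ k := commutator_pow_left ((hz₀c t₂).symm) k
    have hC2 : h * t₁ * h⁻¹ = z₀ ^ k * t₁ := by
      have e1 : h * t₁ * h⁻¹ = t₂ ^ k * (s₂ * t₁ * s₂⁻¹) * (t₂ ^ k)⁻¹ := by rw [hh]; group
      have e2 : s₂ * t₁ * s₂⁻¹ = t₁ := by
        rw [(hT₁comm s₂ hs₂ t₁ hc1).eq, mul_inv_cancel_right]
      rw [e1, e2, ← hC1, commutatorElement_def]
      group
    have hC3 : h * (z * t₁ ^ (m * k)) * h⁻¹ = z * (z₀ ^ k * t₁) ^ (m * k) := by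
      have e1 : h * (z * t₁ ^ (m * k)) * h⁻¹ = (h * z) * t₁ ^ (m * k) * h⁻¹ := by group
      rw [e1, ((hZc z hzZ h).symm).eq, ← hC2, conj_pow]
      group
    have hC4 : (z₀ ^ k * t₁) ^ (m * k) = (z₀ ^ k) ^ (m * k) * t₁ ^ (m * k) :=
      ((hz₀c t₁).pow_left k).mul_pow _
    rw [e0, hk, hBz, commutatorElement_def, hC3, hC4, ← pow_mul]
    have hzz : Commute z (z₀ ^ (k * (m * k))) := hZc z hzZ _
    calc z * (z₀ ^ (k * (m * k)) * t₁ ^ (m * k)) * (z * t₁ ^ (m * k))⁻¹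
        = (z * z₀ ^ (k * (m * k))) * z⁻¹ := by group
      _ = z₀ ^ (k * (m * k)) := by rw [hzz.eq, mul_inv_cancel_right]
  -- (D)
  have hD : m ≡ k * (m * k) [MOD p] := by
    rw [← hz₀o]
    exact pow_eq_pow_iff_modEq.mp (hA.symm.trans hC)
  have hmp : Nat.Coprime m p := by
    rw [Nat.coprime_comm, Nat.Prime.coprime_iff_not_dvd hp]
    rintro ⟨j, rfl⟩
    have : α z₀ = 1 := by rw [hA, pow_mul, hz₀p, one_pow]
    exact hc2 ((map_eq_one_iff α α.injective).mp this)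
  have hD' : m * (k * k) ≡ m * 1 [MOD p] := by
    rw [mul_one]
    have : m * (k * k) = k * (m * k) := by ring
    rw [this]
    exact hD.symm
  exact Nat.ModEq.cancel_left_of_coprime hmp.symm hD'

include hp hZc hT₁comm hDT₁ hT₁T hT₁le hexp hx'D ht₂T hc1 hc2 hZpow hDgen hTgen hαD hαT in
/-- `α ^ 2` acts trivially on `T / T₁`. -/
theorem sq_mul_inv_mem (hαT₁ : ∀ s ∈ T₁, α s ∈ T₁) : α (α t₂) * t₂⁻¹ ∈ T₁ := by
  obtain ⟨k, s₂, hs₂, hk, hkk⟩ := exists_eigen hp Z T₁ T D hZc hT₁comm hDT₁ hT₁T hT₁le hexp x' t₂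
    hx'D ht₂T hc1 hc2 hZpow hDgen hTgen α hαD hαT
  obtain ⟨s', hs', h⟩ := mul_pow_mem_of_normal T₁ (t₂ ^ k) s₂ hs₂ k
  have h1 : (t₂ ^ k) ^ k = t₂ := by
    rw [← pow_mul]
    have h2 : k * k ≡ 1 [MOD orderOf t₂] :=
      hkk.of_dvd (orderOf_dvd_of_pow_eq_one (hexp t₂ ht₂T))
    have := pow_eq_pow_iff_modEq.mpr h2
    rwa [pow_one] at this
  have h3 : α (α t₂) = t₂ * s' * α s₂ := by
    rw [hk, map_mul, map_pow, hk, h, h1]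
  rw [h3]
  have h4 : t₂ * s' * α s₂ * t₂⁻¹ = t₂ * (s' * α s₂) * t₂⁻¹ := by group
  rw [h4]
  exact hT₁n.conj_mem _ (T₁.mul_mem hs' (hαT₁ s₂ hs₂)) t₂

include hp hZc hT₁comm hDT₁ hT₁T hT₁le hexp hx'D ht₂T hc1 hc2 hZpow hDgen hTgen hαD hαT in
/-- An automorphism of odd order acts trivially on `P / D`. -/
theorem mul_inv_mem_of_odd [Finite P] [hDn : D.Normal] (hαT₁ : ∀ s ∈ T₁, α s ∈ T₁)
    (hT₁D : T₁ ≤ D) (hPgen : ∀ g : P, ∃ e : ℕ, ∃ d ∈ D, g = t₂ ^ e * d)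
    (hodd : Odd (orderOf α)) : ∀ g : P, α g * g⁻¹ ∈ D := by
  apply trivOn_of_sq α D hαD hodd
  intro g
  have ht₂ : t₂ ∈ trivOn (α * α) D := by
    rw [mem_trivOn, MulAut.mul_apply]
    exact hT₁D (sq_mul_inv_mem hp Z T₁ T D hZc hT₁comm hDT₁ hT₁T hT₁le hexp x' t₂
      hx'D ht₂T hc1 hc2 hZpow hDgen hTgen α hαD hαT hαT₁)
  have hD : D ≤ trivOn (α * α) D := by
    intro d hd
    rw [mem_trivOn, MulAut.mul_apply]
    exact D.mul_mem (hαD _ (hαD d hd)) (D.inv_mem hd)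
  obtain ⟨e, d, hd, rfl⟩ := hPgen g
  have := (trivOn (α * α) D).mul_mem ((trivOn (α * α) D).pow_mem ht₂ e) (hD hd)
  rw [mem_trivOn, MulAut.mul_apply] at this
  exact this

end eigen

end Cfsg.Agent.Lib.H16.RkStruct
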