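import Mathlib
import Cfsg.Prelude
import Cfsg.Agent.Lib.H16.RkStructB
import Cfsg.Agent.Lib.H16.RkStructC
import Cfsg.Agent.Lib.H1.QuotientBasic

/-! Structure of `p`-groups of rank at most two, part D (helper16): helper lemmas for the case
`T₁ ≠ T`. -/

set_option autoImplicit false

namespace Cfsg.Agent.Lib.H16.RkStruct

open scoped commutatorElement
open Cfsg.Agent.Lib

variable {P : Type*} [Group P]

/-- `[d d', t] = [d, t] [d', t]` under commutation hypotheses. -/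
theorem commutator_mul_left_of_commute {d d' t : P} (h1 : Commute d ⁅d', t⁆)
    (h2 : Commute ⁅d', t⁆ ⁅d, t⁆) : ⁅d * d', t⁆ = ⁅d, t⁆ * ⁅d', t⁆ := by
  have e : ⁅d * d', t⁆ = (d * ⁅d', t⁆) * d⁻¹ * ⁅d, t⁆ := by
    simp only [commutatorElement_def]; group
  rw [e, h1.eq, mul_inv_cancel_right, h2.eq]

variable [Finite P] {p : ℕ} [hp : Fact p.Prime]

/-- `|N ⟨x⟩| = |N| p` when `x ∉ N`, `x ^ p ∈ N`, `N` normal. -/
theorem card_sup_zpowers_of_pow_mem (N : Subgroup P) [N.Normal] {x : P} (hx : x ∉ N)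
    (hxp : x ^ p ∈ N) : Nat.card (N ⊔ Subgroup.zpowers x : Subgroup P) = Nat.card N * p := by
  have h1 := H1.card_map_mk'_mul_of_le (le_sup_left : N ≤ N ⊔ Subgroup.zpowers x)
  have h2 : (N ⊔ Subgroup.zpowers x).map (QuotientGroup.mk' N) =
      Subgroup.zpowers (QuotientGroup.mk' N x) := by
    rw [Subgroup.map_sup, MonoidHom.map_zpowers]
    have : N.map (QuotientGroup.mk' N) = ⊥ := by
      rw [Subgroup.map_eq_bot_iff, QuotientGroup.ker_mk']
    rw [this, bot_sup_eq]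
  have h3 : orderOf (QuotientGroup.mk' N x) = p := by
    apply orderOf_eq_prime
    · rw [← map_pow]
      exact (QuotientGroup.eq_one_iff _).mpr hxp
    · intro h
      exact hx ((QuotientGroup.eq_one_iff x).mp h)
  rw [h2, Nat.card_zpowers, h3] at h1
  rw [← h1, mul_comm]

omit [Finite P] in
/-- If `s ∉ Z` has order `p` and `s ^ i ∈ Z` then `p ∣ i`. -/
theorem dvd_of_pow_mem (Z : Subgroup P) {s : P} (hs : s ∉ Z) (hsp : s ^ p = 1) {i : ℕ}
    (h : s ^ i ∈ Z) : p ∣ i := by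
  by_contra hpi
  have hs1 : s ≠ 1 := fun h1 => hs (h1 ▸ Z.one_mem)
  have hso : orderOf s = p := orderOf_eq_prime hsp hs1
  have hcop : (orderOf s).Coprime i := by
    rw [hso]; exact (Nat.Prime.coprime_iff_not_dvd hp.out).mpr hpi
  -- `s` is a power of `s ^ i`
  obtain ⟨j, -, hj⟩ := Nat.exists_mul_mod_eq_one_of_coprime hcop.symm
    (by rw [hso]; exact hp.out.one_lt)
  have h1 : (s ^ i) ^ j = s := by
    rw [← pow_mul, ← pow_mod_orderOf, hj, pow_one]
  exact hs (h1 ▸ Z.pow_mem h j)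

end Cfsg.Agent.Lib.H16.RkStruct
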