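import Mathlib
import Cfsg.Prelude
import Cfsg.Agent.Lib.H16.RkStructD

/-! Structure of `p`-groups of rank at most two, part E (helper16): the case `T₁ ≠ T`, first half.
`D = C_P(T₁)` has index `p`, `T ∩ D = T₁`, `[P, T] ≤ T₁`, `P = ⟨t₂⟩ D`. -/

set_option autoImplicit false

namespace Cfsg.Agent.Lib.H16.RkStruct

open scoped commutatorElement
open Cfsg.Agent.Lib

variable {P : Type*} [Group P] [Finite P] {p : ℕ} [hp : Fact p.Prime]

section

variable (hp2 : p ≠ 2) (hP : IsPGroup p P) (hr : Cfsg.PRankLE p 2 P)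
  (T : Subgroup P) [hTc : T.Characteristic] (hTmem : ∀ x, x ∈ T ↔ x ^ p = 1)
  (hTcard : Nat.card T = p ^ 3) (hne : tOne T ≠ T)

include hP hr hTmem hTcard hne in
theorem tOne_comm : ∀ a ∈ tOne T, ∀ b ∈ tOne T, a * b = b * a :=
  H22.comm_of_card_le_sq (tOne T) 2 le_rfl (card_tOne hP hr T hTmem hTcard hne)

include hP hr hTmem hTcard hne in
/-- `T ∩ C_P(T₁) = T₁`. -/
theorem mem_tOne_of_mem_centralizer {t : P} (ht : t ∈ T)
    (htD : t ∈ Subgroup.centralizer (tOne T : Set P)) : t ∈ tOne T := by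
  by_contra htn
  have hcomm := tOne_comm hP hr T hTmem hTcard hne
  have ht1 : t ≠ 1 := fun h => htn (h ▸ (tOne T).one_mem)
  have hto : orderOf t = p := orderOf_eq_prime ((hTmem t).mp ht) ht1
  have hcard := RkOmega.card_sup_zpowers_of_not_mem hp.out (tOne T) hto htn
  rw [card_tOne hP hr T hTmem hTcard hne] at hcard
  have hle : tOne T ⊔ Subgroup.zpowers t ≤ T :=
    sup_le inf_le_left (by rw [Subgroup.zpowers_le]; exact ht)
  have heq : tOne T ⊔ Subgroup.zpowers t = T := by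
    apply Subgroup.eq_of_le_of_card_ge hle
    rw [hcard, hTcard]
    exact (pow_succ p 2).le
  obtain ⟨u, hu, v, hv, huv⟩ := exists_not_commute hr T hTmem hTcard
  apply huv
  rw [← heq, ← SetLike.mem_coe, Subgroup.normal_mul (tOne T) (Subgroup.zpowers t), Set.mem_mul]
    at hu hv
  obtain ⟨a, ha, x, hx, rfl⟩ := hu
  obtain ⟨b, hb, y, hy, rfl⟩ := hv
  obtain ⟨k, rfl⟩ := Subgroup.mem_zpowers_iff.mp hx
  obtain ⟨k', rfl⟩ := Subgroup.mem_zpowers_iff.mp hy
  have hts : ∀ s ∈ tOne T, Commute t s := fun s hs =>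
    (Subgroup.mem_centralizer_iff.mp htD s hs).symm
  have e1 : Commute a (b * t ^ k') := (show Commute a b from hcomm a ha b hb).mul_right
    ((hts a ha).symm.zpow_right k')
  have e2 : Commute (t ^ k) (b * t ^ k') := ((hts b hb).zpow_left k).mul_right
    ((Commute.refl t).zpow_zpow k k')
  exact (e1.mul_left e2).eq

include hP hr hTmem hTcard hne in
/-- `T₁ = Z ⟨t₁⟩` for `t₁ ∈ T₁ ∖ Z`. -/
theorem tOne_eq_sup {t₁ : P} (ht₁ : t₁ ∈ tOne T) (ht₁Z : t₁ ∉ zT T) :
    zT T ⊔ Subgroup.zpowers t₁ = tOne T := by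
  have ht11 : t₁ ≠ 1 := fun h => ht₁Z (h ▸ (zT T).one_mem)
  have hto : orderOf t₁ = p := orderOf_eq_prime ((hTmem t₁).mp (mem_tOne.mp ht₁).1) ht11
  apply Subgroup.eq_of_le_of_card_ge
  · exact sup_le (zT_le_tOne T) (by rw [Subgroup.zpowers_le]; exact ht₁)
  · rw [RkOmega.card_sup_zpowers_of_not_mem hp.out (zT T) hto ht₁Z,
      card_zT hP hr T hTmem hTcard, card_tOne hP hr T hTmem hTcard hne]
    exact (sq p).le

include hP hr hTmem hTcard hne in
/-- An element commuting with `t₁ ∈ T₁ ∖ Z` centralizes `T₁`. -/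
theorem mem_centralizer_tOne {t₁ : P} (ht₁ : t₁ ∈ tOne T) (ht₁Z : t₁ ∉ zT T) {g : P}
    (hg : Commute g t₁) : g ∈ Subgroup.centralizer (tOne T : Set P) := by
  rw [Subgroup.mem_centralizer_iff]
  intro s hs
  have hs' : s ∈ zT T ⊔ Subgroup.zpowers t₁ := by
    rw [tOne_eq_sup hP hr T hTmem hTcard hne ht₁ ht₁Z]; exact hs
  rw [← SetLike.mem_coe, Subgroup.normal_mul (zT T) (Subgroup.zpowers t₁), Set.mem_mul] at hs'
  obtain ⟨z, hz, y, hy, rfl⟩ := hs'
  obtain ⟨k, rfl⟩ := Subgroup.mem_zpowers_iff.mp hy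
  have hzc : Commute z g :=
    (Subgroup.mem_center_iff.mp (zT_le_center hP hr T hTmem hTcard hz) g).symm
  exact (hzc.mul_left (hg.symm.zpow_left k)).eq

include hP hr hTmem hTcard hne in
/-- `C_P(T₁)` has index `p`. -/
theorem index_centralizer_tOne : (Subgroup.centralizer (tOne T : Set P)).index = p := by
  obtain ⟨t₁, ht₁, ht₁Z⟩ := exists_mem_tOne_not_mem_zT hP hr T hTmem hTcard
  have hZcard := card_zT hP hr T hTmem hTcard
  have hZc := zT_le_center hP hr T hTmem hTcard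
  have hZx : ∀ d ∈ zT T, ∀ x : P, Commute d x := fun d hd x =>
    (Subgroup.mem_center_iff.mp (hZc hd) x).symm
  have hD : Subgroup.centralizer ({t₁} : Set P) = Subgroup.centralizer (tOne T : Set P) := by
    apply le_antisymm
    · intro g hg
      apply mem_centralizer_tOne hP hr T hTmem hTcard hne ht₁ ht₁Z
      exact (Subgroup.mem_centralizer_singleton_iff.mp hg : _ = _)
    · intro g hg
      rw [Subgroup.mem_centralizer_singleton_iff]
      exact (Subgroup.mem_centralizer_iff.mp hg t₁ ht₁).symm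
  -- an element of `T` outside `T₁`
  have hex : ∃ t₂ ∈ T, t₂ ∉ tOne T := by
    by_contra hcon
    push Not at hcon
    exact hne (le_antisymm inf_le_left hcon)
  obtain ⟨t₂, ht₂, ht₂n⟩ := hex
  have h1 := relIndex_centralizer_eq_prime hp.out (⊤ : Subgroup P) (zT T) t₁ hZcard
    (fun k _ => by
      rw [← commutatorElement_inv]
      exact (zT T).inv_mem ((mem_tOne.mp ht₁).2 k))
    (fun d hd => hZx d hd t₁) (fun d hd k _ => hZx d hd k)
    ⟨t₂, Subgroup.mem_top _, fun h => ht₂n (mem_tOne_of_mem_centralizer hP hr T hTmem hTcard hne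
      ht₂ (mem_centralizer_tOne hP hr T hTmem hTcard hne ht₁ ht₁Z h))⟩
  rw [Subgroup.relIndex_top_right, hD] at h1
  exact h1

include hP hr hTmem hTcard hne in
/-- `[P, T] ≤ T₁`. -/
theorem commutator_mem_tOne (g : P) {t : P} (ht : t ∈ T) : ⁅g, t⁆ ∈ tOne T := by
  have hTT₁ : ¬ T ≤ tOne T := fun h => hne (le_antisymm inf_le_left h)
  have hPtop : IsPGroup p (⊤ : Subgroup P) := hP.to_subgroup ⊤
  have hTn : T.Normal := inferInstance
  have hT₁n : (tOne T).Normal := inferInstance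
  obtain ⟨l, hlT, hlT₁, hlc⟩ := ChiefRank.exists_not_mem_comm_mem (Q := ⊤) (M := tOne T) (L := T)
    hPtop le_top (fun g _ => by
      rw [Subgroup.mem_normalizer_iff]
      intro h
      constructor
      · intro hh; exact hTn.conj_mem h hh g
      · intro hh
        have := hTn.conj_mem _ hh g⁻¹
        simpa [mul_assoc] using this) hTT₁
  have hl1 : l ≠ 1 := fun h => hlT₁ (h ▸ (tOne T).one_mem)
  have hlo : orderOf l = p := orderOf_eq_prime ((hTmem l).mp hlT) hl1
  have heq : tOne T ⊔ Subgroup.zpowers l = T := by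
    apply Subgroup.eq_of_le_of_card_ge
    · exact sup_le inf_le_left (by rw [Subgroup.zpowers_le]; exact hlT)
    · rw [RkOmega.card_sup_zpowers_of_not_mem hp.out (tOne T) hlo hlT₁,
        card_tOne hP hr T hTmem hTcard hne, hTcard]
      exact (pow_succ p 2).le
  have hle' : tOne T ⊔ Subgroup.zpowers l ≤ ChiefRank.commSub ⊤ (tOne T) := by
    apply sup_le
    · exact ChiefRank.le_commSub le_top
    · rw [Subgroup.zpowers_le]
      exact ChiefRank.mem_commSub.mpr ⟨Subgroup.mem_top _, hlc⟩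
  have hle : T ≤ ChiefRank.commSub ⊤ (tOne T) := by
    intro x hx
    apply hle'
    rw [heq]; exact hx
  exact (ChiefRank.mem_commSub.mp (hle ht)).2 g (Subgroup.mem_top g)

include hP hr hTmem hTcard hne in
/-- `P = ⟨t₂⟩ C_P(T₁)` for `t₂ ∈ T ∖ T₁`. -/
theorem exists_pow_mul {t₂ : P} (ht₂ : t₂ ∈ T) (ht₂n : t₂ ∉ tOne T) (g : P) :
    ∃ e : ℕ, ∃ d ∈ Subgroup.centralizer (tOne T : Set P), g = t₂ ^ e * d := by
  set D : Subgroup P := Subgroup.centralizer (tOne T : Set P) with hD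
  have hDn : D.Normal := inferInstance
  have ht₂D : t₂ ∉ D := fun h => ht₂n (mem_tOne_of_mem_centralizer hP hr T hTmem hTcard hne ht₂ h)
  have hcard := card_sup_zpowers_of_pow_mem D ht₂D (by rw [(hTmem t₂).mp ht₂]; exact D.one_mem)
  have hidx : D.index = p := index_centralizer_tOne hP hr T hTmem hTcard hne
  have htop : D ⊔ Subgroup.zpowers t₂ = ⊤ := by
    apply Subgroup.eq_top_of_card_eq
    rw [hcard, ← Subgroup.card_mul_index D, hidx]
  have hg : g ∈ Subgroup.zpowers t₂ ⊔ D := by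
    rw [sup_comm, htop]; exact Subgroup.mem_top g
  rw [← SetLike.mem_coe, Subgroup.mul_normal (Subgroup.zpowers t₂) D, Set.mem_mul] at hg
  obtain ⟨y, hy, d, hd, rfl⟩ := hg
  rw [SetLike.mem_coe, ← mem_powers_iff_mem_zpowers, Submonoid.mem_powers_iff] at hy
  obtain ⟨e, rfl⟩ := hy
  exact ⟨e, d, hd, rfl⟩

end

end Cfsg.Agent.Lib.H16.RkStruct
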