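import Mathlib
import Cfsg.Prelude
import Cfsg.Agent.Lib.H16.RkStructE

/-! Structure of `p`-groups of rank at most two, part F (helper16): the case `T₁ ≠ T`, second half.
The map `d ↦ [d, t₂]` on `D = C_P(T₁)`. -/

set_option autoImplicit false

namespace Cfsg.Agent.Lib.H16.RkStruct

open scoped commutatorElement
open Cfsg.Agent.Lib

variable {P : Type*} [Group P] [Finite P] {p : ℕ} [hp : Fact p.Prime]

section

variable (hp2 : p ≠ 2) (hP : IsPGroup p P) (hr : Cfsg.PRankLE p 2 P)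
  (T : Subgroup P) [hTc : T.Characteristic] (hTmem : ∀ x, x ∈ T ↔ x ^ p = 1)
  (hTcard : Nat.card T = p ^ 3) (hne : tOne T ≠ T)
  {t₂ : P} (ht₂ : t₂ ∈ T) (ht₂n : t₂ ∉ tOne T)

include hP hr hTmem hTcard hne ht₂ ht₂n in
theorem exists_pow_mul_tOne {t : P} (ht : t ∈ T) : ∃ k : ℕ, ∃ s ∈ tOne T, t = t₂ ^ k * s := by
  obtain ⟨e, d, hd, rfl⟩ := exists_pow_mul hP hr T hTmem hTcard hne ht₂ ht₂n t
  refine ⟨e, d, ?_, rfl⟩
  apply mem_tOne_of_mem_centralizer hP hr T hTmem hTcard hne _ hd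
  have : d = (t₂ ^ e)⁻¹ * (t₂ ^ e * d) := by group
  rw [this]
  exact T.mul_mem (T.inv_mem (T.pow_mem ht₂ e)) ht

include hP hr hTmem hTcard hne ht₂ in
theorem psi_mul {d d' : P} (hd : d ∈ Subgroup.centralizer (tOne T : Set P))
    (hd' : d' ∈ Subgroup.centralizer (tOne T : Set P)) :
    ⁅d * d', t₂⁆ = ⁅d, t₂⁆ * ⁅d', t₂⁆ := by
  have h1 := commutator_mem_tOne hP hr T hTmem hTcard hne d ht₂
  have h2 := commutator_mem_tOne hP hr T hTmem hTcard hne d' ht₂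
  apply commutator_mul_left_of_commute
  · exact (Subgroup.mem_centralizer_iff.mp hd _ h2).symm
  · exact tOne_comm hP hr T hTmem hTcard hne _ h2 _ h1

include hP hr hTmem hTcard hne ht₂ in
theorem psi_pow {d : P} (hd : d ∈ Subgroup.centralizer (tOne T : Set P)) (n : ℕ) :
    ⁅d ^ n, t₂⁆ = ⁅d, t₂⁆ ^ n := by
  apply commutator_pow_left
  exact (Subgroup.mem_centralizer_iff.mp hd _
    (commutator_mem_tOne hP hr T hTmem hTcard hne d ht₂)).symm

include hP hr hTmem hTcard hne ht₂ in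
theorem psi_inv {d : P} (hd : d ∈ Subgroup.centralizer (tOne T : Set P)) :
    ⁅d⁻¹, t₂⁆ = ⁅d, t₂⁆⁻¹ := by
  have h := psi_mul hP hr T hTmem hTcard hne ht₂ hd (Subgroup.inv_mem _ hd)
  rw [mul_inv_cancel, commutatorElement_one_left] at h
  exact (inv_eq_of_mul_eq_one_right h.symm).symm

include hP hr hTmem hTcard hne ht₂ ht₂n in
theorem psi_ker {d : P} (hd : d ∈ Subgroup.centralizer (tOne T : Set P)) (h : ⁅d, t₂⁆ = 1) :
    d ∈ Subgroup.centralizer (T : Set P) := by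
  rw [Subgroup.mem_centralizer_iff]
  intro t ht
  obtain ⟨k, s, hs, rfl⟩ := exists_pow_mul_tOne hP hr T hTmem hTcard hne ht₂ ht₂n ht
  have h1 : Commute d t₂ := commutatorElement_eq_one_iff_commute.mp h
  have h2 : Commute d s := (Subgroup.mem_centralizer_iff.mp hd s hs).symm
  exact ((h1.pow_right k).mul_right h2).eq.symm

include hP hr hTmem hTcard hne ht₂ ht₂n in
/-- Elements of `D` acting trivially on `T / Z` lie in `C_P(T) T₁`. -/
theorem exists_mul_of_psi_mem {d : P} (hd : d ∈ Subgroup.centralizer (tOne T : Set P))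
    (h : ⁅d, t₂⁆ ∈ zT T) :
    ∃ c ∈ Subgroup.centralizer (T : Set P), ∃ s ∈ tOne T, d = c * s := by
  obtain ⟨t₁, ht₁, ht₁Z⟩ := exists_mem_tOne_not_mem_zT hP hr T hTmem hTcard
  have hT₁D : tOne T ≤ Subgroup.centralizer (tOne T : Set P) := by
    intro s hs
    rw [Subgroup.mem_centralizer_iff]
    intro s' hs'
    exact tOne_comm hP hr T hTmem hTcard hne s' hs' s hs
  set w₀ : P := ⁅t₁, t₂⁆ with hw₀
  have hw₀Z : w₀ ∈ zT T := (mem_tOne.mp ht₁).2 t₂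
  have hw₀1 : w₀ ≠ 1 := by
    intro h1
    have hc : Commute t₂ t₁ := (commutatorElement_eq_one_iff_commute.mp h1).symm
    exact ht₂n (mem_tOne_of_mem_centralizer hP hr T hTmem hTcard hne ht₂
      (mem_centralizer_tOne hP hr T hTmem hTcard hne ht₁ ht₁Z hc))
  have hw₀o : orderOf w₀ = p :=
    orderOf_eq_prime ((hTmem w₀).mp (mem_zT.mp hw₀Z).1) hw₀1
  have hZeq : Subgroup.zpowers w₀ = zT T := by
    apply Subgroup.eq_of_le_of_card_ge
    · rw [Subgroup.zpowers_le]; exact hw₀Z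
    · rw [Nat.card_zpowers, hw₀o, card_zT hP hr T hTmem hTcard]
  rw [← hZeq, ← mem_powers_iff_mem_zpowers, Submonoid.mem_powers_iff] at h
  obtain ⟨j, hj⟩ := h
  set s : P := t₁ ^ j with hs
  have hsT₁ : s ∈ tOne T := (tOne T).pow_mem ht₁ j
  have hsD := hT₁D hsT₁
  have h1 : ⁅s, t₂⁆ = w₀ ^ j := psi_pow hP hr T hTmem hTcard hne ht₂ (hT₁D ht₁) j
  have h2 : ⁅d * s⁻¹, t₂⁆ = 1 := by
    rw [psi_mul hP hr T hTmem hTcard hne ht₂ hd (Subgroup.inv_mem _ hsD),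
      psi_inv hP hr T hTmem hTcard hne ht₂ hsD, h1, ← hj, mul_inv_cancel]
  refine ⟨d * s⁻¹, psi_ker hP hr T hTmem hTcard hne ht₂ ht₂n
    (Subgroup.mul_mem _ hd (Subgroup.inv_mem _ hsD)) h2, s, hsT₁, by group⟩

include hP hr hTmem hTcard hne ht₂ ht₂n in
/-- Some element of `D` acts nontrivially on `T / Z`. -/
theorem exists_psi_not_mem :
    ∃ x ∈ Subgroup.centralizer (tOne T : Set P), ⁅x, t₂⁆ ∉ zT T := by
  by_contra hcon
  push Not at hcon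
  apply ht₂n
  rw [mem_tOne]
  refine ⟨ht₂, fun g => ?_⟩
  obtain ⟨e, d, hd, rfl⟩ := exists_pow_mul hP hr T hTmem hTcard hne ht₂ ht₂n g
  obtain ⟨c, hc, s, hs, rfl⟩ :=
    exists_mul_of_psi_mem hP hr T hTmem hTcard hne ht₂ ht₂n hd (hcon d hd)
  have hct : Commute t₂ c := (Subgroup.mem_centralizer_iff.mp hc t₂ ht₂)
  have hZc := zT_le_center hP hr T hTmem hTcard
  have hsZ : ⁅t₂, s⁆ ∈ zT T := by
    rw [← commutatorElement_inv]
    exact (zT T).inv_mem ((mem_tOne.mp hs).2 t₂)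
  have hcen : Commute ⁅t₂, s⁆ (t₂ ^ e * c) :=
    (Subgroup.mem_center_iff.mp (hZc hsZ) _).symm
  have h1 : ⁅t₂, t₂ ^ e * (c * s)⁆ = ⁅t₂, s⁆ := by
    have e1 : t₂ * (t₂ ^ e * (c * s)) * t₂⁻¹ = (t₂ ^ e * c) * (t₂ * s * t₂⁻¹) := by
      have : t₂ * (t₂ ^ e * c) = (t₂ ^ e * c) * t₂ :=
        (((Commute.refl t₂).pow_right e).mul_right hct).eq
      calc t₂ * (t₂ ^ e * (c * s)) * t₂⁻¹ = (t₂ * (t₂ ^ e * c)) * s * t₂⁻¹ := by group
        _ = ((t₂ ^ e * c) * t₂) * s * t₂⁻¹ := by rw [this]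
        _ = (t₂ ^ e * c) * (t₂ * s * t₂⁻¹) := by group
    have e2 : t₂ * s * t₂⁻¹ = ⁅t₂, s⁆ * s := by rw [commutatorElement_def]; group
    rw [commutatorElement_def t₂ (t₂ ^ e * (c * s)), e1, e2]
    calc t₂ ^ e * c * (⁅t₂, s⁆ * s) * (t₂ ^ e * (c * s))⁻¹
        = ((t₂ ^ e * c) * ⁅t₂, s⁆) * s * (t₂ ^ e * (c * s))⁻¹ := by group
      _ = (⁅t₂, s⁆ * (t₂ ^ e * c)) * s * (t₂ ^ e * (c * s))⁻¹ := by rw [hcen.eq]
      _ = ⁅t₂, s⁆ := by group
  rw [h1]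
  exact hsZ

end

end Cfsg.Agent.Lib.H16.RkStruct
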