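import Mathlib
import Cfsg.Prelude
import Cfsg.Agent.Lib.H16.RkStructF
import Cfsg.Agent.Lib.H22.CyclicIndexP

/-! Structure of `p`-groups of rank at most two, part G (helper16): the case `T₁ ≠ T`, conclusion.
Automorphisms of odd order act trivially on `P / C_P(T₁)`. -/

set_option autoImplicit false

namespace Cfsg.Agent.Lib.H16.RkStruct

open scoped commutatorElement
open Cfsg.Agent.Lib

variable {P : Type*} [Group P] [Finite P] {p : ℕ} [hp : Fact p.Prime]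

section

variable (hp2 : p ≠ 2) (hP : IsPGroup p P) (hr : Cfsg.PRankLE p 2 P)
  (T : Subgroup P) [hTc : T.Characteristic] (hTmem : ∀ x, x ∈ T ↔ x ^ p = 1)
  (hTcard : Nat.card T = p ^ 3) (hne : tOne T ≠ T)
  {t₂ : P} (ht₂ : t₂ ∈ T) (ht₂n : t₂ ∉ tOne T)

include hP hr hTmem hTcard hne ht₂ in
theorem psi_pow_prime {d : P} (hd : d ∈ Subgroup.centralizer (tOne T : Set P)) :
    ⁅d, t₂⁆ ^ p = 1 :=
  (hTmem _).mp (mem_tOne.mp (commutator_mem_tOne hP hr T hTmem hTcard hne d ht₂)).1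

include hp2 hP hr hTmem hTcard hne ht₂ ht₂n in
/-- For `x ∈ D` acting nontrivially on `T / Z`, the group `C_P(T) ⟨x⟩` is cyclic. -/
theorem isCyclic_sup {x : P} (hxD : x ∈ Subgroup.centralizer (tOne T : Set P))
    (hx : ⁅x, t₂⁆ ∉ zT T) :
    IsCyclic ↥(Subgroup.centralizer (T : Set P) ⊔ Subgroup.zpowers x : Subgroup P) := by
  set C : Subgroup P := Subgroup.centralizer (T : Set P) with hC
  set D : Subgroup P := Subgroup.centralizer (tOne T : Set P) with hD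
  have hCn : C.Normal := inferInstance
  have hCD : C ≤ D := Subgroup.centralizer_le (by exact_mod_cast (inf_le_left : tOne T ≤ T))
  have hxp : x ^ p ∈ C := by
    apply psi_ker hP hr T hTmem hTcard hne ht₂ ht₂n (Subgroup.pow_mem _ hxD p)
    rw [psi_pow hP hr T hTmem hTcard hne ht₂ hxD, psi_pow_prime hP hr T hTmem hTcard hne ht₂ hxD]
  have hxC : x ∉ C := by
    intro h
    apply hx
    have : ⁅x, t₂⁆ = 1 := by
      rw [commutatorElement_eq_one_iff_commute]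
      exact (Subgroup.mem_centralizer_iff.mp h t₂ ht₂).symm
    rw [this]; exact (zT T).one_mem
  set M : Subgroup P := C ⊔ Subgroup.zpowers x with hM
  have hMcard : Nat.card M = Nat.card C * p := card_sup_zpowers_of_pow_mem C hxC hxp
  have hMD : M ≤ D := sup_le hCD (by rw [Subgroup.zpowers_le]; exact hxD)
  by_contra hnc
  have hCM : C ≤ M := le_sup_left
  have hcycC : IsCyclic ↥C := isCyclic_centralizer hp2 hP hr T hTmem hTcard
  have hcyc' : IsCyclic ↥(C.subgroupOf M) :=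
    (Subgroup.subgroupOfEquivOfLe hCM).isCyclic.mpr hcycC
  have hidx : (C.subgroupOf M).index = p := by
    have h2 := Subgroup.relIndex_mul_relIndex ⊥ C M bot_le hCM
    rw [Subgroup.relIndex_bot_left, Subgroup.relIndex_bot_left, hMcard] at h2
    exact Nat.eq_of_mul_eq_mul_left Nat.card_pos h2
  set φ := H22.powHomOfCyclicIndexP hp2 (hP.to_subgroup M) (C.subgroupOf M) hcyc' hidx with hφ
  have hK : Nat.card φ.ker = p ^ 2 :=
    H22.card_ker_powHomOfCyclicIndexP hp2 (hP.to_subgroup M) hnc (C.subgroupOf M) hcyc' hidx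
  have hKle : φ.ker.map M.subtype ≤ tOne T := by
    rintro _ ⟨y, hy, rfl⟩
    rw [SetLike.mem_coe, MonoidHom.mem_ker, hφ, H22.powHomOfCyclicIndexP_apply] at hy
    have hy' : (y : P) ^ p = 1 := by
      have := congrArg Subtype.val hy
      simpa using this
    exact mem_tOne_of_mem_centralizer hP hr T hTmem hTcard hne ((hTmem _).mpr hy') (hMD y.2)
  have hKeq : φ.ker.map M.subtype = tOne T := by
    apply Subgroup.eq_of_le_of_card_ge hKle
    rw [Subgroup.card_map_of_injective M.subtype_injective, hK,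
      card_tOne hP hr T hTmem hTcard hne]
  have hT₁M : tOne T ≤ M := by
    rw [← hKeq]
    exact Subgroup.map_subtype_le _
  obtain ⟨t₁, ht₁, ht₁Z⟩ := exists_mem_tOne_not_mem_zT hP hr T hTmem hTcard
  have ht₁M := hT₁M ht₁
  rw [hM, ← SetLike.mem_coe, Subgroup.normal_mul C (Subgroup.zpowers x), Set.mem_mul] at ht₁M
  obtain ⟨c, hc, y, hy, hcy⟩ := ht₁M
  rw [SetLike.mem_coe, ← mem_powers_iff_mem_zpowers, Submonoid.mem_powers_iff] at hy
  obtain ⟨i, rfl⟩ := hy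
  have h1 : ⁅t₁, t₂⁆ = ⁅x, t₂⁆ ^ i := by
    rw [← hcy, psi_mul hP hr T hTmem hTcard hne ht₂ (hCD hc) (Subgroup.pow_mem _ hxD i),
      psi_pow hP hr T hTmem hTcard hne ht₂ hxD]
    have : ⁅c, t₂⁆ = 1 := by
      rw [commutatorElement_eq_one_iff_commute]
      exact (Subgroup.mem_centralizer_iff.mp hc t₂ ht₂).symm
    rw [this, one_mul]
  have h2 : ⁅x, t₂⁆ ^ i ∈ zT T := h1 ▸ (mem_tOne.mp ht₁).2 t₂
  obtain ⟨j, rfl⟩ := dvd_of_pow_mem (zT T) hx
    (psi_pow_prime hP hr T hTmem hTcard hne ht₂ hxD) h2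
  apply ht₁Z
  refine Subgroup.mem_inf.mpr ⟨(mem_tOne.mp ht₁).1, ?_⟩
  rw [← hcy, pow_mul]
  exact C.mul_mem hc (C.pow_mem hxp j)

include hp2 hP hr hTmem hTcard hne ht₂ ht₂n in
/-- The generator `x'`. -/
theorem exists_generator :
    ∃ x' ∈ Subgroup.centralizer (tOne T : Set P), ⁅x', t₂⁆ ∉ zT T ∧
      (∀ c ∈ Subgroup.centralizer (T : Set P), ∃ j : ℕ, c = x' ^ j) := by
  obtain ⟨x, hxD, hx⟩ := exists_psi_not_mem hP hr T hTmem hTcard hne ht₂ ht₂n
  have hcyc := isCyclic_sup hp2 hP hr T hTmem hTcard hne ht₂ ht₂n hxD hx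
  obtain ⟨x', hx'⟩ := (Subgroup.isCyclic_iff_exists_zpowers_eq_top _).mp hcyc
  set C : Subgroup P := Subgroup.centralizer (T : Set P) with hC
  set D : Subgroup P := Subgroup.centralizer (tOne T : Set P) with hD
  have hCD : C ≤ D := Subgroup.centralizer_le (by exact_mod_cast (inf_le_left : tOne T ≤ T))
  have hMD : C ⊔ Subgroup.zpowers x ≤ D := sup_le hCD (by rw [Subgroup.zpowers_le]; exact hxD)
  have hx'M : x' ∈ C ⊔ Subgroup.zpowers x := by rw [← hx']; exact Subgroup.mem_zpowers x'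
  have hx'D : x' ∈ D := hMD hx'M
  have hpow : ∀ y ∈ C ⊔ Subgroup.zpowers x, ∃ j : ℕ, y = x' ^ j := by
    intro y hy
    rw [← hx', ← mem_powers_iff_mem_zpowers, Submonoid.mem_powers_iff] at hy
    obtain ⟨j, hj⟩ := hy
    exact ⟨j, hj.symm⟩
  refine ⟨x', hx'D, ?_, fun c hc => hpow c (Subgroup.mem_sup_left hc)⟩
  intro hcon
  obtain ⟨j, hj⟩ := hpow x (Subgroup.mem_sup_right (Subgroup.mem_zpowers x))
  apply hx
  rw [hj, psi_pow hP hr T hTmem hTcard hne ht₂ hx'D]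
  exact (zT T).pow_mem hcon j

include hp2 hP hr hTmem hTcard hne in
/-- In the case `T₁ ≠ T`, every automorphism of odd order acts trivially on `P / C_P(T₁)`. -/
theorem mul_inv_mem_centralizer_of_odd (α : MulAut P) (hodd : Odd (orderOf α)) (g : P) :
    α g * g⁻¹ ∈ Subgroup.centralizer (tOne T : Set P) := by
  have hex : ∃ t₂ ∈ T, t₂ ∉ tOne T := by
    by_contra hcon
    push Not at hcon
    exact hne (le_antisymm inf_le_left hcon)
  obtain ⟨t₂, ht₂, ht₂n⟩ := hex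
  obtain ⟨x', hx'D, hx'Z, hCpow⟩ := exists_generator hp2 hP hr T hTmem hTcard hne ht₂ ht₂n
  set C : Subgroup P := Subgroup.centralizer (T : Set P) with hC
  set D : Subgroup P := Subgroup.centralizer (tOne T : Set P) with hD
  have hZc := zT_le_center hP hr T hTmem hTcard
  have hZcomm : ∀ z ∈ zT T, ∀ g : P, Commute z g := fun z hz g =>
    (Subgroup.mem_center_iff.mp (hZc hz) g).symm
  have hs : ⁅x', t₂⁆ ∈ tOne T := commutator_mem_tOne hP hr T hTmem hTcard hne x' ht₂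
  have hsp := psi_pow_prime hP hr T hTmem hTcard hne ht₂ hx'D
  -- `[t₂, [x', t₂]] ≠ 1`
  have hc2 : ⁅t₂, ⁅x', t₂⁆⁆ ≠ 1 := by
    intro h1
    have hc : Commute t₂ ⁅x', t₂⁆ := commutatorElement_eq_one_iff_commute.mp h1
    exact ht₂n (mem_tOne_of_mem_centralizer hP hr T hTmem hTcard hne ht₂
      (mem_centralizer_tOne hP hr T hTmem hTcard hne hs hx'Z hc))
  -- `Z ≤ ⟨x' ^ p⟩`
  have hZpow : ∀ z ∈ zT T, ∃ r : ℕ, z = x' ^ (p * r) := by
    intro z hz
    obtain ⟨j, hj⟩ := hCpow z (Subgroup.mem_inf.mp hz).2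
    have h1 : ⁅z, t₂⁆ = 1 := by
      rw [commutatorElement_eq_one_iff_commute]; exact hZcomm z hz t₂
    rw [hj, psi_pow hP hr T hTmem hTcard hne ht₂ hx'D] at h1
    obtain ⟨r, rfl⟩ := dvd_of_pow_mem (zT T) hx'Z hsp (h1 ▸ (zT T).one_mem)
    exact ⟨r, hj⟩
  -- `D = ⟨x'⟩ T₁`
  have hDgen : ∀ d ∈ D, ∃ m : ℕ, ∃ s ∈ tOne T, d = x' ^ m * s := by
    intro d hd
    have hdT₁ : ⁅d, t₂⁆ ∈ zT T ⊔ Subgroup.zpowers ⁅x', t₂⁆ := by
      rw [tOne_eq_sup hP hr T hTmem hTcard hne hs hx'Z]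
      exact commutator_mem_tOne hP hr T hTmem hTcard hne d ht₂
    rw [← SetLike.mem_coe, Subgroup.normal_mul (zT T) (Subgroup.zpowers ⁅x', t₂⁆), Set.mem_mul]
      at hdT₁
    obtain ⟨z, hz, y, hy, hzy⟩ := hdT₁
    rw [SetLike.mem_coe, ← mem_powers_iff_mem_zpowers, Submonoid.mem_powers_iff] at hy
    obtain ⟨m, rfl⟩ := hy
    have hxm : x' ^ m ∈ D := Subgroup.pow_mem _ hx'D m
    have h1 : ⁅(x' ^ m)⁻¹ * d, t₂⁆ = z := by
      rw [psi_mul hP hr T hTmem hTcard hne ht₂ (Subgroup.inv_mem _ hxm) hd,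
        psi_inv hP hr T hTmem hTcard hne ht₂ hxm, psi_pow hP hr T hTmem hTcard hne ht₂ hx'D,
        ← hzy, ← mul_assoc, ((hZcomm z hz _).symm).eq, mul_assoc, inv_mul_cancel, mul_one]
    obtain ⟨c, hc, s, hs', hcs⟩ := exists_mul_of_psi_mem hP hr T hTmem hTcard hne ht₂ ht₂n
      (Subgroup.mul_mem _ (Subgroup.inv_mem _ hxm) hd) (h1 ▸ hz)
    obtain ⟨j, rfl⟩ := hCpow c hc
    refine ⟨m + j, s, hs', ?_⟩
    have : d = x' ^ m * ((x' ^ m)⁻¹ * d) := by group
    rw [this, hcs, pow_add, mul_assoc]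
  -- invariance under `α`
  have hαD : ∀ d ∈ D, α d ∈ D := fun d hd =>
    Subgroup.characteristic_iff_map_le.mp (inferInstance : D.Characteristic) α ⟨d, hd, rfl⟩
  have hαT : ∀ t ∈ T, α t ∈ T := fun t ht =>
    Subgroup.characteristic_iff_map_le.mp hTc α ⟨t, ht, rfl⟩
  have hαT₁ : ∀ s ∈ tOne T, α s ∈ tOne T := fun s hs =>
    Subgroup.characteristic_iff_map_le.mp (inferInstance : (tOne T).Characteristic) α
      ⟨s, hs, rfl⟩
  have hT₁D : tOne T ≤ D := by
    intro s hs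
    rw [hD, Subgroup.mem_centralizer_iff]
    intro s' hs'
    exact tOne_comm hP hr T hTmem hTcard hne s' hs' s hs
  exact mul_inv_mem_of_odd hp.out (zT T) (tOne T) T D hZcomm
    (fun s hs s' hs' => tOne_comm hP hr T hTmem hTcard hne s hs s' hs')
    (fun d hd s hs => (Subgroup.mem_centralizer_iff.mp hd s hs).symm)
    (fun s hs t _ => (mem_tOne.mp hs).2 t) inf_le_left (fun t ht => (hTmem t).mp ht) x' t₂
    hx'D ht₂ hs hc2 hZpow hDgen
    (fun t ht => exists_pow_mul_tOne hP hr T hTmem hTcard hne ht₂ ht₂n ht) α hαD hαT hαT₁ hT₁D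
    (fun g => exists_pow_mul hP hr T hTmem hTcard hne ht₂ ht₂n g) hodd g

end

end Cfsg.Agent.Lib.H16.RkStruct
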