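import Mathlib
import Cfsg.Prelude
import Cfsg.Agent.Lib.H16.RkStructG
import Cfsg.Agent.Lib.H16.MetaCritB
import Cfsg.Agent.Lib.H16.MetaCoprimeD
import Cfsg.Agent.Lib.H16.RankTwoD
import Cfsg.Agent.Lib.H16.AutAct

/-! Structure of `p`-groups `P` of rank at most two with `P = [P, 𝒳]` for a group `𝒳` of
automorphisms of odd order prime to `p` (helper16): `p > 3`, and `P` is abelian or the central
product of a nonabelian group of order `p ^ 3` and exponent `p` with a cyclic group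
(Bender--Glauberman, Theorem 4.18(b)). -/

set_option autoImplicit false

namespace Cfsg.Agent.Lib.H16.RkStruct

open scoped commutatorElement
open Cfsg.Agent.Lib Cfsg.Agent.Lib.H16.AutAct

universe u

variable {P : Type u} [Group P] [Finite P] {p : ℕ} [hp : Fact p.Prime]

/-- `p > 3`. -/
theorem three_lt (hp2 : p ≠ 2) (hP : IsPGroup p P) (hr : Cfsg.PRankLE p 2 P)
    (𝒳 : Subgroup (MulAut P)) (hodd : Odd (Nat.card 𝒳)) (hcop : (Nat.card 𝒳).Coprime p)
    (hne : ∃ x ∈ 𝒳, x ≠ 1) : 3 < p := by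
  haveI hfin : Finite (MulAut P) := finite_mulAut
  obtain ⟨x, hx, hx1⟩ := hne
  have hox : orderOf x ∣ Nat.card 𝒳 := Subgroup.orderOf_dvd_natCard 𝒳 hx
  have hox1 : orderOf x ≠ 1 := fun h => hx1 (orderOf_eq_one_iff.mp h)
  have hox0 : orderOf x ≠ 0 := (orderOf_pos x).ne'
  set q := (orderOf x).minFac with hq
  have hqp : q.Prime := Nat.minFac_prime hox1
  have hqd : q ∣ orderOf x := Nat.minFac_dvd _
  set y := x ^ (orderOf x / q) with hy
  have hyo : orderOf y = q := orderOf_pow_orderOf_div hox0 hqd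
  have hyq : y ^ q = 1 := by rw [← hyo]; exact pow_orderOf_eq_one y
  have hy1 : y ≠ 1 := by
    intro h
    rw [h, orderOf_one] at hyo
    exact hqp.one_lt.ne hyo
  have hqcard : q ∣ Nat.card 𝒳 := hqd.trans hox
  have hqne : q ≠ p := by
    intro h
    have := Nat.Coprime.coprime_dvd_left hqcard hcop
    rw [h] at this
    exact hp.out.one_lt.ne' ((Nat.coprime_self p).mp this)
  have hdvd := RankTwo.prime_dvd_of_aut hp2 hP hr hqp hqne y hyq hy1
  by_contra hlt
  push Not at hlt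
  have hp3 : p = 3 := by
    have := hp.out.two_le
    omega
  rw [hp3] at hdvd
  have h8 : q ∣ 2 ^ 3 := by norm_num at hdvd ⊢; exact hdvd
  have hq2 : q = 2 := (Nat.prime_dvd_prime_iff_eq hqp Nat.prime_two).mp (hqp.dvd_of_dvd_pow h8)
  rw [hq2] at hqcard
  obtain ⟨k, hk⟩ := hodd
  omega

/-- The main structure theorem. -/
theorem main (hp2 : p ≠ 2) (hP : IsPGroup p P) (hr : Cfsg.PRankLE p 2 P) (hnt : Nontrivial P)
    (𝒳 : Subgroup (MulAut P)) (hodd : Odd (Nat.card 𝒳)) (hcop : (Nat.card 𝒳).Coprime p)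
    (hfull : autComm 𝒳 = ⊤) :
    3 < p ∧ ((∀ a b : P, a * b = b * a) ∨
      ∃ P₁ P₂ : Subgroup P, P₁ ⊔ P₂ = ⊤ ∧ (∀ a ∈ P₁, ∀ b ∈ P₂, a * b = b * a) ∧
      (¬ ∀ a ∈ P₁, ∀ b ∈ P₁, a * b = b * a) ∧ Nat.card P₁ = p ^ 3 ∧ (∀ a ∈ P₁, a ^ p = 1) ∧
      IsCyclic ↥P₂ ∧ Subgroup.closure {x : P | x ∈ P₂ ∧ x ^ p = 1} = ⁅P₁, P₁⁆) := by
  haveI hfin : Finite (MulAut P) := finite_mulAut
  have hne : ∃ x ∈ 𝒳, x ≠ 1 := by
    by_contra hcon
    push Not at hcon
    have hbot : autComm 𝒳 = ⊥ := by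
      unfold autComm
      rw [Subgroup.closure_eq_bot_iff]
      rintro c ⟨x, hx, r, rfl⟩
      rw [hcon x hx, MulAut.one_apply, mul_inv_cancel]
      rfl
    rw [hfull] at hbot
    obtain ⟨a, b, hab⟩ := hnt
    apply hab
    have ha : a ∈ (⊥ : Subgroup P) := hbot ▸ Subgroup.mem_top a
    have hb : b ∈ (⊥ : Subgroup P) := hbot ▸ Subgroup.mem_top b
    rw [Subgroup.mem_bot.mp ha, Subgroup.mem_bot.mp hb]
  have h3 := three_lt hp2 hP hr 𝒳 hodd hcop hne
  refine ⟨h3, ?_⟩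
  have hp5 : 5 ≤ p := by
    rcases Nat.lt_or_ge p 5 with h | h
    · exfalso
      have h4 : p = 4 := by omega
      have hpp := hp.out
      rw [h4] at hpp
      exact absurd hpp (by norm_num)
    · exact h
  set T : Subgroup P := RkOmega.omegaTop hp5 hP hr with hT
  have hTmem : ∀ x, x ∈ T ↔ x ^ p = 1 := fun x => Iff.rfl
  obtain ⟨i, hi, hTi⟩ := (Nat.dvd_prime_pow hp.out).mp (RkOmega.card_omegaTop_dvd hp5 hP hr)
  by_cases hi3 : i = 3
  · right
    rw [hi3] at hTi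
    by_cases heq : tOne T = T
    · exact struct_of_sup_eq_top hp2 hP hr T hTmem hTi
        (sup_eq_top_of_tOne_eq hP hr T hTmem hTi heq)
    · exfalso
      set D : Subgroup P := Subgroup.centralizer (tOne T : Set P) with hD
      have hidx : D.index = p := index_centralizer_tOne hP hr T hTmem hTi heq
      have hle : autComm 𝒳 ≤ D := by
        unfold autComm
        rw [Subgroup.closure_le]
        rintro c ⟨x, hx, r, rfl⟩
        apply mul_inv_mem_centralizer_of_odd hp2 hP hr T hTmem hTi heq x _ r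
        exact Odd.of_dvd_nat hodd (Subgroup.orderOf_dvd_natCard 𝒳 hx)
      rw [hfull, top_le_iff] at hle
      rw [hle, Subgroup.index_top] at hidx
      exact hp.out.one_lt.ne hidx
  · left
    have hO : Nat.card (Cfsg.omegaOne p (⊤ : Subgroup P)) ≤ p ^ 2 := by
      rw [RkOmega.omegaOne_top_eq hp5 hP hr, ← hT, hTi]
      exact Nat.pow_le_pow_right hp.out.pos (by omega)
    have hm := MetaCrit.isMetacyclic_of_card_omegaOne_le hp5 hP hO
    apply Meta.comm_of_metacyclic_of_comm_eq_top hp2 hP hm 𝒳 hcop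
    rw [eq_top_iff, ← hfull]
    unfold autComm
    rw [Subgroup.closure_le]
    rintro c ⟨x, hx, r, rfl⟩
    have h1 : x r * r⁻¹ = ((r⁻¹)⁻¹ * x r⁻¹)⁻¹ := by
      rw [map_inv]; group
    rw [h1]
    apply Subgroup.inv_mem
    exact Subgroup.subset_closure ⟨r⁻¹, x, hx, rfl⟩

end Cfsg.Agent.Lib.H16.RkStruct
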