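import Mathlib
import Cfsg.Agent.Lib.H16.BGy
import Cfsg.Agent.Lib.H7.BG10e
import Cfsg.Agent.Lib.L0.TransferBasic
import Cfsg.Agent.Lib.H1.CoprimeAbelian
import Cfsg.Agent.Lib.H10.BG36f

/-! # Bender–Glauberman §12, Lemma 12.1 and preliminaries (helper16) -/

set_option autoImplicit false
set_option linter.unusedSectionVars false
set_option linter.unusedVariables false
set_option linter.style.haveILetI false

namespace Cfsg.Agent.Lib.H16.BG

open Cfsg Cfsg.Agent.Lib.H7.BG7 Cfsg.Agent.Lib.H7.BG10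
open scoped commutatorElement

section Dichotomy

variable {E : Type*} [Group E] [Finite E] {p : ℕ} [hp : Fact p.Prime]

/-- an element of order prime to `p` normalizing a cyclic `p`-group `P` either centralizes it or
satisfies `[P, x] = P`. -/
theorem cyclic_commutator_zpowers {P : Subgroup E} (hP : IsPGroup p P) (hc : IsCyclic P) {x : E}
    (hx : x ∈ Subgroup.normalizer (P : Set E)) (hox : (orderOf x).Coprime p) :
    x ∈ Subgroup.centralizer (P : Set E) ∨ ⁅P, Subgroup.zpowers x⁆ = P := by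
  have hA : Subgroup.zpowers x ≤ Subgroup.normalizer (P : Set E) := Subgroup.zpowers_le.2 hx
  obtain ⟨k, hk⟩ := IsPGroup.iff_card.1 hP
  have hcop : (Nat.card (Subgroup.zpowers x)).Coprime (Nat.card P) := by
    rw [Nat.card_zpowers, hk]; exact Nat.Coprime.pow_right k hox
  haveI : IsMulCommutative P := ⟨⟨fun a b => by
    letI := IsCyclic.commGroup (α := P); exact mul_comm a b⟩⟩
  have hca : Cfsg.Agent.Lib.H1.CoprimeAction (Subgroup.zpowers x) P :=
    ⟨hA, hcop, Or.inl inferInstance⟩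
  have h1 := Cfsg.Agent.Lib.H1.coprime_commutator_sup_centralizer hca
  have h2 := Cfsg.Agent.Lib.H1.coprime_abelian_centralizer_inf_commutator hA hcop
  by_cases hb : ⁅P, Subgroup.zpowers x⁆ = ⊥
  · left
    have h3 : P ≤ Subgroup.centralizer ((Subgroup.zpowers x : Subgroup E) : Set E) :=
      Subgroup.commutator_eq_bot_iff_le_centralizer.1 hb
    refine Subgroup.mem_centralizer_iff.2 fun y hy => ?_
    exact ((Subgroup.mem_centralizer_iff.1 (h3 hy)) x (Subgroup.mem_zpowers x)).symm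
  · right
    by_cases hb2 : P ⊓ Subgroup.centralizer ((Subgroup.zpowers x : Subgroup E) : Set E) = ⊥
    · rw [hb2, sup_bot_eq] at h1; exact h1
    · exfalso
      exact Cfsg.Agent.Lib.H10.BG36.inf_ne_bot_of_isCyclic (T := P) hP inf_le_left hca.commutator_le
        hb2 hb h2

/-- a cyclic Sylow `p`-subgroup meeting the derived subgroup nontrivially lies in it. -/
theorem cyclic_sylow_le_commutator (P : Sylow p E) (hc : IsCyclic (P : Subgroup E))
    (hne : commutator E ⊓ (P : Subgroup E) ≠ ⊥) : (P : Subgroup E) ≤ commutator E := by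
  have hcomm : ∀ a ∈ P, ∀ b ∈ P, a * b = b * a := by
    intro a ha b hb
    letI := IsCyclic.commGroup (α := (P : Subgroup E))
    exact congrArg Subtype.val (mul_comm (⟨a, ha⟩ : (P : Subgroup E)) ⟨b, hb⟩)
  have heq := Cfsg.Agent.Lib.L0.commutator_inf_sylow_of_comm P hcomm
  by_contra hle
  apply hne
  rw [heq, Subgroup.commutator_eq_bot_iff_le_centralizer]
  -- the normalizer centralizes `P`
  have hQ : ⁅(P : Subgroup E), Subgroup.normalizer ((P : Subgroup E) : Set E)⁆ ≠ (P : Subgroup E) := by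
    intro h
    apply hle
    rw [← h, ← heq]; exact inf_le_left
  have key : ∀ x ∈ Subgroup.normalizer ((P : Subgroup E) : Set E), (orderOf x).Coprime p →
      x ∈ Subgroup.centralizer ((P : Subgroup E) : Set E) := by
    intro x hx hox
    rcases cyclic_commutator_zpowers P.2 hc hx hox with h | h
    · exact h
    · exfalso
      apply hQ
      apply le_antisymm
      · exact (Subgroup.le_normalizer_iff_commutator_le_left).mp le_rfl
      · exact h.symm.le.trans (Subgroup.commutator_mono le_rfl (Subgroup.zpowers_le.2 hx))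
  have hall : Subgroup.normalizer ((P : Subgroup E) : Set E) ≤
      Subgroup.centralizer ((P : Subgroup E) : Set E) := by
    intro x hx
    have hx0 : 0 < orderOf x := orderOf_pos x
    obtain ⟨k, m, hm, hkm⟩ := Nat.exists_eq_pow_mul_and_not_dvd hx0.ne' p hp.out.ne_one
    have hmc : m.Coprime (p ^ k) :=
      Nat.Coprime.pow_right k ((Nat.Prime.coprime_iff_not_dvd hp.out).2 hm).symm
    apply mem_of_pow_mem_of_coprime hmc
    · -- `x ^ m` is a `p`-element of the normalizer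
      have h1 : (x ^ m) ^ p ^ k = 1 := by
        rw [← pow_mul, mul_comm, ← hkm]; exact pow_orderOf_eq_one x
      have hZ : IsPGroup p (Subgroup.zpowers (x ^ m)) := by
        rw [IsPGroup.iff_card (p := p), Nat.card_zpowers]
        obtain ⟨j, -, hj⟩ := (Nat.dvd_prime_pow hp.out).1 (orderOf_dvd_of_pow_eq_one h1)
        exact ⟨j, hj⟩
      have h2 := hZ.inf_normalizer_sylow P
      have h3 : Subgroup.zpowers (x ^ m) ≤ (P : Subgroup E) := by
        have h4 : Subgroup.zpowers (x ^ m) ≤ Subgroup.normalizer ((P : Subgroup E) : Set E) :=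
          Subgroup.zpowers_le.2 (Subgroup.pow_mem _ hx m)
        intro z hz
        have h5 : z ∈ Subgroup.zpowers (x ^ m) ⊓ Subgroup.normalizer (P : Set E) := ⟨hz, h4 hz⟩
        rw [h2] at h5
        exact h5.2
      refine Subgroup.mem_centralizer_iff.2 fun y hy => ?_
      exact hcomm y hy _ (h3 (Subgroup.mem_zpowers _))
    · apply key _ (Subgroup.pow_mem _ hx _)
      have h1 : (x ^ p ^ k) ^ m = 1 := by
        rw [← pow_mul, ← hkm]; exact pow_orderOf_eq_one x
      have h2 : orderOf (x ^ p ^ k) ∣ m := orderOf_dvd_of_pow_eq_one h1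
      exact Nat.Coprime.coprime_dvd_left h2 ((Nat.Prime.coprime_iff_not_dvd hp.out).2 hm).symm
  intro y hy
  refine Subgroup.mem_centralizer_iff.2 fun x hx => ?_
  exact (Subgroup.mem_centralizer_iff.1 (hall hx) y hy).symm

end Dichotomy

section SigmaCore

variable {G : Type*} [Group G] [Finite G]

/-- the rank three part of the Uniqueness Theorem. -/
theorem uniq3 (hG : IsMinSimpleOddOrder G) : Uniq3 G := by
  intro K hK h3
  unfold RankLE at h3
  push Not at h3
  obtain ⟨q, hq, hr⟩ := h3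
  exact inUniqueMaximal_of_not_pRankLE hG hq hK hr

/-- `O_σ(M)` is a Hall subgroup of `M`, `M / O_σ(M)` has rank at most two and nilpotent derived
group. -/
theorem sigma_core_abstract (hG : IsMinSimpleOddOrder G) {M : Subgroup G} (hM : IsCoatom M) :
    (∀ p : ℕ, p.Prime → p ∈ sigma M → ¬ p ∣ (piCore (sigma M) ↥M).index) ∧
      RankLE 2 (↥M ⧸ piCore (sigma M) ↥M) ∧
      Group.IsNilpotent ↥((commutator ↥M).map (QuotientGroup.mk' (piCore (sigma M) ↥M))) := by
  have hU := uniq3 hG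
  have hs : Group.IsSolvable ↥M := solvable_of_coatom hG hM
  have hodd : Odd (Nat.card ↥M) := odd_card_subgroup hG M
  have hsub := alpha_subset_sigma hG hU hM
  have hrk : ∀ q : ℕ, q.Prime → q ∉ sigma M → PRankLE q 2 ↥M := by
    intro q hq hqσ
    by_contra h
    exact hqσ (hsub ⟨hq, h⟩)
  have hsyl : ∀ p : ℕ, p.Prime → p ∈ sigma M →
      ∃ P : Subgroup ↥M, IsPGroup p P ∧ ¬ p ∣ P.index ∧ P ≤ commutator ↥M := by
    intro p hp hpσ
    haveI : Fact p.Prime := ⟨hp⟩
    obtain ⟨P, hPM, _, hPc⟩ := sylow_le_commutator_of_sigma hG hU hM hpσ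
    refine ⟨P.subgroupOf M, hPM.isPGroup.comap_subtype, hPM.2.2, ?_⟩
    rw [← Subgroup.map_subtype_le_map_subtype, Subgroup.map_subgroupOf_eq_of_le hPM.le,
      Subgroup.map_subtype_commutator]
    exact hPc
  exact alpha_core_abstract hs hodd (sigma M) hrk hsyl

theorem card_sigmaCore (M : Subgroup G) :
    Nat.card ↥(sigmaCore M) = Nat.card ↥(piCore (sigma M) ↥M) :=
  Subgroup.card_map_of_injective M.subtype_injective

theorem sigmaCore_le (M : Subgroup G) : sigmaCore M ≤ M := Subgroup.map_subtype_le _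

/-- the primes dividing `|M_σ|` lie in `σ(M)`. -/
theorem mem_sigma_of_dvd_card_sigmaCore {M : Subgroup G} {p : ℕ} (hp : p.Prime)
    (h : p ∣ Nat.card ↥(sigmaCore M)) : p ∈ sigma M := by
  rw [card_sigmaCore] at h
  exact Cfsg.Agent.Lib.H19.piCore_isPiCard (sigma M) p hp h

theorem le_normalizer_sigmaCore (M : Subgroup G) :
    M ≤ Subgroup.normalizer ((sigmaCore M : Subgroup G) : Set G) := by
  intro m hm
  rw [Subgroup.mem_normalizer_iff]
  have hn : (piCore (sigma M) ↥M).Normal := inferInstance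
  intro x
  constructor
  · rintro ⟨y, hy, rfl⟩
    exact ⟨⟨m, hm⟩ * y * ⟨m, hm⟩⁻¹, hn.conj_mem y hy ⟨m, hm⟩, rfl⟩
  · rintro ⟨y, hy, hyx⟩
    refine ⟨⟨m, hm⟩⁻¹ * y * ⟨m, hm⟩, ?_, ?_⟩
    · have := hn.conj_mem y hy ⟨m, hm⟩⁻¹
      rwa [inv_inv] at this
    · have h1 : (y : G) = m * x * m⁻¹ := hyx
      simp only [Subgroup.subtype_apply, Subgroup.coe_mul, Subgroup.coe_inv, h1]
      group

end SigmaCore

section Compl

variable {G : Type*} [Group G] [Finite G]

/-- the map `E → M / N` attached to a subgroup `E ≤ M` and a normal subgroup `N` of `M`. -/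
noncomputable def complHom {M E : Subgroup G} (N : Subgroup ↥M) [N.Normal] (hEM : E ≤ M) :
    ↥E →* ↥M ⧸ N :=
  (QuotientGroup.mk' N).comp (Subgroup.inclusion hEM)

theorem complHom_injective {M E : Subgroup G} (N : Subgroup ↥M) [N.Normal] (hEM : E ≤ M)
    (h : E ⊓ N.map M.subtype = ⊥) : Function.Injective (complHom N hEM) := by
  rw [injective_iff_map_eq_one]
  intro a ha
  unfold complHom at ha
  rw [MonoidHom.comp_apply, QuotientGroup.mk'_apply, QuotientGroup.eq_one_iff] at ha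
  have h1 : (a : G) ∈ E ⊓ N.map M.subtype := ⟨a.2, ⟨_, ha, rfl⟩⟩
  rw [h, Subgroup.mem_bot] at h1
  exact Subtype.ext h1

theorem complHom_surjective {M E : Subgroup G} (N : Subgroup ↥M) [N.Normal] (hEM : E ≤ M)
    (hfac : ∀ m ∈ M, ∃ a ∈ E, ∃ b ∈ N.map M.subtype, m = a * b) :
    Function.Surjective (complHom N hEM) := by
  intro y
  obtain ⟨m, rfl⟩ := QuotientGroup.mk'_surjective N y
  obtain ⟨a, ha, b, ⟨n, hn, rfl⟩, hm⟩ := hfac m m.2
  refine ⟨⟨a, ha⟩, ?_⟩
  unfold complHom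
  rw [MonoidHom.comp_apply, QuotientGroup.mk'_apply, QuotientGroup.mk'_apply, QuotientGroup.eq]
  have h1 : (Subgroup.inclusion hEM ⟨a, ha⟩)⁻¹ * m = n := by
    apply Subtype.ext
    simp only [Subgroup.coe_mul, Subgroup.coe_inv, Subgroup.coe_inclusion, hm,
      Subgroup.subtype_apply]
    group
  rw [h1]; exact hn

/-- the image of `M'` in `M / N` has the order of `E'`, for a complement `E` of `N` in `M`. -/
theorem card_commutator_compl {M E : Subgroup G} (N : Subgroup ↥M) [N.Normal] (hEM : E ≤ M)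
    (h : E ⊓ N.map M.subtype = ⊥)
    (hfac : ∀ m ∈ M, ∃ a ∈ E, ∃ b ∈ N.map M.subtype, m = a * b) :
    Nat.card ↥((commutator ↥M).map (QuotientGroup.mk' N)) = Nat.card ↥⁅E, E⁆ := by
  have h1 : (commutator ↥M).map (QuotientGroup.mk' N) = commutator (↥M ⧸ N) := by
    rw [commutator_def, commutator_def, Subgroup.map_commutator,
      Subgroup.map_top_of_surjective _ (QuotientGroup.mk'_surjective N)]
  have h2 : (commutator ↥E).map (complHom N hEM) = commutator (↥M ⧸ N) := by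
    rw [commutator_def, commutator_def, Subgroup.map_commutator,
      Subgroup.map_top_of_surjective _ (complHom_surjective N hEM hfac)]
  have h3 : Nat.card ↥((commutator ↥E).map (complHom N hEM)) = Nat.card ↥(commutator ↥E) :=
    Subgroup.card_map_of_injective (complHom_injective N hEM h)
  have h4 : Nat.card ↥⁅E, E⁆ = Nat.card ↥(commutator ↥E) := by
    rw [← Subgroup.map_subtype_commutator]
    exact Subgroup.card_map_of_injective E.subtype_injective
  rw [h1, ← h2, h3, h4]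

/-- `E'` is nilpotent when the image of `M'` in `M / N` is. -/
theorem isNilpotent_commutator_compl {M E : Subgroup G} (N : Subgroup ↥M) [N.Normal] (hEM : E ≤ M)
    (h : E ⊓ N.map M.subtype = ⊥)
    (hnil : Group.IsNilpotent ↥((commutator ↥M).map (QuotientGroup.mk' N))) :
    Group.IsNilpotent ↥⁅E, E⁆ := by
  have hle : ⁅E, E⁆ ≤ M := (Subgroup.commutator_le_self E).trans hEM
  have hmem : ∀ x : ↥⁅E, E⁆, (QuotientGroup.mk' N).comp (Subgroup.inclusion hle) x ∈
      (commutator ↥M).map (QuotientGroup.mk' N) := by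
    intro x
    refine ⟨Subgroup.inclusion hle x, ?_, rfl⟩
    have h1 : (x : G) ∈ ⁅M, M⁆ := Subgroup.commutator_mono hEM hEM x.2
    rw [← Subgroup.map_subtype_commutator] at h1
    obtain ⟨y, hy, hyx⟩ := h1
    have : Subgroup.inclusion hle x = y := Subtype.ext hyx.symm
    rw [SetLike.mem_coe, this]; exact hy
  let f : ↥⁅E, E⁆ →* ↥((commutator ↥M).map (QuotientGroup.mk' N)) :=
    ((QuotientGroup.mk' N).comp (Subgroup.inclusion hle)).codRestrict _ hmem
  have hf : Function.Injective f := by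
    rw [injective_iff_map_eq_one]
    intro a ha
    have ha' : (QuotientGroup.mk' N) (Subgroup.inclusion hle a) = 1 := by
      have := congrArg Subtype.val ha
      exact this
    rw [QuotientGroup.mk'_apply, QuotientGroup.eq_one_iff] at ha'
    have h1 : (a : G) ∈ E ⊓ N.map M.subtype :=
      ⟨Subgroup.commutator_le_self E a.2, ⟨_, ha', rfl⟩⟩
    rw [h, Subgroup.mem_bot] at h1
    exact Subtype.ext h1
  haveI := hnil
  refine Subgroup.isNilpotent_of_ker_le_center f ?_
  rw [(MonoidHom.ker_eq_bot_iff f).2 hf]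
  exact bot_le

end Compl

section Lemma121

variable {G : Type*} [Group G] [Finite G]

/-- a Sylow `q`-subgroup of a Hall `π`-subgroup, `q ∈ π`, is a Sylow `q`-subgroup. -/
theorem SylIn.of_hall {π : Set ℕ} {q : ℕ} [hq : Fact q.Prime] {Q H K : Subgroup G}
    (hH : IsPiHallOf π H K) (hqπ : q ∈ π) (hQ : SylIn q Q H) : SylIn q Q K := by
  refine ⟨hQ.1.trans hH.1, hQ.2.1, ?_⟩
  rw [← Subgroup.relIndex_mul_relIndex Q H K hQ.1 hH.1]
  intro hd
  rcases (Nat.Prime.dvd_mul hq.out).1 hd with h | h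
  · exact hQ.2.2 h
  · exact hH.2.2 q hq.out hqπ h

/-- a subgroup all of whose Sylow subgroups have rank at most one is a `Z`-group. -/
theorem isZGroup_of_rankOne (hG : IsMinSimpleOddOrder G) {K M : Subgroup G} (hKM : K ≤ M)
    (h : ∀ r : ℕ, r.Prime → r ∣ Nat.card ↥K → PRankLE r 1 ↥M) : IsZGroup ↥K := by
  refine ⟨fun p hpp P => ?_⟩
  haveI hp : Fact p.Prime := ⟨hpp⟩
  by_cases hP : (P : Subgroup ↥K) = ⊥
  · rw [hP]; infer_instance
  · have hd : p ∣ Nat.card ↥K := by
      have h1 : Nat.card ↥(P : Subgroup ↥K) ≠ 1 := fun h => hP (Subgroup.card_eq_one.1 h)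
      obtain ⟨k, hk⟩ := IsPGroup.iff_card.1 P.2
      have hk0 : k ≠ 0 := by
        rintro rfl
        rw [pow_zero] at hk
        exact h1 hk
      have : p ∣ Nat.card ↥(P : Subgroup ↥K) := by rw [hk]; exact dvd_pow_self p hk0
      exact this.trans (Subgroup.card_subgroup_dvd_card _)
    have hp2 : p ≠ 2 := prime_ne_two_of_dvd_card hG hd
    have hr : PRankLE p 1 ↥K := pRankLE_of_le hKM (h p hpp hd)
    exact Cfsg.Agent.Lib.H16.ChiefRank.isCyclic_of_rankOne hp2 P.2
      (Cfsg.Agent.Lib.H16.RankTwo.pRankLE_subgroup hr _)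

theorem isNilpotent_of_le {A K : Subgroup G} (hA : Group.IsNilpotent ↥A) (h : K ≤ A) :
    Group.IsNilpotent ↥K := by
  haveI := hA
  refine Subgroup.isNilpotent_of_ker_le_center (Subgroup.inclusion h) ?_
  rw [(MonoidHom.ker_eq_bot_iff _).2 (Subgroup.inclusion_injective h)]
  exact bot_le

/-- a cyclic Sylow subgroup of `E` meeting `E'` nontrivially lies in `E'`. -/
theorem SylIn.le_commutator_of_isCyclic {q : ℕ} [hq : Fact q.Prime] {Q E : Subgroup G}
    (hQ : SylIn q Q E) (hc : IsCyclic ↥Q) (hne : Q ⊓ ⁅E, E⁆ ≠ ⊥) : Q ≤ ⁅E, E⁆ := by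
  obtain ⟨S, hS⟩ := hQ.exists_sylow
  have hcS : IsCyclic ↥(S : Subgroup ↥E) := by
    have e := (S : Subgroup ↥E).equivMapOfInjective E.subtype E.subtype_injective
    have : IsCyclic ↥((S : Subgroup ↥E).map E.subtype) := by rw [hS]; exact hc
    exact e.isCyclic.2 this
  have hne' : commutator ↥E ⊓ (S : Subgroup ↥E) ≠ ⊥ := by
    intro h0
    apply hne
    have h1 := congrArg (Subgroup.map E.subtype) h0
    rw [Subgroup.map_inf _ _ _ E.subtype_injective, Subgroup.map_subtype_commutator, hS,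
      Subgroup.map_bot] at h1
    rw [inf_comm]; exact h1
  have h2 := cyclic_sylow_le_commutator S hcS hne'
  have h3 := Subgroup.map_mono (f := E.subtype) h2
  rwa [hS, Subgroup.map_subtype_commutator] at h3

/-- basic facts on a complement `E` of `M_σ` in `M`. -/
theorem sigma_compl_facts (hG : IsMinSimpleOddOrder G) {M E : Subgroup G} (hM : IsCoatom M)
    (hE : IsComplIn E (sigmaCore M) M) :
    (∀ p : ℕ, p.Prime → p ∣ Nat.card ↥E → p ∉ sigma M) ∧ Group.IsNilpotent ↥⁅E, E⁆ ∧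
      (∀ p : ℕ, p.Prime → p ∉ sigma M → p ∣ Nat.card ↥⁅M, M⁆ → p ∣ Nat.card ↥⁅E, E⁆) ∧
      Nat.card ↥E * Nat.card ↥(sigmaCore M) = Nat.card ↥M := by
  obtain ⟨hEM, hSM, hinf, hfac⟩ := hE
  obtain ⟨hHall, hR, hNil⟩ := sigma_core_abstract hG hM
  have hinj := complHom_injective (piCore (sigma M) ↥M) hEM hinf
  have hsurj := complHom_surjective (piCore (sigma M) ↥M) hEM hfac
  have hcardE : Nat.card ↥E = (piCore (sigma M) ↥M).index := by
    rw [Subgroup.index_eq_card]
    exact Nat.card_congr (Equiv.ofBijective _ ⟨hinj, hsurj⟩)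
  refine ⟨?_, isNilpotent_commutator_compl _ hEM hinf hNil, ?_, ?_⟩
  · intro p hp hd hpσ
    rw [hcardE] at hd
    exact hHall p hp hpσ hd
  · intro p hp hpσ hd
    have h1 : Nat.card ↥⁅M, M⁆ = Nat.card ↥(commutator ↥M) := by
      rw [← Subgroup.map_subtype_commutator]
      exact Subgroup.card_map_of_injective M.subtype_injective
    have h2 := Cfsg.Agent.Lib.H1.card_map_mk'_mul (piCore (sigma M) ↥M) (commutator ↥M)
    rw [card_commutator_compl _ hEM hinf hfac] at h2
    rw [h1, ← h2] at hd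
    rcases (Nat.Prime.dvd_mul hp).1 hd with h | h
    · exact h
    · exfalso
      apply hpσ
      exact Cfsg.Agent.Lib.H19.piCore_isPiCard (sigma M) p hp
        (h.trans (Subgroup.card_dvd_of_le inf_le_left))
  · rw [hcardE, card_sigmaCore, mul_comm]
    exact Subgroup.card_mul_index _

/-- **BG Lemma 12.1**, the `τ₁` part: Hall `τ₁(M)`-subgroups of `E` are cyclic. -/
theorem tau1_hall_isCyclic (hG : IsMinSimpleOddOrder G) {M E E₁ : Subgroup G} (hM : IsCoatom M)
    (hE : IsComplIn E (sigmaCore M) M) (hE₁ : IsPiHallOf (tau1 M) E₁ E) : IsCyclic ↥E₁ := by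
  have hEM : E ≤ M := hE.1
  -- `E₁ ∩ E' = 1`
  have hdisj : E₁ ⊓ ⁅E, E⁆ = ⊥ := by
    by_contra hne
    have hc : Nat.card ↥(E₁ ⊓ ⁅E, E⁆) ≠ 1 := fun h => hne (Subgroup.card_eq_one.1 h)
    obtain ⟨p, hp, hpd⟩ := Nat.exists_prime_and_dvd hc
    have h1 : p ∈ tau1 M :=
      hE₁.2.1 p hp (hpd.trans (Subgroup.card_dvd_of_le inf_le_left))
    apply h1.2.2.2.1
    exact hpd.trans (Subgroup.card_dvd_of_le (inf_le_right.trans (Subgroup.commutator_mono hEM hEM)))
  have hcomm : ∀ a b : ↥E₁, a * b = b * a := by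
    intro a b
    have h1 : ⁅(a : G), (b : G)⁆ ∈ E₁ ⊓ ⁅E, E⁆ :=
      ⟨(Subgroup.commutator_le_self E₁) (Subgroup.commutator_mem_commutator a.2 b.2),
        Subgroup.commutator_mem_commutator (hE₁.1 a.2) (hE₁.1 b.2)⟩
    rw [hdisj, Subgroup.mem_bot] at h1
    apply Subtype.ext
    exact commutatorElement_eq_one_iff_mul_comm.1 h1
  haveI : IsZGroup ↥E₁ := isZGroup_of_rankOne hG (hE₁.1.trans hEM)
    (fun r hr hd => (hE₁.2.1 r hr hd).2.2.2.2)
  haveI : Group.IsNilpotent ↥E₁ := by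
    letI : CommGroup ↥E₁ := { (inferInstance : Group ↥E₁) with mul_comm := hcomm }
    infer_instance
  infer_instance

/-- **BG Lemma 12.1**, Sylow `q`-subgroups of `E` for `q ∈ τ₃(M)`. -/
theorem tau3_sylow (hG : IsMinSimpleOddOrder G) {M E Q : Subgroup G} (hM : IsCoatom M)
    (hE : IsComplIn E (sigmaCore M) M) {q : ℕ} [hq : Fact q.Prime] (hqτ : q ∈ tau3 M)
    (hQ : SylIn q Q E) :
    IsCyclic ↥Q ∧ Q ≤ ⁅E, E⁆ ∧ E ≤ Subgroup.normalizer (Q : Set G) := by
  have hEM : E ≤ M := hE.1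
  obtain ⟨-, hnil, hdvd, -⟩ := sigma_compl_facts hG hM hE
  obtain ⟨hqp, hqσ, hqd, hr⟩ := hqτ
  have hq2 : q ≠ 2 := prime_ne_two_of_dvd_card hG hqd
  have hcyc : IsCyclic ↥Q :=
    Cfsg.Agent.Lib.H16.ChiefRank.isCyclic_of_rankOne hq2 hQ.isPGroup
      (pRankLE_of_le (hQ.le.trans hEM) hr)
  have hEn : E ≤ Subgroup.normalizer ((⁅E, E⁆ : Subgroup G) : Set G) :=
    Cfsg.Agent.Lib.H10.BG36.le_normalizer_commutator Subgroup.le_normalizer Subgroup.le_normalizer
  have hsyl : SylIn q (Q ⊓ ⁅E, E⁆) ⁅E, E⁆ :=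
    hQ.inf_normal (Subgroup.commutator_le_self E) hEn
  have hne : Q ⊓ ⁅E, E⁆ ≠ ⊥ := hsyl.ne_bot (hdvd q hqp hqσ hqd)
  have hle : Q ≤ ⁅E, E⁆ := hQ.le_commutator_of_isCyclic hcyc hne
  refine ⟨hcyc, hle, ?_⟩
  have hQs : SylIn q Q ⁅E, E⁆ := hQ.mono hle (Subgroup.commutator_le_self E)
  have h1 : Q ≤ piCoreOf ({q} : Set ℕ) ⁅E, E⁆ :=
    le_piCoreOf_of_nilpotent hnil hle (isPiCard_card_of_isPGroup (Set.mem_singleton q) hQ.isPGroup)
  have h2 : Q = piCoreOf ({q} : Set ℕ) ⁅E, E⁆ :=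
    hQs.eq_of_le h1 (piCoreOf_le _ _) (isPGroup_piCoreOf_singleton q _)
  rw [h2]
  exact hEn.trans (normalizer_le_normalizer_piCoreOf _ _)

/-- **BG Lemma 12.1**, the `τ₃` part. -/
theorem tau3_hall (hG : IsMinSimpleOddOrder G) {M E E₃ : Subgroup G} (hM : IsCoatom M)
    (hE : IsComplIn E (sigmaCore M) M) (hE₃ : IsPiHallOf (tau3 M) E₃ E) :
    IsCyclic ↥E₃ ∧ E₃ ≤ ⁅E, E⁆ ∧ E ≤ Subgroup.normalizer (E₃ : Set G) := by
  have hEM : E ≤ M := hE.1
  obtain ⟨-, hnil, -, -⟩ := sigma_compl_facts hG hM hE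
  have hEn : E ≤ Subgroup.normalizer ((⁅E, E⁆ : Subgroup G) : Set G) :=
    Cfsg.Agent.Lib.H10.BG36.le_normalizer_commutator Subgroup.le_normalizer Subgroup.le_normalizer
  have hle : E₃ ≤ ⁅E, E⁆ := by
    have h1 : E₃ ⊓ ⁅E, E⁆ = E₃ := by
      apply eq_of_forall_sylIn_le inf_le_left
      intro r hr
      obtain ⟨R, hR⟩ := SylIn.exists_sylIn r E₃
      refine ⟨R, hR, le_inf hR.le ?_⟩
      by_cases hR1 : R = ⊥
      · rw [hR1]; exact bot_le
      · have hd : r ∣ Nat.card ↥E₃ := dvd_card_of_ne_bot hR.isPGroup hR.le hR1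
        have hrτ : r ∈ tau3 M := hE₃.2.1 r hr.out hd
        exact (tau3_sylow hG hM hE hrτ (hR.of_hall hE₃ hrτ)).2.1
    rw [← h1]; exact inf_le_right
  have hpc : Cfsg.Agent.Lib.H19.IsPiCard (tau3 M) (Nat.card ↥E₃) := hE₃.2.1
  have h1 : E₃ ≤ piCoreOf (tau3 M) ⁅E, E⁆ := le_piCoreOf_of_nilpotent hnil hle hpc
  have h2 : E₃ = piCoreOf (tau3 M) ⁅E, E⁆ := by
    apply Subgroup.eq_of_le_of_card_ge h1
    apply Nat.le_of_dvd Nat.card_pos
    have h3 : Nat.card ↥(piCoreOf (tau3 M) ⁅E, E⁆) ∣ Nat.card ↥E₃ * E₃.relIndex E := by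
      rw [SylIn.card_mul_relIndex hE₃.1]
      exact Subgroup.card_dvd_of_le ((piCoreOf_le _ _).trans (Subgroup.commutator_le_self E))
    refine Nat.Coprime.dvd_of_dvd_mul_right ?_ h3
    apply Nat.coprime_of_dvd
    intro k hk hk1 hk2
    exact hE₃.2.2 k hk (piCoreOf_isPiCard (tau3 M) _ k hk hk1) hk2
  refine ⟨?_, hle, ?_⟩
  · haveI : IsZGroup ↥E₃ := isZGroup_of_rankOne hG (hE₃.1.trans hEM)
      (fun r hr hd => (hE₃.2.1 r hr hd).2.2.2)
    haveI : Group.IsNilpotent ↥E₃ := isNilpotent_of_le hnil hle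
    infer_instance
  · rw [h2]
    exact hEn.trans (normalizer_le_normalizer_piCoreOf _ _)

end Lemma121

end Cfsg.Agent.Lib.H16.BG
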