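import Mathlib
import Cfsg.Agent.Lib.H16.BG12a
import Cfsg.Agent.Lib.H8.BG12b
import Cfsg.Agent.Lib.H7.BG10h
import Cfsg.Agent.Lib.H1.CoprimeSylow
import Cfsg.Agent.Lib.H1.FpfNilpotent
import Cfsg.Agent.Lib.H10.PairTransfer
import Cfsg.Agent.S1350
import Cfsg.Agent.S1396
import Cfsg.Agent.S1408
import Cfsg.Agent.S1409
import Cfsg.Agent.S1410

/-! # Bender–Glauberman §11: exceptional maximal subgroups, part (a) (helper16)

Basic facts on `σ(M)` and `M_σ`, the hypothesis `Exc` (BG Hypothesis 11.1), and BG 11.1, 11.2. -/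

set_option autoImplicit false
set_option linter.unusedSectionVars false
set_option linter.unusedVariables false
set_option linter.style.haveILetI false

namespace Cfsg.Agent.Lib.H16.BG

open Cfsg Cfsg.Agent.Lib.H7.BG7 Cfsg.Agent.Lib.H7.BG10
open Cfsg.Agent.Lib.H1 (CoprimeAction)
open scoped commutatorElement

universe u
variable {G : Type u} [Group G] [Finite G]

local notation:max "cj(" g ", " X ")" => Subgroup.map (MulEquiv.toMonoidHom (MulAut.conj g)) X

/-! ### conjugation helpers -/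

theorem cj_cj (g h : G) (X : Subgroup G) : cj(g, cj(h, X)) = cj(g * h, X) :=
  Cfsg.Agent.Lib.H10.map_conj_map_conj X h g

theorem cj_one (X : Subgroup G) : cj((1 : G), X) = X := Cfsg.Agent.Lib.H10.map_conj_one X

theorem cj_inv_cj (g : G) (X : Subgroup G) : cj(g⁻¹, cj(g, X)) = X := by
  rw [cj_cj, inv_mul_cancel, cj_one]

theorem cj_cj_inv (g : G) (X : Subgroup G) : cj(g, cj(g⁻¹, X)) = X := by
  rw [cj_cj, mul_inv_cancel, cj_one]

theorem cj_mono (g : G) {X Y : Subgroup G} (h : X ≤ Y) : cj(g, X) ≤ cj(g, Y) :=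
  Subgroup.map_mono h

theorem cj_le_iff (g : G) {X Y : Subgroup G} : cj(g, X) ≤ Y ↔ X ≤ cj(g⁻¹, Y) :=
  map_conj_le_iff g

theorem le_cj_iff (g : G) {X Y : Subgroup G} : X ≤ cj(g, Y) ↔ cj(g⁻¹, X) ≤ Y := by
  rw [cj_le_iff, inv_inv]

theorem cj_eq_self_of_mem {H : Subgroup G} {m : G} (hm : m ∈ H) : cj(m, H) = H :=
  map_conj_eq_self_of_mem hm

theorem cj_eq_self_of_mem_normalizer {H : Subgroup G} {m : G}
    (hm : m ∈ Subgroup.normalizer (H : Set G)) : cj(m, H) = H :=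
  Subgroup.mem_normalizer_iff_map_conj_eq.1 hm

theorem card_cj (g : G) (X : Subgroup G) : Nat.card ↥cj(g, X) = Nat.card ↥X :=
  Cfsg.Agent.Lib.H10.card_map_conj g X

theorem normalizer_cj (g : G) (X : Subgroup G) :
    Subgroup.normalizer ((cj(g, X) : Subgroup G) : Set G) =
      cj(g, Subgroup.normalizer (X : Set G)) :=
  Cfsg.Agent.Lib.H10.normalizer_map_conj g X

theorem centralizer_cj (g : G) (X : Subgroup G) :
    Subgroup.centralizer ((cj(g, X) : Subgroup G) : Set G) =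
      cj(g, Subgroup.centralizer (X : Set G)) :=
  Cfsg.Agent.Lib.H10.centralizer_map_conj g X

theorem cj_inf (g : G) (X Y : Subgroup G) : cj(g, X ⊓ Y) = cj(g, X) ⊓ cj(g, Y) :=
  Cfsg.Agent.Lib.H10.map_conj_inf g X Y

theorem cj_bot (g : G) : cj(g, (⊥ : Subgroup G)) = ⊥ := Subgroup.map_bot _

theorem cj_eq_bot_iff (g : G) {X : Subgroup G} : cj(g, X) = ⊥ ↔ X = ⊥ :=
  Subgroup.map_eq_bot_iff_of_injective _ (MulAut.conj g).injective

theorem mem_cj_iff {g x : G} {X : Subgroup G} : x ∈ cj(g, X) ↔ g⁻¹ * x * g ∈ X := by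
  constructor
  · rintro ⟨y, hy, rfl⟩
    have : g⁻¹ * ((MulAut.conj g).toMonoidHom y) * g = y := by
      simp [MulAut.conj_apply, mul_assoc]
    rw [this]; exact hy
  · intro h
    refine ⟨g⁻¹ * x * g, h, ?_⟩
    simp [MulAut.conj_apply, mul_assoc]

theorem conj_mem_cj {g x : G} {X : Subgroup G} (hx : x ∈ X) : g * x * g⁻¹ ∈ cj(g, X) :=
  ⟨x, hx, by simp [MulAut.conj_apply]⟩

theorem le_normalizer_cj {A X : Subgroup G} {g : G} (h : A ≤ Subgroup.normalizer (X : Set G)) :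
    cj(g, A) ≤ Subgroup.normalizer ((cj(g, X) : Subgroup G) : Set G) := by
  rw [normalizer_cj]; exact cj_mono g h

/-- a subgroup of odd order: `g² ∈ H → g ∈ H`. -/
theorem mem_of_sq_mem (hG : IsMinSimpleOddOrder G) {H : Subgroup G} {g : G} (h : g * g ∈ H) :
    g ∈ H := by
  have hodd : Odd (orderOf g) := by
    have h1 : orderOf g ∣ Nat.card G := orderOf_dvd_natCard g
    exact Odd.of_dvd_nat hG.1 h1
  obtain ⟨k, hk⟩ := hodd
  have h2 : g = (g * g) ^ (k + 1) := by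
    have h3 : (g * g) ^ (k + 1) = g ^ (orderOf g) * g := by
      rw [← pow_two, ← pow_mul, hk, ← pow_succ]
      congr 1
    rw [h3, pow_orderOf_eq_one, one_mul]
  rw [h2]; exact H.pow_mem h _

/-! ### `σ(M)` and `M_σ` -/

theorem sigmaCore_hallOf (hG : IsMinSimpleOddOrder G) {M : Subgroup G} (hM : IsCoatom M) :
    IsPiHallOf (sigma M) (sigmaCore M) M := (Cfsg.Agent.S1350.result hG M hM).1

theorem sigmaCore_hall (hG : IsMinSimpleOddOrder G) {M : Subgroup G} (hM : IsCoatom M) :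
    IsPiHall (sigma M) (sigmaCore M) := (Cfsg.Agent.S1350.result hG M hM).2.1

/-- a `σ(M)`-subgroup of `M` lies in `M_σ`. -/
theorem le_sigmaCore_of (hG : IsMinSimpleOddOrder G) {M : Subgroup G} (hM : IsCoatom M)
    {X : Subgroup G} (hXM : X ≤ M) (hX : ∀ q : ℕ, q.Prime → q ∣ Nat.card ↥X → q ∈ sigma M) :
    X ≤ sigmaCore M :=
  Cfsg.Agent.Lib.H8.BG12.le_sigmaCore (sigmaCore_hallOf hG hM) hXM hX

theorem isPGroup_le_sigmaCore (hG : IsMinSimpleOddOrder G) {M : Subgroup G} (hM : IsCoatom M)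
    {q : ℕ} [hq : Fact q.Prime] (hqσ : q ∈ sigma M) {X : Subgroup G} (hXM : X ≤ M)
    (hX : IsPGroup q X) : X ≤ sigmaCore M := by
  apply le_sigmaCore_of hG hM hXM
  intro r hr hd
  obtain ⟨k, hk⟩ := IsPGroup.iff_card.1 hX
  rw [hk] at hd
  have := (Nat.prime_dvd_prime_iff_eq hr hq.out).1 (hr.dvd_of_dvd_pow hd)
  rw [this]; exact hqσ

/-- for `q ∈ σ(M)` every Sylow `q`-subgroup of `M` has its normalizer in `M`. -/
theorem sigma_normalizer_le {M : Subgroup G} {q : ℕ} [hq : Fact q.Prime] (hqσ : q ∈ sigma M)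
    {Q : Subgroup G} (hQ : SylIn q Q M) : Subgroup.normalizer (Q : Set G) ≤ M := by
  obtain ⟨-, -, P₀, hNP⟩ := hqσ
  have hP : SylIn q ((P₀ : Subgroup M).map M.subtype) M := SylIn.of_sylow P₀
  obtain ⟨m, hm, hle⟩ := hP.exists_conj_le hQ.isPGroup hQ.le
  have h2 : cj(m, Q) = (P₀ : Subgroup M).map M.subtype := by
    apply Subgroup.eq_of_le_of_card_ge hle
    rw [card_cj, hQ.card_eq, hP.card_eq]
  have h3 : Subgroup.normalizer ((cj(m, Q) : Subgroup G) : Set G) ≤ M := by rw [h2]; exact hNP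
  rw [normalizer_cj, cj_le_iff] at h3
  refine h3.trans (le_of_eq ?_)
  exact cj_eq_self_of_mem (M.inv_mem hm)

theorem sigma_sylIn_top {M : Subgroup G} {q : ℕ} [hq : Fact q.Prime] (hqσ : q ∈ sigma M)
    {Q : Subgroup G} (hQ : SylIn q Q M) : SylIn q Q ⊤ :=
  sylIn_top_of_normalizer_le hQ (sigma_normalizer_le hqσ hQ)

/-- a Sylow `q`-subgroup of `M_σ` is a Sylow `q`-subgroup of `M`. -/
theorem sylIn_of_sigmaCore (hG : IsMinSimpleOddOrder G) {M : Subgroup G} (hM : IsCoatom M)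
    {q : ℕ} [hq : Fact q.Prime] (hqσ : q ∈ sigma M) {Q : Subgroup G}
    (hQ : SylIn q Q (sigmaCore M)) : SylIn q Q M :=
  hQ.of_hall (sigmaCore_hallOf hG hM) hqσ

theorem not_sigma_of_coprime {M : Subgroup G} {p : ℕ} (hp : p.Prime) (hpσ : p ∉ sigma M) :
    (Nat.card ↥(sigmaCore M)).Coprime p := by
  rw [Nat.coprime_comm, Nat.Prime.coprime_iff_not_dvd hp]
  intro hd
  exact hpσ (mem_sigma_of_dvd_card_sigmaCore hp hd)

/-- `p ∣ |M|`, `p ∉ σ(M)`: no Sylow `p`-subgroup of `M` has its normalizer in `M`. -/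
theorem not_normalizer_le_of_not_sigma {M : Subgroup G} {p : ℕ} [hp : Fact p.Prime]
    (hpσ : p ∉ sigma M) (hd : p ∣ Nat.card ↥M) {P : Subgroup G} (hP : SylIn p P M) :
    ¬ Subgroup.normalizer (P : Set G) ≤ M := by
  intro hN
  obtain ⟨S, hS⟩ := hP.exists_sylow
  exact hpσ ⟨hp.out, hd, S, by rw [hS]; exact hN⟩

theorem sigma_of_normalizer_le {M : Subgroup G} {p : ℕ} [hp : Fact p.Prime]
    {P : Subgroup G} (hP : SylIn p P M) (hP1 : P ≠ ⊥)
    (hN : Subgroup.normalizer (P : Set G) ≤ M) : p ∈ sigma M := by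
  obtain ⟨S, hS⟩ := hP.exists_sylow
  exact ⟨hp.out, dvd_card_of_ne_bot hP.isPGroup hP.le hP1, S, by rw [hS]; exact hN⟩

/-- `σ` is invariant under conjugation. -/
theorem sigma_cj (g : G) (M : Subgroup G) : sigma cj(g, M) = sigma M := by
  have key : ∀ (g : G) (M : Subgroup G), sigma M ⊆ sigma cj(g, M) := by
    intro g M q hq
    haveI : Fact q.Prime := ⟨hq.1⟩
    obtain ⟨P, hP⟩ := SylIn.exists_sylIn q M
    have hN := sigma_normalizer_le hq hP
    have hP1 : P ≠ ⊥ := hP.ne_bot hq.2.1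
    have hP' : SylIn q cj(g, P) cj(g, M) := hP.map_conj g
    refine sigma_of_normalizer_le hP' ?_ ?_
    · rwa [Ne, cj_eq_bot_iff]
    · rw [normalizer_cj]; exact cj_mono g hN
  apply Set.Subset.antisymm
  · have := key g⁻¹ cj(g, M)
    rwa [cj_inv_cj] at this
  · exact key g M

theorem sigmaCore_cj (hG : IsMinSimpleOddOrder G) {M : Subgroup G} (hM : IsCoatom M) (g : G) :
    sigmaCore cj(g, M) = cj(g, sigmaCore M) := by
  have hM' : IsCoatom cj(g, M) := isCoatom_map_conj hM g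
  symm
  apply (Cfsg.Agent.S1350.result hG _ hM').2.2
  · rw [normalizer_cj]
    exact cj_mono g (le_normalizer_sigmaCore M)
  · obtain ⟨h1, h2, h3⟩ := sigmaCore_hallOf hG hM
    refine ⟨cj_mono g h1, ?_, ?_⟩
    · rw [card_cj, sigma_cj]; exact h2
    · rw [Cfsg.Agent.Lib.H10.relIndex_map_conj, sigma_cj]; exact h3

end Cfsg.Agent.Lib.H16.BG
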