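import Mathlib
import Cfsg.Agent.Lib.H16.BG11a
import Cfsg.Agent.Lib.H16.BGu
import Cfsg.Agent.Lib.H7.FrobNil
import Cfsg.Agent.Lib.H3.Thompson

/-! # Bender–Glauberman §11, part (b) (helper16)

The hypothesis `Exc` (BG Hypothesis 11.1) and BG 11.1–11.4. -/

set_option autoImplicit false
set_option linter.unusedSectionVars false
set_option linter.unusedVariables false
set_option linter.style.haveILetI false

namespace Cfsg.Agent.Lib.H16.BG

open Cfsg Cfsg.Agent.Lib.H7.BG7 Cfsg.Agent.Lib.H7.BG10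
open Cfsg.Agent.Lib.H1 (CoprimeAction)
open scoped commutatorElement

universe u
variable {G : Type u} [Group G] [Finite G]

local notation:max "cj(" g ", " X ")" => Subgroup.map (MulEquiv.toMonoidHom (MulAut.conj g)) X

/-- BG Hypothesis 11.1: `M` is maximal, `p ∉ σ(M)`, `A ≤ M` is elementary abelian of order `p²`
and `A₀ ≤ A` has order `p` with `N_G(A₀) ≤ M`. -/
structure Exc (M : Subgroup G) (p : ℕ) (A A₀ : Subgroup G) : Prop where
  coatom : IsCoatom M
  not_sigma : p ∉ sigma M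
  le : A ≤ M
  elem : IsElementaryAbelian p A
  card : Nat.card A = p ^ 2
  le₀ : A₀ ≤ A
  card₀ : Nat.card A₀ = p
  norm : Subgroup.normalizer (A₀ : Set G) ≤ M

/-- a Sylow subgroup of `G` normalized by `A` is a maximal `A`-invariant `q`-subgroup. -/
theorem isMaxInv_of_sylIn_top {A Q : Subgroup G} {q : ℕ} [hq : Fact q.Prime] (hQ : SylIn q Q ⊤)
    (hA : A ≤ Subgroup.normalizer (Q : Set G)) : IsMaxInv A q Q := by
  refine ⟨hQ.isPGroup, hA, ?_⟩
  intro R hR _ hQR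
  exact (hQ.eq_of_le hQR le_top hR).symm

/-- in a nilpotent subgroup `K`, the Sylow subgroups are normalized by `N_G(K)`. -/
theorem normalizer_le_normalizer_of_nilpotent {K Q : Subgroup G} {q : ℕ} [hq : Fact q.Prime]
    (hK : Group.IsNilpotent ↥K) (hQ : SylIn q Q K) :
    Subgroup.normalizer (K : Set G) ≤ Subgroup.normalizer (Q : Set G) := by
  obtain ⟨S, hS⟩ := hQ.exists_sylow
  haveI := hK
  have hSn : (S : Subgroup ↥K).Normal :=
    Sylow.normal_of_normalizerCondition Group.normalizerCondition_of_isNilpotent S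
  have hKQ : K ≤ Subgroup.normalizer (Q : Set G) := by
    intro k hk
    rw [← hS]
    rw [Subgroup.mem_normalizer_iff]
    intro x
    constructor
    · rintro ⟨y, hy, rfl⟩
      refine ⟨⟨k, hk⟩ * y * ⟨k, hk⟩⁻¹, hSn.conj_mem y hy _, rfl⟩
    · rintro ⟨y, hy, hyx⟩
      have h1 : x = k⁻¹ * (y : G) * k := by
        have : (y : G) = k * x * k⁻¹ := hyx
        rw [this]; group
      refine ⟨⟨k, hk⟩⁻¹ * y * ⟨k, hk⟩, ?_, ?_⟩
      · have := hSn.conj_mem y hy (⟨k, hk⟩⁻¹)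
        rw [inv_inv] at this
        exact this
      · rw [h1]; rfl
  intro n hn
  have h1 : cj(n, Q) ≤ K := by
    have := cj_mono n hQ.le
    rwa [cj_eq_self_of_mem_normalizer hn] at this
  obtain ⟨k, hk, hle⟩ := hQ.exists_conj_le (hQ.isPGroup.map _) h1
  rw [cj_cj] at hle
  have h2 : cj(k * n, Q) = Q := by
    apply Subgroup.eq_of_le_of_card_ge hle
    rw [card_cj]
  have h3 : k * n ∈ Subgroup.normalizer (Q : Set G) :=
    Subgroup.mem_normalizer_iff_map_conj_eq.2 h2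
  have h4 := (Subgroup.normalizer (Q : Set G)).mul_mem
    ((Subgroup.normalizer (Q : Set G)).inv_mem (hKQ hk)) h3
  rwa [inv_mul_cancel_left] at h4

namespace Exc

variable {M A A₀ : Subgroup G} {p : ℕ} [hp : Fact p.Prime]

theorem rank (hG : IsMinSimpleOddOrder G) (h : Exc M p A A₀) :
    PRankLE p 2 ↥M ∧ ¬ PRankLE p 1 ↥M :=
  (Cfsg.Agent.S1409.result hG M h.coatom p h.not_sigma A₀ h.card₀ h.norm).1

theorem not_ideal (hG : IsMinSimpleOddOrder G) (h : Exc M p A A₀) : ¬ IsIdealPrime p G :=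
  (Cfsg.Agent.S1409.result hG M h.coatom p h.not_sigma A₀ h.card₀ h.norm).2.1

/-- `A` is a maximal elementary abelian `p`-subgroup of `G`. -/
theorem maxElem (hG : IsMinSimpleOddOrder G) (h : Exc M p A A₀) :
    ∀ B : Subgroup G, IsElementaryAbelian p B → A ≤ B → B = A :=
  (Cfsg.Agent.S1408.result hG M h.coatom p h.not_sigma (h.rank hG).1 (h.rank hG).2).2 A h.le
    h.elem h.card

theorem isPGroup (h : Exc M p A A₀) : IsPGroup p ↥A := isPGroup_of_elemAb h.elem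

theorem centralizer_le (h : Exc M p A A₀) : Subgroup.centralizer (A : Set G) ≤ M :=
  ((Subgroup.centralizer_le (by exact_mod_cast h.le₀)).trans
    (Subgroup.centralizer_le_normalizer _)).trans h.norm

theorem le_normalizer_sigmaCore (h : Exc M p A A₀) :
    A ≤ Subgroup.normalizer ((sigmaCore M : Subgroup G) : Set G) :=
  h.le.trans (Cfsg.Agent.Lib.H16.BG.le_normalizer_sigmaCore M)

theorem coprime (h : Exc M p A A₀) : (Nat.card ↥A).Coprime (Nat.card ↥(sigmaCore M)) := by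
  rw [h.card]
  exact Nat.Coprime.pow_left 2 (not_sigma_of_coprime hp.out h.not_sigma).symm

theorem coprimeAction (h : Exc M p A A₀) : CoprimeAction A (sigmaCore M) where
  normalizes := h.le_normalizer_sigmaCore
  coprime := h.coprime
  solvable := by
    left
    haveI := h.elem.1
    exact Group.isSolvable_of_comm (fun a b => mul_comm' a b)

theorem ne_bot (h : Exc M p A A₀) : A ≠ ⊥ := by
  intro h0
  have := h.card
  rw [h0, Subgroup.card_bot] at this
  have := hp.out.one_lt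
  nlinarith

theorem ne_bot₀ (h : Exc M p A A₀) : A₀ ≠ ⊥ := by
  intro h0
  have := h.card₀
  rw [h0, Subgroup.card_bot] at this
  have := hp.out.one_lt
  omega

/-- every element of order dividing `p` in `C_G(A)` lies in `A`. -/
theorem mem_of_pow_eq_one (hG : IsMinSimpleOddOrder G) (h : Exc M p A A₀) {x : G}
    (hx : x ∈ Subgroup.centralizer (A : Set G)) (hxp : x ^ p = 1) : x ∈ A := by
  have hZe : IsElementaryAbelian p (Subgroup.zpowers x) := by
    refine ⟨inferInstance, ?_⟩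
    intro a ha
    obtain ⟨k, rfl⟩ := Subgroup.mem_zpowers_iff.1 ha
    rw [← zpow_natCast, ← zpow_mul, mul_comm, zpow_mul, zpow_natCast, hxp, one_zpow]
  have hle : Subgroup.zpowers x ≤ Subgroup.centralizer (A : Set G) := Subgroup.zpowers_le.2 hx
  have hB := Cfsg.Agent.Lib.H3.elemAb_sup h.elem hZe hle
  have := h.maxElem hG _ hB le_sup_left
  rw [← this]
  exact Subgroup.mem_sup_right (Subgroup.mem_zpowers x)

theorem dvd_card (h : Exc M p A A₀) : p ∣ Nat.card G := by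
  have h1 : Nat.card ↥A ∣ Nat.card G := Subgroup.card_subgroup_dvd_card A
  rw [h.card] at h1
  exact (dvd_pow_self p two_ne_zero).trans h1

/-- `A` satisfies the transitivity hypothesis (BG Theorem 7.3 via S1396 and S1410). -/
theorem transHyp (hG : IsMinSimpleOddOrder G) (h : Exc M p A A₀) : TransitivityHypothesis A := by
  refine Cfsg.Agent.S1396.result hG p h.dvd_card A h.isPGroup h.elem.1 (Or.inl ⟨?_, ?_⟩)
  · intro x hx
    exact ⟨fun hxp => h.mem_of_pow_eq_one hG hx hxp, fun hxA => h.elem.2 x hxA⟩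
  · intro H hH
    exact Cfsg.Agent.S1410.result hG p H hH

/-- conjugating the whole configuration. -/
theorem conj (h : Exc M p A A₀) (g : G) : Exc cj(g, M) p cj(g, A) cj(g, A₀) where
  coatom := isCoatom_map_conj h.coatom g
  not_sigma := by rw [sigma_cj]; exact h.not_sigma
  le := cj_mono g h.le
  elem := by
    obtain ⟨h1, h2⟩ := h.elem
    have h1' := Subgroup.le_centralizer_iff_isMulCommutative.2 h1
    refine ⟨Subgroup.le_centralizer_iff_isMulCommutative.1 ?_, ?_⟩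
    · rw [centralizer_cj]; exact cj_mono g h1'
    · rintro _ ⟨a, ha, rfl⟩
      rw [← map_pow, h2 a ha, map_one]
  card := by rw [card_cj]; exact h.card
  le₀ := cj_mono g h.le₀
  card₀ := by rw [card_cj]; exact h.card₀
  norm := by rw [normalizer_cj]; exact cj_mono g h.norm

theorem ne_of_sigma (h : Exc M p A A₀) {q : ℕ} (hq : q ∈ sigma M) : q ≠ p := by
  rintro rfl
  exact h.not_sigma hq

theorem not_dvd_card_of_sigma (h : Exc M p A A₀) {q : ℕ} (hqp : q.Prime) (hq : q ∈ sigma M) :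
    ¬ q ∣ Nat.card ↥A := by
  rw [h.card]
  intro hd
  exact h.ne_of_sigma hq ((Nat.prime_dvd_prime_iff_eq hqp hp.out).1 (hqp.dvd_of_dvd_pow hd))

/-- **BG Lemma 11.1**. -/
theorem lemma_11_1 (hG : IsMinSimpleOddOrder G) (h : Exc M p A A₀) {g : G} (hg : g ∉ M)
    (hAg : A ≤ cj(g, M)) {q : ℕ} [hq : Fact q.Prime] (hqσ : q ∈ sigma M) {Q₁ Q₂ : Subgroup G}
    (hQ₁ : SylIn q Q₁ (sigmaCore M)) (hQ₁A : A ≤ Subgroup.normalizer (Q₁ : Set G))
    (hQ₂ : SylIn q Q₂ cj(g, sigmaCore M)) (hQ₂A : A ≤ Subgroup.normalizer (Q₂ : Set G))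
    {H : Subgroup G} (hH : H ≠ ⊤) (hAH : A ≤ H) : H ⊓ Q₁ = ⊥ ∨ H ⊓ Q₂ = ⊥ := by
  by_contra hcon
  push Not at hcon
  obtain ⟨h1, h2⟩ := hcon
  have hM := h.coatom
  have hMg : IsCoatom cj(g, M) := isCoatom_map_conj hM g
  have hQ₁M : SylIn q Q₁ M := sylIn_of_sigmaCore hG hM hqσ hQ₁
  have hQ₁T : SylIn q Q₁ ⊤ := sigma_sylIn_top hqσ hQ₁M
  have hqσ' : q ∈ sigma cj(g, M) := by rw [sigma_cj]; exact hqσ
  have hQ₂M : SylIn q Q₂ cj(g, M) := by
    apply sylIn_of_sigmaCore hG hMg hqσ'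
    rw [sigmaCore_cj hG hM]; exact hQ₂
  have hQ₂T : SylIn q Q₂ ⊤ := sigma_sylIn_top hqσ' hQ₂M
  obtain ⟨k, hk, hkQ⟩ := conj_of_common_overgroup hG (h.transHyp hG)
    (h.not_dvd_card_of_sigma hq.out hqσ) (isMaxInv_of_sylIn_top hQ₁T hQ₁A)
    (isMaxInv_of_sylIn_top hQ₂T hQ₂A) hH hAH h1 h2
  have hkM : k ∈ M := h.centralizer_le (KK_le_centralizer A hk)
  have hQ₂M' : SylIn q Q₂ M := by
    have := hQ₁M.map_conj k
    rw [cj_eq_self_of_mem hkM] at this
    rw [← hkQ]; exact this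
  have hN : Subgroup.normalizer (Q₂ : Set G) ≤ M := sigma_normalizer_le hqσ hQ₂M'
  exact hg (mem_of_sylow_le_map_conj hQ₂T hQ₂M'.le hN hQ₂M.le)

/-- **BG Lemma 11.2**: `M_σ ∩ M^g = 1` for `g ∉ M` with `A ≤ M^g`. -/
theorem lemma_11_2 (hG : IsMinSimpleOddOrder G) (h : Exc M p A A₀) {g : G} (hg : g ∉ M)
    (hAg : A ≤ cj(g, M)) : sigmaCore M ⊓ cj(g, M) = ⊥ := by
  by_contra hne
  have hM := h.coatom
  have hMg : IsCoatom cj(g, M) := isCoatom_map_conj hM g
  set D := sigmaCore M ⊓ cj(g, M) with hD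
  have hDA : A ≤ Subgroup.normalizer (D : Set G) :=
    Cfsg.Agent.Lib.H7.le_normalizer_inf h.le_normalizer_sigmaCore
      (hAg.trans Subgroup.le_normalizer)
  have hcopD : CoprimeAction A D := h.coprimeAction.mono inf_le_left hDA
  -- a prime divisor of |D|
  have hDc : Nat.card ↥D ≠ 1 := fun h1 => hne (Subgroup.card_eq_one.1 h1)
  obtain ⟨q, hqp, hqd⟩ := Nat.exists_prime_and_dvd hDc
  haveI : Fact q.Prime := ⟨hqp⟩
  have hqσ : q ∈ sigma M :=
    mem_sigma_of_dvd_card_sigmaCore hqp (hqd.trans (Subgroup.card_dvd_of_le inf_le_left))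
  obtain ⟨Dq, hDq, hDqA⟩ := Cfsg.Agent.Lib.H1.coprime_exists_invariant_sylow hcopD q
  have hDq' : SylIn q Dq D := sylIn_of_isSylowOf hDq
  have hDq1 : Dq ≠ ⊥ := hDq'.ne_bot hqd
  obtain ⟨Q₁, hQ₁, hDQ₁, hQ₁A⟩ := Cfsg.Agent.Lib.H1.coprime_invariant_psubgroup_le_sylow
    h.coprimeAction (hDq'.le.trans inf_le_left) hDq'.isPGroup hDqA
  have hQ₁' : SylIn q Q₁ (sigmaCore M) := sylIn_of_isSylowOf hQ₁
  -- an A-invariant Sylow q-subgroup of (M_σ)^g
  have hexc' : Exc cj(g, M) p cj(g, A) cj(g, A₀) := h.conj g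
  have hcop2 : CoprimeAction A cj(g, sigmaCore M) := by
    refine ⟨?_, ?_, Or.inl ?_⟩
    · rw [← sigmaCore_cj hG hM]
      exact hAg.trans (Cfsg.Agent.Lib.H16.BG.le_normalizer_sigmaCore _)
    · rw [card_cj]; exact h.coprime
    · haveI := h.elem.1
      exact Group.isSolvable_of_comm (fun a b => mul_comm' a b)
  obtain ⟨Q₂, hQ₂, hQ₂A⟩ := Cfsg.Agent.Lib.H1.coprime_exists_invariant_sylow hcop2 q
  have hQ₂' : SylIn q Q₂ cj(g, sigmaCore M) := sylIn_of_isSylowOf hQ₂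
  have hQ₂1 : Q₂ ≠ ⊥ := by
    apply hQ₂'.ne_bot
    rw [card_cj]
    exact hqd.trans (Subgroup.card_dvd_of_le inf_le_left)
  rcases h.lemma_11_1 hG hg hAg hqσ hQ₁' hQ₁A hQ₂' hQ₂A hMg.1 hAg with h0 | h0
  · apply hDq1
    rw [eq_bot_iff, ← h0]
    exact le_inf (hDq'.le.trans inf_le_right) hDQ₁
  · apply hQ₂1
    rw [eq_bot_iff, ← h0]
    refine le_inf (hQ₂'.le.trans (cj_mono g (sigmaCore_le M))) le_rfl

/-- consequence of 11.2: `C_{M_σ}(A₀^g) = 1` for `g ∉ M` with `A ≤ M^g`. -/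
theorem inf_centralizer_conj (hG : IsMinSimpleOddOrder G) (h : Exc M p A A₀) {g : G} (hg : g ∉ M)
    (hAg : A ≤ cj(g, M)) :
    sigmaCore M ⊓ Subgroup.centralizer ((cj(g, A₀) : Subgroup G) : Set G) = ⊥ := by
  rw [eq_bot_iff, ← h.lemma_11_2 hG hg hAg]
  refine inf_le_inf_left _ ?_
  rw [centralizer_cj]
  exact cj_mono g ((Subgroup.centralizer_le_normalizer _).trans h.norm)

theorem dvd_card_M (h : Exc M p A A₀) : p ∣ Nat.card ↥M :=
  dvd_card_of_ne_bot h.isPGroup h.le h.ne_bot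

/-- for a Sylow `p`-subgroup `P ≥ A` of `M` there is `g ∈ N_G(P) ∖ M`. -/
theorem exists_normalizer_not_mem (h : Exc M p A A₀) {P : Subgroup G} (hP : SylIn p P M) :
    ∃ g ∈ Subgroup.normalizer (P : Set G), g ∉ M := by
  have := not_normalizer_le_of_not_sigma h.not_sigma h.dvd_card_M hP
  exact Set.not_subset.1 this

theorem le_conj_of_mem_normalizer (h : Exc M p A A₀) {P : Subgroup G} (hP : SylIn p P M)
    (hAP : A ≤ P) {g : G} (hg : g ∈ Subgroup.normalizer (P : Set G)) : A ≤ cj(g, M) := by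
  have h1 : cj(g, P) = P := cj_eq_self_of_mem_normalizer hg
  calc A ≤ P := hAP
    _ = cj(g, P) := h1.symm
    _ ≤ cj(g, M) := cj_mono g hP.le

/-- a generator of a conjugate of `A₀`. -/
theorem exists_generator_conj (h : Exc M p A A₀) (g : G) :
    ∃ x : G, x ≠ 1 ∧ x ^ p = 1 ∧ Subgroup.zpowers x = cj(g, A₀) := by
  obtain ⟨⟨a, ha⟩, ha1'⟩ := (Subgroup.ne_bot_iff_exists_ne_one).1 h.ne_bot₀
  have ha1 : a ≠ 1 := fun h0 => ha1' (Subtype.ext h0)
  refine ⟨g * a * g⁻¹, ?_, ?_, ?_⟩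
  · intro h0
    apply ha1
    have : a = g⁻¹ * (g * a * g⁻¹) * g := by group
    rw [this, h0]; group
  · rw [conj_pow, h.elem.2 a (h.le₀ ha)]; group
  · apply zpowers_eq_of_card_prime hp.out (by rw [card_cj]; exact h.card₀) (conj_mem_cj ha)
    intro h0
    apply ha1
    have : a = g⁻¹ * (g * a * g⁻¹) * g := by group
    rw [this, h0]; group

/-- **BG Theorem 11.3**: `M_σ` is nilpotent. -/
theorem nilpotent (hG : IsMinSimpleOddOrder G) (h : Exc M p A A₀) :
    Group.IsNilpotent ↥(sigmaCore M) := by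
  obtain ⟨P, hP, hAP⟩ := SylIn.exists_ge h.isPGroup h.le
  obtain ⟨g, hgN, hgM⟩ := h.exists_normalizer_not_mem hP
  have hAg := h.le_conj_of_mem_normalizer hP hAP hgN
  obtain ⟨x, hx1, hxp, hxz⟩ := h.exists_generator_conj g
  have hxP : x ∈ P := by
    have h1 : cj(g, A₀) ≤ cj(g, P) := cj_mono g (h.le₀.trans hAP)
    rw [cj_eq_self_of_mem_normalizer hgN] at h1
    exact h1 (hxz ▸ Subgroup.mem_zpowers x)
  have hxN : x ∈ Subgroup.normalizer ((sigmaCore M : Subgroup G) : Set G) :=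
    Cfsg.Agent.Lib.H16.BG.le_normalizer_sigmaCore M (hP.le hxP)
  apply Cfsg.Agent.Lib.H7.FrobNil.isNilpotent_of_fpf hp.out hxN hxp
  intro k hk hxk
  have h0 := h.inf_centralizer_conj hG hgM hAg
  have h2 : k ∈ sigmaCore M ⊓ Subgroup.centralizer ((cj(g, A₀) : Subgroup G) : Set G) := by
    refine Subgroup.mem_inf.2 ⟨hk, ?_⟩
    rw [← hxz, centralizer_zpowers_eq, Subgroup.mem_centralizer_singleton_iff]
    exact hxk.symm
  rw [h0, Subgroup.mem_bot] at h2
  exact h2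

/-- for `q ∈ σ(M)`, `O_q(M_σ)` is a Sylow subgroup of `G` with normalizer `M`. -/
theorem exists_sylow_normalizer_eq (hG : IsMinSimpleOddOrder G) (h : Exc M p A A₀) {q : ℕ}
    [hq : Fact q.Prime] (hqσ : q ∈ sigma M) :
    ∃ Q : Subgroup G, SylIn q Q (sigmaCore M) ∧ SylIn q Q ⊤ ∧ Q ≠ ⊥ ∧
      Subgroup.normalizer (Q : Set G) = M := by
  have hM := h.coatom
  obtain ⟨Q, hQ⟩ := SylIn.exists_sylIn q (sigmaCore M)
  have hQM : SylIn q Q M := sylIn_of_sigmaCore hG hM hqσ hQ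
  have hQT : SylIn q Q ⊤ := sigma_sylIn_top hqσ hQM
  have hQ1 : Q ≠ ⊥ := hQM.ne_bot hqσ.2.1
  refine ⟨Q, hQ, hQT, hQ1, ?_⟩
  have h1 : M ≤ Subgroup.normalizer (Q : Set G) :=
    (Cfsg.Agent.Lib.H16.BG.le_normalizer_sigmaCore M).trans
      (normalizer_le_normalizer_of_nilpotent (h.nilpotent hG) hQ)
  have h2 : Subgroup.normalizer (Q : Set G) ≠ ⊤ :=
    normalizer_ne_top_of_isPGroup hG hQ.isPGroup hQ1
  rcases hM.le_iff.1 h1 with h3 | h3
  · exact absurd h3 h2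
  · exact h3

/-- `σ(M) ∩ σ(H) ≠ ∅` forces `H` to be conjugate to `M`. -/
theorem conj_of_mem_sigma (hG : IsMinSimpleOddOrder G) (h : Exc M p A A₀) {H : Subgroup G}
    (hH : IsCoatom H) {q : ℕ} (hqM : q ∈ sigma M) (hqH : q ∈ sigma H) :
    ∃ g : G, H = cj(g, M) := by
  haveI : Fact q.Prime := ⟨hqM.1⟩
  obtain ⟨Q, -, hQT, hQ1, hQN⟩ := h.exists_sylow_normalizer_eq hG hqM
  obtain ⟨Q', hQ'⟩ := SylIn.exists_sylIn q H
  have hQ'T : SylIn q Q' ⊤ := sigma_sylIn_top hqH hQ'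
  have hQ'N : Subgroup.normalizer (Q' : Set G) ≤ H := sigma_normalizer_le hqH hQ'
  obtain ⟨g, -, hle⟩ := hQ'T.exists_conj_le hQT.isPGroup le_top
  have heq : cj(g, Q) = Q' := by
    apply Subgroup.eq_of_le_of_card_ge hle
    rw [card_cj, hQT.card_eq, hQ'T.card_eq]
  refine ⟨g, ?_⟩
  have h1 : cj(g, M) ≤ H := by
    rw [← hQN, ← normalizer_cj, heq]; exact hQ'N
  have hMg : IsCoatom cj(g, M) := isCoatom_map_conj h.coatom g
  rcases hMg.le_iff.1 h1 with h3 | h3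
  · exact absurd h3 hH.1
  · exact h3

/-- **BG Theorem 11.4**. -/
theorem lemma_11_4 (hG : IsMinSimpleOddOrder G) (h : Exc M p A A₀) {H : Subgroup G}
    (hH : IsCoatom H) (hAH : A ≤ H) (hne : sigmaCore H ⊓ sigmaCore M ≠ ⊥) : H = M := by
  have hc : Nat.card ↥(sigmaCore H ⊓ sigmaCore M : Subgroup G) ≠ 1 :=
    fun h1 => hne (Subgroup.card_eq_one.1 h1)
  obtain ⟨q, hqp, hqd⟩ := Nat.exists_prime_and_dvd hc
  have hqM : q ∈ sigma M :=
    mem_sigma_of_dvd_card_sigmaCore hqp (hqd.trans (Subgroup.card_dvd_of_le inf_le_right))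
  have hqH : q ∈ sigma H :=
    mem_sigma_of_dvd_card_sigmaCore hqp (hqd.trans (Subgroup.card_dvd_of_le inf_le_left))
  obtain ⟨g, rfl⟩ := h.conj_of_mem_sigma hG hH hqM hqH
  by_cases hg : g ∈ M
  · exact cj_eq_self_of_mem hg
  · exfalso
    apply hne
    rw [eq_bot_iff, ← h.lemma_11_2 hG hg hAH, inf_comm]
    exact inf_le_inf_left _ (sigmaCore_le _)

end Exc

end Cfsg.Agent.Lib.H16.BG
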