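import Mathlib
import Cfsg.Agent.Lib.H16.BG11b
import Cfsg.Agent.Lib.H16.BGs
import Cfsg.Agent.Lib.H16.NarrowMaxSq

/-! # Bender–Glauberman §11, part (c) (helper16)

General lemmas on `p`-elements acting on elementary abelian groups of order `p²`. -/

set_option autoImplicit false
set_option linter.unusedSectionVars false
set_option linter.unusedVariables false
set_option linter.style.haveILetI false

namespace Cfsg.Agent.Lib.H16.BG

open Cfsg Cfsg.Agent.Lib.H7.BG7 Cfsg.Agent.Lib.H7.BG10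
open Cfsg.Agent.Lib.H1 (CoprimeAction)
open scoped commutatorElement

universe u
variable {G : Type u} [Group G] [Finite G]

local notation:max "cj(" g ", " X ")" => Subgroup.map (MulEquiv.toMonoidHom (MulAut.conj g)) X

/-- a `p`-group normalizing a group of order `p` centralizes it. -/
theorem le_centralizer_of_isPGroup_of_card_prime {p : ℕ} [hp : Fact p.Prime] {P U : Subgroup G}
    (hP : IsPGroup p P) (hU : Nat.card U = p) (hPU : P ≤ Subgroup.normalizer (U : Set G)) :
    P ≤ Subgroup.centralizer (U : Set G) := by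
  intro e he
  haveI : IsCyclic ↥U := isCyclic_of_prime_card hU
  have hcard : Nat.card (MulAut ↥U) = p - 1 := by
    rw [IsCyclic.card_mulAut, hU, Nat.totient_prime hp.out]
  set f := Cfsg.Agent.Lib.H1.conjAutHom hPU with hf
  have h1 : orderOf (f ⟨e, he⟩) ∣ p - 1 := by
    rw [← hcard]; exact orderOf_dvd_natCard _
  obtain ⟨k, hk⟩ := hP ⟨e, he⟩
  have h2 : orderOf (f ⟨e, he⟩) ∣ p ^ k := by
    apply orderOf_dvd_of_pow_eq_one
    rw [← map_pow, hk, map_one]
  have h3 : (p ^ k).Coprime (p - 1) := by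
    apply Nat.Coprime.pow_left
    have h4 : 1 ≤ p := hp.out.one_lt.le
    exact (Nat.coprime_self_sub_right h4).2 (Nat.coprime_one_right p)
  have h5 : orderOf (f ⟨e, he⟩) = 1 := Nat.eq_one_of_dvd_coprimes h3 h2 h1
  exact mem_centralizer_of_conjAutHom_eq_one hPU (orderOf_eq_one_iff.1 h5)

/-- subgroups between a subgroup of order `p` and one of order `p²`. -/
theorem eq_or_eq_of_le_of_card_sq {p : ℕ} [hp : Fact p.Prime] {Z C E : Subgroup G}
    (hZ : Nat.card Z = p) (hE : Nat.card E = p ^ 2) (hZC : Z ≤ C) (hCE : C ≤ E) :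
    C = Z ∨ C = E := by
  have hpp := hp.out
  have h1 : Nat.card C ∣ p ^ 2 := hE ▸ Subgroup.card_dvd_of_le hCE
  have h2 : p ∣ Nat.card C := hZ ▸ Subgroup.card_dvd_of_le hZC
  obtain ⟨k, hk, hkc⟩ := (Nat.dvd_prime_pow hpp).1 h1
  have hk1 : 1 ≤ k := by
    rcases Nat.eq_zero_or_pos k with h0 | h0
    · rw [h0, pow_zero] at hkc
      rw [hkc] at h2
      exact absurd (Nat.le_of_dvd one_pos h2) (not_le.2 hpp.one_lt)
    · exact h0
  rcases (by omega : k = 1 ∨ k = 2) with rfl | rfl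
  · left
    symm
    apply Subgroup.eq_of_le_of_card_ge hZC
    rw [hkc, hZ, pow_one]
  · right
    apply Subgroup.eq_of_le_of_card_ge hCE
    rw [hkc, hE]

/-- conjugate of a cyclic group. -/
theorem cj_zpowers (g x : G) : cj(g, Subgroup.zpowers x) = Subgroup.zpowers (g * x * g⁻¹) := by
  rw [MonoidHom.map_zpowers]
  rfl

/-- **Transvection lemma**.  Let `E` be elementary abelian of order `p²`, `Z ≤ E` of order `p`,
and `y` a `p`-element normalizing `E`, centralizing `Z` but not `x ∈ E`.  Then every element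
of `E` lies in `Z` or in a `⟨y⟩`-conjugate of `⟨x⟩`. -/
theorem line_cover {p : ℕ} [hp : Fact p.Prime] {E Z : Subgroup G} (hEe : IsElementaryAbelian p E)
    (hEc : Nat.card E = p ^ 2) (hZE : Z ≤ E) (hZc : Nat.card Z = p) {y x : G}
    (hyE : y ∈ Subgroup.normalizer (E : Set G)) (hyZ : y ∈ Subgroup.centralizer (Z : Set G))
    (hyp : IsPGroup p (Subgroup.zpowers y)) (hx : x ∈ E) (hxy : y * x ≠ x * y) :
    ∀ e ∈ E, e ∈ Z ∨ ∃ i : ℕ, e ∈ cj(y ^ i, Subgroup.zpowers x) := by
  have hpp := hp.out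
  have hcomm : ∀ a ∈ E, ∀ b ∈ E, a * b = b * a := by
    intro a ha b hb
    haveI := hEe.1
    exact congrArg Subtype.val (mul_comm' (⟨a, ha⟩ : ↥E) ⟨b, hb⟩)
  have hconj : ∀ e ∈ E, y * e * y⁻¹ ∈ E := fun e he =>
    (Subgroup.mem_normalizer_iff.1 hyE e).1 he
  have hxZ : x ∉ Z := by
    intro hxZ
    exact hxy ((Subgroup.mem_centralizer_iff.1 hyZ x hxZ).symm)
  -- `C_E(y) = Z`
  have hCE : E ⊓ Subgroup.centralizer ({y} : Set G) = Z := by
    have h1 : Z ≤ E ⊓ Subgroup.centralizer ({y} : Set G) := by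
      intro z hz
      refine Subgroup.mem_inf.2 ⟨hZE hz, ?_⟩
      rw [Subgroup.mem_centralizer_singleton_iff]
      exact Subgroup.mem_centralizer_iff.1 hyZ z hz
    rcases eq_or_eq_of_le_of_card_sq hZc hEc h1 inf_le_left with h2 | h2
    · exact h2
    · exfalso
      have h3 : x ∈ E ⊓ Subgroup.centralizer ({y} : Set G) := by rw [h2]; exact hx
      have h4 := Subgroup.mem_centralizer_singleton_iff.1 h3.2
      exact hxy h4.symm
  -- the homomorphism `e ↦ [y, e]`
  let φ : ↥E →* G := MonoidHom.mk' (fun e => y * (e : G) * y⁻¹ * (e : G)⁻¹) (by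
    intro a b
    have h1 := hcomm _ (E.inv_mem a.2) _ (E.mul_mem (hconj b b.2) (E.inv_mem b.2))
    simp only [Subgroup.coe_mul]
    calc y * ((a : G) * b) * y⁻¹ * ((a : G) * b)⁻¹
        = y * a * y⁻¹ * ((y * b * y⁻¹ * (b : G)⁻¹) * (a : G)⁻¹) := by group
      _ = y * a * y⁻¹ * ((a : G)⁻¹ * (y * b * y⁻¹ * (b : G)⁻¹)) := by rw [h1]
      _ = y * a * y⁻¹ * (a : G)⁻¹ * (y * b * y⁻¹ * (b : G)⁻¹) := by group)
  have hφ : ∀ e : ↥E, φ e = y * (e : G) * y⁻¹ * (e : G)⁻¹ := fun e => rfl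
  have hφE : ∀ e : ↥E, φ e ∈ E := fun e => E.mul_mem (hconj e e.2) (E.inv_mem e.2)
  -- the kernel has order `p`
  have hker : Nat.card φ.ker = p := by
    have h1 : φ.ker = (E ⊓ Subgroup.centralizer ({y} : Set G)).subgroupOf E := by
      ext e
      rw [MonoidHom.mem_ker, hφ, Subgroup.mem_subgroupOf, Subgroup.mem_inf,
        Subgroup.mem_centralizer_singleton_iff]
      constructor
      · intro h
        refine ⟨e.2, ?_⟩
        have : y * (e : G) * y⁻¹ = e := by
          calc y * (e : G) * y⁻¹ = (y * (e : G) * y⁻¹ * (e : G)⁻¹) * e := by group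
            _ = e := by rw [h, one_mul]
        calc (e : G) * y = (y * (e : G) * y⁻¹) * y := by rw [this]
          _ = y * e := by group
      · rintro ⟨-, h⟩
        calc y * (e : G) * y⁻¹ * (e : G)⁻¹ = ((e : G) * y) * y⁻¹ * (e : G)⁻¹ := by rw [h]
          _ = 1 := by group
    rw [h1, hCE]
    rw [← hZc]
    exact Nat.card_congr (Subgroup.subgroupOfEquivOfLe hZE).toEquiv
  have hrange : Nat.card φ.range = p := by
    have h1 := Subgroup.card_mul_index φ.ker
    rw [Subgroup.index_ker, hker, hEc] at h1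
    have : p * Nat.card φ.range = p * p := by rw [h1, pow_two]
    exact Nat.eq_of_mul_eq_mul_left hpp.pos this
  -- `y` normalizes the range, hence centralizes it
  have hyI : Subgroup.zpowers y ≤ Subgroup.normalizer ((φ.range : Subgroup G) : Set G) := by
    rw [Subgroup.zpowers_le]
    apply mem_normalizer_of_map_conj_le
    rintro _ ⟨_, ⟨e, rfl⟩, rfl⟩
    refine ⟨⟨y * e * y⁻¹, hconj e e.2⟩, ?_⟩
    rw [hφ, hφ]
    simp only [MulEquiv.coe_toMonoidHom, MulAut.conj_apply]
    group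
  have hyC := le_centralizer_of_isPGroup_of_card_prime hyp hrange hyI
  have hIZ : φ.range ≤ Z := by
    rw [← hCE]
    rintro _ ⟨e, rfl⟩
    refine Subgroup.mem_inf.2 ⟨hφE e, ?_⟩
    rw [Subgroup.mem_centralizer_singleton_iff]
    exact Subgroup.mem_centralizer_iff.1 (hyC (Subgroup.mem_zpowers y)) _ ⟨e, rfl⟩
  -- `z = [y, x]`
  set z := y * x * y⁻¹ * x⁻¹ with hz
  have hzZ : z ∈ Z := hIZ ⟨⟨x, hx⟩, rfl⟩
  have hz1 : z ≠ 1 := by
    intro h1
    apply hxy
    calc y * x = (y * x * y⁻¹ * x⁻¹) * x * y := by group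
      _ = x * y := by rw [← hz, h1, one_mul]
  have hZz : Subgroup.zpowers z = Z := zpowers_eq_of_card_prime hpp hZc hzZ hz1
  have hyz : y * z = z * y := (Subgroup.mem_centralizer_iff.1 hyZ z hzZ).symm
  have hxz : x * z = z * x := hcomm x hx z (hZE hzZ)
  have hyx : y * x * y⁻¹ = x * z := by
    rw [hxz, hz]; group
  -- `y^i x y^{-i} = x z^i`
  have hpow : ∀ i : ℕ, y ^ i * x * (y ^ i)⁻¹ = x * z ^ i := by
    intro i
    induction i with
    | zero => simp
    | succ i ih =>
      have hyzi : y * z ^ i * y⁻¹ = z ^ i := by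
        have : Commute y (z ^ i) := (show Commute y z from hyz).pow_right i
        rw [this.eq, mul_inv_cancel_right]
      calc y ^ (i + 1) * x * (y ^ (i + 1))⁻¹
          = y * (y ^ i * x * (y ^ i)⁻¹) * y⁻¹ := by rw [pow_succ']; group
        _ = y * (x * z ^ i) * y⁻¹ := by rw [ih]
        _ = (y * x * y⁻¹) * (y * z ^ i * y⁻¹) := by group
        _ = x * z * z ^ i := by rw [hyx, hyzi]
        _ = x * z ^ (i + 1) := by rw [pow_succ']; group
  intro e he
  by_cases heZ : e ∈ Z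
  · exact Or.inl heZ
  right
  have he1 : e ≠ 1 := fun h => heZ (h ▸ Z.one_mem)
  have hec : Nat.card (Subgroup.zpowers e) = p := by
    rw [Nat.card_zpowers]; exact orderOf_eq_prime (hEe.2 e he) he1
  -- `E = ⟨e⟩ Z`
  have hsup : Subgroup.zpowers e ⊔ Z = E := by
    have hle : Subgroup.zpowers e ⊔ Z ≤ E := sup_le (Subgroup.zpowers_le.2 he) hZE
    rcases eq_or_eq_of_le_of_card_sq hZc hEc le_sup_right hle with h | h
    · exfalso
      apply heZ
      rw [← h]
      exact Subgroup.mem_sup_left (Subgroup.mem_zpowers e)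
    · exact h
  have hxs : x ∈ Subgroup.zpowers e ⊔ Z := by rw [hsup]; exact hx
  obtain ⟨a, ha, b, hb, hab⟩ := Cfsg.Agent.Lib.H16.Narrow.exists_mul_of_mem_sup
    (fun a ha b hb => hcomm a (Subgroup.zpowers_le.2 he ha) b (hZE hb)) hxs
  -- `b⁻¹ = z ^ i`
  have hbz : b⁻¹ ∈ Subgroup.zpowers z := by rw [hZz]; exact Z.inv_mem hb
  have hzfin : IsOfFinOrder z := isOfFinOrder_of_finite z
  obtain ⟨i, hi⟩ := (hzfin.mem_powers_iff_mem_zpowers.2 hbz)
  refine ⟨i, ?_⟩
  rw [cj_zpowers, hpow i]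
  have h1 : x * z ^ i = a := by
    have hi' : z ^ i = b⁻¹ := hi
    rw [hi', ← hab, mul_inv_cancel_right]
  have h2 : x * z ^ i ≠ 1 := by
    intro h
    apply hxZ
    have : x = (z ^ i)⁻¹ := eq_inv_of_mul_eq_one_left h
    rw [this]
    exact Z.inv_mem (Z.pow_mem hzZ i)
  have h3 : Subgroup.zpowers (x * z ^ i) = Subgroup.zpowers e :=
    zpowers_eq_of_card_prime hpp hec (h1 ▸ ha) h2
  rw [h3]
  exact Subgroup.mem_zpowers e

/-- elements of a group of prime order `p` have `p`-th power one. -/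
theorem pow_eq_one_of_card_prime {p : ℕ} {X : Subgroup G} (hX : Nat.card X = p) {x : G}
    (hx : x ∈ X) : x ^ p = 1 := by
  have := pow_card_eq_one' (G := ↥X) (x := ⟨x, hx⟩)
  rw [hX] at this
  exact congrArg Subtype.val this

/-- a group of prime order is abelian. -/
theorem le_centralizer_self_of_card_prime {p : ℕ} (hp : p.Prime) {X : Subgroup G}
    (hX : Nat.card X = p) : X ≤ Subgroup.centralizer (X : Set G) := by
  haveI := isCyclic_of_card_prime' hp hX
  rw [Subgroup.le_centralizer_iff_isMulCommutative]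
  exact Cfsg.Agent.Lib.H8.BG12.isMulCommutative_of_isCyclic

/-- **Non-central lines have fixed points.**  Let `P ≤ M` be a `p`-group of rank at most two
with `|Ω₁(Z(P))| = p`, acting coprimely on `K ≠ 1`, with `C_K(Ω₁(Z(P))) = 1`.  A subgroup `X ≤ P`
of order `p` with `C_K(X) = 1` is equal to `Ω₁(Z(P))`. -/
theorem eq_omegaZ_of_fpf {p : ℕ} [hp : Fact p.Prime] {M K P X : Subgroup G} (hPM : P ≤ M)
    (hMK : M ≤ Subgroup.normalizer (K : Set G)) (hr : PRankLE p 2 ↥M) (hP : IsPGroup p P)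
    (hKp : (Nat.card ↥K).Coprime p) (hK1 : K ≠ ⊥) (hZc : Nat.card ↥(omegaZ p P) = p)
    (hZK : K ⊓ Subgroup.centralizer ((omegaZ p P : Subgroup G) : Set G) = ⊥)
    (hXP : X ≤ P) (hXc : Nat.card ↥X = p)
    (hXK : K ⊓ Subgroup.centralizer (X : Set G) = ⊥) : X = omegaZ p P := by
  have hpp := hp.out
  by_contra hne
  set Z1 := omegaZ p P with hZ1
  have hZ1P : Z1 ≤ P := omegaZ_le p P
  have hPZ1 : P ≤ Subgroup.centralizer (Z1 : Set G) := le_centralizer_omegaZ p P
  have hXX : X ≤ Subgroup.centralizer (X : Set G) := le_centralizer_self_of_card_prime hpp hXc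
  -- `X` is not central in `P`
  have hnc : ¬ P ≤ Subgroup.centralizer (X : Set G) := by
    intro hPX
    apply hne
    apply Subgroup.eq_of_le_of_card_ge
    · intro x hx
      refine ⟨⟨hXP hx, ?_⟩, pow_eq_one_of_card_prime hXc hx⟩
      exact (Subgroup.le_centralizer_iff.1 hPX) hx
    · rw [hZc, hXc]
  have hXZ : X ⊓ Z1 = ⊥ := by
    rcases eq_bot_or_eq_of_le_of_card_prime hpp hXc (inf_le_left : X ⊓ Z1 ≤ X) with h | h
    · exact h
    · exfalso
      apply hne
      apply Subgroup.eq_of_le_of_card_ge (h ▸ inf_le_right)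
      rw [hZc, hXc]
  set C := P ⊓ Subgroup.centralizer (X : Set G) with hC
  have hlt : C < P := by
    refine lt_of_le_of_ne inf_le_left ?_
    intro h
    exact hnc (h ▸ inf_le_right)
  obtain ⟨y, hyP, hyC, hyN⟩ := Cfsg.Agent.Lib.H16.exists_mem_normalizer_not_mem P C hP hlt
  set W := omegaZ p C with hW
  have hyW : y ∈ Subgroup.normalizer (W : Set G) := normalizer_le_normalizer_omegaZ p C hyN
  have hCX : C ≤ Subgroup.centralizer (X : Set G) := inf_le_right
  have hXW : X ≤ W := by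
    intro x hx
    refine ⟨⟨⟨hXP hx, hXX hx⟩, ?_⟩, pow_eq_one_of_card_prime hXc hx⟩
    exact (Subgroup.le_centralizer_iff.1 hCX) hx
  have hZ1W : Z1 ≤ W := by
    intro z hz
    have hzP : z ∈ Subgroup.centralizer (P : Set G) := hz.1.2
    refine ⟨⟨⟨hZ1P hz, Subgroup.centralizer_le (by exact_mod_cast hXP) hzP⟩, ?_⟩, hz.2⟩
    exact Subgroup.centralizer_le (by exact_mod_cast (inf_le_left : C ≤ P)) hzP
  set E := X ⊔ Z1 with hE
  have hEW : E ≤ W := sup_le hXW hZ1W
  have hXNZ : X ≤ Subgroup.normalizer (Z1 : Set G) :=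
    (hXP.trans hPZ1).trans (Subgroup.centralizer_le_normalizer _)
  have hEc : Nat.card ↥E = p ^ 2 := by
    have h := card_sup_mul_card_inf hXNZ
    rw [hXZ, Subgroup.card_bot, mul_one, hXc, hZc] at h
    rw [h, pow_two]
  have hWe : IsElementaryAbelian p W := omegaZ_elemAb p C
  have hWM : W ≤ M := ((omegaZ_le p C).trans inf_le_left).trans hPM
  have hWc : Nat.card ↥W ≤ p ^ 2 := by
    by_contra hcon
    push Not at hcon
    exact not_pRankLE_of_elemAb hWM hWe hcon hr
  have hEeq : E = W := Subgroup.eq_of_le_of_card_ge hEW (by rw [hEc]; exact hWc)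
  have hEe : IsElementaryAbelian p E := hEeq ▸ hWe
  have hyE : y ∈ Subgroup.normalizer (E : Set G) := hEeq ▸ hyW
  have hyZ : y ∈ Subgroup.centralizer (Z1 : Set G) := hPZ1 hyP
  have hyp : IsPGroup p (Subgroup.zpowers y) := hP.to_le (Subgroup.zpowers_le.2 hyP)
  -- generator of `X`
  have hX1 : X ≠ ⊥ := by
    intro h0
    rw [h0, Subgroup.card_bot] at hXc
    exact hpp.one_lt.ne hXc
  obtain ⟨⟨x, hx⟩, hx1'⟩ := (Subgroup.ne_bot_iff_exists_ne_one).1 hX1
  have hx1 : x ≠ 1 := fun h0 => hx1' (Subtype.ext h0)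
  have hxz : Subgroup.zpowers x = X := zpowers_eq_of_card_prime hpp hXc hx hx1
  have hxy : y * x ≠ x * y := by
    intro hcomm
    apply hyC
    refine Subgroup.mem_inf.2 ⟨hyP, ?_⟩
    rw [← hxz, centralizer_zpowers_eq, Subgroup.mem_centralizer_singleton_iff]
    exact hcomm
  have hcover := line_cover hEe hEc le_sup_right hZc hyE hyZ hyp
    (Subgroup.mem_sup_left hx : x ∈ E) hxy
  have hEM : E ≤ M := hEeq ▸ hWM
  apply hK1
  rw [eq_bot_iff]
  apply le_of_forall_centralizer_le hEe (le_of_eq hEc.symm) hKp (hEM.trans hMK)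
  intro e he he1
  rcases hcover e he with h | ⟨i, h⟩
  · have : Subgroup.zpowers e = Z1 := zpowers_eq_of_card_prime hpp hZc h he1
    rw [← centralizer_zpowers_eq, this, hZK]
  · rw [hxz] at h
    have hc : Nat.card ↥cj(y ^ i, X) = p := by rw [card_cj]; exact hXc
    have : Subgroup.zpowers e = cj(y ^ i, X) := zpowers_eq_of_card_prime hpp hc h he1
    rw [← centralizer_zpowers_eq, this, centralizer_cj]
    have hyiK : cj(y ^ i, K) = K :=
      cj_eq_self_of_mem_normalizer (hMK (hPM (P.pow_mem hyP i)))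
    calc K ⊓ cj(y ^ i, Subgroup.centralizer (X : Set G))
        = cj(y ^ i, K) ⊓ cj(y ^ i, Subgroup.centralizer (X : Set G)) := by rw [hyiK]
      _ = cj(y ^ i, K ⊓ Subgroup.centralizer (X : Set G)) := (cj_inf _ _ _).symm
      _ = ⊥ := by rw [hXK, cj_bot]
      _ ≤ ⊥ := le_rfl

end Cfsg.Agent.Lib.H16.BG
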