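import Mathlib
import Cfsg.Agent.Lib.H16.BG11c

/-! # Bender–Glauberman §11, part (d) (helper16)

BG 11.5, first half: for a Sylow `p`-subgroup `P ≥ A` of `M`, `Ω₁(Z(P))` does not have
order `p`. -/

set_option autoImplicit false
set_option linter.unusedSectionVars false
set_option linter.unusedVariables false
set_option linter.style.haveILetI false

namespace Cfsg.Agent.Lib.H16.BG

open Cfsg Cfsg.Agent.Lib.H7.BG7 Cfsg.Agent.Lib.H7.BG10
open Cfsg.Agent.Lib.H1 (CoprimeAction)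
open scoped commutatorElement

universe u
variable {G : Type u} [Group G] [Finite G]

local notation:max "cj(" g ", " X ")" => Subgroup.map (MulEquiv.toMonoidHom (MulAut.conj g)) X

namespace Exc

variable {M A A₀ : Subgroup G} {p : ℕ} [hp : Fact p.Prime]

/-- `Ω₁(Z(P)) ≤ A` for every `p`-subgroup `P ≥ A`. -/
theorem omegaZ_le (hG : IsMinSimpleOddOrder G) (h : Exc M p A A₀) {P : Subgroup G}
    (hAP : A ≤ P) : omegaZ p P ≤ A := by
  intro z hz
  apply h.mem_of_pow_eq_one hG _ hz.2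
  exact Subgroup.centralizer_le (by exact_mod_cast hAP) hz.1.2

/-- two normal subgroups of coprime orders... the commutator of `d ∈ K ∩ L` and `b ∈ L_σ ∩ N(K)`
lies in `K ∩ L_σ`. -/
theorem commute_of_inf_eq_bot {K N : Subgroup G} (hKN : K ⊓ N = ⊥) {d b : G} (hd : d ∈ K)
    (hb : b ∈ N) (hbK : b ∈ Subgroup.normalizer (K : Set G))
    (hdN : d ∈ Subgroup.normalizer (N : Set G)) : d * b = b * d := by
  have h1 : d * b * d⁻¹ * b⁻¹ ∈ K ⊓ N := by
    constructor
    · have : d * b * d⁻¹ * b⁻¹ = d * (b * d⁻¹ * b⁻¹) := by group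
      rw [this]
      exact K.mul_mem hd ((Subgroup.mem_normalizer_iff.1 hbK _).1 (K.inv_mem hd))
    · exact N.mul_mem ((Subgroup.mem_normalizer_iff.1 hdN _).1 hb) (N.inv_mem hb)
  rw [hKN, Subgroup.mem_bot] at h1
  calc d * b = (d * b * d⁻¹ * b⁻¹) * b * d := by group
    _ = b * d := by rw [h1, one_mul]

/-- **BG 11.5, first half**: `|Ω₁(Z(P))| ≠ p`. -/
theorem card_omegaZ_ne (hG : IsMinSimpleOddOrder G) (h : Exc M p A A₀)
    (hK : sigmaCore M ≠ ⊥) {P : Subgroup G} (hP : SylIn p P M) (hAP : A ≤ P) :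
    Nat.card ↥(omegaZ p P) ≠ p := by
  intro hZc
  have hpp := hp.out
  have hM := h.coatom
  set K := sigmaCore M with hKdef
  set Z1 := omegaZ p P with hZ1
  have hZ1A : Z1 ≤ A := h.omegaZ_le hG hAP
  have hP1 : P ≠ ⊥ := ne_bot_of_le_ne_bot h.ne_bot hAP
  have hZ11 : Z1 ≠ ⊥ := omegaZ_ne_bot hP.isPGroup hP1
  have hZ1p : IsPGroup p ↥Z1 := hP.isPGroup.to_le (Cfsg.Agent.Lib.H16.BG.omegaZ_le p P)
  -- a Sylow subgroup `S ≥ P` of `G`
  obtain ⟨S, hS, hPS⟩ := SylIn.exists_ge hP.isPGroup (le_top : P ≤ ⊤)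
  have hS1 : S ≠ ⊥ := ne_bot_of_le_ne_bot hP1 hPS
  have hZS : omegaZ p S = Z1 := by
    have hle : omegaZ p S ≤ Z1 := by
      intro z hz
      have hzA : z ∈ A := h.omegaZ_le hG (hAP.trans hPS) hz
      exact ⟨⟨hAP hzA, Subgroup.centralizer_le (by exact_mod_cast hPS) hz.1.2⟩, hz.2⟩
    rcases eq_bot_or_eq_of_le_of_card_prime hpp hZc hle with h0 | h0
    · exact absurd h0 (omegaZ_ne_bot hS.isPGroup hS1)
    · exact h0
  have hNS : Subgroup.normalizer (S : Set G) ≤ Subgroup.normalizer (Z1 : Set G) := by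
    rw [← hZS]; exact normalizer_le_normalizer_omegaZ p S
  have hNP : Subgroup.normalizer (P : Set G) ≤ Subgroup.normalizer (Z1 : Set G) :=
    normalizer_le_normalizer_omegaZ p P
  have hNZ : Subgroup.normalizer (Z1 : Set G) ≠ ⊤ :=
    normalizer_ne_top_of_isPGroup hG hZ1p hZ11
  obtain ⟨L, hL, hNL⟩ := exists_coatom_ge hNZ
  have hSL : S ≤ L := (Subgroup.le_normalizer.trans hNS).trans hNL
  have hpL : p ∈ sigma L :=
    sigma_of_normalizer_le (hS.mono hSL le_top) hS1 (hNS.trans hNL)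
  -- `σ(L) ∩ σ(M) = ∅`
  have hdisj : ∀ q : ℕ, q ∈ sigma M → q ∉ sigma L := by
    intro q hqM hqL
    obtain ⟨g', rfl⟩ := h.conj_of_mem_sigma hG hL hqM hqL
    rw [sigma_cj] at hpL
    exact h.not_sigma hpL
  have hKL : K ⊓ sigmaCore L = ⊥ := by
    by_contra hne
    have hc : Nat.card ↥(K ⊓ sigmaCore L : Subgroup G) ≠ 1 :=
      fun h1 => hne (Subgroup.card_eq_one.1 h1)
    obtain ⟨q, hqp, hqd⟩ := Nat.exists_prime_and_dvd hc
    exact hdisj q
      (mem_sigma_of_dvd_card_sigmaCore hqp (hqd.trans (Subgroup.card_dvd_of_le inf_le_left)))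
      (mem_sigma_of_dvd_card_sigmaCore hqp (hqd.trans (Subgroup.card_dvd_of_le inf_le_right)))
  -- the conjugate `B = A^g`
  obtain ⟨g, hgN, hgM⟩ := h.exists_normalizer_not_mem hP
  have hAg := h.le_conj_of_mem_normalizer hP hAP hgN
  have hBP : cj(g, A) ≤ P := by
    have := cj_mono g hAP
    rwa [cj_eq_self_of_mem_normalizer hgN] at this
  have hBσ : cj(g, A) ≤ sigmaCore L :=
    isPGroup_le_sigmaCore hG hL hpL ((hBP.trans hPS).trans hSL) (h.isPGroup.map _)
  have hKLbot : K ⊓ L = ⊥ := by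
    rw [eq_bot_iff, ← h.inf_centralizer_conj hG hgM hAg]
    intro d hd
    refine ⟨hd.1, ?_⟩
    have hd' : d ∈ Subgroup.centralizer ((cj(g, A) : Subgroup G) : Set G) := by
      rw [Subgroup.mem_centralizer_iff]
      intro b hb
      symm
      apply commute_of_inf_eq_bot hKL hd.1 (hBσ hb)
      · exact Cfsg.Agent.Lib.H16.BG.le_normalizer_sigmaCore M (hP.le (hBP hb))
      · exact Cfsg.Agent.Lib.H16.BG.le_normalizer_sigmaCore L hd.2
    exact Subgroup.centralizer_le (by exact_mod_cast cj_mono g h.le₀) hd'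
  have hKZ : K ⊓ Subgroup.centralizer (Z1 : Set G) = ⊥ := by
    rw [eq_bot_iff, ← hKLbot]
    exact inf_le_inf_left _ ((Subgroup.centralizer_le_normalizer _).trans hNL)
  -- the fixed-point-free line `A₀^g` is `Ω₁(Z(P))`
  have hXP : cj(g, A₀) ≤ P := (cj_mono g h.le₀).trans hBP
  have hXeq : cj(g, A₀) = Z1 :=
    eq_omegaZ_of_fpf hP.le (Cfsg.Agent.Lib.H16.BG.le_normalizer_sigmaCore M) (h.rank hG).1
      hP.isPGroup (not_sigma_of_coprime hpp h.not_sigma) hK hZc hKZ hXP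
      (by rw [card_cj]; exact h.card₀) (h.inf_centralizer_conj hG hgM hAg)
  have hA₀ : A₀ = Z1 := by
    have h1 : cj(g⁻¹, cj(g, A₀)) = cj(g⁻¹, Z1) := by rw [hXeq]
    rw [cj_inv_cj] at h1
    rw [h1]
    exact cj_eq_self_of_mem_normalizer
      ((Subgroup.normalizer (Z1 : Set G)).inv_mem (hNP hgN))
  apply hgM
  apply h.norm
  rw [hA₀]
  exact hNP hgN

end Exc

end Cfsg.Agent.Lib.H16.BG
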