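import Mathlib
import Cfsg.Agent.Lib.H16.BG11d
import Cfsg.Agent.Lib.H8.BG12k

/-! # Bender–Glauberman §11, part (e) (helper16)

BG 11.5 (Sylow `p`-subgroups of `M` are abelian) and 11.6 (`A = Ω₁(P)`, `N_G(A) ⊄ M`,
`C_{M_σ}(A) = 1`, two fixed-point-free lines). -/

set_option autoImplicit false
set_option linter.unusedSectionVars false
set_option linter.unusedVariables false
set_option linter.style.haveILetI false

namespace Cfsg.Agent.Lib.H16.BG

open Cfsg Cfsg.Agent.Lib.H7.BG7 Cfsg.Agent.Lib.H7.BG10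
open Cfsg.Agent.Lib.H1 (CoprimeAction)
open scoped commutatorElement

universe u
variable {G : Type u} [Group G] [Finite G]

local notation:max "cj(" g ", " X ")" => Subgroup.map (MulEquiv.toMonoidHom (MulAut.conj g)) X

namespace Exc

variable {M A A₀ : Subgroup G} {p : ℕ} [hp : Fact p.Prime]

theorem sigmaCore_ne_bot (hG : IsMinSimpleOddOrder G) (h : Exc M p A A₀) : sigmaCore M ≠ ⊥ :=
  Cfsg.Agent.Lib.H8.BG12.sigmaCore_ne_bot' hG h.coatom

/-- `Ω₁(Z(P)) = A` for a Sylow `p`-subgroup `P ≥ A` of `M`. -/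
theorem omegaZ_eq (hG : IsMinSimpleOddOrder G) (h : Exc M p A A₀) {P : Subgroup G}
    (hP : SylIn p P M) (hAP : A ≤ P) : omegaZ p P = A := by
  have hpp := hp.out
  have hle := h.omegaZ_le hG hAP
  have hP1 : P ≠ ⊥ := ne_bot_of_le_ne_bot h.ne_bot hAP
  have h1 : omegaZ p P ≠ ⊥ := omegaZ_ne_bot hP.isPGroup hP1
  have hne := h.card_omegaZ_ne hG (h.sigmaCore_ne_bot hG) hP hAP
  have hd : Nat.card ↥(omegaZ p P) ∣ p ^ 2 := h.card ▸ Subgroup.card_dvd_of_le hle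
  obtain ⟨k, hk, hkc⟩ := (Nat.dvd_prime_pow hpp).1 hd
  have hk2 : k = 2 := by
    rcases (by omega : k = 0 ∨ k = 1 ∨ k = 2) with rfl | rfl | rfl
    · exfalso
      rw [pow_zero] at hkc
      exact h1 (Subgroup.card_eq_one.1 hkc)
    · exfalso
      rw [pow_one] at hkc
      exact hne hkc
    · rfl
  apply Subgroup.eq_of_le_of_card_ge hle
  rw [hkc, hk2, h.card]

/-- **BG 11.5**: a Sylow `p`-subgroup of `M` containing `A` is abelian. -/
theorem sylow_comm_of_le (hG : IsMinSimpleOddOrder G) (h : Exc M p A A₀) {P : Subgroup G}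
    (hP : SylIn p P M) (hAP : A ≤ P) : ∀ x ∈ P, ∀ y ∈ P, x * y = y * x := by
  have hZ := h.omegaZ_eq hG hP hAP
  have hPA : P ≤ Subgroup.centralizer (A : Set G) := by
    rw [← hZ]; exact le_centralizer_omegaZ p P
  obtain ⟨S, hPS⟩ := hP.isPGroup.exists_le_sylow
  intro x hx y hy
  exact Cfsg.Agent.Lib.H8.BG12.centralizer_sylow_comm hG S (hAP.trans hPS) h.elem h.card
    (h.maxElem hG) x ⟨hPS hx, hPA hx⟩ y ⟨hPS hy, hPA hy⟩

/-- **BG 11.5**: every Sylow `p`-subgroup of `M` is abelian. -/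
theorem sylow_comm (hG : IsMinSimpleOddOrder G) (h : Exc M p A A₀) {P : Subgroup G}
    (hP : SylIn p P M) : ∀ x ∈ P, ∀ y ∈ P, x * y = y * x := by
  obtain ⟨P₀, hP₀, hAP₀⟩ := SylIn.exists_ge h.isPGroup h.le
  obtain ⟨m, hm, hle⟩ := hP₀.exists_conj_le hP.isPGroup hP.le
  intro x hx y hy
  have h1 := h.sylow_comm_of_le hG hP₀ hAP₀ _ (hle (conj_mem_cj hx)) _ (hle (conj_mem_cj hy))
  have h2 : m * (x * y) * m⁻¹ = m * (y * x) * m⁻¹ := by
    calc m * (x * y) * m⁻¹ = (m * x * m⁻¹) * (m * y * m⁻¹) := by group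
      _ = (m * y * m⁻¹) * (m * x * m⁻¹) := h1
      _ = m * (y * x) * m⁻¹ := by group
  exact mul_left_cancel (mul_right_cancel h2)

/-- **BG 11.6(a)**: `A = Ω₁(P)`. -/
theorem mem_iff_pow_eq_one (hG : IsMinSimpleOddOrder G) (h : Exc M p A A₀) {P : Subgroup G}
    (hP : SylIn p P M) (hAP : A ≤ P) {x : G} (hx : x ∈ P) : x ^ p = 1 ↔ x ∈ A := by
  constructor
  · intro hxp
    apply h.mem_of_pow_eq_one hG _ hxp
    rw [Subgroup.mem_centralizer_iff]
    intro a ha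
    exact h.sylow_comm_of_le hG hP hAP a (hAP ha) x hx
  · intro hxA
    exact h.elem.2 x hxA

/-- `N_G(P) ≤ N_G(A)`. -/
theorem normalizer_le_normalizer (hG : IsMinSimpleOddOrder G) (h : Exc M p A A₀)
    {P : Subgroup G} (hP : SylIn p P M) (hAP : A ≤ P) :
    Subgroup.normalizer (P : Set G) ≤ Subgroup.normalizer (A : Set G) := by
  intro g hg
  apply mem_normalizer_of_map_conj_le
  rintro _ ⟨a, ha, rfl⟩
  have h1 : g * a * g⁻¹ ∈ P := (Subgroup.mem_normalizer_iff.1 hg a).1 (hAP ha)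
  apply (h.mem_iff_pow_eq_one hG hP hAP h1).1
  rw [conj_pow, h.elem.2 a ha]; group

/-- **BG 11.6(b)**: `N_G(A) ⊄ M`; more precisely some `g ∈ N_G(A) ∖ M` normalizes a Sylow
`p`-subgroup of `M` containing `A`. -/
theorem exists_mem_normalizer_not_mem (hG : IsMinSimpleOddOrder G) (h : Exc M p A A₀) :
    ∃ g ∈ Subgroup.normalizer (A : Set G), g ∉ M := by
  obtain ⟨P, hP, hAP⟩ := SylIn.exists_ge h.isPGroup h.le
  obtain ⟨g, hgN, hgM⟩ := h.exists_normalizer_not_mem hP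
  exact ⟨g, h.normalizer_le_normalizer hG hP hAP hgN, hgM⟩

theorem not_normalizer_le (hG : IsMinSimpleOddOrder G) (h : Exc M p A A₀) :
    ¬ Subgroup.normalizer (A : Set G) ≤ M := by
  obtain ⟨g, hgN, hgM⟩ := h.exists_mem_normalizer_not_mem hG
  exact fun hle => hgM (hle hgN)

/-- for `g ∈ N_G(A) ∖ M` the line `A₀^g ≤ A` acts fixed point freely on `M_σ`. -/
theorem fpf_conj_line (hG : IsMinSimpleOddOrder G) (h : Exc M p A A₀) {g : G}
    (hgN : g ∈ Subgroup.normalizer (A : Set G)) (hgM : g ∉ M) :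
    cj(g, A₀) ≤ A ∧ Nat.card ↥cj(g, A₀) = p ∧
      sigmaCore M ⊓ Subgroup.centralizer ((cj(g, A₀) : Subgroup G) : Set G) = ⊥ := by
  have hAg : cj(g, A) = A := cj_eq_self_of_mem_normalizer hgN
  refine ⟨?_, by rw [card_cj]; exact h.card₀, ?_⟩
  · rw [← hAg]; exact cj_mono g h.le₀
  · apply h.inf_centralizer_conj hG hgM
    rw [← hAg]; exact cj_mono g h.le

/-- **BG 11.6(c)**: `C_{M_σ}(A) = 1`. -/
theorem inf_centralizer (hG : IsMinSimpleOddOrder G) (h : Exc M p A A₀) :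
    sigmaCore M ⊓ Subgroup.centralizer (A : Set G) = ⊥ := by
  obtain ⟨g, hgN, hgM⟩ := h.exists_mem_normalizer_not_mem hG
  obtain ⟨h1, -, h3⟩ := h.fpf_conj_line hG hgN hgM
  rw [eq_bot_iff, ← h3]
  exact inf_le_inf_left _ (Subgroup.centralizer_le (by exact_mod_cast h1))

/-- **BG 11.6(d)**: two distinct lines of `A` act fixed point freely on `M_σ`. -/
theorem exists_two_fpf_lines (hG : IsMinSimpleOddOrder G) (h : Exc M p A A₀) :
    ∃ A₁ A₂ : Subgroup G, A₁ ≤ A ∧ A₂ ≤ A ∧ Nat.card ↥A₁ = p ∧ Nat.card ↥A₂ = p ∧ A₁ ≠ A₂ ∧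
      sigmaCore M ⊓ Subgroup.centralizer (A₁ : Set G) = ⊥ ∧
      sigmaCore M ⊓ Subgroup.centralizer (A₂ : Set G) = ⊥ := by
  obtain ⟨g, hgN, hgM⟩ := h.exists_mem_normalizer_not_mem hG
  have hgN' : g⁻¹ ∈ Subgroup.normalizer (A : Set G) := Subgroup.inv_mem _ hgN
  have hgM' : g⁻¹ ∉ M := fun hc => hgM (by simpa using M.inv_mem hc)
  obtain ⟨h1, h2, h3⟩ := h.fpf_conj_line hG hgN hgM
  obtain ⟨h1', h2', h3'⟩ := h.fpf_conj_line hG hgN' hgM'
  refine ⟨cj(g, A₀), cj(g⁻¹, A₀), h1, h1', h2, h2', ?_, h3, h3'⟩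
  intro heq
  have h4 : cj(g, cj(g, A₀)) = A₀ := by rw [heq, cj_cj_inv]
  rw [cj_cj] at h4
  have h5 : g * g ∈ Subgroup.normalizer (A₀ : Set G) :=
    Subgroup.mem_normalizer_iff_map_conj_eq.2 h4
  exact hgM (mem_of_sq_mem hG (h.norm h5))

end Exc

end Cfsg.Agent.Lib.H16.BG
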