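import Mathlib
import Cfsg.Agent.Lib.H16.BG11e
import Cfsg.Agent.Lib.H16.BGj

/-! # Bender–Glauberman §11, part (f) (helper16)

`[O_{p'}(M), A] ≤ F(M)` for an exceptional maximal subgroup, from BG 3.7 modulo a central
subgroup (`HMod`) and the cyclicity of the `O_r(M)`, `r ∉ σ(M)` (`HClaim`). -/

set_option autoImplicit false
set_option linter.unusedSectionVars false
set_option linter.unusedVariables false
set_option linter.style.haveILetI false

namespace Cfsg.Agent.Lib.H16.BG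

open Cfsg Cfsg.Agent.Lib.H7.BG7 Cfsg.Agent.Lib.H7.BG10
open Cfsg.Agent.Lib.H1 (CoprimeAction)
open Cfsg.Agent.Lib.H19 (IsPiCard)
open scoped commutatorElement

universe u
variable {G : Type u} [Group G] [Finite G]

local notation:max "cj(" g ", " X ")" => Subgroup.map (MulEquiv.toMonoidHom (MulAut.conj g)) X

/-- **Claim 1** as a hypothesis: for `r ∉ σ(M)` with `O_r(M) ≠ 1`, `O_r(M)` is cyclic and `M` is
exceptional for `r`, with `N_G(B₀) = M` for `B₀ = Ω₁(O_r(M))`. -/
def HClaim (G : Type u) [Group G] : Prop :=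
  ∀ (M : Subgroup G), IsCoatom M → ∀ (r : ℕ) [Fact r.Prime], r ∉ sigma M →
    piCoreOf ({r} : Set ℕ) M ≠ ⊥ →
    IsCyclic ↥(piCoreOf ({r} : Set ℕ) M) ∧ ∃ B₀ Ar : Subgroup G,
      B₀ ≤ piCoreOf ({r} : Set ℕ) M ∧ M ≤ Subgroup.normalizer (B₀ : Set G) ∧ Exc M r Ar B₀

/-- **BG 3.7 modulo a central subgroup** as a hypothesis. -/
def HMod (G : Type u) [Group G] : Prop :=
  ∀ (M C Z : Subgroup G), Group.IsSolvable ↥M → Odd (Nat.card ↥M) → C ≤ M →
    M ≤ Subgroup.normalizer (C : Set G) → Z ≤ C → C ≤ Subgroup.centralizer (Z : Set G) →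
    M ≤ Subgroup.normalizer (Z : Set G) → ∀ (x : G), x ∈ M → ∀ (r : ℕ), r.Prime → orderOf x = r →
    ¬ r ∣ Nat.card ↥C → fittingOf C ⊓ Subgroup.centralizer ({x} : Set G) ≤ Z →
    ⁅C, Subgroup.zpowers x⁆ ≤ fittingOf C

/-- the primes outside `σ(M) ∪ {p}`. -/
def piSet (M : Subgroup G) (p : ℕ) : Set ℕ := {r | r.Prime ∧ r ∉ sigma M ∧ r ≠ p}

/-- two distinct subgroups of order `p` in a group of order `p²` generate it. -/
theorem sup_eq_of_card_sq {p : ℕ} [hp : Fact p.Prime] {A A₁ A₂ : Subgroup G}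
    (hA : Nat.card ↥A = p ^ 2) (h₁ : A₁ ≤ A) (h₂ : A₂ ≤ A) (hc₁ : Nat.card ↥A₁ = p)
    (hc₂ : Nat.card ↥A₂ = p) (hne : A₁ ≠ A₂) : A₁ ⊔ A₂ = A := by
  rcases eq_or_eq_of_le_of_card_sq hc₁ hA (le_sup_left : A₁ ≤ A₁ ⊔ A₂) (sup_le h₁ h₂) with h | h
  · exfalso
    apply hne
    symm
    apply Subgroup.eq_of_le_of_card_ge (h ▸ le_sup_right)
    rw [hc₁, hc₂]
  · exact h

namespace Exc

variable {M A A₀ : Subgroup G} {p : ℕ} [hp : Fact p.Prime]

theorem solvable (hG : IsMinSimpleOddOrder G) (h : Exc M p A A₀) : Group.IsSolvable ↥M :=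
  solvable_of_ne_top hG h.coatom.1

theorem odd_card (hG : IsMinSimpleOddOrder G) (M : Subgroup G) : Odd (Nat.card ↥M) :=
  hG.1.of_dvd_nat (Subgroup.card_subgroup_dvd_card M)

/-- `A` acts coprimely on `O_{p'}(M)`. -/
theorem coprimeAction_core (hG : IsMinSimpleOddOrder G) (h : Exc M p A A₀) :
    CoprimeAction A (piCoreOf (primesNotDvd p) M) where
  normalizes := h.le.trans (le_normalizer_piCoreOf _ _)
  coprime := by
    rw [h.card]
    exact Nat.Coprime.pow_left 2 (card_piCoreOf_primesNotDvd_coprime p M).symm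
  solvable := by
    left
    haveI := h.elem.1
    exact Group.isSolvable_of_comm (fun a b => mul_comm' a b)

/-- `M_σ ≤ O_{p'}(M)`. -/
theorem sigmaCore_le_core (h : Exc M p A A₀) : sigmaCore M ≤ piCoreOf (primesNotDvd p) M :=
  le_piCoreOf_primesNotDvd (sigmaCore_le M) (Cfsg.Agent.Lib.H16.BG.le_normalizer_sigmaCore M)
    (not_sigma_of_coprime hp.out h.not_sigma)

/-- **BG 11.7, first step**: `[O_{p'}(M), A] ≤ F(M)`. -/
theorem commutator_core_le_fittingOf (hG : IsMinSimpleOddOrder G) (h : Exc M p A A₀)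
    (hC : HClaim G) (hR : HMod G) : ⁅piCoreOf (primesNotDvd p) M, A⁆ ≤ fittingOf M := by
  have hpp := hp.out
  have hM := h.coatom
  set D := piCoreOf (primesNotDvd p) M with hD
  set F := fittingOf M with hF
  set T := piCoreOf (piSet M p) F with hT
  set K := sigmaCore M with hK
  have hFnil : Group.IsNilpotent ↥F := fittingOf_isNilpotent M
  have hFM : F ≤ M := fittingOf_le M
  have hMF : M ≤ Subgroup.normalizer (F : Set G) := le_normalizer_fittingOf M
  have hMD : M ≤ Subgroup.normalizer (D : Set G) := le_normalizer_piCoreOf _ _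
  have hMT : M ≤ Subgroup.normalizer (T : Set G) :=
    hMF.trans (normalizer_le_normalizer_piCoreOf _ F)
  have hTF : T ≤ F := piCoreOf_le _ _
  have hTM : T ≤ M := hTF.trans hFM
  have hTnil : Group.IsNilpotent ↥T := isNilpotent_of_le hFnil hTF
  have hTπ : IsPiCard (piSet M p) (Nat.card ↥T) := piCoreOf_isPiCard _ _
  have hDp : (Nat.card ↥D).Coprime p := card_piCoreOf_primesNotDvd_coprime p M
  set C := D ⊓ Subgroup.centralizer (T : Set G) with hCdef
  set Z := T ⊓ Subgroup.centralizer (T : Set G) with hZdef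
  have hMCT : M ≤ Subgroup.normalizer ((Subgroup.centralizer (T : Set G) : Subgroup G) : Set G) :=
    hMT.trans (normalizer_le_normalizer_centralizer T)
  have hMC : M ≤ Subgroup.normalizer (C : Set G) := Cfsg.Agent.Lib.H7.le_normalizer_inf hMD hMCT
  have hMZ : M ≤ Subgroup.normalizer (Z : Set G) := Cfsg.Agent.Lib.H7.le_normalizer_inf hMT hMCT
  have hCM : C ≤ M := inf_le_left.trans (piCoreOf_le _ _)
  have hTp : (Nat.card ↥T).Coprime p := by
    rw [Nat.coprime_comm, Nat.Prime.coprime_iff_not_dvd hpp]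
    intro hd
    exact (hTπ p hpp hd).2.2 rfl
  have hTD : T ≤ D := le_piCoreOf_primesNotDvd hTM hMT hTp
  have hZC : Z ≤ C := le_inf (inf_le_left.trans hTD) inf_le_right
  have hCZ : C ≤ Subgroup.centralizer (Z : Set G) :=
    inf_le_right.trans (Subgroup.centralizer_le (by exact_mod_cast (inf_le_left : Z ≤ T)))
  have hcop := h.coprimeAction_core hG
  -- (i) `[D, A] ≤ C`
  have hi : ⁅D, A⁆ ≤ C := by
    refine le_inf hcop.commutator_le ?_
    rw [Subgroup.commutator_le]
    intro d hd a ha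
    have hdM : d ∈ M := piCoreOf_le _ _ hd
    have haM : a ∈ M := h.le ha
    have key : T ≤ Subgroup.centralizer ((Subgroup.zpowers ⁅d, a⁆ : Subgroup G) : Set G) := by
      apply le_centralizer_of_forall_piCoreOf hTnil
      intro q hq
      haveI : Fact q.Prime := ⟨hq⟩
      by_cases h1 : piCoreOf ({q} : Set ℕ) T = ⊥
      · rw [h1]; exact bot_le
      · have hle : piCoreOf ({q} : Set ℕ) T ≤ piCoreOf ({q} : Set ℕ) M :=
          piCoreOf_le_piCoreOf_of_normal {q} hTM hMT
        have hqd : q ∣ Nat.card ↥T :=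
          (dvd_card_of_isPGroup_ne_bot (isPGroup_piCoreOf_singleton q T) h1).trans
            (Subgroup.card_dvd_of_le (piCoreOf_le _ _))
        have hqπ := hTπ q hq hqd
        have hne : piCoreOf ({q} : Set ℕ) M ≠ ⊥ := ne_bot_of_le_ne_bot h1 hle
        obtain ⟨hcyc, -⟩ := hC M hM q hqπ.2.1 hne
        have hN : M ≤ Subgroup.normalizer ((piCoreOf ({q} : Set ℕ) M : Subgroup G) : Set G) :=
          le_normalizer_piCoreOf _ _
        have h2 := commutator_mem_centralizer_of_cyclic hcyc (hN hdM) (hN haM)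
        refine hle.trans ?_
        rw [Subgroup.le_centralizer_iff, Subgroup.zpowers_le]
        exact h2
    rw [Subgroup.le_centralizer_iff] at key
    exact key (Subgroup.mem_zpowers _)
  -- (ii) lines acting fixed point freely
  have hii : ∀ A₁ : Subgroup G, A₁ ≤ A → Nat.card ↥A₁ = p →
      K ⊓ Subgroup.centralizer (A₁ : Set G) = ⊥ → ⁅C, A₁⁆ ≤ F := by
    intro A₁ hA₁ hc₁ hf₁
    have hA₁1 : A₁ ≠ ⊥ := by
      intro h0
      rw [h0, Subgroup.card_bot] at hc₁
      exact hpp.one_lt.ne hc₁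
    obtain ⟨⟨x, hx⟩, hx1'⟩ := (Subgroup.ne_bot_iff_exists_ne_one).1 hA₁1
    have hx1 : x ≠ 1 := fun h0 => hx1' (Subtype.ext h0)
    have hxz : Subgroup.zpowers x = A₁ := zpowers_eq_of_card_prime hpp hc₁ hx hx1
    have hxo : orderOf x = p := orderOf_eq_prime (h.elem.2 x (hA₁ hx)) hx1
    have hpC : ¬ p ∣ Nat.card ↥C := by
      intro hd
      have := hd.trans (Subgroup.card_dvd_of_le (inf_le_left : C ≤ D))
      exact (Nat.Prime.coprime_iff_not_dvd hpp).1 hDp.symm this
    have hFC : fittingOf C ≤ F :=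
      le_fittingOf ((fittingOf_le C).trans hCM) (hMC.trans (normalizer_le_normalizer_fittingOf C))
        (fittingOf_isNilpotent C)
    have hfix : fittingOf C ⊓ Subgroup.centralizer ({x} : Set G) ≤ Z := by
      set F0 := fittingOf C ⊓ Subgroup.centralizer ({x} : Set G) with hF0
      have hF0F : F0 ≤ F := inf_le_left.trans hFC
      have hF0C : F0 ≤ C := inf_le_left.trans (fittingOf_le C)
      have hπ : IsPiCard (piSet M p) (Nat.card ↥F0) := by
        intro q hq hqd
        haveI : Fact q.Prime := ⟨hq⟩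
        refine ⟨hq, ?_, ?_⟩
        · intro hqσ
          obtain ⟨f, hfo⟩ := exists_prime_orderOf_dvd_card' (G := ↥F0) q hqd
          have hf1 : (f : G) ≠ 1 := by
            intro h0
            have : f = 1 := Subtype.ext h0
            rw [this, orderOf_one] at hfo
            exact hq.one_lt.ne hfo
          have hZq : IsPGroup q (Subgroup.zpowers (f : G)) := by
            rw [IsPGroup.iff_card]
            refine ⟨1, ?_⟩
            rw [Nat.card_zpowers, pow_one, ← hfo, Subgroup.orderOf_coe]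
          have h1 : Subgroup.zpowers (f : G) ≤ piCoreOf ({q} : Set ℕ) F :=
            le_piCoreOf_of_nilpotent hFnil (Subgroup.zpowers_le.2 (hF0F f.2))
              (isPiCard_card_of_isPGroup (Set.mem_singleton q) hZq)
          have h2 : piCoreOf ({q} : Set ℕ) F ≤ K := by
            apply isPGroup_le_sigmaCore hG hM hqσ ((piCoreOf_le _ _).trans hFM)
              (isPGroup_piCoreOf_singleton q F)
          have h3 : (f : G) ∈ K ⊓ Subgroup.centralizer (A₁ : Set G) := by
            refine Subgroup.mem_inf.2 ⟨h2 (h1 (Subgroup.mem_zpowers _)), ?_⟩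
            rw [← hxz, centralizer_zpowers_eq]
            exact f.2.2
          rw [hf₁, Subgroup.mem_bot] at h3
          exact hf1 h3
        · rintro rfl
          have := hqd.trans (Subgroup.card_dvd_of_le hF0C)
          exact hpC this
      have h1 : F0 ≤ T := le_piCoreOf_of_nilpotent hFnil hF0F hπ
      exact le_inf h1 (hF0C.trans inf_le_right)
    have := hR M C Z (h.solvable hG) (odd_card hG M) hCM hMC hZC hCZ hMZ x (h.le (hA₁ hx)) p hpp
      hxo hpC hfix
    rw [hxz] at this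
    exact this.trans hFC
  -- (iii) combine the two lines
  obtain ⟨A₁, A₂, hA₁, hA₂, hc₁, hc₂, hne, hf₁, hf₂⟩ := h.exists_two_fpf_lines hG
  have hsup : A₁ ⊔ A₂ = A := sup_eq_of_card_sq h.card hA₁ hA₂ hc₁ hc₂ hne
  have h1 := hii A₁ hA₁ hc₁ hf₁
  have h2 := hii A₂ hA₂ hc₂ hf₂
  have hCA : ⁅C, A⁆ ≤ F := by
    rw [Subgroup.commutator_le]
    intro c hc a ha
    have ha' : a ∈ A₁ ⊔ A₂ := by rw [hsup]; exact ha
    have hnorm : A₂ ≤ Subgroup.normalizer (A₁ : Set G) :=
      E3.le_normalizer h.elem hA₂ hA₁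
    obtain ⟨a₁, ha₁, a₂, ha₂, rfl⟩ := Cfsg.Agent.Lib.H1.mem_sup_of_le_normalizer hnorm ha'
    have e1 : ⁅c, a₁⁆ ∈ F := h1 (Subgroup.commutator_mem_commutator hc ha₁)
    have e2 : ⁅c, a₂⁆ ∈ F := h2 (Subgroup.commutator_mem_commutator hc ha₂)
    have e3 : ⁅c, a₁ * a₂⁆ = ⁅c, a₁⁆ * (a₁ * ⁅c, a₂⁆ * a₁⁻¹) := by
      simp only [commutatorElement_def]; group
    rw [e3]
    exact F.mul_mem e1 ((Subgroup.mem_normalizer_iff.1 (hMF (h.le (hA₁ ha₁))) _).1 e2)
  calc ⁅D, A⁆ = ⁅⁅D, A⁆, A⁆ := (Cfsg.Agent.Lib.H1.coprime_commutator_commutator hcop).symm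
    _ ≤ ⁅C, A⁆ := Subgroup.commutator_mono hi le_rfl
    _ ≤ F := hCA

end Exc

end Cfsg.Agent.Lib.H16.BG
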