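import Mathlib

set_option autoImplicit false
open scoped commutatorElement

/-!
# The Baer trick

On a finite group `H` of odd order all of whose commutators are central, the operation
`x + y = x * y * ⁅y, x⁆ ^ ((|H| + 1) / 2)` is an abelian group structure with the same
identity, the same inverses and the same powers, preserved by every endomorphism of `H`.
-/

namespace Cfsg.Agent.Lib.H16

/-- class at most two: commutators are central -/
def CommCentral (H : Type*) [Group H] : Prop := ∀ x y z : H, Commute ⁅x, y⁆ z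

section Baer

variable {H : Type*} [Group H]

theorem CommCentral.comm_mul_left (hc : CommCentral H) (x y z : H) :
    ⁅x * y, z⁆ = ⁅x, z⁆ * ⁅y, z⁆ := by
  rw [commutatorElement_mul_left_eq_conj_mul]
  have h1 : x * ⁅y, z⁆ * x⁻¹ = ⁅y, z⁆ := by
    rw [← (hc y z x).eq]; group
  rw [h1]
  exact (hc y z _).eq

theorem CommCentral.comm_mul_right (hc : CommCentral H) (x y z : H) :
    ⁅x, y * z⁆ = ⁅x, y⁆ * ⁅x, z⁆ := by
  rw [commutatorElement_mul_right_eq_mul_conj]
  have h1 : ⁅x, y⁆ * y * ⁅x, z⁆ * y⁻¹ = ⁅x, y⁆ * (y * ⁅x, z⁆ * y⁻¹) := by group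
  have h2 : y * ⁅x, z⁆ * y⁻¹ = ⁅x, z⁆ := by
    rw [← (hc x z y).eq]; group
  rw [h1, h2]

/-- the square root map of a group of odd order -/
noncomputable def hf (c : H) : H := c ^ ((Nat.card H + 1) / 2)

theorem hf_one : hf (1 : H) = 1 := one_pow _

theorem hf_inv (c : H) : hf c⁻¹ = (hf c)⁻¹ := inv_pow _ _

theorem hf_mul {c d : H} (h : Commute c d) : hf (c * d) = hf c * hf d := h.mul_pow _

theorem hf_map (φ : H →* H) (c : H) : φ (hf c) = hf (φ c) := map_pow φ c _

theorem hf_mul_self [Finite H] (hodd : Odd (Nat.card H)) (c : H) : hf c * hf c = c := by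
  unfold hf
  rw [← pow_add]
  obtain ⟨m, hm⟩ := hodd
  have : (Nat.card H + 1) / 2 + (Nat.card H + 1) / 2 = Nat.card H + 1 := by omega
  rw [this, pow_succ, pow_card_eq_one', one_mul]

theorem Commute.hf_left {c z : H} (h : Commute c z) : Commute (hf c) z := h.pow_left _

/-- Baer's addition -/
noncomputable def baerAdd (x y : H) : H := x * y * hf ⁅y, x⁆

theorem baerAdd_comm [Finite H] (hodd : Odd (Nat.card H)) (hc : CommCentral H) (x y : H) :
    baerAdd x y = baerAdd y x := by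
  unfold baerAdd
  have h1 : x * y = y * x * ⁅x, y⁆ := by
    rw [← (hc x y (y * x)).eq]; simp [commutatorElement_def]
  have h2 : ⁅x, y⁆ * hf ⁅y, x⁆ = hf ⁅x, y⁆ := by
    rw [← commutatorElement_inv x y, hf_inv]
    nth_rewrite 1 [← hf_mul_self hodd ⁅x, y⁆]
    group
  rw [h1, mul_assoc, h2]

theorem baerAdd_assoc (hc : CommCentral H) (x y z : H) :
    baerAdd (baerAdd x y) z = baerAdd x (baerAdd y z) := by
  unfold baerAdd
  have c1 : ∀ w : H, Commute (hf ⁅y, x⁆) w := fun w => Commute.hf_left (hc y x w)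
  have c2 : ∀ w : H, Commute (hf ⁅z, y⁆) w := fun w => Commute.hf_left (hc z y w)
  have e1 : ⁅z, x * y * hf ⁅y, x⁆⁆ = ⁅z, x⁆ * ⁅z, y⁆ := by
    rw [hc.comm_mul_right, hc.comm_mul_right, ((c1 z).symm).commutator_eq, mul_one]
  have e2 : ⁅y * z * hf ⁅z, y⁆, x⁆ = ⁅y, x⁆ * ⁅z, x⁆ := by
    rw [hc.comm_mul_left, hc.comm_mul_left, (c2 x).commutator_eq, mul_one]
  rw [e1, e2, hf_mul (hc z x _), hf_mul (hc y x _)]
  have c3 : ∀ w : H, Commute (hf ⁅z, x⁆) w := fun w => Commute.hf_left (hc z x w)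
  -- x y A z (B C) = x (y z C) (A B)
  calc x * y * hf ⁅y, x⁆ * z * (hf ⁅z, x⁆ * hf ⁅z, y⁆)
      = x * y * (hf ⁅y, x⁆ * z) * (hf ⁅z, x⁆ * hf ⁅z, y⁆) := by group
    _ = x * y * (z * hf ⁅y, x⁆) * (hf ⁅z, x⁆ * hf ⁅z, y⁆) := by rw [(c1 z).eq]
    _ = x * y * z * (hf ⁅y, x⁆ * (hf ⁅z, x⁆ * hf ⁅z, y⁆)) := by group
    _ = x * y * z * (hf ⁅z, y⁆ * (hf ⁅y, x⁆ * hf ⁅z, x⁆)) := by
        rw [← mul_assoc (hf ⁅y, x⁆), ← (c2 (hf ⁅y, x⁆ * hf ⁅z, x⁆)).eq]
    _ = x * (y * z * hf ⁅z, y⁆) * (hf ⁅y, x⁆ * hf ⁅z, x⁆) := by group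

theorem baerAdd_one_left (x : H) : baerAdd 1 x = x := by
  unfold baerAdd; rw [commutatorElement_one_right, hf_one, one_mul, mul_one]

theorem baerAdd_one_right (x : H) : baerAdd x 1 = x := by
  unfold baerAdd; rw [commutatorElement_one_left, hf_one, mul_one, mul_one]

theorem baerAdd_of_commute {x y : H} (h : Commute x y) : baerAdd x y = x * y := by
  unfold baerAdd; rw [h.symm.commutator_eq, hf_one, mul_one]

theorem baerAdd_map (φ : H →* H) (x y : H) : φ (baerAdd x y) = baerAdd (φ x) (φ y) := by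
  unfold baerAdd
  rw [map_mul, map_mul, hf_map, map_commutatorElement]

/-- **Baer's abelian group structure** on a finite group of odd order with central commutators.
Zero is `1`, negation is inversion, and `n • x = x ^ n` definitionally. -/
@[reducible] noncomputable def baerAddCommGroup (H : Type*) [Group H] [Finite H]
    (hodd : Odd (Nat.card H)) (hc : CommCentral H) : AddCommGroup H where
  add := baerAdd
  add_assoc := baerAdd_assoc hc
  zero := 1
  zero_add := baerAdd_one_left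
  add_zero := baerAdd_one_right
  nsmul n x := x ^ n
  nsmul_zero := pow_zero
  nsmul_succ n x := by
    change x ^ (n + 1) = baerAdd (x ^ n) x
    rw [baerAdd_of_commute ((Commute.refl x).pow_left n), pow_succ]
  neg x := x⁻¹
  zsmul n x := x ^ n
  zsmul_zero' := zpow_zero
  zsmul_succ' n x := by
    change x ^ ((n.succ : ℕ) : ℤ) = baerAdd (x ^ ((n : ℕ) : ℤ)) x
    rw [baerAdd_of_commute ((Commute.refl x).zpow_left _), zpow_natCast, zpow_natCast, pow_succ]
  zsmul_neg' n x := by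
    change x ^ (Int.negSucc n) = (x ^ ((n.succ : ℕ) : ℤ))⁻¹
    rw [zpow_negSucc, zpow_natCast]
  neg_add_cancel x := by
    change baerAdd x⁻¹ x = 1
    rw [baerAdd_of_commute (Commute.refl x).inv_left, inv_mul_cancel]
  add_comm := baerAdd_comm hodd hc

end Baer

end Cfsg.Agent.Lib.H16
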