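import Mathlib
import Cfsg.Agent.Lib.H16.Baer
import Cfsg.Agent.Lib.H1.CoprimeAction

set_option autoImplicit false
open scoped commutatorElement

/-!
# Thompson's `P × Q` lemma for odd primes: the class two case via the Baer trick
-/

namespace Cfsg.Agent.Lib.H16

/-- The class two case of Thompson's strengthening of the `P × Q` lemma (`p` odd), for an
abstract action.  `K` acts on the `p`-group `H` with central commutators; `P`, `Q ≤ K`,
`P` a `p`-group normalizing the `p'`-group `Q`; if every `P`-fixed element of `H` is fixed by `Q`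
then `Q` acts trivially. -/
theorem class_two_pq {H K : Type*} [Group H] [Finite H] [Group K] [MulDistribMulAction K H]
    {p : ℕ} [Fact p.Prime] (hp : p ≠ 2) (hH : IsPGroup p H) (hc : CommCentral H)
    (P Q : Subgroup K) [Finite Q] (hP : IsPGroup p P) (hQ : (Nat.card Q).Coprime p)
    (hPQ : P ≤ Subgroup.normalizer (Q : Set K))
    (hC : ∀ h : H, (∀ u ∈ P, u • h = h) → ∀ a ∈ Q, a • h = h) :
    ∀ a ∈ Q, ∀ h : H, a • h = h := by
  classical
  by_contra hcon
  push Not at hcon
  obtain ⟨a₀, ha₀, g₀, hg₀⟩ := hcon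
  have hpp : p.Prime := Fact.out
  obtain ⟨n, hn⟩ := IsPGroup.iff_card.mp hH
  have hodd : Odd (Nat.card H) := by
    rw [hn]; exact Odd.pow (hpp.odd_of_ne_two hp)
  let _ : AddCommGroup H := baerAddCommGroup H hodd hc
  have _ : Fintype Q := Fintype.ofFinite Q
  have hadd : ∀ (k : K) (x y : H), k • (x + y) = k • x + k • y := fun k x y =>
    baerAdd_map (MulDistribMulAction.toMonoidHom H k) x y
  have hsmul0 : ∀ k : K, k • (0 : H) = 0 := fun k => smul_one k
  -- the norm map
  let N : H →+ H := AddMonoidHom.mk' (fun w => ∑ a : Q, (a : K) • w) (by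
    intro x y
    simp only [hadd, Finset.sum_add_distrib])
  have hN : ∀ w, N w = ∑ a : Q, (a : K) • w := fun w => rfl
  have hsmul_sum : ∀ (k : K) (f : Q → H), k • (∑ a : Q, f a) = ∑ a : Q, k • f a := by
    intro k f
    let φ : H →+ H := AddMonoidHom.mk' (fun w => k • w) (hadd k)
    exact map_sum φ f Finset.univ
  let W : AddSubgroup H := N.ker
  -- `a • g - g ∈ W`
  have hNa : ∀ (a : Q) (g : H), N ((a : K) • g) = N g := by
    intro a g
    rw [hN, hN]
    have : ∀ b : Q, (b : K) • (a : K) • g = ((b * a : Q) : K) • g := by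
      intro b; rw [Subgroup.coe_mul, mul_smul]
    simp only [this]
    exact Fintype.sum_equiv (Equiv.mulRight a) _ _ (fun b => rfl)
  have hWne : ∃ w : W, w ≠ 0 := by
    refine ⟨⟨a₀ • g₀ - g₀, ?_⟩, ?_⟩
    · change N (a₀ • g₀ - g₀) = 0
      rw [map_sub, hNa ⟨a₀, ha₀⟩ g₀, sub_self]
    · intro h
      have h' := congrArg Subtype.val h
      change a₀ • g₀ - g₀ = 0 at h'
      exact hg₀ (sub_eq_zero.mp h')
  -- invariance of `W` under `P`
  have hinv : ∀ (u : P) (w : W), (u : K) • (w : H) ∈ W := by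
    intro u w
    change N ((u : K) • (w : H)) = 0
    rw [hN]
    have hw : N (w : H) = 0 := w.2
    rw [hN] at hw
    -- conjugation equivalence on `Q`
    have hu := hPQ u.2
    let e : Q ≃ Q :=
      { toFun := fun a => ⟨(u : K)⁻¹ * a * (u : K), by
          have := (Subgroup.mem_normalizer_iff.mp (Subgroup.inv_mem _ hu) (a : K)).mp a.2
          simpa using this⟩
        invFun := fun a => ⟨(u : K) * a * (u : K)⁻¹,
          (Subgroup.mem_normalizer_iff.mp hu (a : K)).mp a.2⟩
        left_inv := fun a => Subtype.ext (by simp [mul_assoc])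
        right_inv := fun a => Subtype.ext (by simp [mul_assoc]) }
    have h1 : ∀ a : Q, (a : K) • (u : K) • (w : H) = (u : K) • ((e a : Q) : K) • (w : H) := by
      intro a
      rw [← mul_smul, ← mul_smul]
      congr 1
      change (a : K) * u = u * ((u : K)⁻¹ * a * u)
      group
    simp only [h1]
    rw [← hsmul_sum (u : K) (fun a => ((e a : Q) : K) • (w : H))]
    rw [Fintype.sum_equiv e (fun a => ((e a : Q) : K) • (w : H)) (fun a => (a : K) • (w : H))
      (fun a => rfl), hw]
    exact hsmul0 _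
  letI : MulAction P W :=
    { smul := fun u w => ⟨(u : K) • (w : H), hinv u w⟩
      one_smul := fun w => Subtype.ext (one_smul K (w : H))
      mul_smul := fun u v w => Subtype.ext (mul_smul (u : K) (v : K) (w : H)) }
  have hsmul_coe : ∀ (u : P) (w : W), ((u • w : W) : H) = (u : K) • (w : H) := fun u w => rfl
  -- `p ∣ |W|`
  have hWcard : p ∣ Nat.card W := by
    have hdvd : Nat.card W ∣ p ^ n := hn ▸ AddSubgroup.card_addSubgroup_dvd_card W
    obtain ⟨j, _, hj⟩ := (Nat.dvd_prime_pow hpp).mp hdvd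
    rcases Nat.eq_zero_or_pos j with rfl | hjpos
    · exfalso
      rw [pow_zero] at hj
      obtain ⟨w, hw⟩ := hWne
      haveI : Subsingleton W := (Nat.card_eq_one_iff_unique.mp hj).1
      exact hw (Subsingleton.elim _ _)
    · rw [hj]; exact dvd_pow_self p hjpos.ne'
  have h0fix : (0 : W) ∈ MulAction.fixedPoints P W := by
    intro u
    apply Subtype.ext
    rw [hsmul_coe]
    exact hsmul0 _
  obtain ⟨b, hbfix, hb0⟩ := hP.exists_fixed_point_of_prime_dvd_card_of_fixed_point W hWcard h0fix
  -- `b` is fixed by `P`, hence by `Q`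
  have hbP : ∀ u ∈ P, u • (b : H) = (b : H) := by
    intro u hu
    have := hbfix ⟨u, hu⟩
    exact congrArg Subtype.val this
  have hbQ := hC (b : H) hbP
  have hNb : N (b : H) = 0 := b.2
  rw [hN] at hNb
  have hsum : ∑ a : Q, (a : K) • (b : H) = Fintype.card Q • (b : H) := by
    rw [Finset.sum_congr rfl (fun (a : Q) _ => hbQ (a : K) a.2)]
    rw [Finset.sum_const, Finset.card_univ]
  rw [hsum] at hNb
  -- `b ^ |Q| = 1`
  have hpow : (b : H) ^ Fintype.card Q = 1 := hNb
  have hord1 : orderOf (b : H) ∣ Fintype.card Q := orderOf_dvd_of_pow_eq_one hpow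
  have hord2 : orderOf (b : H) ∣ p ^ n := hn ▸ orderOf_dvd_natCard (b : H)
  have hcop : (Fintype.card Q).Coprime (p ^ n) := by
    rw [← Nat.card_eq_fintype_card]
    exact Nat.Coprime.pow_right n hQ
  have : orderOf (b : H) = 1 := Nat.eq_one_of_dvd_coprimes hcop hord1 hord2
  have hb1 : (b : H) = 1 := orderOf_eq_one_iff.mp this
  exact hb0 (Subtype.ext hb1.symm)

end Cfsg.Agent.Lib.H16

namespace Cfsg.Agent.Lib.H16

section Ambient

variable {X : Type*} [Group X]

/-- a subgroup normalizing `A` and `B` normalizes `⁅A, B⁆` -/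
theorem le_normalizer_commutator' {S A B : Subgroup X}
    (hA : S ≤ Subgroup.normalizer (A : Set X)) (hB : S ≤ Subgroup.normalizer (B : Set X)) :
    S ≤ Subgroup.normalizer ((⁅A, B⁆ : Subgroup X) : Set X) := by
  intro u hu
  have h1 : A.map (MulAut.conj u).toMonoidHom = A := by
    ext x
    rw [Subgroup.mem_map_equiv]
    have := Subgroup.mem_normalizer_iff.mp (Subgroup.inv_mem _ (hA hu)) x
    simpa [MulAut.conj_symm_apply] using this.symm
  have h2 : B.map (MulAut.conj u).toMonoidHom = B := by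
    ext x
    rw [Subgroup.mem_map_equiv]
    have := Subgroup.mem_normalizer_iff.mp (Subgroup.inv_mem _ (hB hu)) x
    simpa [MulAut.conj_symm_apply] using this.symm
  have h3 : (⁅A, B⁆ : Subgroup X).map (MulAut.conj u).toMonoidHom = ⁅A, B⁆ := by
    rw [Subgroup.map_commutator, h1, h2]
  rw [Subgroup.mem_normalizer_iff]
  intro x
  constructor
  · intro hx
    rw [← h3]
    exact ⟨x, hx, rfl⟩
  · intro hx
    rw [← h3] at hx
    obtain ⟨y, hy, hyx⟩ := hx
    have : y = x := by
      have h4 : u * y * u⁻¹ = u * x * u⁻¹ := hyx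
      have h5 := mul_right_cancel h4
      exact mul_left_cancel h5
    exact this ▸ hy

/-- conjugation action of the normalizer of a subgroup on that subgroup -/
@[reducible] def normalizerAction (G : Subgroup X) :
    MulDistribMulAction ↥(Subgroup.normalizer (G : Set X)) ↥G where
  smul u g := ⟨(u : X) * g * (u : X)⁻¹, (Subgroup.mem_normalizer_iff.mp u.2 g).mp g.2⟩
  one_smul g := Subtype.ext (by
    change ((1 : ↥(Subgroup.normalizer (G : Set X))) : X) * g * ((1 : ↥(Subgroup.normalizer (G : Set X))) : X)⁻¹ = g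
    simp)
  mul_smul u v g := Subtype.ext (by
    change ((u * v : ↥(Subgroup.normalizer (G : Set X))) : X) * g * ((u * v : ↥(Subgroup.normalizer (G : Set X))) : X)⁻¹
      = (u : X) * ((v : X) * g * (v : X)⁻¹) * (u : X)⁻¹
    simp [mul_assoc])
  smul_mul u g h := Subtype.ext (by
    change (u : X) * ((g * h : ↥G) : X) * (u : X)⁻¹
      = ((u : X) * g * (u : X)⁻¹) * ((u : X) * h * (u : X)⁻¹)
    simp [mul_assoc])
  smul_one u := Subtype.ext (by
    change (u : X) * ((1 : ↥G) : X) * (u : X)⁻¹ = 1
    simp)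

/-- **Thompson's strengthening of the `P × Q` lemma for odd primes.** -/
theorem thompson_pq_odd [Finite X] {p : ℕ} [Fact p.Prime] (hp : p ≠ 2) (P Q : Subgroup X)
    (hP : IsPGroup p P) (hQ : (Nat.card Q).Coprime p)
    (hPQ : P ≤ Subgroup.normalizer (Q : Set X)) :
    ∀ (n : ℕ) (G : Subgroup X), Nat.card G = n → IsPGroup p G →
      P ≤ Subgroup.normalizer (G : Set X) → Q ≤ Subgroup.normalizer (G : Set X) →
      G ⊓ Subgroup.centralizer (P : Set X) ≤ Subgroup.centralizer (Q : Set X) →
      Q ≤ Subgroup.centralizer (G : Set X) := by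
  intro n
  induction n using Nat.strong_induction_on with
  | _ n ih =>
  intro G hGn hG hPG hQG hC
  have hpp : p.Prime := Fact.out
  -- centralizing is symmetric
  have hsymm : ∀ {A B : Subgroup X}, A ≤ Subgroup.centralizer (B : Set X) →
      B ≤ Subgroup.centralizer (A : Set X) := by
    intro A B h
    rw [← Subgroup.commutator_eq_bot_iff_le_centralizer] at h ⊢
    rwa [Subgroup.commutator_comm]
  -- the induction hypothesis for invariant proper subgroups
  have ih' : ∀ G₀ : Subgroup X, G₀ ≤ G → G₀ ≠ G → P ≤ Subgroup.normalizer (G₀ : Set X) →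
      Q ≤ Subgroup.normalizer (G₀ : Set X) → Q ≤ Subgroup.centralizer (G₀ : Set X) := by
    intro G₀ hle hne hP₀ hQ₀
    have hlt : Nat.card G₀ < n := by
      rw [← hGn]
      exact lt_of_not_ge (fun h => hne (Subgroup.eq_of_le_of_card_ge hle h))
    exact ih _ hlt G₀ rfl (hG.to_le hle) hP₀ hQ₀ ((inf_le_inf_right _ hle).trans hC)
  have _ : Group.IsNilpotent ↥G := hG.isNilpotent
  have hcop : Cfsg.Agent.Lib.H1.CoprimeAction Q G :=
    { normalizes := hQG
      coprime := by
        obtain ⟨k, hk⟩ := IsPGroup.iff_card.mp hG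
        rw [hk]; exact Nat.Coprime.pow_right k hQ
      solvable := Or.inr inferInstance }
  -- Step A: `⁅G, Q⁆ = G`
  have hG1le : ⁅G, Q⁆ ≤ G := Subgroup.le_normalizer_iff_commutator_le_left.mp hQG
  by_cases hG1 : ⁅G, Q⁆ = G
  swap
  · have h1 := ih' ⁅G, Q⁆ hG1le hG1 (le_normalizer_commutator' hPG hPQ)
      (Subgroup.normalizer_commutator_ge_right G Q)
    have h2 : ⁅⁅G, Q⁆, Q⁆ = ⊥ := by
      rw [Subgroup.commutator_eq_bot_iff_le_centralizer]; exact hsymm h1
    rw [Cfsg.Agent.Lib.H1.coprime_commutator_commutator hcop] at h2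
    apply hsymm
    rwa [← Subgroup.commutator_eq_bot_iff_le_centralizer]
  -- Step B: `G` has class at most two
  by_cases hD : ⁅G, G⁆ = G
  · -- then `G` is trivial
    have hbot : G = ⊥ := by
      by_contra hne
      have _ : Nontrivial ↥G := (Subgroup.nontrivial_iff_ne_bot G).mpr hne
      have hlt := Group.IsSolvable.commutator_lt_top_of_nontrivial ↥G
      have h1 : (commutator ↥G).map G.subtype = (⊤ : Subgroup ↥G).map G.subtype := by
        rw [Subgroup.map_subtype_commutator, hD, ← MonoidHom.range_eq_map, Subgroup.range_subtype]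
      exact hlt.ne (Subgroup.map_injective G.subtype_injective h1)
    rw [hbot]
    intro a _
    rw [Subgroup.mem_centralizer_iff]
    intro g hg
    have : g = 1 := hg
    rw [this, one_mul, mul_one]
  have hDQ : Q ≤ Subgroup.centralizer ((⁅G, G⁆ : Subgroup X) : Set X) :=
    ih' ⁅G, G⁆ (Subgroup.commutator_le_self G) hD (le_normalizer_commutator' hPG hPG)
      (le_normalizer_commutator' hQG hQG)
  have hDQ' : ⁅⁅G, G⁆, Q⁆ = ⊥ := by
    rw [Subgroup.commutator_eq_bot_iff_le_centralizer]; exact hsymm hDQ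
  have hclass : ⁅G, ⁅G, G⁆⁆ = ⊥ := by
    have h1 : ⁅⁅G, ⁅G, G⁆⁆, Q⁆ = ⊥ := by
      rw [eq_bot_iff, ← hDQ']
      exact Subgroup.commutator_mono
        (Subgroup.commutator_mono le_rfl (Subgroup.commutator_le_self G)) le_rfl
    have h2 : ⁅⁅⁅G, G⁆, Q⁆, G⁆ = ⊥ := by
      rw [hDQ', Subgroup.commutator_bot_left]
    have h3 := Subgroup.commutator_commutator_eq_bot_of_rotate h1 h2
    -- h3 : ⁅⁅Q, G⁆, ⁅G, G⁆⁆ = ⊥
    rwa [Subgroup.commutator_comm Q G, hG1] at h3
  -- Step C: the class two case
  have hc : CommCentral ↥G := by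
    intro x y z
    have h1 : ⁅(x : X), (y : X)⁆ ∈ ⁅G, G⁆ := Subgroup.commutator_mem_commutator x.2 y.2
    have h2 : ⁅(z : X), ⁅(x : X), (y : X)⁆⁆ ∈ ⁅G, ⁅G, G⁆⁆ :=
      Subgroup.commutator_mem_commutator z.2 h1
    rw [hclass, Subgroup.mem_bot, commutatorElement_eq_one_iff_commute] at h2
    apply Subtype.ext
    have := h2.eq.symm
    simpa [commutatorElement_def] using this
  letI : MulDistribMulAction ↥(Subgroup.normalizer (G : Set X)) ↥G := normalizerAction G
  have hsm : ∀ (u : ↥(Subgroup.normalizer (G : Set X))) (g : ↥G),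
      ((u • g : ↥G) : X) = (u : X) * g * (u : X)⁻¹ := fun u g => rfl
  let N := Subgroup.normalizer (G : Set X)
  have hG' : IsPGroup p ↥G := hG
  have hQcard : Nat.card ↥(Q.subgroupOf N) = Nat.card Q :=
    Nat.card_congr (Subgroup.subgroupOfEquivOfLe hQG).toEquiv
  have key := class_two_pq (H := ↥G) (K := ↥N) hp hG' hc (P.subgroupOf N) (Q.subgroupOf N)
    (hP.comap_subtype) (hQcard ▸ hQ)
    (by
      intro u hu
      rw [Subgroup.mem_subgroupOf] at hu
      have := hPQ hu
      rw [Subgroup.mem_normalizer_iff] at this ⊢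
      intro a
      rw [Subgroup.mem_subgroupOf, Subgroup.mem_subgroupOf]
      exact this a)
    (by
      intro h hfix a ha
      rw [Subgroup.mem_subgroupOf] at ha
      have hh : (h : X) ∈ G ⊓ Subgroup.centralizer (P : Set X) := by
        refine Subgroup.mem_inf.2 ⟨h.2, ?_⟩
        rw [Subgroup.mem_centralizer_iff]
        intro u hu
        have := hfix ⟨u, hPG hu⟩ (by rw [Subgroup.mem_subgroupOf]; exact hu)
        have h1 := congrArg Subtype.val this
        rw [hsm] at h1
        -- u * h * u⁻¹ = h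
        calc u * (h : X) = (u * (h : X) * u⁻¹) * u := by group
          _ = (h : X) * u := by rw [h1]
      have hcen := hC hh
      rw [Subgroup.mem_centralizer_iff] at hcen
      apply Subtype.ext
      rw [hsm]
      have := hcen (a : X) ha
      -- this : a * h = h * a
      calc (a : X) * h * (a : X)⁻¹ = (h : X) * a * (a : X)⁻¹ := by rw [this]
        _ = h := by group)
  intro a ha
  rw [Subgroup.mem_centralizer_iff]
  intro g hg
  have := key ⟨a, hQG ha⟩ (by rw [Subgroup.mem_subgroupOf]; exact ha) ⟨g, hg⟩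
  have h1 := congrArg Subtype.val this
  rw [hsm] at h1
  -- h1 : a * g * a⁻¹ = g ; goal g * a = a * g
  calc g * a = (a * g * a⁻¹) * a := by rw [h1]
    _ = a * g := by group

end Ambient

end Cfsg.Agent.Lib.H16
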