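import Mathlib
import Cfsg.Agent.Lib.H16.BG11f
import Cfsg.Agent.Lib.H8.BG12g
import Cfsg.Agent.S1462

/-! # Bender–Glauberman §11, part (g) (helper16)

Auxiliary lemmas for BG 11.7: actions on cyclic groups, the centralizer of a line, the
`O_{p'}`-containment (S1462) in ambient form. -/

set_option autoImplicit false
set_option linter.unusedSectionVars false
set_option linter.unusedVariables false
set_option linter.style.haveILetI false

namespace Cfsg.Agent.Lib.H16.BG

open Cfsg Cfsg.Agent.Lib.H7.BG7 Cfsg.Agent.Lib.H7.BG10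
open Cfsg.Agent.Lib.H1 (CoprimeAction)
open Cfsg.Agent.Lib.H19 (IsPiCard)
open scoped commutatorElement

universe u
variable {G : Type u} [Group G] [Finite G]

local notation:max "cj(" g ", " X ")" => Subgroup.map (MulEquiv.toMonoidHom (MulAut.conj g)) X

/-- a nontrivial `r`-group contains an element of order `r`. -/
theorem exists_mem_orderOf_eq {r : ℕ} [hr : Fact r.Prime] {W : Subgroup G} (hW : IsPGroup r W)
    (hW1 : W ≠ ⊥) : ∃ w ∈ W, w ≠ 1 ∧ w ^ r = 1 := by
  obtain ⟨w, hw⟩ := exists_prime_orderOf_dvd_card' (G := ↥W) r (dvd_card_of_isPGroup_ne_bot hW hW1)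
  refine ⟨w, w.2, ?_, ?_⟩
  · intro h0
    have : w = 1 := Subtype.ext h0
    rw [this, orderOf_one] at hw
    exact hr.out.one_lt.ne hw
  · have := pow_orderOf_eq_one w
    rw [hw] at this
    exact congrArg Subtype.val this

/-- two nontrivial subgroups of a cyclic `r`-group meet nontrivially. -/
theorem inf_ne_bot_of_cyclic {r : ℕ} [hr : Fact r.Prime] {U W₁ W₂ : Subgroup G}
    (hUc : IsCyclic ↥U) (hUr : IsPGroup r U) (h₁ : W₁ ≤ U) (h₂ : W₂ ≤ U) (h₁1 : W₁ ≠ ⊥)
    (h₂1 : W₂ ≠ ⊥) : W₁ ⊓ W₂ ≠ ⊥ := by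
  obtain ⟨w₁, hw₁, hw₁1, hw₁r⟩ := exists_mem_orderOf_eq (hUr.to_le h₁) h₁1
  obtain ⟨w₂, hw₂, hw₂1, hw₂r⟩ := exists_mem_orderOf_eq (hUr.to_le h₂) h₂1
  have := Cfsg.Agent.Lib.H8.BG12.zpowers_eq_of_mem_cyclic hUc hr.out (h₁ hw₁) (h₂ hw₂) hw₁r hw₁1
    hw₂r hw₂1
  intro h0
  have h3 : w₁ ∈ W₁ ⊓ W₂ := by
    refine ⟨hw₁, ?_⟩
    have : w₁ ∈ Subgroup.zpowers w₂ := this ▸ Subgroup.mem_zpowers w₁
    exact (Subgroup.zpowers_le.2 hw₂) this
  rw [h0, Subgroup.mem_bot] at h3
  exact hw₁1 h3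

/-- a coprime group of automorphisms of a cyclic `r`-group centralizing a nontrivial subgroup
is trivial. -/
theorem le_centralizer_of_cyclic {r : ℕ} [hr : Fact r.Prime] {U X B₀ : Subgroup G}
    (hUc : IsCyclic ↥U) (hUr : IsPGroup r U) (hXU : X ≤ Subgroup.normalizer (U : Set G))
    (hcop : (Nat.card ↥X).Coprime (Nat.card ↥U)) (hB₀U : B₀ ≤ U) (hB₀1 : B₀ ≠ ⊥)
    (hXB : X ≤ Subgroup.centralizer (B₀ : Set G)) : X ≤ Subgroup.centralizer (U : Set G) := by
  haveI := hUc
  haveI : IsMulCommutative ↥U := Cfsg.Agent.Lib.H8.BG12.isMulCommutative_of_isCyclic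
  have hact : CoprimeAction X U :=
    ⟨hXU, hcop, Or.inr (Group.isSolvable_of_comm (fun a b => mul_comm' a b))⟩
  have h2 := Cfsg.Agent.Lib.H1.coprime_abelian_centralizer_inf_commutator hXU hcop
  have hW2 : U ⊓ Subgroup.centralizer (X : Set G) ≠ ⊥ :=
    ne_bot_of_le_ne_bot hB₀1 (le_inf hB₀U (Subgroup.le_centralizer_iff.1 hXB))
  have hW1 : ⁅U, X⁆ = ⊥ := by
    by_contra hne
    exact inf_ne_bot_of_cyclic hUc hUr inf_le_left hact.commutator_le hW2 hne h2
  rw [Subgroup.le_centralizer_iff]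
  exact Subgroup.commutator_eq_bot_iff_le_centralizer.1 hW1

/-- the centralizer in `A` of a non-centralized normalized group of prime order has order `p`. -/
theorem card_inf_centralizer_of_card_prime {p r : ℕ} [hp : Fact p.Prime] (hr : r.Prime)
    {A B₀ : Subgroup G} (hAe : IsElementaryAbelian p A) (hAc : Nat.card ↥A = p ^ 2)
    (hB₀ : Nat.card ↥B₀ = r) (hAB : A ≤ Subgroup.normalizer (B₀ : Set G))
    (hnc : ¬ A ≤ Subgroup.centralizer (B₀ : Set G)) :
    Nat.card ↥(A ⊓ Subgroup.centralizer (B₀ : Set G) : Subgroup G) = p := by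
  have hpp := hp.out
  have h1 := relIndex_centralizer_dvd_of_card_prime hr hB₀ hAe.2 hAB
  have h2 : (Subgroup.centralizer (B₀ : Set G)).relIndex A ≠ 1 := by
    intro h0
    exact hnc (Subgroup.relIndex_eq_one.1 h0)
  have h3 : (Subgroup.centralizer (B₀ : Set G)).relIndex A = p := by
    rcases (Nat.dvd_prime hpp).1 h1 with h | h
    · exact absurd h h2
    · exact h
  have h4 := Subgroup.card_mul_index ((Subgroup.centralizer (B₀ : Set G)).subgroupOf A)
  have h5 : Nat.card ↥((Subgroup.centralizer (B₀ : Set G)).subgroupOf A) =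
      Nat.card ↥(A ⊓ Subgroup.centralizer (B₀ : Set G) : Subgroup G) := by
    rw [inf_comm, ← Subgroup.inf_subgroupOf_right]
    exact Nat.card_congr (Subgroup.subgroupOfEquivOfLe inf_le_right).toEquiv
  have h6 : (Subgroup.centralizer (B₀ : Set G)).relIndex A =
      ((Subgroup.centralizer (B₀ : Set G)).subgroupOf A).index := rfl
  rw [← h6, h3, h5, hAc, pow_two] at h4
  exact Nat.eq_of_mul_eq_mul_right hpp.pos h4

/-- an element of order `p` acting nontrivially on a group of prime order `r`: `p < r`. -/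
theorem lt_of_not_mem_centralizer {p r : ℕ} [hp : Fact p.Prime] (hr : r.Prime) {U : Subgroup G}
    (hU : Nat.card ↥U = r) {a : G} (hap : a ^ p = 1)
    (haN : a ∈ Subgroup.normalizer (U : Set G)) (haC : a ∉ Subgroup.centralizer (U : Set G)) :
    p < r := by
  have hpp := hp.out
  have hle : Subgroup.zpowers a ≤ Subgroup.normalizer (U : Set G) := Subgroup.zpowers_le.2 haN
  haveI : IsCyclic ↥U := isCyclic_of_card_prime' hr hU
  have hcard : Nat.card (MulAut ↥U) = r - 1 := by
    rw [IsCyclic.card_mulAut, hU, Nat.totient_prime hr]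
  set f := Cfsg.Agent.Lib.H1.conjAutHom hle with hf
  set a' : ↥(Subgroup.zpowers a) := ⟨a, Subgroup.mem_zpowers a⟩ with ha'
  have h1 : f a' ≠ 1 := fun h0 => haC (mem_centralizer_of_conjAutHom_eq_one hle h0)
  have h2 : (f a') ^ p = 1 := by
    rw [← map_pow]
    have : a' ^ p = 1 := Subtype.ext (by rw [Subgroup.coe_pow]; exact hap)
    rw [this, map_one]
  have h3 : orderOf (f a') = p := orderOf_eq_prime h2 h1
  have h4 : p ∣ r - 1 := by
    rw [← h3, ← hcard]; exact orderOf_dvd_natCard _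
  have h5 : 0 < r - 1 := by have := hr.one_lt; omega
  have := Nat.le_of_dvd h5 h4
  omega

/-- **S1462 in ambient form**: an `E`-invariant `p'`-subgroup of a proper subgroup `H` lies in
`O_{p'}(H)` when `E` is a maximal elementary abelian `p`-subgroup. -/
theorem le_core_of_maxElem (hG : IsMinSimpleOddOrder G) {H E Y : Subgroup G} (hH : H ≠ ⊤)
    {p : ℕ} [hp : Fact p.Prime] (hp2 : p ≠ 2) (hEH : E ≤ H) (hEe : IsElementaryAbelian p E)
    (hmax : ∀ B : Subgroup G, IsElementaryAbelian p B → E ≤ B → B = E) (hYH : Y ≤ H)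
    (hY : (Nat.card ↥Y).Coprime p) (hEY : E ≤ Subgroup.normalizer (Y : Set G)) :
    Y ≤ piCoreOf (primesNotDvd p) H := by
  haveI : Group.IsSolvable ↥H := solvable_of_ne_top hG hH
  have hpl : PLengthLE p 1 ↥H := Cfsg.Agent.S1410.result hG p H hH
  have hE' : IsElementaryAbelian p (E.subgroupOf H) := by
    refine ⟨⟨⟨?_⟩⟩, ?_⟩
    · rintro ⟨x, hx⟩ ⟨y, hy⟩
      rw [Subgroup.mem_subgroupOf] at hx hy
      have := hEe.1.is_comm.comm ⟨(x : G), hx⟩ ⟨(y : G), hy⟩
      have h2 : (x : G) * (y : G) = (y : G) * (x : G) := congrArg Subtype.val this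
      apply Subtype.ext
      apply Subtype.ext
      exact h2
    · intro x hx
      rw [Subgroup.mem_subgroupOf] at hx
      apply Subtype.ext
      rw [Subgroup.coe_pow, hEe.2 _ hx]
      rfl
  have hmax' : ∀ B : Subgroup ↥H, IsElementaryAbelian p B → E.subgroupOf H ≤ B →
      B = E.subgroupOf H := by
    intro B hB hEB
    have hBe : IsElementaryAbelian p (B.map H.subtype) := by
      refine ⟨⟨⟨?_⟩⟩, ?_⟩
      · rintro ⟨_, x, hx, rfl⟩ ⟨_, y, hy, rfl⟩
        have := hB.1.is_comm.comm ⟨x, hx⟩ ⟨y, hy⟩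
        have h2 : x * y = y * x := congrArg Subtype.val this
        apply Subtype.ext
        show H.subtype x * H.subtype y = H.subtype y * H.subtype x
        rw [← map_mul, ← map_mul, h2]
      · rintro _ ⟨x, hx, rfl⟩
        rw [← map_pow, hB.2 x hx, map_one]
    have hle : E ≤ B.map H.subtype := by
      have := Subgroup.map_mono (f := H.subtype) hEB
      rwa [Subgroup.map_subgroupOf_eq_of_le hEH] at this
    have h1 := hmax _ hBe hle
    have h2 : (B.map H.subtype).subgroupOf H = B := by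
      rw [Subgroup.subgroupOf, Subgroup.comap_map_eq_self_of_injective (Subgroup.subtype_injective H)]
    rw [← h2, h1]
  have hY' : (Nat.card ↥(Y.subgroupOf H)).Coprime p := by
    rw [Nat.card_congr (Subgroup.subgroupOfEquivOfLe hYH).toEquiv]; exact hY
  have hn : E.subgroupOf H ≤ Subgroup.normalizer ((Y.subgroupOf H : Subgroup ↥H) : Set ↥H) := by
    intro x hx
    rw [Subgroup.mem_subgroupOf] at hx
    have hx' := hEY hx
    rw [Subgroup.mem_normalizer_iff] at hx' ⊢
    intro y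
    rw [Subgroup.mem_subgroupOf, Subgroup.mem_subgroupOf]
    exact hx' y
  have h1 := Cfsg.Agent.S1462.result p hp2 hpl (E.subgroupOf H) (Y.subgroupOf H) hE' hmax' hY' hn
  rw [piCoreOf_primesNotDvd_eq]
  have h2 := Subgroup.map_mono (f := H.subtype) h1
  rwa [Subgroup.map_subgroupOf_eq_of_le hYH] at h2

end Cfsg.Agent.Lib.H16.BG
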