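import Mathlib
import Cfsg.Agent.Lib.H16.BG11g
import Cfsg.Agent.Lib.H7.BG13a0
import Cfsg.Agent.S1414

/-! # Bender–Glauberman §11, part (h) (helper16)

BG 11.7, main step: `A` centralizes `O_r(M)` for every prime `r ∉ σ(M) ∪ {p}`. -/

set_option autoImplicit false
set_option linter.unusedSectionVars false
set_option linter.unusedVariables false
set_option linter.style.haveILetI false
set_option maxHeartbeats 1600000

namespace Cfsg.Agent.Lib.H16.BG

open Cfsg Cfsg.Agent.Lib.H7.BG7 Cfsg.Agent.Lib.H7.BG10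
open Cfsg.Agent.Lib.H1 (CoprimeAction)
open Cfsg.Agent.Lib.H19 (IsPiCard)
open scoped commutatorElement

universe u
variable {G : Type u} [Group G] [Finite G]

local notation:max "cj(" g ", " X ")" => Subgroup.map (MulEquiv.toMonoidHom (MulAut.conj g)) X

/-- the Frobenius action lemma ("`μ = 1`") as a hypothesis. -/
def HMu (G : Type u) [Group G] : Prop :=
  ∀ (p r : ℕ) [Fact p.Prime] [Fact r.Prime], p ≠ r → ∀ (K A Ar B₀ A₁ A₂ : Subgroup G),
    IsElementaryAbelian p A → Nat.card ↥A = p ^ 2 → IsElementaryAbelian r Ar →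
    Nat.card ↥Ar = r ^ 2 → A ≤ Subgroup.normalizer (Ar : Set G) → B₀ ≤ Ar → Nat.card ↥B₀ = r →
    A ≤ Subgroup.normalizer (B₀ : Set G) → ¬ A ≤ Subgroup.centralizer (B₀ : Set G) → K ≠ ⊥ →
    Group.IsSolvable ↥K → (Nat.card ↥K).Coprime p → (Nat.card ↥K).Coprime r →
    A ≤ Subgroup.normalizer (K : Set G) → Ar ≤ Subgroup.normalizer (K : Set G) →
    K ⊓ Subgroup.centralizer (Ar : Set G) = ⊥ → A₁ ≤ A → Nat.card ↥A₁ = p → A₂ ≤ A →
    Nat.card ↥A₂ = p → A₁ ≠ A₂ → K ⊓ Subgroup.centralizer (A₁ : Set G) = ⊥ →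
    K ⊓ Subgroup.centralizer (A₂ : Set G) = ⊥ → Ar ⊓ Subgroup.centralizer (A : Set G) ≠ ⊥

namespace Exc

variable {M A A₀ : Subgroup G} {p : ℕ} [hp : Fact p.Prime]

theorem ne_two (hG : IsMinSimpleOddOrder G) (h : Exc M p A A₀) : p ≠ 2 := by
  rintro rfl
  have := h.dvd_card
  exact (Nat.not_even_iff_odd.2 hG.1) (even_iff_two_dvd.2 this)

theorem not_beta (hG : IsMinSimpleOddOrder G) (h : Exc M p A A₀) (L : Subgroup G) :
    p ∉ beta L := fun hb => h.not_ideal hG hb.2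

/-- for `r > p`, `r` does not divide `|M : O_{p'}(M)|`. -/
theorem not_dvd_relIndex_core (hG : IsMinSimpleOddOrder G) (h : Exc M p A A₀) {r : ℕ}
    (hr : r.Prime) (hpr : p < r) : ¬ r ∣ (piCoreOf (primesNotDvd p) M).relIndex M := by
  intro hd
  have h1 := (Cfsg.Agent.S1414.result hG M h.coatom).2.2.2.2 p hp.out h.dvd_card_M
    (h.not_beta hG M)
  have h2 := h1.2.2 r hr
  have h3 : (piCoreOf (primesNotDvd p) M).relIndex M = (pPrimeCore p ↥M).index := by
    rw [piCoreOf_primesNotDvd_eq, Subgroup.relIndex, Subgroup.subgroupOf,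
      Subgroup.comap_map_eq_self_of_injective (Subgroup.subtype_injective M)]
  rw [h3] at hd
  have := h2 hd
  omega

/-- **BG 11.7, main step**. -/
theorem le_centralizer_core (hG : IsMinSimpleOddOrder G) (h : Exc M p A A₀) (hC : HClaim G)
    (hR : HMod G) (hMu : HMu G) {r : ℕ} [hr : Fact r.Prime] (hrσ : r ∉ sigma M) (hrp : r ≠ p) :
    A ≤ Subgroup.centralizer ((piCoreOf ({r} : Set ℕ) M : Subgroup G) : Set G) := by
  by_contra hnc
  have hpp := hp.out
  have hrr := hr.out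
  have hM := h.coatom
  set U := piCoreOf ({r} : Set ℕ) M with hU
  set K := sigmaCore M with hK
  have hU1 : U ≠ ⊥ := by
    intro h0
    apply hnc
    rw [h0]
    intro a _
    rw [Subgroup.mem_centralizer_iff]
    intro u hu
    have : u = 1 := by simpa using hu
    rw [this]; simp
  have hUr : IsPGroup r ↥U := isPGroup_piCoreOf_singleton r M
  have hMU : M ≤ Subgroup.normalizer (U : Set G) := le_normalizer_piCoreOf _ _
  have hUM : U ≤ M := piCoreOf_le _ _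
  obtain ⟨hUc, B₀, Ar', hB₀U, hMB₀, hr'⟩ := hC M hM r hrσ hU1
  have hB₀c : Nat.card ↥B₀ = r := hr'.card₀
  have hB₀1 : B₀ ≠ ⊥ := hr'.ne_bot₀
  have hcopAU : (Nat.card ↥A).Coprime (Nat.card ↥U) := by
    rw [h.card]
    obtain ⟨k, hk⟩ := IsPGroup.iff_card.1 hUr
    rw [hk]
    exact Nat.Coprime.pow 2 k ((Nat.coprime_primes hpp hrr).2 hrp.symm)
  -- (1) `A` does not centralize `B₀`
  have hncB : ¬ A ≤ Subgroup.centralizer (B₀ : Set G) := fun hAB =>
    hnc (le_centralizer_of_cyclic hUc hUr (h.le.trans hMU) hcopAU hB₀U hB₀1 hAB)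
  have hAB₀ : A ≤ Subgroup.normalizer (B₀ : Set G) := h.le.trans hMB₀
  -- (2) `X₀ = C_A(B₀)` has order `p`
  set X₀ := A ⊓ Subgroup.centralizer (B₀ : Set G) with hX₀
  have hX₀c : Nat.card ↥X₀ = p :=
    card_inf_centralizer_of_card_prime hrr h.elem h.card hB₀c hAB₀ hncB
  have hX₀A : X₀ ≤ A := inf_le_left
  -- (3) `p < r`
  obtain ⟨a, haA, haC⟩ := Set.not_subset.1 hncB
  have hpr : p < r := lt_of_not_mem_centralizer hrr hB₀c (h.elem.2 a haA) (hAB₀ haA) haC
  -- (4) an `A`-invariant Sylow `r`-subgroup of `M`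
  set D := piCoreOf (primesNotDvd p) M with hD
  have hcopD := h.coprimeAction_core hG
  obtain ⟨R, hRs, hAR⟩ := Cfsg.Agent.Lib.H1.coprime_exists_invariant_sylow hcopD r
  have hRD : SylIn r R D := sylIn_of_isSylowOf hRs
  have hDM : D ≤ M := piCoreOf_le _ _
  have hRM : SylIn r R M := by
    refine ⟨hRD.le.trans hDM, hRD.isPGroup, ?_⟩
    rw [← Subgroup.relIndex_mul_relIndex R D M hRD.le hDM]
    intro hd
    rcases (Nat.Prime.dvd_mul hrr).1 hd with h1 | h1
    · exact hRD.2.2 h1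
    · exact h.not_dvd_relIndex_core hG hrr hpr h1
  -- (5) `M` is exceptional for `r` with `A_r ≤ R`
  obtain ⟨m, hm, hle⟩ := hRM.exists_conj_le hr'.isPGroup hr'.le
  have hr2 : Exc M r cj(m, Ar') B₀ := by
    have := hr'.conj m
    rwa [cj_eq_self_of_mem hm, cj_eq_self_of_mem_normalizer (hMB₀ hm)] at this
  set Ar := cj(m, Ar') with hAr
  have hArR : Ar ≤ R := hle
  have hΩ : ∀ x ∈ R, x ^ r = 1 ↔ x ∈ Ar := fun x hx => hr2.mem_iff_pow_eq_one hG hRM hArR hx
  have hAAr : A ≤ Subgroup.normalizer (Ar : Set G) := by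
    intro b hb
    apply mem_normalizer_of_map_conj_le
    rintro _ ⟨x, hx, rfl⟩
    have h1 : b * x * b⁻¹ ∈ R := (Subgroup.mem_normalizer_iff.1 (hAR hb) x).1 (hArR hx)
    apply (hΩ _ h1).1
    rw [conj_pow, hr2.elem.2 x hx]; group
  have hB₀Ar : B₀ ≤ Ar := hr2.le₀
  -- (6) `B₁ = C_{A_r}(A) ≠ 1`
  obtain ⟨A₁, A₂, hA₁, hA₂, hc₁, hc₂, hne, hf₁, hf₂⟩ := h.exists_two_fpf_lines hG
  have hKM : K ≤ M := sigmaCore_le M
  have hMK : M ≤ Subgroup.normalizer (K : Set G) := Cfsg.Agent.Lib.H16.BG.le_normalizer_sigmaCore M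
  have hB₁ : Ar ⊓ Subgroup.centralizer (A : Set G) ≠ ⊥ :=
    hMu p r hrp.symm K A Ar B₀ A₁ A₂ h.elem h.card hr2.elem hr2.card hAAr hB₀Ar hB₀c hAB₀ hncB
      (h.sigmaCore_ne_bot hG) (solvable_of_le_ne_top hG hM.1 hKM)
      (not_sigma_of_coprime hpp h.not_sigma) (not_sigma_of_coprime hrr hrσ)
      (h.le.trans hMK) (hr2.le.trans hMK) (hr2.inf_centralizer hG) hA₁ hc₁ hA₂ hc₂ hne hf₁ hf₂
  set B₁ := Ar ⊓ Subgroup.centralizer (A : Set G) with hB₁def
  -- (7) `X₀` centralizes `A_r`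
  have hB₀B₁ : B₀ ⊓ B₁ = ⊥ := by
    rcases eq_bot_or_eq_of_le_of_card_prime hrr hB₀c (inf_le_left : B₀ ⊓ B₁ ≤ B₀) with h0 | h0
    · exact h0
    · exfalso
      apply hncB
      have h1 : B₀ ≤ Subgroup.centralizer (A : Set G) := by
        rw [← h0]; exact inf_le_right.trans inf_le_right
      exact Subgroup.le_centralizer_iff.1 h1
  have hsupB : B₀ ⊔ B₁ = Ar := by
    rcases eq_or_eq_of_le_of_card_sq hB₀c hr2.card (le_sup_left : B₀ ≤ B₀ ⊔ B₁)
      (sup_le hB₀Ar inf_le_left) with h0 | h0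
    · exfalso
      apply hB₁
      rw [eq_bot_iff, ← hB₀B₁]
      exact le_inf (h0 ▸ le_sup_right) le_rfl
    · exact h0
  have hX₀Ar : X₀ ≤ Subgroup.centralizer (Ar : Set G) := by
    rw [← hsupB, centralizer_sup_eq]
    refine le_inf inf_le_right (hX₀A.trans ?_)
    exact Subgroup.le_centralizer_iff.1 inf_le_right
  have hX₀eq : A ⊓ Subgroup.centralizer (Ar : Set G) = X₀ := by
    apply le_antisymm
    · exact le_inf inf_le_left (inf_le_right.trans
        (Subgroup.centralizer_le (by exact_mod_cast hB₀Ar)))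
    · exact le_inf hX₀A hX₀Ar
  have hX₀1 : X₀ ≠ ⊥ := by
    intro h0
    rw [h0, Subgroup.card_bot] at hX₀c
    exact hpp.one_lt.ne hX₀c
  have hX₀p : IsPGroup p ↥X₀ := h.isPGroup.to_le hX₀A
  -- (8) `N_G(X₀) ⊄ M`
  have hNX₀ : ¬ Subgroup.normalizer (X₀ : Set G) ≤ M := by
    intro hle
    apply hr2.not_normalizer_le hG
    set C' := Subgroup.centralizer (Ar : Set G) with hC'
    have hC'M : C' ≤ M := hr2.centralizer_le
    set N := Subgroup.normalizer (Ar : Set G) with hN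
    have hC'N : C' ≤ N := Subgroup.centralizer_le_normalizer _
    have hNC' : N ≤ Subgroup.normalizer (C' : Set G) := normalizer_le_normalizer_centralizer Ar
    set Y := A ⊔ C' with hY
    have hYM : Y ≤ M := sup_le h.le hC'M
    have hYC' : Y ≤ Subgroup.normalizer (C' : Set G) :=
      sup_le (hAAr.trans hNC') Subgroup.le_normalizer
    obtain ⟨Ps, hPs, hAPs⟩ := SylIn.exists_ge h.isPGroup (le_sup_left : A ≤ Y)
    have hPC : SylIn p (Ps ⊓ C') C' := hPs.inf_normal le_sup_right hYC'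
    obtain ⟨P', hP', hPsP'⟩ := SylIn.exists_ge hPs.isPGroup (hPs.le.trans hYM)
    have hAP' : A ≤ P' := hAPs.trans hPsP'
    have hΩC : ∀ x ∈ Ps ⊓ C', x ^ p = 1 → x ∈ X₀ := by
      intro x hx hxp
      rw [← hX₀eq]
      exact ⟨(h.mem_iff_pow_eq_one hG hP' hAP' (hPsP' hx.1)).1 hxp, hx.2⟩
    have hX₀PC : X₀ ≤ Ps ⊓ C' := le_inf (hX₀A.trans hAPs) hX₀Ar
    intro n hn
    obtain ⟨l, hl, n', hn', rfl⟩ := frattini_rel hC'N hNC' hPC n hn
    refine M.mul_mem (hC'M hl) (hle ?_)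
    apply mem_normalizer_of_map_conj_le
    rintro _ ⟨x, hx, rfl⟩
    have h1 : n' * x * n'⁻¹ ∈ Ps ⊓ C' :=
      (Subgroup.mem_normalizer_iff.1 hn'.2 x).1 (hX₀PC hx)
    apply hΩC _ h1
    show (n' * x * n'⁻¹) ^ p = 1
    rw [conj_pow, pow_eq_one_of_card_prime hX₀c hx]; group
  -- (9) a maximal subgroup `L ≥ N_G(X₀)`
  have hNtop : Subgroup.normalizer (X₀ : Set G) ≠ ⊤ := normalizer_ne_top_of_isPGroup hG hX₀p hX₀1
  obtain ⟨L, hL, hNL⟩ := exists_coatom_ge hNtop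
  have hLM : L ≠ M := fun h0 => hNX₀ (h0 ▸ hNL)
  have hCL : Subgroup.centralizer (X₀ : Set G) ≤ L :=
    (Subgroup.centralizer_le_normalizer _).trans hNL
  have hcopX₀U : (Nat.card ↥X₀).Coprime (Nat.card ↥U) :=
    Nat.Coprime.coprime_dvd_left (Subgroup.card_dvd_of_le hX₀A) hcopAU
  have hUL : U ≤ L := by
    refine (Subgroup.le_centralizer_iff.1 ?_).trans hCL
    exact le_centralizer_of_cyclic hUc hUr ((hX₀A.trans h.le).trans hMU) hcopX₀U hB₀U hB₀1
      inf_le_right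
  have hAL : A ≤ L := (E3.le_centralizer h.elem le_rfl hX₀A).trans hCL
  have hArL : Ar ≤ L := (Subgroup.le_centralizer_iff.1 hX₀Ar).trans hCL
  have hAU : A ≤ Subgroup.normalizer (U : Set G) := h.le.trans hMU
  have hactU : CoprimeAction A U :=
    ⟨hAU, hcopAU, Or.inr (solvable_of_le_ne_top hG hM.1 hUM)⟩
  set W := ⁅U, A⁆ with hW
  have hW1 : W ≠ ⊥ := by
    intro h0
    apply hnc
    rw [Subgroup.le_centralizer_iff]
    exact Subgroup.commutator_eq_bot_iff_le_centralizer.1 h0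
  have hWU : W ≤ U := hactU.commutator_le
  have hWW : ⁅W, A⁆ = W := Cfsg.Agent.Lib.H1.coprime_commutator_commutator hactU
  set KL := sigmaCore L with hKL
  have hLKL : L ≤ Subgroup.normalizer (KL : Set G) := Cfsg.Agent.Lib.H16.BG.le_normalizer_sigmaCore L
  -- (10) `p ∉ σ(L)`
  have hpσL : p ∉ sigma L := by
    intro hpσ
    have hAKL : A ≤ KL := isPGroup_le_sigmaCore hG hL hpσ hAL h.isPGroup
    have hWKL : W ≤ KL := by
      rw [hW, Subgroup.commutator_le]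
      intro u hu b hb
      have h1 : u * b * u⁻¹ ∈ KL := (Subgroup.mem_normalizer_iff.1 (hLKL (hUL hu)) b).1 (hAKL hb)
      have h2 : ⁅u, b⁆ = (u * b * u⁻¹) * b⁻¹ := by rw [commutatorElement_def]
      rw [h2]
      exact KL.mul_mem h1 (KL.inv_mem (hAKL hb))
    have hWr : IsPGroup r ↥W := hUr.to_le hWU
    have hrσL : r ∈ sigma L :=
      mem_sigma_of_dvd_card_sigmaCore hrr
        ((dvd_card_of_isPGroup_ne_bot hWr hW1).trans (Subgroup.card_dvd_of_le hWKL))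
    have hnpc : HasNormalPComplement r ↥KL :=
      ((Cfsg.Agent.S1414.result hG L hL).2.2.2.2 r hrr hrσL.2.1 (hr2.not_beta hG L)).2.1
    have h3 : ⁅U ⊓ KL, A⁆ = ⊥ :=
      Cfsg.Agent.Lib.H7.BG13.commutator_eq_bot_of_hasNormalPComplement hrp.symm hnpc inf_le_right hAKL
        (hUr.to_le inf_le_left) h.isPGroup
        (Cfsg.Agent.Lib.H7.le_normalizer_inf hAU (hAL.trans hLKL))
    apply hW1
    rw [← hWW, eq_bot_iff, ← h3]
    exact Subgroup.commutator_mono (le_inf hWU hWKL) le_rfl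
  have hexL : Exc L p A X₀ :=
    ⟨hL, hpσL, hAL, h.elem, h.card, hX₀A, hX₀c, hNL⟩
  by_cases hrσL : r ∈ sigma L
  · -- (12) `r ∈ σ(L)`
    have hArKL : Ar ≤ KL := isPGroup_le_sigmaCore hG hL hrσL hArL hr2.isPGroup
    apply hB₁
    rw [eq_bot_iff, ← hexL.inf_centralizer hG]
    exact inf_le_inf_right _ hArKL
  · -- (11) `r ∉ σ(L)`
    set DL := piCoreOf (primesNotDvd p) L with hDL
    have hUDL : U ≤ DL :=
      le_core_of_maxElem hG hL.1 (h.ne_two hG) hAL h.elem (h.maxElem hG) hUL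
        (by
          obtain ⟨k, hk⟩ := IsPGroup.iff_card.1 hUr
          rw [hk]
          exact Nat.Coprime.pow_left k ((Nat.coprime_primes hrr hpp).2 hrp)) hAU
    have hWF : W ≤ fittingOf L :=
      (Subgroup.commutator_mono hUDL le_rfl).trans (hexL.commutator_core_le_fittingOf hG hC hR)
    have hWr : IsPGroup r ↥W := hUr.to_le hWU
    have hWUL : W ≤ piCoreOf ({r} : Set ℕ) L :=
      (le_piCoreOf_of_nilpotent (fittingOf_isNilpotent L) hWF
        (isPiCard_card_of_isPGroup (Set.mem_singleton r) hWr)).trans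
        (piCoreOf_le_piCoreOf_of_normal {r} (fittingOf_le L) (le_normalizer_fittingOf L))
    set UL := piCoreOf ({r} : Set ℕ) L with hULdef
    have hUL1 : UL ≠ ⊥ := ne_bot_of_le_ne_bot hW1 hWUL
    obtain ⟨hULc, B₀', Ar'', hB₀'UL, hLB₀', hr''⟩ := hC L hL r hrσL hUL1
    -- `B₀ ≤ W`
    obtain ⟨w, hw, hw1, hwr⟩ := exists_mem_orderOf_eq hWr hW1
    obtain ⟨b, hb, hb1, hbr⟩ := exists_mem_orderOf_eq (hUr.to_le hB₀U) hB₀1
    have hzw : Subgroup.zpowers w = Subgroup.zpowers b :=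
      Cfsg.Agent.Lib.H8.BG12.zpowers_eq_of_mem_cyclic hUc hrr (hWU hw) (hB₀U hb) hwr hw1 hbr hb1
    have hzb : Subgroup.zpowers b = B₀ := zpowers_eq_of_card_prime hrr hB₀c hb hb1
    have hbUL : b ∈ UL := by
      apply hWUL
      have : b ∈ Subgroup.zpowers w := hzw ▸ Subgroup.mem_zpowers b
      exact (Subgroup.zpowers_le.2 hw) this
    have hB₀'r : IsPGroup r ↥B₀' := IsPGroup.of_card (n := 1) (by rw [pow_one]; exact hr''.card₀)
    obtain ⟨b', hb', hb'1, hb'r⟩ := exists_mem_orderOf_eq hB₀'r hr''.ne_bot₀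
    have hzb' : Subgroup.zpowers b' = B₀' :=
      zpowers_eq_of_card_prime hrr hr''.card₀ hb' hb'1
    have hzz : Subgroup.zpowers b = Subgroup.zpowers b' :=
      Cfsg.Agent.Lib.H8.BG12.zpowers_eq_of_mem_cyclic hULc hrr hbUL (hB₀'UL hb') hbr hb1 hb'r hb'1
    have hBB : B₀ = B₀' := by rw [← hzb, ← hzb', hzz]
    have hLB₀ : L ≤ Subgroup.normalizer (B₀ : Set G) := hBB ▸ hLB₀'
    have hNB₀ : Subgroup.normalizer (B₀ : Set G) ≠ ⊤ :=
      normalizer_ne_top_of_isPGroup hG (hUr.to_le hB₀U) hB₀1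
    apply hLM
    rcases hM.le_iff.1 hMB₀ with h0 | h0
    · exact absurd h0 hNB₀
    · rcases hL.le_iff.1 hLB₀ with h1 | h1
      · exact absurd h1 hNB₀
      · rw [← h1, h0]

end Exc

end Cfsg.Agent.Lib.H16.BG
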