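import Mathlib
import Cfsg.Agent.Lib.H16.BG11h

/-! # Bender–Glauberman §11, part (i) (helper16)

BG 11.7: `M` normalizes `M_σ A`. -/

set_option autoImplicit false
set_option linter.unusedSectionVars false
set_option linter.unusedVariables false
set_option linter.style.haveILetI false
set_option maxHeartbeats 800000

namespace Cfsg.Agent.Lib.H16.BG

open Cfsg Cfsg.Agent.Lib.H7.BG7 Cfsg.Agent.Lib.H7.BG10
open Cfsg.Agent.Lib.H1 (CoprimeAction)
open Cfsg.Agent.Lib.H19 (IsPiCard)
open scoped commutatorElement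

universe u
variable {G : Type u} [Group G] [Finite G]

local notation:max "cj(" g ", " X ")" => Subgroup.map (MulEquiv.toMonoidHom (MulAut.conj g)) X

namespace Exc

variable {M A A₀ : Subgroup G} {p : ℕ} [hp : Fact p.Prime]

/-- `[O_{p'}(M), A] ≤ M_σ`. -/
theorem commutator_core_le_sigmaCore (hG : IsMinSimpleOddOrder G) (h : Exc M p A A₀)
    (hC : HClaim G) (hR : HMod G) (hMu : HMu G) :
    ⁅piCoreOf (primesNotDvd p) M, A⁆ ≤ sigmaCore M := by
  have hpp := hp.out
  have hM := h.coatom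
  set D := piCoreOf (primesNotDvd p) M with hD
  set F := fittingOf M with hF
  set T := piCoreOf (piSet M p) F with hT
  set K := sigmaCore M with hK
  have hFnil : Group.IsNilpotent ↥F := fittingOf_isNilpotent M
  have hFM : F ≤ M := fittingOf_le M
  have hMF : M ≤ Subgroup.normalizer (F : Set G) := le_normalizer_fittingOf M
  have hMT : M ≤ Subgroup.normalizer (T : Set G) :=
    hMF.trans (normalizer_le_normalizer_piCoreOf _ F)
  have hTF : T ≤ F := piCoreOf_le _ _
  have hTM : T ≤ M := hTF.trans hFM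
  have hTnil : Group.IsNilpotent ↥T := isNilpotent_of_le hFnil hTF
  have hTπ : IsPiCard (piSet M p) (Nat.card ↥T) := piCoreOf_isPiCard _ _
  have hDp : (Nat.card ↥D).Coprime p := card_piCoreOf_primesNotDvd_coprime p M
  have hMK : M ≤ Subgroup.normalizer (K : Set G) := Cfsg.Agent.Lib.H16.BG.le_normalizer_sigmaCore M
  have hcop := h.coprimeAction_core hG
  -- (a) `A` centralizes `T`
  have hTA : T ≤ Subgroup.centralizer (A : Set G) := by
    apply le_centralizer_of_forall_piCoreOf hTnil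
    intro q hq
    haveI : Fact q.Prime := ⟨hq⟩
    by_cases h1 : piCoreOf ({q} : Set ℕ) T = ⊥
    · rw [h1]; exact bot_le
    · have hle : piCoreOf ({q} : Set ℕ) T ≤ piCoreOf ({q} : Set ℕ) M :=
        piCoreOf_le_piCoreOf_of_normal {q} hTM hMT
      have hqd : q ∣ Nat.card ↥T :=
        (dvd_card_of_isPGroup_ne_bot (isPGroup_piCoreOf_singleton q T) h1).trans
          (Subgroup.card_dvd_of_le (piCoreOf_le _ _))
      have hqπ := hTπ q hq hqd
      refine hle.trans ?_
      rw [Subgroup.le_centralizer_iff]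
      exact h.le_centralizer_core hG hC hR hMu hqπ.2.1 hqπ.2.2
  -- (b) `F ∩ D ≤ K T`
  set FD := F ⊓ D with hFD
  have hFDnil : Group.IsNilpotent ↥FD := isNilpotent_of_le hFnil inf_le_left
  have hFDle : FD ≤ K ⊔ T := by
    rw [← piCoreOf_sup_compl hFDnil (sigma M)]
    refine sup_le_sup ?_ ?_
    · exact le_sigmaCore_of hG hM (((piCoreOf_le _ _).trans inf_le_left).trans hFM)
        (piCoreOf_isPiCard _ _)
    · apply le_piCoreOf_of_nilpotent hFnil ((piCoreOf_le _ _).trans inf_le_left)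
      intro q hq hqd
      refine ⟨hq, piCoreOf_isPiCard (sigma M)ᶜ FD q hq hqd, ?_⟩
      rintro rfl
      have := hqd.trans (Subgroup.card_dvd_of_le ((piCoreOf_le _ _).trans inf_le_right))
      exact (Nat.Prime.coprime_iff_not_dvd hpp).1 hDp.symm this
  have hFDA : ⁅FD, A⁆ ≤ K := by
    rw [Subgroup.commutator_le]
    intro f hf a ha
    obtain ⟨k, hk, t, ht, rfl⟩ :=
      Cfsg.Agent.Lib.H1.mem_sup_of_le_normalizer (hTM.trans hMK) (hFDle hf)
    have hta : t * a = a * t := (Subgroup.mem_centralizer_iff.1 (hTA ht) a ha).symm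
    have e : ⁅k * t, a⁆ = k * (a * k⁻¹ * a⁻¹) := by
      rw [commutatorElement_def]
      calc k * t * a * (k * t)⁻¹ * a⁻¹ = k * (t * a) * t⁻¹ * k⁻¹ * a⁻¹ := by group
        _ = k * (a * t) * t⁻¹ * k⁻¹ * a⁻¹ := by rw [hta]
        _ = k * (a * k⁻¹ * a⁻¹) := by group
    rw [e]
    exact K.mul_mem hk ((Subgroup.mem_normalizer_iff.1 (hMK (h.le ha)) _).1 (K.inv_mem hk))
  calc ⁅D, A⁆ = ⁅⁅D, A⁆, A⁆ := (Cfsg.Agent.Lib.H1.coprime_commutator_commutator hcop).symm
    _ ≤ ⁅FD, A⁆ := Subgroup.commutator_mono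
        (le_inf (h.commutator_core_le_fittingOf hG hC hR) hcop.commutator_le) le_rfl
    _ ≤ K := hFDA

/-- **BG Theorem 11.7**: `M` normalizes `M_σ A`. -/
theorem normalizes (hG : IsMinSimpleOddOrder G) (h : Exc M p A A₀) (hC : HClaim G)
    (hR : HMod G) (hMu : HMu G) :
    M ≤ Subgroup.normalizer ((sigmaCore M ⊔ A : Subgroup G) : Set G) := by
  have hM := h.coatom
  set K := sigmaCore M with hK
  set D := piCoreOf (primesNotDvd p) M with hD
  have hMK : M ≤ Subgroup.normalizer (K : Set G) := Cfsg.Agent.Lib.H16.BG.le_normalizer_sigmaCore M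
  have hDA := h.commutator_core_le_sigmaCore hG hC hR hMu
  obtain ⟨P, hP, hAP⟩ := SylIn.exists_ge h.isPGroup h.le
  have hP1 : P ≠ ⊥ := ne_bot_of_le_ne_bot h.ne_bot hAP
  have hPopp : P ≤ Cfsg.Agent.Lib.H9.oppAmb p M :=
    sylow_le_oppAmb_of_rank hG.1 (h.solvable hG) hP hP1 (h.rank hG).1
  intro m hm
  apply mem_normalizer_of_map_conj_le
  obtain ⟨k, hk, n, hn, rfl⟩ := frattini_opp hP m hm
  have hnP : n ∈ Subgroup.normalizer (P : Set G) := by
    have := hn.2
    rwa [inf_eq_left.2 hPopp] at this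
  have hnA : n ∈ Subgroup.normalizer (A : Set G) := h.normalizer_le_normalizer hG hP hAP hnP
  rw [Subgroup.map_sup]
  refine sup_le ?_ ?_
  · have : cj(k * n, K) = K := cj_eq_self_of_mem_normalizer (hMK hm)
    rw [this]; exact le_sup_left
  · rintro _ ⟨a, ha, rfl⟩
    have h1 : n * a * n⁻¹ ∈ A := (Subgroup.mem_normalizer_iff.1 hnA a).1 ha
    have h2 : ⁅k, n * a * n⁻¹⁆ ∈ K := hDA (Subgroup.commutator_mem_commutator hk h1)
    have e : (MulAut.conj (k * n)).toMonoidHom a = ⁅k, n * a * n⁻¹⁆ * (n * a * n⁻¹) := by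
      simp only [MulEquiv.coe_toMonoidHom, MulAut.conj_apply, commutatorElement_def]
      group
    rw [e]
    exact Subgroup.mul_mem_sup h2 h1

end Exc

end Cfsg.Agent.Lib.H16.BG
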