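import Mathlib
import Cfsg.Agent.Lib.H16.BG11i
import Cfsg.Agent.Lib.H20.BGX1
import Cfsg.Agent.Lib.H8.BG11r
import Cfsg.Agent.Lib.H7.BG11mu

/-! # Bender–Glauberman §11, part (j) (helper16)

The three hypotheses `HClaim`, `HMod`, `HMu` of parts (f)-(i) are theorems (helper20, helper8,
helper7), so BG 11.7 holds unconditionally. -/

set_option autoImplicit false
set_option linter.unusedSectionVars false
set_option linter.unusedVariables false
set_option linter.style.haveILetI false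

namespace Cfsg.Agent.Lib.H16.BG

open Cfsg Cfsg.Agent.Lib.H7.BG7 Cfsg.Agent.Lib.H7.BG10
open scoped commutatorElement

universe u
variable {G : Type u} [Group G] [Finite G]

theorem hClaim (hG : IsMinSimpleOddOrder G) : HClaim G := by
  intro M hM r hr hrσ hU
  exact Cfsg.Agent.Lib.H20.BGX.exc_of_piCoreOf_ne_bot hG hM hrσ hU

theorem hMod : HMod G := by
  intro M C Z hMs hodd hCM hMC hZC hCZ hMZ x hxM r hr hxr hrC hfix
  exact Cfsg.Agent.Lib.H8.BG11.commutator_zpowers_le_fittingOf_mod hMs hodd hCM hMC hZC hCZ hMZ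
    hxM hr hxr hrC hfix

theorem hMu : HMu G := by
  intro p r hp hr hpr K A Ar B₀ A₁ A₂ hAe hAc hAre hArc hAAr hB₀ hB₀c hAB₀ hnc hK1 hKs hKp hKr
    hAK hArK hKAr hA₁ hA₁c hA₂ hA₂c hne hf₁ hf₂
  exact Cfsg.Agent.Lib.H7.BG11mu.exists_fixed_of_two_fpf_lines hpr hAe hAc hAre hArc hAAr hB₀ hB₀c
    hAB₀ hnc hK1 hKs hKp hKr hAK hArK hKAr hA₁ hA₁c hA₂ hA₂c hne hf₁ hf₂

namespace Exc

variable {M A A₀ : Subgroup G} {p : ℕ} [hp : Fact p.Prime]

/-- **BG 11.7**, unconditional: `M` normalizes `M_σ A`. -/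
theorem normalizes' (hG : IsMinSimpleOddOrder G) (h : Exc M p A A₀) :
    M ≤ Subgroup.normalizer ((sigmaCore M ⊔ A : Subgroup G) : Set G) :=
  h.normalizes hG (hClaim hG) hMod hMu

end Exc

end Cfsg.Agent.Lib.H16.BG
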