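import Mathlib
import Cfsg.Agent.Lib.H16.BG11j
import Cfsg.Agent.Lib.H7.BG13a

/-! # Bender–Glauberman §12 (helper16): the common core of Lemma 12.3(a) and Theorem 12.5(e) -/

set_option autoImplicit false
set_option linter.unusedSectionVars false
set_option linter.unusedVariables false
set_option linter.style.haveILetI false
set_option maxHeartbeats 400000

namespace Cfsg.Agent.Lib.H16.BG

open Cfsg Cfsg.Agent.Lib.H7.BG7 Cfsg.Agent.Lib.H7.BG10
open scoped commutatorElement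

universe u
variable {G : Type u} [Group G] [Finite G]

local notation:max "cj(" g ", " X ")" => Subgroup.map (MulEquiv.toMonoidHom (MulAut.conj g)) X

/-- `A ≤ M ∩ L` elementary abelian of order `p²`, `p ∉ σ(M)`, `L ≠ M`, and either `p ∈ σ(L)` or `L`
is exceptional for `(p, A)`.  Then `A` centralizes `M_σ ∩ L`. -/
theorem commutator_sigmaCore_inf_le (hG : IsMinSimpleOddOrder G) {M L : Subgroup G}
    (hM : IsCoatom M) (hL : IsCoatom L) (hne : L ≠ M) {p : ℕ} [hp : Fact p.Prime]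
    (hpM : p ∉ sigma M) {A : Subgroup G} (hAM : A ≤ M) (hAL : A ≤ L)
    (hAe : IsElementaryAbelian p A) (hAc : Nat.card ↥A = p ^ 2)
    (hL' : p ∈ sigma L ∨ ∃ X : Subgroup G, Exc L p A X) :
    sigmaCore M ⊓ L ≤ Subgroup.centralizer (A : Set G) := by
  have hpp := hp.out
  set K := sigmaCore M with hK
  have hKM : K ≤ M := sigmaCore_le M
  have hMK : M ≤ Subgroup.normalizer (K : Set G) := Cfsg.Agent.Lib.H16.BG.le_normalizer_sigmaCore M
  have hAp : IsPGroup p ↥A := isPGroup_of_elemAb hAe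
  have hKp : (Nat.card ↥K).Coprime p := not_sigma_of_coprime hpp hpM
  set D := K ⊓ L with hD
  have hAD : A ≤ Subgroup.normalizer (D : Set G) :=
    Cfsg.Agent.Lib.H7.le_normalizer_inf (hAM.trans hMK) (hAL.trans Subgroup.le_normalizer)
  have hcop : (Nat.card ↥A).Coprime (Nat.card ↥D) := by
    rw [hAc]
    exact Nat.Coprime.pow_left 2
      (Nat.Coprime.coprime_dvd_left (Subgroup.card_dvd_of_le inf_le_left) hKp).symm
  haveI hDs : Group.IsSolvable ↥D := solvable_of_le_ne_top hG hM.1 (inf_le_left.trans hKM)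
  by_contra hnc
  obtain ⟨q, hq, Q, hQD, hQq, hAQ, hQA⟩ :=
    Cfsg.Agent.Lib.H7.BG13.exists_invariant_pgroup_not_centralized hAD hcop hnc
  haveI : Fact q.Prime := ⟨hq⟩
  set Q₀ := ⁅Q, A⁆ with hQ₀
  have hQ₀1 : Q₀ ≠ ⊥ := by
    intro h0
    exact hQA (Subgroup.commutator_eq_bot_iff_le_centralizer.1 h0)
  have hQ₀Q : Q₀ ≤ Q := Subgroup.le_normalizer_iff_commutator_le_left.1 hAQ
  have hQ₀q : IsPGroup q ↥Q₀ := hQq.to_le hQ₀Q
  have hqQ₀ : q ∣ Nat.card ↥Q₀ := dvd_card_of_isPGroup_ne_bot hQ₀q hQ₀1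
  have hQK : Q ≤ K := hQD.trans inf_le_left
  have hQL : Q ≤ L := hQD.trans inf_le_right
  have hqM : q ∈ sigma M :=
    mem_sigma_of_dvd_card_sigmaCore hq (hqQ₀.trans (Subgroup.card_dvd_of_le (hQ₀Q.trans hQK)))
  have hqp : q ≠ p := by
    rintro rfl
    exact hpM hqM
  rcases hL' with hpL | ⟨X, hex⟩
  · obtain ⟨g, hg⟩ := Cfsg.Agent.Lib.H7.BG13.conj_of_commutator_ne_bot hG hM hL hqp.symm hpL hqM
      hAL hQL hAp hQq hAQ hQ₀1
    apply hpM
    rw [hg, sigma_cj] at hpL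
    exact hpL
  · set KL := sigmaCore L with hKL
    have hLKL : L ≤ Subgroup.normalizer (KL : Set G) :=
      Cfsg.Agent.Lib.H16.BG.le_normalizer_sigmaCore L
    have hLN := hex.normalizes' hG
    have hQ₀le : Q₀ ≤ KL ⊔ A := by
      rw [hQ₀, Subgroup.commutator_le]
      intro x hx a ha
      have haS : a ∈ KL ⊔ A := Subgroup.mem_sup_right ha
      have h1 : x * a * x⁻¹ ∈ KL ⊔ A := (Subgroup.mem_normalizer_iff.1 (hLN (hQL hx)) a).1 haS
      have h2 : ⁅x, a⁆ = (x * a * x⁻¹) * a⁻¹ := by rw [commutatorElement_def]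
      rw [h2]
      exact Subgroup.mul_mem _ h1 (Subgroup.inv_mem _ haS)
    have hd1 : q ∣ Nat.card ↥(A ⊔ KL : Subgroup G) := by
      rw [sup_comm]
      exact hqQ₀.trans (Subgroup.card_dvd_of_le hQ₀le)
    have hd2 := hd1.trans (Cfsg.Agent.Lib.H19.card_sup_dvd_mul_of_le_normalizer (hAL.trans hLKL))
    have hqKL : q ∣ Nat.card ↥KL := by
      rcases (Nat.Prime.dvd_mul hq).1 hd2 with h1 | h1
      · exfalso
        rw [hAc] at h1
        exact hqp ((Nat.prime_dvd_prime_iff_eq hq hpp).1 (hq.dvd_of_dvd_pow h1))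
      · exact h1
    have hqL : q ∈ sigma L := mem_sigma_of_dvd_card_sigmaCore hq hqKL
    have hQ₀KL : Q₀ ≤ KL := isPGroup_le_sigmaCore hG hL hqL (hQ₀Q.trans hQL) hQ₀q
    have hne' : K ⊓ KL ≠ ⊥ := ne_bot_of_le_ne_bot hQ₀1 (le_inf (hQ₀Q.trans hQK) hQ₀KL)
    exact hne (hex.lemma_11_4 hG hM hAM hne').symm

end Cfsg.Agent.Lib.H16.BG
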