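import Mathlib
import Cfsg.Agent.Lib.H16.BG11j
import Cfsg.Agent.Lib.H7.BG124

/-! # Bender–Glauberman §12 (helper16): `M_α ≠ 1` centralized by `A` makes `A` a uniqueness subgroup -/

set_option autoImplicit false
set_option linter.unusedSectionVars false
set_option linter.unusedVariables false
set_option linter.style.haveILetI false

namespace Cfsg.Agent.Lib.H16.BG

open Cfsg Cfsg.Agent.Lib.H7.BG7 Cfsg.Agent.Lib.H7.BG10

universe u
variable {G : Type u} [Group G] [Finite G]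

theorem normalizer_le_of_alphaCore_ne_bot (hG : IsMinSimpleOddOrder G) {M : Subgroup G}
    (hM : IsCoatom M)
    {p : ℕ} [hp : Fact p.Prime] {A : Subgroup G} (hAM : A ≤ M)
    (hAe : IsElementaryAbelian p A) (hAc : Nat.card ↥A = p ^ 2)
    (hα : alphaCore M ≠ ⊥) (hαA : alphaCore M ≤ Subgroup.centralizer (A : Set G))
    {X : Subgroup G} (hXA : X ≤ A) (hX1 : X ≠ ⊥) :
    Subgroup.normalizer (X : Set G) ≤ M := by
  have hU := Cfsg.Agent.Lib.H20.BGT.uniq3 hG
  have hpp := hp.out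
  have hH := (alpha_core_hall hG hU hM).1
  have hc : Nat.card ↥(alphaCore M) ≠ 1 := fun h1 => hα (Subgroup.card_eq_one.1 h1)
  obtain ⟨q, hq, hqd⟩ := Nat.exists_prime_and_dvd hc
  haveI : Fact q.Prime := ⟨hq⟩
  have hqα : q ∈ alpha M := hH.2.1 q hq hqd
  obtain ⟨Q, hQ⟩ := SylIn.exists_sylIn q (alphaCore M)
  have hQM : SylIn q Q M := by
    refine ⟨hQ.le.trans hH.1, hQ.isPGroup, ?_⟩
    rw [← Subgroup.relIndex_mul_relIndex Q (alphaCore M) M hQ.le hH.1]
    intro hd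
    rcases (Nat.Prime.dvd_mul hq).1 hd with h1 | h1
    · exact hQ.2.2 h1
    · exact hH.2.2 q hq hqα h1
  have hrQ : ¬ PRankLE q 2 ↥Q := fun h => hqα.2 (pRankLE_of_sylIn hQM h)
  have hr3 : ¬ PRankLE q 2 ↥(Subgroup.centralizer (A : Set G)) :=
    fun h => hrQ (pRankLE_of_le (hQ.le.trans hαA) h)
  have hAt : A ≠ ⊤ := by
    rintro rfl
    exact hM.1 (top_le_iff.1 hAM)
  have hA1' : ¬ RankLE 1 ↥A := by
    intro h
    refine not_pRankLE_of_elemAb le_rfl hAe ?_ (h p hpp)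
    rw [hAc, pow_one]
    nlinarith [hpp.one_lt]
  have hAU : InUniqueMaximal A :=
    Cfsg.Agent.S1403.result hG A hAt hA1' (Or.inr (fun h => hr3 (h q hq)))
  have hAp : IsPGroup p ↥A := isPGroup_of_elemAb hAe
  have hNt : Subgroup.normalizer (X : Set G) ≠ ⊤ :=
    normalizer_ne_top_of_isPGroup hG (hAp.to_le hXA) hX1
  exact (Cfsg.Agent.Lib.H7.BG124.uniq_of_inUniqueMaximal hM hAM hAU
    (Cfsg.Agent.Lib.H7.BG124.le_normalizer_of_le_comm hAe.1 hXA) hNt).1

end Cfsg.Agent.Lib.H16.BG
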