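import Mathlib
import Cfsg.Agent.Lib.H16.BG11j

/-! # Bender–Glauberman §12 (helper16): `O_p(M) ≠ 1` and `p ∈ τ₂(M)` give a line of `A` normal in `M` -/

set_option autoImplicit false
set_option linter.unusedSectionVars false
set_option linter.unusedVariables false
set_option linter.style.haveILetI false

namespace Cfsg.Agent.Lib.H16.BG

open Cfsg Cfsg.Agent.Lib.H7.BG7 Cfsg.Agent.Lib.H7.BG10

universe u
variable {G : Type u} [Group G] [Finite G]

/-- for `p ∈ τ₂(M)`, every element of order dividing `p` in `C_G(A)` lies in `A`. -/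
theorem mem_of_pow_eq_one_of_tau2 (hG : IsMinSimpleOddOrder G) {M : Subgroup G} (hM : IsCoatom M)
    {p : ℕ} [hp : Fact p.Prime] (hp2 : p ∈ tau2 M) {A : Subgroup G} (hAM : A ≤ M)
    (hAe : IsElementaryAbelian p A) (hAc : Nat.card ↥A = p ^ 2) {x : G}
    (hx : x ∈ Subgroup.centralizer (A : Set G)) (hxp : x ^ p = 1) : x ∈ A := by
  have hZe : IsElementaryAbelian p (Subgroup.zpowers x) := by
    refine ⟨inferInstance, ?_⟩
    intro a ha
    obtain ⟨k, rfl⟩ := Subgroup.mem_zpowers_iff.1 ha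
    rw [← zpow_natCast, ← zpow_mul, mul_comm, zpow_mul, zpow_natCast, hxp, one_zpow]
  have hle : Subgroup.zpowers x ≤ Subgroup.centralizer (A : Set G) := Subgroup.zpowers_le.2 hx
  have hB := Cfsg.Agent.Lib.H3.elemAb_sup hAe hZe hle
  have := (Cfsg.Agent.S1408.result hG M hM p hp2.2.1 hp2.2.2.1 hp2.2.2.2).2 A hAM hAe hAc _ hB
    le_sup_left
  rw [← this]
  exact Subgroup.mem_sup_right (Subgroup.mem_zpowers x)

theorem exists_line_of_piCoreOf_ne_bot (hG : IsMinSimpleOddOrder G) {M : Subgroup G}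
    (hM : IsCoatom M)
    {p : ℕ} [hp : Fact p.Prime] (hp2 : p ∈ tau2 M) {A : Subgroup G} (hAM : A ≤ M)
    (hAe : IsElementaryAbelian p A) (hAc : Nat.card ↥A = p ^ 2)
    (hO : piCoreOf ({p} : Set ℕ) M ≠ ⊥) :
    ∃ X : Subgroup G, X ≤ A ∧ Nat.card ↥X = p ∧ Subgroup.normalizer (X : Set G) ≤ M := by
  obtain ⟨hUc, B₀, Ar, hB₀U, hMB₀, hex⟩ := hClaim hG M hM p hp2.2.1 hO
  have hAp : IsPGroup p ↥A := isPGroup_of_elemAb hAe
  obtain ⟨P, hP, hAP⟩ := SylIn.exists_ge hAp hAM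
  have hB₀M : B₀ ≤ M := hB₀U.trans (piCoreOf_le _ _)
  have hB₀p : IsPGroup p ↥B₀ := (isPGroup_piCoreOf_singleton p M).to_le hB₀U
  have hB₀P : B₀ ≤ P := Cfsg.Agent.Lib.H20.BGX.le_sylIn_of_normal hP hB₀p hB₀M hMB₀
  have hPB₀ : P ≤ Subgroup.centralizer (B₀ : Set G) :=
    le_centralizer_of_isPGroup_of_card_prime hP.isPGroup hex.card₀ (hP.le.trans hMB₀)
  have hB₀A : B₀ ≤ A := by
    intro x hx
    apply mem_of_pow_eq_one_of_tau2 hG hM hp2 hAM hAe hAc
    · exact (Subgroup.le_centralizer_iff.1 (hAP.trans hPB₀)) hx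
    · exact pow_eq_one_of_card_prime hex.card₀ hx
  exact ⟨B₀, hB₀A, hex.card₀, hex.norm⟩

end Cfsg.Agent.Lib.H16.BG
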