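import Mathlib
import Cfsg.Agent.Lib.H16.BG11j
import Cfsg.Agent.Lib.H7.BG124
import Cfsg.Agent.Lib.H16.BG12m
import Cfsg.Agent.Lib.H16.BG12n
import Cfsg.Agent.Lib.H16.BG12o

/-! # Bender–Glauberman §12 (helper16): existence of the line `A₀` for `p ∈ τ₂(M)`

`HPhi G p`: for every maximal `M` with `p ∈ τ₂(M)` and every `A ≤ M` elementary abelian of order
`p²` some subgroup `A₀ ≤ A` of order `p` has `N_G(A₀) ≤ M`.  Proved by downward induction on `p`.
-/

set_option autoImplicit false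
set_option linter.unusedSectionVars false
set_option linter.unusedVariables false
set_option linter.style.haveILetI false
set_option maxHeartbeats 800000

namespace Cfsg.Agent.Lib.H16.BG

open Cfsg Cfsg.Agent.Lib.H7.BG7 Cfsg.Agent.Lib.H7.BG10
open Cfsg.Agent.Lib.H1 (CoprimeAction)
open Cfsg.Agent.Lib.H19 (IsPiCard)
open scoped commutatorElement

universe u
variable {G : Type u} [Group G] [Finite G]

local notation:max "cj(" g ", " X ")" => Subgroup.map (MulEquiv.toMonoidHom (MulAut.conj g)) X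

/-- `Φ(s)`: the existence of a line with normalizer in `M`. -/
def HPhi (G : Type u) [Group G] (s : ℕ) : Prop :=
  ∀ (M : Subgroup G), IsCoatom M → s ∈ tau2 M → ∀ A : Subgroup G, A ≤ M →
    IsElementaryAbelian s A → Nat.card ↥A = s ^ 2 →
    ∃ A₀ : Subgroup G, A₀ ≤ A ∧ Nat.card ↥A₀ = s ∧ Subgroup.normalizer (A₀ : Set G) ≤ M

theorem mem_tau2_of (hG : IsMinSimpleOddOrder G) {L : Subgroup G} (hL : IsCoatom L) {p : ℕ}
    [hp : Fact p.Prime] (hpσ : p ∉ sigma L) {A : Subgroup G} (hAL : A ≤ L)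
    (hAe : IsElementaryAbelian p A) (hAc : Nat.card ↥A = p ^ 2) : p ∈ tau2 L := by
  refine ⟨hp.out, hpσ, ?_, ?_⟩
  · by_contra h
    exact hpσ (alpha_subset_sigma hG (Cfsg.Agent.Lib.H20.BGT.uniq3 hG) hL ⟨hp.out, h⟩)
  · intro h
    refine not_pRankLE_of_elemAb hAL hAe ?_ h
    rw [hAc, pow_one]
    nlinarith [hp.out.one_lt]

/-- either `p ∈ σ(L)` or `L` is exceptional for `p` (given `Φ(p)`). -/
theorem sigma_or_exc_of_phi (hG : IsMinSimpleOddOrder G) {p : ℕ} [hp : Fact p.Prime]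
    (hΦ : HPhi G p) {L : Subgroup G} (hL : IsCoatom L) {A : Subgroup G} (hAL : A ≤ L)
    (hAe : IsElementaryAbelian p A) (hAc : Nat.card ↥A = p ^ 2) :
    p ∈ sigma L ∨ ∃ X : Subgroup G, Exc L p A X := by
  by_cases hpσ : p ∈ sigma L
  · exact Or.inl hpσ
  · right
    obtain ⟨X, hXA, hXc, hNX⟩ := hΦ L hL (mem_tau2_of hG hL hpσ hAL hAe hAc) A hAL hAe hAc
    exact ⟨X, hL, hpσ, hAL, hAe, hAc, hXA, hXc, hNX⟩

/-- **`Ψ(p)`** (BG 12.5(e)) from `Φ(p)`. -/
theorem Exc.psi_of_phi (hG : IsMinSimpleOddOrder G) {p : ℕ} [hp : Fact p.Prime] (hΦ : HPhi G p)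
    {M A A₀ : Subgroup G} (h : Exc M p A A₀) {L : Subgroup G} (hL : IsCoatom L) (hne : L ≠ M)
    (hAL : A ≤ L) : sigmaCore M ⊓ L = ⊥ := by
  rw [eq_bot_iff, ← h.inf_centralizer hG]
  refine le_inf inf_le_left ?_
  exact commutator_sigmaCore_inf_le hG h.coatom hL hne h.not_sigma h.le hAL h.elem h.card
    (sigma_or_exc_of_phi hG hΦ hL hAL h.elem h.card)

theorem card_zpowers_of_pow_eq_one {p : ℕ} [hp : Fact p.Prime] {y : G} (hy : y ^ p = 1)
    (hy1 : y ≠ 1) : Nat.card ↥(Subgroup.zpowers y) = p := by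
  rw [Nat.card_zpowers]
  exact orderOf_eq_prime hy hy1

/-- a subgroup of order `p` in an elementary abelian `A`, generated by `y`. -/
theorem line_of_mem {p : ℕ} [hp : Fact p.Prime] {A : Subgroup G} (hAe : IsElementaryAbelian p A)
    {y : G} (hyA : y ∈ A) (hy1 : y ≠ 1) :
    Subgroup.zpowers y ≤ A ∧ Nat.card ↥(Subgroup.zpowers y) = p :=
  ⟨Subgroup.zpowers_le.2 hyA, card_zpowers_of_pow_eq_one (hAe.2 y hyA) hy1⟩


/-- `A` acts coprimely on `O_{p'}(M)`. -/
theorem coprimeAction_core_of (hG : IsMinSimpleOddOrder G) {M : Subgroup G} (hM : IsCoatom M)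
    {p : ℕ} [hp : Fact p.Prime] {A : Subgroup G} (hAM : A ≤ M)
    (hAe : IsElementaryAbelian p A) (hAc : Nat.card ↥A = p ^ 2) :
    CoprimeAction A (piCoreOf (primesNotDvd p) M) where
  normalizes := hAM.trans (le_normalizer_piCoreOf _ _)
  coprime := by
    rw [hAc]
    exact Nat.Coprime.pow_left 2 (card_piCoreOf_primesNotDvd_coprime p M).symm
  solvable := by
    left
    haveI := hAe.1
    exact Group.isSolvable_of_comm (fun a b => mul_comm' a b)

/-- for `r > p`, `p ∈ τ₂(M)`, `r` does not divide `|M : O_{p'}(M)|`. -/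
theorem not_dvd_relIndex_core_of_tau2 (hG : IsMinSimpleOddOrder G) {M : Subgroup G}
    (hM : IsCoatom M) {p : ℕ} [hp : Fact p.Prime] (hp2 : p ∈ tau2 M) (hpd : p ∣ Nat.card ↥M)
    {r : ℕ} (hr : r.Prime) (hpr : p < r) :
    ¬ r ∣ (piCoreOf (primesNotDvd p) M).relIndex M := by
  intro hd
  have hnb : p ∉ beta M := fun hb => hb.1.2 hp2.2.2.1
  have h1 := (Cfsg.Agent.S1414.result hG M hM).2.2.2.2 p hp.out hpd hnb
  have h2 := h1.2.2 r hr
  have h3 : (piCoreOf (primesNotDvd p) M).relIndex M = (pPrimeCore p ↥M).index := by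
    rw [piCoreOf_primesNotDvd_eq, Subgroup.relIndex, Subgroup.subgroupOf,
      Subgroup.comap_map_eq_self_of_injective (Subgroup.subtype_injective M)]
  rw [h3] at hd
  have := h2 hd
  omega

/-- **the induction step for `Φ`**. -/
theorem phi_step (hG : IsMinSimpleOddOrder G) {p : ℕ} [hp : Fact p.Prime]
    (IH : ∀ s : ℕ, s.Prime → p < s → HPhi G s) : HPhi G p := by
  intro M hM hp2 A hAM hAe hAc
  by_contra hno
  push Not at hno
  have hpp := hp.out
  have hpσ : p ∉ sigma M := hp2.2.1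
  have hU3 := Cfsg.Agent.Lib.H20.BGT.uniq3 hG
  set K := sigmaCore M with hK
  have hKM : K ≤ M := sigmaCore_le M
  have hMK : M ≤ Subgroup.normalizer (K : Set G) := Cfsg.Agent.Lib.H16.BG.le_normalizer_sigmaCore M
  have hAp : IsPGroup p ↥A := isPGroup_of_elemAb hAe
  have hKp : (Nat.card ↥K).Coprime p := not_sigma_of_coprime hpp hpσ
  have hsolv : Group.IsSolvable ↥M := solvable_of_coatom hG hM
  -- a nontrivial element of `A`
  have hA1 : A ≠ ⊥ := by
    intro h0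
    rw [h0, Subgroup.card_bot] at hAc
    nlinarith [hpp.one_lt]
  obtain ⟨⟨y₀, hy₀A⟩, hy₀'⟩ := (Subgroup.ne_bot_iff_exists_ne_one).1 hA1
  have hy₀1 : y₀ ≠ 1 := fun h0 => hy₀' (Subtype.ext h0)
  have hpd : p ∣ Nat.card ↥M := dvd_card_of_ne_bot hAp hAM hA1
  -- Step 1: `K ≤ C(A)`
  have hKA : K ≤ Subgroup.centralizer (A : Set G) := by
    apply le_of_forall_centralizer_le hAe (by rw [hAc]) hKp (hAM.trans hMK)
    intro y hyA hy1
    obtain ⟨hXA, hXc⟩ := line_of_mem hAe hyA hy1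
    set X := Subgroup.zpowers y with hX
    have hXp : IsPGroup p ↥X := hAp.to_le hXA
    have hX1 : X ≠ ⊥ := by
      intro h0
      rw [h0, Subgroup.card_bot] at hXc
      exact hpp.one_lt.ne hXc
    have hNtop : Subgroup.normalizer (X : Set G) ≠ ⊤ := normalizer_ne_top_of_isPGroup hG hXp hX1
    obtain ⟨L, hL, hNL⟩ := exists_coatom_ge hNtop
    have hLM : L ≠ M := fun h0 => hno X hXA hXc (h0 ▸ hNL)
    have hCL : Subgroup.centralizer (X : Set G) ≤ L :=
      (Subgroup.centralizer_le_normalizer _).trans hNL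
    have hAL : A ≤ L := (E3.le_centralizer hAe le_rfl hXA).trans hCL
    have hL' : p ∈ sigma L ∨ ∃ X : Subgroup G, Exc L p A X := by
      by_cases hpσL : p ∈ sigma L
      · exact Or.inl hpσL
      · exact Or.inr ⟨X, hL, hpσL, hAL, hAe, hAc, hXA, hXc, hNL⟩
    refine le_trans ?_ (commutator_sigmaCore_inf_le hG hM hL hLM hpσ hAM hAL hAe hAc hL')
    refine inf_le_inf_left _ ?_
    rw [Cfsg.Agent.Lib.H7.centralizer_singleton_eq_centralizer_zpowers]
    exact hCL
  -- Step 2: `M_α = 1`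
  have hα0 : alphaCore M = ⊥ := by
    by_contra hα
    have hαK : alphaCore M ≤ K := (alpha_core_hall hG hU3 hM).2.2.1
    obtain ⟨hXA, hXc⟩ := line_of_mem hAe hy₀A hy₀1
    have hX1 : Subgroup.zpowers y₀ ≠ ⊥ := fun h0 => hy₀1 (Subgroup.zpowers_eq_bot.1 h0)
    exact hno _ hXA hXc
      (normalizer_le_of_alphaCore_ne_bot hG hM hAM hAe hAc hα (hαK.trans hKA) hXA hX1)
  -- Step 3: `K ≤ F(M)`
  have hKnil : Group.IsNilpotent ↥K :=
    Cfsg.Agent.Lib.H7.BG124.sigmaCore_nilpotent_of_alphaCore_eq_bot hG hM hα0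
  set F := fittingOf M with hF
  have hKF : K ≤ F := le_fittingOf hKM hMK hKnil
  have hFnil : Group.IsNilpotent ↥F := fittingOf_isNilpotent M
  have hFM : F ≤ M := fittingOf_le M
  -- Step 4: `O_p(M) = 1`
  have hOp : piCoreOf ({p} : Set ℕ) M = ⊥ := by
    by_contra hO
    obtain ⟨X, hXA, hXc, hNX⟩ := exists_line_of_piCoreOf_ne_bot hG hM hp2 hAM hAe hAc hO
    exact hno X hXA hXc hNX
  -- Step 5: a prime `s` with `O_s(M)` not centralized by `A`
  have hex : ∃ s : ℕ, s.Prime ∧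
      ¬ piCoreOf ({s} : Set ℕ) M ≤ Subgroup.centralizer (A : Set G) := by
    by_contra hall
    push Not at hall
    have hFA : F ≤ Subgroup.centralizer (A : Set G) := by
      apply le_centralizer_of_forall_piCoreOf hFnil
      intro q hq
      exact (piCoreOf_le_piCoreOf_of_normal {q} hFM (le_normalizer_fittingOf M)).trans (hall q hq)
    have hAF : A ≤ F := by
      refine le_trans (le_inf hAM ?_) (inf_centralizer_fittingOf_le hsolv)
      exact Subgroup.le_centralizer_iff.1 hFA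
    have hAO : A ≤ piCoreOf ({p} : Set ℕ) F :=
      le_piCoreOf_of_nilpotent hFnil hAF (isPiCard_card_of_isPGroup (Set.mem_singleton p) hAp)
    have : A ≤ piCoreOf ({p} : Set ℕ) M :=
      hAO.trans (piCoreOf_le_piCoreOf_of_normal {p} hFM (le_normalizer_fittingOf M))
    rw [hOp] at this
    exact hA1 (le_bot_iff.1 this)
  obtain ⟨s, hss, hnc⟩ := hex
  haveI hsf : Fact s.Prime := ⟨hss⟩
  set U := piCoreOf ({s} : Set ℕ) M with hU
  have hsp : s ≠ p := by
    rintro rfl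
    apply hnc
    rw [hU, hOp]
    exact bot_le
  have hUs : IsPGroup s ↥U := isPGroup_piCoreOf_singleton s M
  have hMU : M ≤ Subgroup.normalizer (U : Set G) := le_normalizer_piCoreOf _ _
  have hUM : U ≤ M := piCoreOf_le _ _
  have hsσ : s ∉ sigma M := by
    intro hsσ
    apply hnc
    refine le_trans ?_ hKA
    exact isPGroup_le_sigmaCore hG hM hsσ hUM hUs
  have hU1 : U ≠ ⊥ := by
    intro h0
    apply hnc
    rw [h0]
    exact bot_le
  obtain ⟨hUc, B₀, As', hB₀U, hMB₀, hs'⟩ := hClaim hG M hM s hsσ hU1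
  have hB₀c : Nat.card ↥B₀ = s := hs'.card₀
  have hB₀1 : B₀ ≠ ⊥ := hs'.ne_bot₀
  have hcopAU : (Nat.card ↥A).Coprime (Nat.card ↥U) := by
    rw [hAc]
    obtain ⟨k, hk⟩ := IsPGroup.iff_card.1 hUs
    rw [hk]
    exact Nat.Coprime.pow 2 k ((Nat.coprime_primes hpp hss).2 hsp.symm)
  -- (1) `A` does not centralize `B₀`
  have hncB : ¬ A ≤ Subgroup.centralizer (B₀ : Set G) := fun hAB =>
    hnc (Subgroup.le_centralizer_iff.1
      (le_centralizer_of_cyclic hUc hUs (hAM.trans hMU) hcopAU hB₀U hB₀1 hAB))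
  have hAB₀ : A ≤ Subgroup.normalizer (B₀ : Set G) := hAM.trans hMB₀
  -- (2) `X₀ = C_A(B₀)` has order `p`
  set X₀ := A ⊓ Subgroup.centralizer (B₀ : Set G) with hX₀
  have hX₀c : Nat.card ↥X₀ = p :=
    card_inf_centralizer_of_card_prime hss hAe hAc hB₀c hAB₀ hncB
  have hX₀A : X₀ ≤ A := inf_le_left
  -- (3) `p < s`
  obtain ⟨a, haA, haC⟩ := Set.not_subset.1 hncB
  have hps : p < s := lt_of_not_mem_centralizer hss hB₀c (hAe.2 a haA) (hAB₀ haA) haC
  -- (4) an `A`-invariant Sylow `s`-subgroup of `M`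
  set D := piCoreOf (primesNotDvd p) M with hD
  have hcopD := coprimeAction_core_of hG hM hAM hAe hAc
  obtain ⟨R, hRs, hAR⟩ := Cfsg.Agent.Lib.H1.coprime_exists_invariant_sylow hcopD s
  have hRD : SylIn s R D := sylIn_of_isSylowOf hRs
  have hDM : D ≤ M := piCoreOf_le _ _
  have hRM : SylIn s R M := by
    refine ⟨hRD.le.trans hDM, hRD.isPGroup, ?_⟩
    rw [← Subgroup.relIndex_mul_relIndex R D M hRD.le hDM]
    intro hd
    rcases (Nat.Prime.dvd_mul hss).1 hd with h1 | h1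
    · exact hRD.2.2 h1
    · exact not_dvd_relIndex_core_of_tau2 hG hM hp2 hpd hss hps h1
  -- (5) `M` is exceptional for `s` with `A_s ≤ R`
  obtain ⟨m, hm, hle⟩ := hRM.exists_conj_le hs'.isPGroup hs'.le
  have hs2 : Exc M s cj(m, As') B₀ := by
    have := hs'.conj m
    rwa [cj_eq_self_of_mem hm, cj_eq_self_of_mem_normalizer (hMB₀ hm)] at this
  set As := cj(m, As') with hAs
  have hAsR : As ≤ R := hle
  have hΩ : ∀ x ∈ R, x ^ s = 1 ↔ x ∈ As := fun x hx => hs2.mem_iff_pow_eq_one hG hRM hAsR hx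
  have hAAs : A ≤ Subgroup.normalizer (As : Set G) := by
    intro b hb
    apply mem_normalizer_of_map_conj_le
    rintro _ ⟨x, hx, rfl⟩
    have h1 : b * x * b⁻¹ ∈ R := (Subgroup.mem_normalizer_iff.1 (hAR hb) x).1 (hAsR hx)
    apply (hΩ _ h1).1
    rw [conj_pow, hs2.elem.2 x hx]; group
  have hB₀As : B₀ ≤ As := hs2.le₀
  have hK1 : K ≠ ⊥ := hs2.sigmaCore_ne_bot hG
  -- (6) `B₁ = C_{A_s}(A) ≠ 1`
  have hcopAAs : (Nat.card ↥A).Coprime (Nat.card ↥As) := by
    rw [hAc, hs2.card]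
    exact Nat.Coprime.pow 2 2 ((Nat.coprime_primes hpp hss).2 hsp.symm)
  have hactAs : CoprimeAction A As := by
    refine ⟨hAAs, hcopAAs, Or.inl ?_⟩
    haveI := hAe.1
    exact Group.isSolvable_of_comm (fun a b => mul_comm' a b)
  have hB₁ : As ⊓ Subgroup.centralizer (A : Set G) ≠ ⊥ := by
    intro h0
    have h1 := Cfsg.Agent.Lib.H1.coprime_commutator_sup_centralizer hactAs
    rw [h0, sup_bot_eq] at h1
    have hKAbot : ⁅A, K⁆ = ⊥ := by
      rw [Subgroup.commutator_eq_bot_iff_le_centralizer]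
      exact Subgroup.le_centralizer_iff.1 hKA
    have h2 : ⁅⁅A, K⁆, As⁆ = ⊥ := by
      rw [hKAbot]
      exact Subgroup.commutator_bot_left As
    have h3 : ⁅⁅K, As⁆, A⁆ = ⊥ := by
      rw [eq_bot_iff]
      have h4 : ⁅K, As⁆ ≤ K :=
        Subgroup.le_normalizer_iff_commutator_le_left.1 (hs2.le.trans hMK)
      refine (Subgroup.commutator_mono h4 le_rfl).trans ?_
      rw [Subgroup.commutator_comm, hKAbot]
    have h5 : ⁅⁅As, A⁆, K⁆ = ⊥ := Subgroup.commutator_commutator_eq_bot_of_rotate h2 h3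
    rw [h1, Subgroup.commutator_eq_bot_iff_le_centralizer] at h5
    apply hK1
    rw [eq_bot_iff, ← hs2.inf_centralizer hG]
    exact le_inf le_rfl (Subgroup.le_centralizer_iff.1 h5)
  set B₁ := As ⊓ Subgroup.centralizer (A : Set G) with hB₁def
  -- (7) `X₀` centralizes `A_s`
  have hB₀B₁ : B₀ ⊓ B₁ = ⊥ := by
    rcases eq_bot_or_eq_of_le_of_card_prime hss hB₀c (inf_le_left : B₀ ⊓ B₁ ≤ B₀) with h0 | h0
    · exact h0
    · exfalso
      apply hncB
      have h1 : B₀ ≤ Subgroup.centralizer (A : Set G) := by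
        rw [← h0]; exact inf_le_right.trans inf_le_right
      exact Subgroup.le_centralizer_iff.1 h1
  have hsupB : B₀ ⊔ B₁ = As := by
    rcases eq_or_eq_of_le_of_card_sq hB₀c hs2.card (le_sup_left : B₀ ≤ B₀ ⊔ B₁)
      (sup_le hB₀As inf_le_left) with h0 | h0
    · exfalso
      apply hB₁
      rw [eq_bot_iff, ← hB₀B₁]
      exact le_inf (h0 ▸ le_sup_right) le_rfl
    · exact h0
  have hX₀As : X₀ ≤ Subgroup.centralizer (As : Set G) := by
    rw [← hsupB, centralizer_sup_eq]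
    refine le_inf inf_le_right (hX₀A.trans ?_)
    exact Subgroup.le_centralizer_iff.1 inf_le_right
  have hX₀1 : X₀ ≠ ⊥ := by
    intro h0
    rw [h0, Subgroup.card_bot] at hX₀c
    exact hpp.one_lt.ne hX₀c
  have hX₀p : IsPGroup p ↥X₀ := hAp.to_le hX₀A
  -- (8) a maximal subgroup `L ≥ N_G(X₀)`, `L ≠ M`, containing `A_s` and `K`
  have hNtop : Subgroup.normalizer (X₀ : Set G) ≠ ⊤ := normalizer_ne_top_of_isPGroup hG hX₀p hX₀1
  obtain ⟨L, hL, hNL⟩ := exists_coatom_ge hNtop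
  have hLM : L ≠ M := fun h0 => hno X₀ hX₀A hX₀c (h0 ▸ hNL)
  have hCL : Subgroup.centralizer (X₀ : Set G) ≤ L :=
    (Subgroup.centralizer_le_normalizer _).trans hNL
  have hAsL : As ≤ L := (Subgroup.le_centralizer_iff.1 hX₀As).trans hCL
  have hKL : K ≤ L :=
    (hKA.trans (Subgroup.centralizer_le (by exact_mod_cast hX₀A))).trans hCL
  have hΨ := hs2.psi_of_phi hG (IH s hss hps) hL hLM hAsL
  apply hK1
  rw [eq_bot_iff, ← hΨ]
  exact le_inf le_rfl hKL


theorem hPhi_of_card_lt {p : ℕ} (hpp : p.Prime) (hlt : Nat.card G < p) : HPhi G p := by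
  intro M hM hp2 A hAM hAe hAc
  exfalso
  have h1 : Nat.card ↥A ≤ Nat.card G := Nat.le_of_dvd Nat.card_pos (Subgroup.card_subgroup_dvd_card A)
  rw [hAc] at h1
  nlinarith [hpp.one_lt]

/-- **`Φ(p)` for every prime `p`**. -/
theorem hPhi (hG : IsMinSimpleOddOrder G) (p : ℕ) (hpp : p.Prime) : HPhi G p := by
  have key : ∀ n : ℕ, ∀ q : ℕ, q.Prime → Nat.card G - q = n → HPhi G q := by
    intro n
    induction n using Nat.strong_induction_on with
    | _ n ih =>
      intro q hq hn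
      haveI : Fact q.Prime := ⟨hq⟩
      by_cases hqG : Nat.card G < q
      · exact hPhi_of_card_lt hq hqG
      · apply phi_step hG
        intro s hs hqs
        by_cases hsG : Nat.card G < s
        · exact hPhi_of_card_lt hs hsG
        · exact ih (Nat.card G - s) (by omega) s hs rfl
  exact key _ p hpp rfl

/-- **BG Theorem 12.5, the key step**: for `p ∈ τ₂(M)`, `M` is exceptional for `p` and `A`. -/
theorem exists_exc_of_tau2 (hG : IsMinSimpleOddOrder G) {M : Subgroup G} (hM : IsCoatom M) {p : ℕ}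
    [hp : Fact p.Prime] (hp2 : p ∈ tau2 M) {A : Subgroup G} (hAM : A ≤ M)
    (hAe : IsElementaryAbelian p A) (hAc : Nat.card ↥A = p ^ 2) :
    ∃ A₀ : Subgroup G, Exc M p A A₀ := by
  obtain ⟨A₀, hA₀A, hA₀c, hN⟩ := hPhi hG p hp.out M hM hp2 A hAM hAe hAc
  exact ⟨A₀, hM, hp2.2.1, hAM, hAe, hAc, hA₀A, hA₀c, hN⟩

/-- **BG Theorem 12.5(e)**. -/
theorem Exc.psi (hG : IsMinSimpleOddOrder G) {p : ℕ} [hp : Fact p.Prime]
    {M A A₀ : Subgroup G} (h : Exc M p A A₀) {L : Subgroup G} (hL : IsCoatom L) (hne : L ≠ M)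
    (hAL : A ≤ L) : sigmaCore M ⊓ L = ⊥ :=
  h.psi_of_phi hG (hPhi hG p hp.out) hL hne hAL

end Cfsg.Agent.Lib.H16.BG
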