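import Mathlib
import Cfsg.Agent.Lib.H16.BG11j

/-! # Bender–Glauberman Theorem 12.5 from an exceptional configuration (helper16)

All conclusions of S1417 for `Exc M p A A₀`, given part (e). -/

set_option autoImplicit false
set_option linter.unusedSectionVars false
set_option linter.unusedVariables false
set_option linter.style.haveILetI false

namespace Cfsg.Agent.Lib.H16.BG

open Cfsg Cfsg.Agent.Lib.H7.BG7 Cfsg.Agent.Lib.H7.BG10

universe u
variable {G : Type u} [Group G] [Finite G]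

theorem Exc.conclusions (hG : IsMinSimpleOddOrder G) {M A A₀ : Subgroup G} {p : ℕ}
    [hp : Fact p.Prime] (h : Exc M p A A₀)
    (hPsi : ∀ Mstar : Subgroup G, IsCoatom Mstar → Mstar ≠ M → A ≤ Mstar →
      sigmaCore M ⊓ Mstar = ⊥) :
    Group.IsNilpotent (Cfsg.sigmaCore M) ∧
      (∀ P : Sylow p M, IsMulCommutative (P : Subgroup M) ∧
        (A ≤ (P : Subgroup M).map M.subtype →
          (∀ x ∈ (P : Subgroup M).map M.subtype, x ^ p = 1 ↔ x ∈ A) ∧
          ¬ Subgroup.normalizer ((((P : Subgroup M).map M.subtype : Subgroup G)) : Set G) ≤ M)) ∧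
      M ≤ Subgroup.normalizer ((Cfsg.sigmaCore M ⊔ A : Subgroup G) : Set G) ∧
      Cfsg.sigmaCore M ⊓ Subgroup.centralizer (A : Set G) = ⊥ ∧
      (∀ Mstar : Subgroup G, IsCoatom Mstar → Mstar ≠ M → A ≤ Mstar →
        Cfsg.sigmaCore M ⊓ Mstar = ⊥) ∧
      ∃ A₁ : Subgroup G, A₁ ≤ A ∧ Nat.card A₁ = p ∧
        Cfsg.sigmaCore M ⊓ Subgroup.centralizer (A₁ : Set G) = ⊥ := by
  refine ⟨h.nilpotent hG, ?_, h.normalizes' hG, h.inf_centralizer hG, hPsi, ?_⟩
  · intro P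
    have hP : SylIn p ((P : Subgroup M).map M.subtype) M := SylIn.of_sylow P
    have hcomm := h.sylow_comm hG hP
    refine ⟨⟨⟨?_⟩⟩, ?_⟩
    · rintro ⟨x, hx⟩ ⟨y, hy⟩
      apply Subtype.ext
      apply Subtype.ext
      have hx' : (x : G) ∈ (P : Subgroup M).map M.subtype := ⟨x, hx, rfl⟩
      have hy' : (y : G) ∈ (P : Subgroup M).map M.subtype := ⟨y, hy, rfl⟩
      exact hcomm _ hx' _ hy'
    · intro hAP
      refine ⟨fun x hx => h.mem_iff_pow_eq_one hG hP hAP hx, ?_⟩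
      exact not_normalizer_le_of_not_sigma h.not_sigma h.dvd_card_M hP
  · obtain ⟨A₁, A₂, hA₁, hA₂, hc₁, hc₂, hne, hf₁, hf₂⟩ := h.exists_two_fpf_lines hG
    exact ⟨A₁, hA₁, hc₁, hf₁⟩

end Cfsg.Agent.Lib.H16.BG
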