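import Mathlib
import Cfsg.Agent.S1417
import Cfsg.Agent.S1418
import Cfsg.Agent.S1419
import Cfsg.Agent.S1420
import Cfsg.Agent.Lib.H7.BG124
import Cfsg.Agent.Lib.H19.BG13e

/-! # The §12 hypothesis bundles are theorems (helper16)

Now that S1417–S1420 are proved, the hypotheses `Hyp1417`, `HypCent`, `H1416a`, `H1417`, `H1418`,
`H1420`, `HypNonab`, `HypTau2`, `HypNorm`, `Hyp13` used by the §12–§13 libraries hold
unconditionally. -/

set_option autoImplicit false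
set_option linter.unusedSectionVars false
set_option linter.unusedVariables false
set_option linter.style.haveILetI false

namespace Cfsg.Agent.Lib.H16.BGHyp

open Cfsg

universe u
variable {G : Type u} [Group G] [Finite G]

theorem uniq3 (hG : IsMinSimpleOddOrder G) : Cfsg.Agent.Lib.H7.BG10.Uniq3 G :=
  Cfsg.Agent.Lib.H20.BGT.uniq3 hG

theorem hyp1417 (hG : IsMinSimpleOddOrder G) : Cfsg.Agent.Lib.H8.BG12.Hyp1417 G :=
  fun M hM p _ hp A hA => Cfsg.Agent.S1417.result hG M hM p hp A hA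

theorem hypCent (hG : IsMinSimpleOddOrder G) : Cfsg.Agent.Lib.H8.BG12.HypCent G :=
  fun M hM p _ A hAM hA hAc =>
    (Cfsg.Agent.Lib.H7.BG124.thm_12_4 hG (hyp1417 hG) M hM p A ⟨hAM, hA, hAc⟩).1

theorem h1416a (hG : IsMinSimpleOddOrder G) : Cfsg.Agent.Lib.H20.BGT.H1416a G :=
  fun M hM p _ A hAM hA hAc => hypCent hG M hM p A hAM hA hAc

theorem h1417 (hG : IsMinSimpleOddOrder G) : Cfsg.Agent.Lib.H20.BGT.H1417 G :=
  fun M hM p _ hp A hA => Cfsg.Agent.S1417.result hG M hM p hp A hA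

theorem h1418 (hG : IsMinSimpleOddOrder G) : Cfsg.Agent.Lib.H19.BG13.H1418 G :=
  fun M hM E hE p _ hp A hA => Cfsg.Agent.S1418.result hG M hM E hE p hp A hA

theorem h1420 (hG : IsMinSimpleOddOrder G) : Cfsg.Agent.Lib.H19.BG13.H1420 G :=
  fun M hM E hE => Cfsg.Agent.S1420.result hG M hM E hE

theorem hypNonab (hG : IsMinSimpleOddOrder G) : Cfsg.Agent.Lib.H8.BG12.HypNonab G :=
  fun M hM E hE p _ hp hS A hAE hA hAc =>
    (Cfsg.Agent.S1419.result hG M hM E hE p hp hS A ⟨hAE, hA, hAc⟩).1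

theorem hyp13 (hG : IsMinSimpleOddOrder G) : Cfsg.Agent.Lib.H19.BG13.Hyp13 G :=
  ⟨h1416a hG, h1417 hG, h1418 hG, hypNonab hG, h1420 hG⟩

theorem hypTau2 (hG : IsMinSimpleOddOrder G) : Cfsg.Agent.Lib.H8.BG12.HypTau2 G :=
  (hyp13 hG).hypTau2

theorem hypNorm (hG : IsMinSimpleOddOrder G) : Cfsg.Agent.Lib.H8.BG12.HypNorm G :=
  (hyp13 hG).hypNorm

theorem hypBeta (hG : IsMinSimpleOddOrder G) : Cfsg.Agent.Lib.H8.BG12.HypBeta G :=
  Cfsg.Agent.Lib.H19.BG13.hypBeta hG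

end Cfsg.Agent.Lib.H16.BGHyp
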