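import Mathlib
import Cfsg.Prelude.Def_OddOrderLocal
import Cfsg.Agent.Lib.H19.HallPi

/-!
# Common lemmas for the "same exponent" assembly lemmas (BG 12.13 path)
-/

set_option autoImplicit false

namespace Cfsg.Agent.Lib.H16.SameExp

open Subgroup

variable {G : Type*} [Group G] [Finite G]

/-- A `q`-element of `E` is `E`-conjugate into any Hall `π`-subgroup of `E`, for `q ∈ π`. -/
theorem exists_conj_mem_of_hall {E H : Subgroup G} {π : Set ℕ} (hH : Cfsg.IsPiHallOf π H E)
    {q : ℕ} (hq : q.Prime) (hqπ : q ∈ π) {x : G} (hxE : x ∈ E)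
    (hx : ∃ k : ℕ, x ^ q ^ k = 1) : ∃ g ∈ E, g * x * g⁻¹ ∈ H := by
  have : Fact q.Prime := ⟨hq⟩
  obtain ⟨hHE, -, hidx⟩ := hH
  have hqn : ¬ q ∣ H.relIndex E := hidx q hq hqπ
  set H' : Subgroup E := H.subgroupOf E with hH'
  obtain ⟨Q⟩ : Nonempty (Sylow q H') := inferInstance
  set Q₁ : Subgroup E := (Q : Subgroup H').map H'.subtype with hQ₁
  have hQ₁H : Q₁ ≤ H' := by
    rw [hQ₁]; exact Subgroup.map_subtype_le _
  have hcQ : Nat.card Q₁ = Nat.card (Q : Subgroup H') :=
    Subgroup.card_map_of_injective (Subgroup.subtype_injective _)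
  have hcE : Nat.card E = Nat.card H' * H'.index := (Subgroup.card_mul_index H').symm
  have hidx' : H'.index = H.relIndex E := rfl
  have hfac : (Nat.card E).factorization q = (Nat.card H').factorization q := by
    rw [hcE, Nat.factorization_mul Nat.card_pos.ne' (by rw [hidx']; exact fun h => hqn (h ▸ dvd_zero _))]
    simp only [Finsupp.coe_add, Pi.add_apply]
    rw [hidx', Nat.factorization_eq_zero_of_not_dvd hqn, add_zero]
  have hcard : Nat.card Q₁ = q ^ (Nat.card E).factorization q := by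
    rw [hcQ, hfac]; exact Sylow.card_eq_multiplicity Q
  let P : Sylow q E := Sylow.ofCard Q₁ hcard
  have hPQ : (P : Subgroup E) = Q₁ := rfl
  -- the cyclic group generated by x
  have hxq : IsPGroup q (Subgroup.zpowers (⟨x, hxE⟩ : E)) := by
    obtain ⟨k, hk⟩ := hx
    rw [IsPGroup]
    intro g
    refine ⟨k, ?_⟩
    obtain ⟨g, hg⟩ := g
    obtain ⟨n, rfl⟩ := Subgroup.mem_zpowers_iff.1 hg
    apply Subtype.ext
    simp only [Subgroup.coe_pow, Subgroup.coe_one]
    rw [← zpow_natCast, ← zpow_mul, mul_comm, zpow_mul, zpow_natCast]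
    have : (⟨x, hxE⟩ : E) ^ q ^ k = 1 := by
      apply Subtype.ext
      simpa using hk
    rw [this, one_zpow]
  obtain ⟨P₂, hP₂⟩ := hxq.exists_le_sylow
  obtain ⟨g, hg⟩ := MulAction.exists_smul_eq E P₂ P
  refine ⟨g, g.2, ?_⟩
  have hxP₂ : (⟨x, hxE⟩ : E) ∈ (P₂ : Subgroup E) := hP₂ (Subgroup.mem_zpowers _)
  have h1 : g * ⟨x, hxE⟩ * g⁻¹ ∈ (P : Subgroup E) := by
    rw [← hg, Sylow.coe_subgroup_smul]
    exact ⟨_, hxP₂, rfl⟩
  rw [hPQ] at h1
  have h2 := hQ₁H h1
  rw [hH', Subgroup.mem_subgroupOf] at h2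
  simpa using h2

/-- If every element of prime power order in `E` has order dividing `n`, then the
exponent of `E` divides `n`. -/
theorem exponent_dvd_of_forall_prime_pow {E : Subgroup G} {n : ℕ}
    (h : ∀ x ∈ E, ∀ q : ℕ, q.Prime → (∃ k : ℕ, x ^ q ^ k = 1) → orderOf x ∣ n) :
    Monoid.exponent E ∣ n := by
  apply Monoid.exponent_dvd_of_forall_pow_eq_one
  intro g
  rw [← orderOf_dvd_iff_pow_eq_one, Nat.dvd_iff_prime_pow_dvd_dvd]
  intro q k hq hqk
  have hpos : 0 < orderOf g := orderOf_pos g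
  have hqk0 : 0 < q ^ k := Nat.pos_of_dvd_of_pos hqk hpos
  set m := orderOf g / q ^ k with hm
  have hmd : m ∣ orderOf g := Nat.div_dvd_of_dvd hqk
  have hm0 : m ≠ 0 := by
    intro h0
    have := Nat.div_mul_cancel hqk
    rw [← hm, h0, zero_mul] at this
    omega
  have hord : orderOf (g ^ m) = q ^ k := by
    rw [orderOf_pow_of_dvd hm0 hmd, hm, Nat.div_div_self hqk hpos.ne']
  have h1 := h ((g ^ m : E) : G) (g ^ m).2 q hq ⟨k, by
    have : (g ^ m) ^ q ^ k = 1 := by rw [← hord]; exact pow_orderOf_eq_one _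
    have := congrArg (Subtype.val) this
    simpa using this⟩
  rw [Subgroup.orderOf_coe, hord] at h1
  exact h1

omit [Finite G] in
/-- Exponent of a subgroup divides exponent of a bigger one. -/
theorem exponent_dvd_of_le {E₀ E : Subgroup G} (h : E₀ ≤ E) :
    Monoid.exponent E₀ ∣ Monoid.exponent E :=
  Monoid.exponent_dvd_of_monoidHom (Subgroup.inclusion h) (Subgroup.inclusion_injective h)

omit [Finite G] in
/-- Order of an element of a subgroup divides its exponent. -/
theorem orderOf_dvd_exponent_of_mem {E : Subgroup G} {x : G} (hx : x ∈ E) :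
    orderOf x ∣ Monoid.exponent E := by
  have := Monoid.order_dvd_exponent (⟨x, hx⟩ : E)
  rwa [← Subgroup.orderOf_coe] at this

omit [Finite G] in
theorem orderOf_conj' (g x : G) : orderOf (g * x * g⁻¹) = orderOf x :=
  orderOf_injective (MulAut.conj g).toMonoidHom (MulAut.conj g).injective x

end Cfsg.Agent.Lib.H16.SameExp
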