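import Mathlib
import Cfsg.Prelude.Def_OddOrderLocal
import Cfsg.Agent.Lib.H19.HallPi
import Cfsg.Agent.Lib.H16.SameExp

/-!
# (P3, AB assembly) same exponent subgroup from a commuting family of `p`-subgroups
-/

set_option autoImplicit false

namespace Cfsg.Agent.Lib.H16.SameExp

open Subgroup Cfsg

variable {G : Type*} [Group G] [Finite G]

/-- membership by counting: if `x ∈ L` normalizes `V ≤ L`, `|L|` divides `|V| * m` and
`o(x) * |V|` is coprime to `m`, then `x ∈ V`. -/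
theorem mem_of_card_coprime {V L : Subgroup G} {x : G} {m : ℕ} (hVL : V ≤ L) (hxL : x ∈ L)
    (hxV : x ∈ normalizer (V : Set G)) (hL : Nat.card L ∣ Nat.card V * m)
    (hcop : (orderOf x * Nat.card V).Coprime m) : x ∈ V := by
  set V₁ : Subgroup G := Subgroup.zpowers x ⊔ V with hV₁
  have hzN : Subgroup.zpowers x ≤ normalizer (V : Set G) := by
    rw [Subgroup.zpowers_le]; exact hxV
  have h1 : Nat.card V₁ ∣ orderOf x * Nat.card V := by
    have := Cfsg.Agent.Lib.H19.card_sup_dvd_mul_of_le_normalizer hzN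
    rwa [Nat.card_zpowers] at this
  have hV₁L : V₁ ≤ L := sup_le (by rw [Subgroup.zpowers_le]; exact hxL) hVL
  have h2 : Nat.card V₁ ∣ Nat.card V * m := dvd_trans (Subgroup.card_dvd_of_le hV₁L) hL
  have h3 : (Nat.card V₁).Coprime m := Nat.Coprime.coprime_dvd_left h1 hcop
  have h4 : Nat.card V₁ ∣ Nat.card V := h3.dvd_of_dvd_mul_right h2
  have h5 : V = V₁ := Subgroup.eq_of_le_of_card_ge le_sup_right
    (Nat.le_of_dvd Nat.card_pos h4)
  rw [h5]
  exact le_sup_left (a := Subgroup.zpowers x) (Subgroup.mem_zpowers x)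

/-- the join of the members of a family indexed by a set of primes -/
def famSup (T : ℕ → Subgroup G) (σ : Set ℕ) : Subgroup G := ⨆ p : σ, T p

omit [Finite G] in
theorem le_famSup (T : ℕ → Subgroup G) {σ : Set ℕ} {p : ℕ} (hp : p ∈ σ) : T p ≤ famSup T σ :=
  le_iSup (fun p : σ => T p) ⟨p, hp⟩

omit [Finite G] in
theorem famSup_mono (T : ℕ → Subgroup G) {σ τ : Set ℕ} (h : σ ⊆ τ) : famSup T σ ≤ famSup T τ :=
  iSup_le fun p => le_famSup T (h p.2)

omit [Finite G] in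
theorem famSup_comm {T : ℕ → Subgroup G} {σ : Set ℕ}
    (hcomm : ∀ p ∈ σ, ∀ q ∈ σ, ∀ x ∈ T p, ∀ y ∈ T q, x * y = y * x) :
    ∀ x ∈ famSup T σ, ∀ y ∈ famSup T σ, x * y = y * x := by
  have h : famSup T σ ≤ centralizer (famSup T σ : Set G) := by
    refine iSup_le fun p => ?_
    rw [Subgroup.le_centralizer_iff]
    refine iSup_le fun q => ?_
    intro y hy
    rw [Subgroup.mem_centralizer_iff]
    intro x hx
    exact hcomm p p.2 q q.2 x hx y hy
  intro x hx y hy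
  exact ((Subgroup.mem_centralizer_iff.1 (h hx)) y hy).symm

omit [Finite G] in
theorem famSup_orderOf {T : ℕ → Subgroup G} {σ : Set ℕ} (hσ : ∀ p ∈ σ, p.Prime)
    (hTp : ∀ p ∈ σ, IsPGroup p ↥(T p))
    (hcomm : ∀ p ∈ σ, ∀ q ∈ σ, ∀ x ∈ T p, ∀ y ∈ T q, x * y = y * x) :
    ∀ x ∈ famSup T σ, ∀ r : ℕ, r.Prime → r ∣ orderOf x → r ∈ σ := by
  intro x hx
  have key : x ∈ famSup T σ ∧ ∀ r : ℕ, r.Prime → r ∣ orderOf x → r ∈ σ := by
    refine Subgroup.iSup_induction (fun p : σ => T p)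
      (C := fun x => x ∈ famSup T σ ∧ ∀ r : ℕ, r.Prime → r ∣ orderOf x → r ∈ σ) hx ?_ ?_ ?_
    · intro p y hy
      refine ⟨le_famSup T p.2 hy, ?_⟩
      intro r hr hrd
      obtain ⟨k, hk⟩ := (hTp p p.2) ⟨y, hy⟩
      have h1 : y ^ (p : ℕ) ^ k = 1 := by
        have := congrArg Subtype.val hk
        simpa using this
      have h2 : orderOf y ∣ (p : ℕ) ^ k := orderOf_dvd_of_pow_eq_one h1
      have h3 : r ∣ (p : ℕ) := hr.dvd_of_dvd_pow (dvd_trans hrd h2)
      have h4 := (Nat.prime_dvd_prime_iff_eq hr (hσ p p.2)).1 h3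
      rw [h4]; exact p.2
    · refine ⟨one_mem _, ?_⟩
      intro r hr hrd
      rw [orderOf_one] at hrd
      exact absurd (Nat.dvd_one.1 hrd) hr.ne_one
    · intro y z hy hz
      refine ⟨mul_mem hy.1 hz.1, ?_⟩
      intro r hr hrd
      have hc : Commute y z := famSup_comm hcomm y hy.1 z hz.1
      have h1 : r ∣ Nat.lcm (orderOf y) (orderOf z) := dvd_trans hrd hc.orderOf_mul_dvd_lcm
      have h2 : r ∣ orderOf y * orderOf z := dvd_trans h1 (Nat.lcm_dvd_mul _ _)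
      rcases (Nat.Prime.dvd_mul hr).1 h2 with h | h
      · exact hy.2 r hr h
      · exact hz.2 r hr h
  exact key.2

theorem famSup_card {T : ℕ → Subgroup G} {σ : Set ℕ} (hσ : ∀ p ∈ σ, p.Prime)
    (hTp : ∀ p ∈ σ, IsPGroup p ↥(T p))
    (hcomm : ∀ p ∈ σ, ∀ q ∈ σ, ∀ x ∈ T p, ∀ y ∈ T q, x * y = y * x) :
    ∀ r : ℕ, r.Prime → r ∣ Nat.card (famSup T σ) → r ∈ σ := by
  intro r hr hrd
  have : Fact r.Prime := ⟨hr⟩
  obtain ⟨x, hx⟩ := exists_prime_orderOf_dvd_card' r hrd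
  have h1 : orderOf (x : G) = r := by rw [Subgroup.orderOf_coe]; exact hx
  exact famSup_orderOf hσ hTp hcomm x x.2 r hr (by rw [h1])

omit [Finite G] in
theorem famSup_normalizer {T : ℕ → Subgroup G} {σ : Set ℕ} {H : Subgroup G}
    (hHT : ∀ p ∈ σ, H ≤ normalizer (T p : Set G)) : H ≤ normalizer (famSup T σ : Set G) := by
  have key : ∀ h ∈ H, ∀ n ∈ famSup T σ, h * n * h⁻¹ ∈ famSup T σ := by
    intro h hh n hn
    refine Subgroup.iSup_induction (fun p : σ => T p)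
      (C := fun n => h * n * h⁻¹ ∈ famSup T σ) hn ?_ ?_ ?_
    · intro p y hy
      exact le_famSup T p.2 ((Subgroup.mem_normalizer_iff.1 (hHT p p.2 hh) y).1 hy)
    · simp
    · intro y z hy hz
      have : h * (y * z) * h⁻¹ = (h * y * h⁻¹) * (h * z * h⁻¹) := by group
      rw [this]; exact mul_mem hy hz
  intro h hh
  rw [Subgroup.mem_normalizer_iff]
  intro n
  refine ⟨key h hh n, fun hn => ?_⟩
  have := key h⁻¹ (inv_mem hh) _ hn
  have h2 : h⁻¹ * (h * n * h⁻¹) * h⁻¹⁻¹ = n := by group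
  rwa [h2] at this

theorem exists_same_exponent_of_family {E H : Subgroup G}
    {π : Set ℕ} (hπ : ∀ p ∈ π, p.Prime) (hH : Cfsg.IsPiHallOf πᶜ H E) (T : ℕ → Subgroup G)
    (hTE : ∀ p ∈ π, T p ≤ E) (hTp : ∀ p ∈ π, IsPGroup p ↥(T p))
    (hHT : ∀ p ∈ π, H ≤ normalizer (T p : Set G))
    (hcomm : ∀ p ∈ π, ∀ q ∈ π, ∀ x ∈ T p, ∀ y ∈ T q, x * y = y * x)
    (hexp : ∀ p ∈ π, ∀ x ∈ E, (∃ k : ℕ, x ^ p ^ k = 1) → ∃ t ∈ T p, orderOf x ∣ orderOf t) :
    ∃ E₀ : Subgroup G, E₀ ≤ E ∧ Monoid.exponent ↥E₀ = Monoid.exponent ↥E ∧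
      ∀ x ∈ E₀, ∀ p ∈ π, orderOf x = p → x ∈ T p := by
  set B : Subgroup G := famSup T π with hB
  set E₀ : Subgroup G := H ⊔ B with hE₀
  have hBE : B ≤ E := iSup_le fun p => hTE p p.2
  have hE₀E : E₀ ≤ E := sup_le hH.1 hBE
  have hHE₀ : H ≤ E₀ := le_sup_left
  have hBE₀ : B ≤ E₀ := le_sup_right
  have hHB : H ≤ normalizer (B : Set G) := famSup_normalizer hHT
  have hE₀N : E₀ ≤ normalizer (B : Set G) := sup_le hHB Subgroup.le_normalizer
  have hBcomm := famSup_comm (T := T) (σ := π) hcomm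
  have hBcard := famSup_card (T := T) (σ := π) hπ hTp hcomm
  have hcE₀ : Nat.card E₀ ∣ Nat.card B * Nat.card H := by
    have := Cfsg.Agent.Lib.H19.card_sup_dvd_mul_of_le_normalizer hHB
    rwa [mul_comm] at this
  refine ⟨E₀, hE₀E, ?_, ?_⟩
  · apply Nat.dvd_antisymm (exponent_dvd_of_le hE₀E)
    apply exponent_dvd_of_forall_prime_pow
    intro x hx q hq hxq
    by_cases hqπ : q ∈ π
    · obtain ⟨t, ht, hxt⟩ := hexp q hqπ x hx hxq
      exact dvd_trans hxt (orderOf_dvd_exponent_of_mem (hBE₀ (le_famSup T hqπ ht)))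
    · obtain ⟨g, -, hg⟩ := exists_conj_mem_of_hall hH hq (show q ∈ πᶜ from hqπ) hx hxq
      have := orderOf_dvd_exponent_of_mem (hHE₀ hg)
      rwa [orderOf_conj'] at this
  · intro x hx p hp hxp
    have hpp : p.Prime := hπ p hp
    -- first, `x ∈ B`
    have hxB : x ∈ B := by
      refine mem_of_card_coprime hBE₀ hx (hE₀N hx) hcE₀ ?_
      apply Nat.coprime_of_dvd
      intro k hk hk1 hk2
      have hkπ : k ∈ π := by
        rcases (Nat.Prime.dvd_mul hk).1 hk1 with h | h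
        · rw [hxp] at h
          rw [(Nat.prime_dvd_prime_iff_eq hk hpp).1 h]; exact hp
        · exact hBcard k hk h
      exact hH.2.1 k hk hk2 hkπ
    -- then, `x ∈ T p`
    set B' : Subgroup G := famSup T (π \ {p}) with hB'
    have hB'B : B' ≤ B := famSup_mono T Set.sdiff_subset
    have hTpB : T p ≤ B := le_famSup T hp
    have hBle : B ≤ T p ⊔ B' := by
      refine iSup_le fun q => ?_
      by_cases hqp : (q : ℕ) = p
      · rw [hqp]; exact le_sup_left
      · exact le_trans (le_famSup T (⟨q.2, hqp⟩ : (q : ℕ) ∈ π \ {p})) le_sup_right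
    have hTpN : T p ≤ normalizer (B' : Set G) := by
      refine le_trans ?_ (Subgroup.centralizer_le_normalizer _)
      intro t ht
      rw [Subgroup.mem_centralizer_iff]
      intro y hy
      exact hBcomm y (hB'B hy) t (hTpB ht)
    have hcL : Nat.card (T p ⊔ B' : Subgroup G) ∣ Nat.card (T p) * Nat.card B' :=
      Cfsg.Agent.Lib.H19.card_sup_dvd_mul_of_le_normalizer hTpN
    have hB'card : ¬ p ∣ Nat.card B' := by
      intro h
      have := famSup_card (T := T) (σ := π \ {p}) (fun q hq => hπ q hq.1)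
        (fun q hq => hTp q hq.1)
        (fun q hq r hr => hcomm q hq.1 r hr.1) p hpp h
      exact this.2 rfl
    have hxN : x ∈ normalizer (T p : Set G) := by
      apply Subgroup.centralizer_le_normalizer
      rw [Subgroup.mem_centralizer_iff]
      intro y hy
      exact hBcomm y (hTpB hy) x hxB
    refine mem_of_card_coprime le_sup_left (hBle hxB) hxN hcL ?_
    have hpf : Fact p.Prime := ⟨hpp⟩
    obtain ⟨n, hn⟩ := IsPGroup.iff_card.1 (hTp p hp)
    rw [hxp, hn, ← pow_succ']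
    exact Nat.Coprime.pow_left _ ((Nat.Prime.coprime_iff_not_dvd hpp).2 hB'card)

end Cfsg.Agent.Lib.H16.SameExp
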