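import Mathlib
import Cfsg.Agent.Lib.H16.BGHyp
import Cfsg.Agent.Lib.H20.BGT6
import Cfsg.Agent.Lib.H7.BG14a
import Cfsg.Agent.Lib.H16.SameExp3

/-!
# BG Lemma 13.4 (S1428), part 1 (helper16): supplements

* `comm_le_sup_comm`, `not_dvd_card_commutator_of_supplement`, `isCyclic_of_supplement`:
  if `Ms = K L` with `K ⊴ Ms` a `p'`-group, then the `p`-structure of `Ms` is that of `L`;
* `supplement_beta`: BG 12.13(d) (`M* = M*_β (M ∩ M*)`).
-/

set_option autoImplicit false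
set_option linter.style.haveILetI false
set_option linter.unusedSectionVars false
set_option linter.unusedVariables false

open Cfsg

namespace Cfsg.Agent.Lib.H16.BG134

open Cfsg.Agent.Lib.H16.BG
open Cfsg.Agent.Lib.H7.BG7
open Cfsg.Agent.Lib.H7.BG10
open Cfsg.Agent.Lib.H20.BGT
open Cfsg.Agent.Lib.H19 (IsPiCard)
open scoped commutatorElement

universe u v
variable {G : Type u} [Group G] [Finite G]

local notation:max "cj(" g ", " X ")" => Subgroup.map (MulEquiv.toMonoidHom (MulAut.conj g)) X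

/-! ### Abstract supplement lemmas -/

/-- If `Ms = K L` with `K` normalized by `L`, then `Ms' ≤ K L'`. -/
theorem comm_le_sup_comm {K L Ms : Subgroup G} (hKn : Ms ≤ Subgroup.normalizer (K : Set G))
    (hK : K ≤ Ms) (hL : L ≤ Ms) (hsup : K ⊔ L = Ms) : ⁅Ms, Ms⁆ ≤ K ⊔ ⁅L, L⁆ := by
  rw [Subgroup.commutator_le]
  intro x hx y hy
  have hLn : L ≤ Subgroup.normalizer (K : Set G) := hL.trans hKn
  obtain ⟨k₁, hk₁, l₁, hl₁, rfl⟩ := Cfsg.Agent.Lib.H1.mem_sup_of_le_normalizer hLn (hsup ▸ hx)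
  obtain ⟨k₂, hk₂, l₂, hl₂, rfl⟩ := Cfsg.Agent.Lib.H1.mem_sup_of_le_normalizer hLn (hsup ▸ hy)
  have e : ⁅k₁ * l₁, k₂ * l₂⁆ =
      (k₁ * (l₁ * k₂ * l₁⁻¹)) * ⁅l₁, l₂⁆ * ((l₂ * k₁⁻¹ * l₂⁻¹) * k₂⁻¹) := by
    simp only [commutatorElement_def]; group
  rw [e]
  have h1 : l₁ * k₂ * l₁⁻¹ ∈ K := (Subgroup.mem_normalizer_iff.1 (hLn hl₁) k₂).1 hk₂
  have h2 : l₂ * k₁⁻¹ * l₂⁻¹ ∈ K := (Subgroup.mem_normalizer_iff.1 (hLn hl₂) k₁⁻¹).1 (inv_mem hk₁)
  have h3 : ⁅l₁, l₂⁆ ∈ ⁅L, L⁆ := Subgroup.commutator_mem_commutator hl₁ hl₂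
  refine mul_mem (mul_mem ?_ ?_) ?_
  · exact le_sup_left (a := K) (mul_mem hk₁ h1)
  · exact le_sup_right (a := K) h3
  · exact le_sup_left (a := K) (mul_mem h2 (inv_mem hk₂))

/-- If `Ms = K L`, `K ⊴ Ms`, `p ∤ |K|` and `p ∤ |L'|`, then `p ∤ |Ms'|`. -/
theorem not_dvd_card_commutator_of_supplement {p : ℕ} (hp : p.Prime) {K L Ms : Subgroup G}
    (hKn : Ms ≤ Subgroup.normalizer (K : Set G)) (hK : K ≤ Ms) (hL : L ≤ Ms) (hsup : K ⊔ L = Ms)
    (hpK : ¬ p ∣ Nat.card K) (hpL : ¬ p ∣ Nat.card ↥⁅L, L⁆) : ¬ p ∣ Nat.card ↥⁅Ms, Ms⁆ := by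
  intro hd
  have h1 := Subgroup.card_dvd_of_le (comm_le_sup_comm hKn hK hL hsup)
  have hLL : ⁅L, L⁆ ≤ Subgroup.normalizer (K : Set G) :=
    ((Subgroup.commutator_le_self L).trans hL).trans hKn
  have h2 := Cfsg.Agent.Lib.H19.card_sup_dvd_mul_of_le_normalizer hLL
  rw [sup_comm] at h2
  rcases (Nat.Prime.dvd_mul hp).1 ((hd.trans h1).trans h2) with h | h
  · exact hpL h
  · exact hpK h

/-- If `Ms = K L`, `K ⊴ Ms`, `p ∤ |K|`, then a Sylow `p`-subgroup of `L` is one of `Ms`. -/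
theorem sylIn_of_supplement {p : ℕ} [Fact p.Prime] {K L Ms T : Subgroup G}
    (hKn : Ms ≤ Subgroup.normalizer (K : Set G)) (hK : K ≤ Ms) (hL : L ≤ Ms) (hsup : K ⊔ L = Ms)
    (hpK : ¬ p ∣ Nat.card K) (hT : SylIn p T L) : SylIn p T Ms := by
  have hp : p.Prime := Fact.out
  refine ⟨hT.le.trans hL, hT.isPGroup, ?_⟩
  intro hd
  have h1 : T.relIndex Ms = T.relIndex L * L.relIndex Ms :=
    (Subgroup.relIndex_mul_relIndex T L Ms hT.le hL).symm
  have h2 : L.relIndex Ms ∣ Nat.card K := by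
    have := Cfsg.Agent.Lib.H19.relIndex_sup_dvd_card (U := L) (N := K) (hL.trans hKn)
    rwa [sup_comm, hsup] at this
  rw [h1] at hd
  rcases (Nat.Prime.dvd_mul hp).1 hd with h | h
  · exact hT.2.2 h
  · exact hpK (h.trans h2)

/-- If `Ms = K L`, `K ⊴ Ms`, `p ∤ |K|` and the `p`-subgroups of `L` are cyclic, then so are those
of `Ms`. -/
theorem isCyclic_of_supplement {p : ℕ} [Fact p.Prime] {K L Ms : Subgroup G}
    (hKn : Ms ≤ Subgroup.normalizer (K : Set G)) (hK : K ≤ Ms) (hL : L ≤ Ms) (hsup : K ⊔ L = Ms)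
    (hpK : ¬ p ∣ Nat.card K) (hcyc : ∀ T : Subgroup G, T ≤ L → IsPGroup p T → IsCyclic ↥T)
    {T : Subgroup G} (hTM : T ≤ Ms) (hT : IsPGroup p T) : IsCyclic ↥T := by
  obtain ⟨T₁, hT₁⟩ := SylIn.exists_sylIn p L
  have hT₁' : SylIn p T₁ Ms := sylIn_of_supplement hKn hK hL hsup hpK hT₁
  obtain ⟨m, -, hm⟩ := hT₁'.exists_conj_le hT hTM
  exact Cfsg.Agent.Lib.H19.BG13.isCyclic_of_map_conj_le (hcyc T₁ hT₁.le hT₁.isPGroup) hm

/-! ### `M'/M_β` is nilpotent -/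

/-- the image of `M'` in `M/M_β` is nilpotent (from BG Theorem 10.8). -/
theorem commutator_map_beta_nilpotent (hG : IsMinSimpleOddOrder G) {M : Subgroup G}
    (hM : IsCoatom M) :
    Group.IsNilpotent ↥((commutator ↥M).map (QuotientGroup.mk' (piCore (beta M) ↥M))) := by
  have hU := Cfsg.Agent.Lib.H20.BGT.uniq3 hG
  set K := piCore (beta M) ↥M with hK
  set π := QuotientGroup.mk' K with hπ
  set D : Subgroup (↥M ⧸ K) := (commutator ↥M).map π with hD
  apply isNilpotent_of_forall_hasNormalPComplement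
  intro r hr
  haveI : Fact r.Prime := ⟨hr⟩
  by_cases hrβ : r ∈ beta M
  · -- `r` does not divide `|M/M_β|`
    apply Cfsg.Agent.Lib.L0.hasNormalPComplement_of_not_dvd
    intro hd
    have h1 : Nat.card ↥D ∣ Nat.card (↥M ⧸ K) := Subgroup.card_subgroup_dvd_card D
    have h2 : Nat.card (↥M ⧸ K) = K.index := by
      rw [Subgroup.index_eq_card]
    have h3 := (beta_core_theorem hG hU hM).1.2.2 r hr hrβ
    have hrel : (piCoreOf (beta M) M).relIndex M = K.index := by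
      unfold piCoreOf Subgroup.relIndex
      rw [Subgroup.subgroupOf, Subgroup.comap_map_eq_self_of_injective M.subtype_injective]
    rw [hrel] at h3
    exact h3 (hd.trans (h2 ▸ h1))
  · have h1 := (not_beta_complement hG hU hM hr hrβ).1
    let f : ↥(commutator ↥M) →* ↥D := (π.comp (commutator ↥M).subtype).codRestrict D (by
      intro x
      exact ⟨x, x.2, rfl⟩)
    have hf : Function.Surjective f := by
      rintro ⟨y, x, hx, rfl⟩
      exact ⟨⟨x, hx⟩, Subtype.ext rfl⟩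
    exact Cfsg.Agent.Lib.L0.HasNormalPComplement.of_surjective f hf h1

/-- **BG 12.13(d)**: if `q ∈ σ(M*)`, `S` is a Sylow `q`-subgroup of `M*` and `N_G(S) ≤ M`, then
`M* = M*_β (M ∩ M*)` (supplement form inside `↥M*`). -/
theorem supplement_beta (hG : IsMinSimpleOddOrder G) {M Mstar : Subgroup G}
    (hMs : IsCoatom Mstar) {q : ℕ} [Fact q.Prime] (hq : q ∈ sigma Mstar) {S : Subgroup G}
    (hS : SylIn q S Mstar) (hNS : Subgroup.normalizer (S : Set G) ≤ M) :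
    piCore (beta Mstar) ↥Mstar ⊔ (M ⊓ Mstar).subgroupOf Mstar = ⊤ := by
  have hU := Cfsg.Agent.Lib.H20.BGT.uniq3 hG
  have hnil := commutator_map_beta_nilpotent hG hMs
  obtain ⟨P, hPq, hPi, hPc⟩ := exists_sylow_le_commutator_type hG hU hMs hq.1 hq
  have hSq : IsPGroup q (S.subgroupOf Mstar) := hS.isPGroup.comap_subtype
  have hSi : ¬ q ∣ (S.subgroupOf Mstar).index := hS.2.2
  have hSc : S.subgroupOf Mstar ≤ commutator ↥Mstar := le_commutator_of_sylow hPq hPi hPc hSq hSi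
  have h1 := normalizer_sup_eq_top_of_nilpotent_quotient (piCore (beta Mstar) ↥Mstar)
    (S.subgroupOf Mstar) hSq hSi hSc hnil
  rw [eq_top_iff, ← h1]
  apply sup_le _ le_sup_left
  refine le_trans ?_ le_sup_right
  intro t ht
  rw [Subgroup.mem_subgroupOf]
  exact ⟨hNS (coe_mem_normalizer_of_mem_normalizer_subgroupOf hS.le ht), t.2⟩

/-- ambient form of a supplement inside `↥Ms`. -/
theorem sup_eq_of_subgroupOf_sup_eq_top {Ms L : Subgroup G} (K : Subgroup ↥Ms) (hL : L ≤ Ms)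
    (h : K ⊔ L.subgroupOf Ms = ⊤) : K.map Ms.subtype ⊔ L = Ms := by
  have h1 := congrArg (Subgroup.map Ms.subtype) h
  rw [Subgroup.map_sup, Subgroup.map_subgroupOf_eq_of_le hL, ← MonoidHom.range_eq_map,
    Subgroup.range_subtype] at h1
  exact h1

end Cfsg.Agent.Lib.H16.BG134
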