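import Mathlib
import Cfsg.Agent.Lib.H16.BG134a

/-!
# BG Lemma 12.13(d) / 12.15(d) first part (helper16)

`sigma_embedding_d'`: if `q ∈ σ(M) ∩ σ(M*)`, `X ≠ 1` a `q`-subgroup of `M` with
`N_G(X) ≤ M* ≠ M`, then `M* = M*_β (M ∩ M*)`.
-/

set_option autoImplicit false
set_option linter.style.haveILetI false
set_option linter.unusedSectionVars false
set_option linter.unusedVariables false

open Cfsg

namespace Cfsg.Agent.Lib.H16.BG134

open Cfsg.Agent.Lib.H16.BG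
open Cfsg.Agent.Lib.H7.BG7
open Cfsg.Agent.Lib.H20.BGT
open scoped commutatorElement

universe u v
variable {G : Type u} [Group G] [Finite G]

local notation:max "cj(" g ", " X ")" => Subgroup.map (MulEquiv.toMonoidHom (MulAut.conj g)) X

/-- **BG 12.13(d)** as a subgroup identity: `M*_β (M ∩ M*) = M*`. -/
theorem sigma_embedding_sup (hG : IsMinSimpleOddOrder G) {M Ms : Subgroup G} (hM : IsCoatom M)
    (hMs : IsCoatom Ms) (hne : Ms ≠ M) {q : ℕ} [Fact q.Prime] (hq : q ∈ sigma M)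
    (hqs : q ∈ sigma Ms) {X : Subgroup G} (hXq : IsPGroup q X) (hX1 : X ≠ ⊥) (hXM : X ≤ M)
    (hNX : Subgroup.normalizer (X : Set G) ≤ Ms) :
    piCoreOf (beta Ms) Ms ⊔ (M ⊓ Ms) = Ms := by
  have hXMs : X ≤ Ms := Subgroup.le_normalizer.trans hNX
  obtain ⟨S, hS, hXS⟩ := SylIn.exists_ge (p := q) hXq (le_inf hXM hXMs)
  obtain ⟨-, hNS, hS'⟩ := sigma_subgroup_embedding hG (Cfsg.Agent.Lib.H16.BGHyp.h1416a hG) hM hq
    hXq hX1 hXM hMs hne hNX hS hXS
  have h := supplement_beta hG (M := M) hMs hqs hS' hNS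
  exact sup_eq_of_subgroupOf_sup_eq_top _ inf_le_right h

/-- **BG 12.13(d)** elementwise (the shape requested by helper19, board #1202/#1217). -/
theorem sigma_embedding_d' (hG : IsMinSimpleOddOrder G) {M Ms : Subgroup G} (hM : IsCoatom M)
    (hMs : IsCoatom Ms) (hne : Ms ≠ M) {q : ℕ} [Fact q.Prime] (hq : q ∈ sigma M)
    (hqs : q ∈ sigma Ms) {X : Subgroup G} (hXq : IsPGroup q X) (hX1 : X ≠ ⊥) (hXM : X ≤ M)
    (hNX : Subgroup.normalizer (X : Set G) ≤ Ms) :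
    ∀ m ∈ Ms, ∃ k ∈ piCoreOf (beta Ms) Ms, ∃ n ∈ M ⊓ Ms, m = k * n := by
  intro m hm
  have h := sigma_embedding_sup hG hM hMs hne hq hqs hXq hX1 hXM hNX
  have hn : M ⊓ Ms ≤ Subgroup.normalizer ((piCoreOf (beta Ms) Ms : Subgroup G) : Set G) :=
    inf_le_right.trans (le_normalizer_piCoreOf _ _)
  rw [← h] at hm
  obtain ⟨k, hk, n, hn', rfl⟩ := Cfsg.Agent.Lib.H1.mem_sup_of_le_normalizer hn hm
  exact ⟨k, hk, n, hn', rfl⟩

end Cfsg.Agent.Lib.H16.BG134
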