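import Mathlib
import Cfsg.Agent.Lib.H16.BG134a
import Cfsg.Agent.S1414
import Cfsg.Agent.S1423
import Cfsg.Agent.Lib.H7.CoreOf

/-!
# BG Lemma 13.4 (S1428), part 2 (helper16): BG 12.13(e2)

In the situation `q ∈ σ(M)`, `q ∉ σ(M*)`, `S ≤ M` a noncyclic Sylow `q`-subgroup of `M*`:
every prime of `π(M) ∩ σ(M*)` lies in `β(M*)`.
-/

set_option autoImplicit false
set_option linter.style.haveILetI false
set_option linter.unusedSectionVars false
set_option linter.unusedVariables false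

open Cfsg

namespace Cfsg.Agent.Lib.H16.BG134

open Cfsg.Agent.Lib.H16.BG
open Cfsg.Agent.Lib.H7.BG7
open Cfsg.Agent.Lib.H7.BG10
open Cfsg.Agent.Lib.H20.BGT
open Cfsg.Agent.Lib.H19 (IsPiCard)
open Cfsg.Agent.Lib.H1 (CoprimeAction)
open scoped commutatorElement

universe u v
variable {G : Type u} [Group G] [Finite G]

local notation:max "cj(" g ", " X ")" => Subgroup.map (MulEquiv.toMonoidHom (MulAut.conj g)) X

/-- an `r`-subgroup of `U` lies in every normal subgroup of `U` of index prime to `r`. -/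
theorem le_of_isPGroup_of_not_dvd_relIndex {r : ℕ} [Fact r.Prime] {N U T : Subgroup G}
    (hNU : N ≤ U) (hUN : U ≤ Subgroup.normalizer (N : Set G)) (hr : ¬ r ∣ N.relIndex U)
    (hTU : T ≤ U) (hT : IsPGroup r T) : T ≤ N := by
  have hrp : r.Prime := Fact.out
  have h1 : Nat.card (T ⊔ N : Subgroup G) ∣ Nat.card T * Nat.card N :=
    Cfsg.Agent.Lib.H19.card_sup_dvd_mul_of_le_normalizer (hTU.trans hUN)
  have hle : N ≤ T ⊔ N := le_sup_right
  have hle2 : T ⊔ N ≤ U := sup_le hTU hNU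
  have h2 : N.relIndex (T ⊔ N) ∣ Nat.card T := by
    rw [← SylIn.card_mul_relIndex hle, mul_comm] at h1
    exact Nat.dvd_of_mul_dvd_mul_right Nat.card_pos h1
  have h3 : N.relIndex (T ⊔ N) ∣ N.relIndex U := by
    rw [← Subgroup.relIndex_mul_relIndex N (T ⊔ N) U hle hle2]
    exact Dvd.intro _ rfl
  obtain ⟨n, hn⟩ := IsPGroup.iff_card.1 hT
  rw [hn] at h2
  obtain ⟨j, -, hj⟩ := (Nat.dvd_prime_pow hrp).1 h2
  have hj0 : j = 0 := by
    by_contra hj0
    apply hr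
    refine dvd_trans ?_ h3
    rw [hj]
    exact dvd_pow_self r hj0
  rw [hj0, pow_zero] at hj
  have h4 : T ⊔ N ≤ N := Subgroup.relIndex_eq_one.1 hj
  exact le_sup_left.trans h4

/-- if `A ≤ O`, `S` normalizes `O`, `A` normalizes `S` and `S ∩ O = 1`, then `A` centralizes `S`. -/
theorem le_centralizer_of_le_normal_disjoint {A O S : Subgroup G} (hAO : A ≤ O)
    (hSO : S ≤ Subgroup.normalizer (O : Set G)) (hAS : A ≤ Subgroup.normalizer (S : Set G))
    (h : S ⊓ O = ⊥) : A ≤ Subgroup.centralizer (S : Set G) := by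
  intro a ha
  rw [Subgroup.mem_centralizer_iff]
  intro s hs
  have h1 : a * s * a⁻¹ ∈ S := (Subgroup.mem_normalizer_iff.1 (hAS ha) s).1 hs
  have h2 : s * a⁻¹ * s⁻¹ ∈ O := (Subgroup.mem_normalizer_iff.1 (hSO hs) a⁻¹).1 (O.inv_mem (hAO ha))
  have h3 : a * s * a⁻¹ * s⁻¹ ∈ S ⊓ O := by
    refine ⟨S.mul_mem h1 (S.inv_mem hs), ?_⟩
    have e : a * s * a⁻¹ * s⁻¹ = a * (s * a⁻¹ * s⁻¹) := by group
    rw [e]; exact O.mul_mem (hAO ha) h2
  rw [h, Subgroup.mem_bot] at h3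
  have e2 : s * a = (a * s * a⁻¹ * s⁻¹)⁻¹ * (a * s) := by group
  rw [e2, h3, inv_one, one_mul]

/-- subgroups of coprime orders meet trivially. -/
theorem inf_eq_bot_of_coprime_card {A B : Subgroup G}
    (h : (Nat.card A).Coprime (Nat.card B)) : A ⊓ B = ⊥ :=
  (Subgroup.disjoint_of_coprime_natCard h).eq_bot

theorem relIndex_pPrimeCoreOf (t : ℕ) (U : Subgroup G) :
    (Cfsg.Agent.Lib.H7.pPrimeCoreOf t U).relIndex U = (pPrimeCore t ↥U).index := by
  unfold Cfsg.Agent.Lib.H7.pPrimeCoreOf Subgroup.relIndex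
  rw [Subgroup.subgroupOf, Subgroup.comap_map_eq_self_of_injective U.subtype_injective]

/-- a subgroup of order `t` in `M` when `t ∣ |M|`. -/
theorem exists_card_eq_prime {t : ℕ} [ht : Fact t.Prime] {M : Subgroup G}
    (h : t ∣ Nat.card M) : ∃ T : Subgroup G, T ≤ M ∧ Nat.card T = t := by
  obtain ⟨x, hx⟩ := exists_prime_orderOf_dvd_card' t h
  refine ⟨Subgroup.zpowers (x : G), ?_, ?_⟩
  · rw [Subgroup.zpowers_le]; exact x.2
  · rw [Nat.card_zpowers, Subgroup.orderOf_coe]; exact hx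

/-- **BG 12.13(e2)**. -/
theorem mem_beta_of_mem_sigma_of_dvd (hG : IsMinSimpleOddOrder G) {M Mstar : Subgroup G}
    (hM : IsCoatom M) (hMs : IsCoatom Mstar) (hnc : ∀ g : G, Mstar ≠ cj(g, M)) {q : ℕ}
    [hqp : Fact q.Prime] (hq : q ∈ sigma M) (hqs : q ∉ sigma Mstar) {S : Subgroup G}
    (hS : SylIn q S Mstar) (hSM : S ≤ M) (hncyc : ¬ IsCyclic S) {t : ℕ} (ht : t.Prime)
    (htM : t ∣ Nat.card M) (htσ : t ∈ sigma Mstar) : t ∈ beta Mstar := by
  by_contra htβ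
  haveI : Fact t.Prime := ⟨ht⟩
  have hU := Cfsg.Agent.Lib.H20.BGT.uniq3 hG
  have hne : Mstar ≠ M := by
    intro e
    apply hnc 1
    rw [e, Cfsg.Agent.Lib.H10.map_conj_one]
  have hS1 : S ≠ ⊥ := by
    rintro rfl
    exact hncyc inferInstance
  have hq2 : q ≠ 2 := prime_ne_two' hG hS.isPGroup hS1
  obtain ⟨A, hAS, hAe, hAc⟩ := exists_elemAb_sq_of_not_cyclic hq2 hS.isPGroup hncyc
  have hAMs : A ≤ Mstar := hAS.trans hS.le
  have hAM : A ≤ M := hAS.trans hSM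
  have hτ : q ∈ tau2 Mstar := mem_tau2_of_elemAb_sq hG hMs hqs hAMs hAe hAc
  obtain ⟨hnil, -, -, hCA, hdis, -⟩ :=
    Cfsg.Agent.S1417.result hG Mstar hMs q hτ A ⟨hAMs, hAe, hAc⟩
  have hdisM : sigmaCore Mstar ⊓ M = ⊥ := hdis M hM (Ne.symm hne) hAM
  have hAq : IsPGroup q A := isPGroup_of_elemAb hAe
  -- the complement `E*` of `M*_σ` containing `A`
  have hAσ' : ∀ r : ℕ, r.Prime → r ∣ Nat.card A → r ∉ sigma Mstar := by
    intro r hr hrd
    rw [hAc] at hrd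
    rw [(Nat.prime_dvd_prime_iff_eq hr hqp.out).1 (hr.dvd_of_dvd_pow hrd)]
    exact hqs
  obtain ⟨Es, hEs, hAEs⟩ := Cfsg.Agent.Lib.H19.BG13.exists_compl_ge hG hMs hAMs hAσ'
  obtain ⟨-, ⟨hCAle, -, -⟩, huniq⟩ :=
    Cfsg.Agent.S1418.result hG Mstar hMs Es hEs q hτ A ⟨hAEs, hAe, hAc⟩
  -- `t ∉ σ(M)`
  have htσM : t ∉ sigma M := fun h =>
    not_mem_sigma_of_mem_sigma hG hM hMs hnc hnil h htσ
  -- the coprime action of `A` on `M*_σ`
  have hKs1 : sigmaCore Mstar ≠ ⊥ := Cfsg.Agent.Lib.H8.BG12.sigmaCore_ne_bot' hG hMs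
  have hcopq : (Nat.card (sigmaCore Mstar)).Coprime q := by
    rw [Nat.coprime_comm, Nat.Prime.coprime_iff_not_dvd hqp.out]
    intro hd
    exact hqs (Cfsg.Agent.Lib.H20.BGS.sigmaCore_isPiCard Mstar q hqp.out hd)
  have hAK : A ≤ Subgroup.normalizer ((sigmaCore Mstar : Subgroup G) : Set G) :=
    hAMs.trans (Cfsg.Agent.Lib.H20.BGS.le_normalizer_sigmaCore Mstar)
  -- `q ∉ β(M)`
  have hqβ : q ∉ beta M := by
    intro hqβ
    have hex : ∃ y ∈ A, y ≠ 1 ∧ sigmaCore Mstar ⊓ Subgroup.centralizer ({y} : Set G) ≠ ⊥ := by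
      by_contra hno
      push Not at hno
      apply hKs1
      rw [eq_bot_iff]
      apply le_of_forall_centralizer_le hAe (by rw [hAc]) hcopq hAK
      intro y hy hy1
      rw [hno y hy hy1]
    obtain ⟨y, hyA, hy1, hyK⟩ := hex
    have hyq : y ^ q = 1 := hAe.2 y hyA
    set B := Subgroup.zpowers y with hB
    have hBA : B ≤ A := by rw [hB, Subgroup.zpowers_le]; exact hyA
    have hBc : Nat.card B = q := by
      rw [hB, Nat.card_zpowers]; exact orderOf_eq_prime hyq hy1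
    have hCB : Subgroup.centralizer (B : Set G) = Subgroup.centralizer ({y} : Set G) := by
      rw [hB, Cfsg.Agent.Lib.H7.centralizer_singleton_eq_centralizer_zpowers]
    obtain ⟨P⟩ : Nonempty (Sylow q ↥(sigmaCore M)) := inferInstance
    obtain ⟨⟨hCM, -⟩, -, -⟩ :=
      Cfsg.Agent.S1423.result hG M hM q hq B (hBA.trans hAM) hBc P (Or.inl hqβ)
    have h2 := (huniq B hBA hBc (by rw [hCB]; exact hyK)).2 M hM hCM
    exact hne h2.symm
  -- `q < t`
  have htdvd : t ∣ Nat.card Mstar := htσ.2.1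
  have h14s := ((Cfsg.Agent.S1414.result hG Mstar hMs).2.2.2.2 t ht htdvd htβ).2.2
  have hσhall := (Cfsg.Agent.Lib.H20.BGS.sigma_core_hall hG hU hMs).1
  have hqlt : q < t := by
    have hqle : q ≤ t := by
      apply h14s q hqp.out
      by_contra hnd
      -- then `A ≤ O_{t'}(M*)`
      set O := Cfsg.Agent.Lib.H7.pPrimeCoreOf t Mstar with hO
      have hOle : O ≤ Mstar := Cfsg.Agent.Lib.H7.pPrimeCoreOf_le t Mstar
      have hOn : Mstar ≤ Subgroup.normalizer (O : Set G) :=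
        Cfsg.Agent.Lib.H7.le_normalizer_pPrimeCoreOf t Mstar
      have hAO : A ≤ O := by
        apply le_of_isPGroup_of_not_dvd_relIndex hOle hOn _ hAMs hAq
        rw [relIndex_pPrimeCoreOf]; exact hnd
      have hcop : CoprimeAction A (sigmaCore Mstar) := by
        refine ⟨hAK, ?_, Or.inr ?_⟩
        · rw [hAc]; exact (Nat.Coprime.pow_right 2 hcopq).symm
        · exact solvable_of_le_ne_top hG hMs.1 (Cfsg.Agent.Lib.H20.BGS.sigmaCore_le Mstar)
      obtain ⟨St, hSt, hASt⟩ := Cfsg.Agent.Lib.H1.coprime_exists_invariant_sylow hcop t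
      have hSt' : SylIn t St (sigmaCore Mstar) := sylIn_of_isSylowOf hSt
      have htK : t ∣ Nat.card (sigmaCore Mstar) := by
        have h1 := SylIn.card_mul_relIndex hσhall.1
        rw [← h1] at htdvd
        rcases (Nat.Prime.dvd_mul ht).1 htdvd with h | h
        · exact h
        · exact absurd h (hσhall.2.2 t ht htσ)
      have hSt1 : St ≠ ⊥ := hSt'.ne_bot htK
      have hStMs : St ≤ Mstar := hSt'.le.trans (Cfsg.Agent.Lib.H20.BGS.sigmaCore_le Mstar)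
      have hdisj : St ⊓ O = ⊥ := by
        apply inf_eq_bot_of_coprime_card
        obtain ⟨n, hn⟩ := IsPGroup.iff_card.1 hSt'.isPGroup
        rw [hn]
        exact Nat.Coprime.pow_left n (Cfsg.Agent.Lib.H7.card_pPrimeCoreOf_coprime t Mstar).symm
      have hcent : A ≤ Subgroup.centralizer (St : Set G) :=
        le_centralizer_of_le_normal_disjoint hAO (hStMs.trans hOn) hASt hdisj
      apply hSt1
      rw [eq_bot_iff, ← hCA]
      exact le_inf hSt'.le (Subgroup.le_centralizer_iff.1 hcent)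
    rcases lt_or_eq_of_le hqle with h | h
    · exact h
    · exact absurd (h ▸ htσ) hqs
  -- a subgroup `T₀` of order `t` in `O_{q'}(M)`
  have hqdvd : q ∣ Nat.card M := hq.2.1
  have h14 := ((Cfsg.Agent.S1414.result hG M hM).2.2.2.2 q hqp.out hqdvd hqβ).2.2
  obtain ⟨T₀, hT₀M, hT₀c⟩ := exists_card_eq_prime htM
  have hT₀t : IsPGroup t T₀ := IsPGroup.of_card (n := 1) (by rw [hT₀c, pow_one])
  set OM := Cfsg.Agent.Lib.H7.pPrimeCoreOf q M with hOM
  have hOMle : OM ≤ M := Cfsg.Agent.Lib.H7.pPrimeCoreOf_le q M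
  have hOMn : M ≤ Subgroup.normalizer (OM : Set G) :=
    Cfsg.Agent.Lib.H7.le_normalizer_pPrimeCoreOf q M
  have hT₀O : T₀ ≤ OM := by
    apply le_of_isPGroup_of_not_dvd_relIndex hOMle hOMn _ hT₀M hT₀t
    rw [relIndex_pPrimeCoreOf]
    intro hd
    have := h14 t ht hd
    omega
  -- a `T₀`-invariant Sylow `q`-subgroup of `M_σ`
  have hcopT : CoprimeAction T₀ (sigmaCore M) := by
    refine ⟨hT₀M.trans (Cfsg.Agent.Lib.H20.BGS.le_normalizer_sigmaCore M), ?_, Or.inr ?_⟩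
    · rw [hT₀c, Nat.Prime.coprime_iff_not_dvd ht]
      intro hd
      exact htσM (Cfsg.Agent.Lib.H20.BGS.sigmaCore_isPiCard M t ht hd)
    · exact solvable_of_le_ne_top hG hM.1 (Cfsg.Agent.Lib.H20.BGS.sigmaCore_le M)
  obtain ⟨SM, hSM', hT₀SM⟩ := Cfsg.Agent.Lib.H1.coprime_exists_invariant_sylow hcopT q
  have hSM'' : SylIn q SM (sigmaCore M) := sylIn_of_isSylowOf hSM'
  have hSMM : SM ≤ M := hSM''.le.trans (Cfsg.Agent.Lib.H20.BGS.sigmaCore_le M)
  have hdisj2 : SM ⊓ OM = ⊥ := by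
    apply inf_eq_bot_of_coprime_card
    obtain ⟨n, hn⟩ := IsPGroup.iff_card.1 hSM''.isPGroup
    rw [hn]
    exact Nat.Coprime.pow_left n (Cfsg.Agent.Lib.H7.card_pPrimeCoreOf_coprime q M).symm
  have hT₀cent : T₀ ≤ Subgroup.centralizer (SM : Set G) :=
    le_centralizer_of_le_normal_disjoint hT₀O (hSMM.trans hOMn) hT₀SM hdisj2
  -- conjugate `S` into `SM`
  have hSσ : S ≤ sigmaCore M :=
    le_sigmaCore_of_isPiCard hG hM hSM (isPiCard_of_isPGroup hqp.out hq hS.isPGroup)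
  obtain ⟨m, hm, hmS⟩ := hSM''.exists_conj_le hS.isPGroup hSσ
  have hmM : m ∈ M := Cfsg.Agent.Lib.H20.BGS.sigmaCore_le M hm
  -- `T₁ = T₀^{m⁻¹}` centralizes `A`
  set T₁ := cj(m⁻¹, T₀) with hT₁
  have hT₁M : T₁ ≤ M := by
    rw [hT₁, Cfsg.Agent.Lib.H7.BG10.map_conj_le_iff, inv_inv,
      Cfsg.Agent.Lib.H7.BG10.map_conj_eq_self_of_mem hmM]
    exact hT₀M
  have hT₁A : T₁ ≤ Subgroup.centralizer (A : Set G) := by
    rintro _ ⟨x, hx, rfl⟩
    rw [Subgroup.mem_centralizer_iff]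
    intro a ha
    have h1 : m * a * m⁻¹ ∈ SM := hmS ⟨a, hAS ha, rfl⟩
    have h2 := (Subgroup.mem_centralizer_iff.1 (hT₀cent hx)) _ h1
    simp only [MulEquiv.coe_toMonoidHom, MulAut.conj_apply, inv_inv]
    have e1 : a * (m⁻¹ * x * m) = m⁻¹ * ((m * a * m⁻¹) * x) * m := by group
    have e2 : m⁻¹ * x * m * a = m⁻¹ * (x * (m * a * m⁻¹)) * m := by group
    rw [e1, e2, h2]
  have hT₁Ms : T₁ ≤ Mstar := (hT₁A.trans hCAle).trans inf_le_left
  have hT₁t : IsPGroup t T₁ := hT₀t.map _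
  have hT₁σ : T₁ ≤ sigmaCore Mstar :=
    le_sigmaCore_of_isPiCard hG hMs hT₁Ms (isPiCard_of_isPGroup ht htσ hT₁t)
  have hT₁bot : T₁ = ⊥ := by
    rw [eq_bot_iff, ← hdisM]
    exact le_inf hT₁σ hT₁M
  have hT₁c : Nat.card T₁ = t := by
    rw [hT₁, Cfsg.Agent.Lib.H10.card_map_conj, hT₀c]
  rw [hT₁bot, Subgroup.card_bot] at hT₁c
  exact ht.one_lt.ne' hT₁c.symm

end Cfsg.Agent.Lib.H16.BG134
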