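import Mathlib
import Cfsg.Agent.Lib.H16.BG134b
import Cfsg.Agent.Lib.H16.BG134c
import Cfsg.Agent.Lib.H19.BG13e

/-!
# BG Lemma 13.4 (S1428), part 3 (helper16): BG 12.14(2)

For `p ∈ τ₁(M)` not ideal, `q ∈ σ(M)` and `Y ≠ 1` a `q`-subgroup of `G`: every `p`-subgroup of
`N_G(Y)` is cyclic and `p ∤ |N_G(Y)'|`.
-/

set_option autoImplicit false
set_option linter.style.haveILetI false
set_option linter.unusedSectionVars false
set_option linter.unusedVariables false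

open Cfsg

namespace Cfsg.Agent.Lib.H16.BG134

open Cfsg.Agent.Lib.H16.BG
open Cfsg.Agent.Lib.H7.BG7
open Cfsg.Agent.Lib.H7.BG10
open Cfsg.Agent.Lib.H20.BGT
open Cfsg.Agent.Lib.H19 (IsPiCard)
open scoped commutatorElement

universe u v
variable {G : Type u} [Group G] [Finite G]

local notation:max "cj(" g ", " X ")" => Subgroup.map (MulEquiv.toMonoidHom (MulAut.conj g)) X

/-- the `p`-structure of `M` passes to a maximal subgroup `M* ⊇ N_G(Y)`, `Y ≤ M`. -/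
theorem pstruct_of_normalizer_le (hG : IsMinSimpleOddOrder G) {M Ms : Subgroup G}
    (hM : IsCoatom M) (hMs : IsCoatom Ms) {p : ℕ} [hpp : Fact p.Prime] (hp : p ∈ tau1 M)
    (hnβ : ¬ IsIdealPrime p G) {q : ℕ} [Fact q.Prime] (hq : q ∈ sigma M) {Y : Subgroup G}
    (hYq : IsPGroup q Y) (hY1 : Y ≠ ⊥) (hYM : Y ≤ M)
    (hNY : Subgroup.normalizer (Y : Set G) ≤ Ms) :
    (∀ T : Subgroup G, T ≤ Ms → IsPGroup p T → IsCyclic ↥T) ∧ ¬ p ∣ Nat.card ↥⁅Ms, Ms⁆ := by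
  obtain ⟨hpr, hpσ, hpM, hpc, hpk⟩ := hp
  have hcycM : ∀ T : Subgroup G, T ≤ M → IsPGroup p T → IsCyclic ↥T := fun T hTM hT =>
    Cfsg.Agent.Lib.H7.BG14.isCyclic_of_pRankLE_one hG hTM hT hpk
  by_cases hne : Ms = M
  · subst hne
    exact ⟨hcycM, hpc⟩
  have hYMs : Y ≤ Ms := Subgroup.le_normalizer.trans hNY
  obtain ⟨S, hS, hYS⟩ := SylIn.exists_ge (p := q) hYq (le_inf hYM hYMs)
  obtain ⟨hnc, hNS, hS'⟩ := sigma_subgroup_embedding hG (Cfsg.Agent.Lib.H16.BGHyp.h1416a hG) hM hq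
    hYq hY1 hYM hMs hne hNY hS hYS
  have hS1 : S ≠ ⊥ := fun e => hY1 (le_bot_iff.1 (e ▸ hYS))
  have hL : M ⊓ Ms ≤ Ms := inf_le_right
  have hcycL : ∀ T : Subgroup G, T ≤ M ⊓ Ms → IsPGroup p T → IsCyclic ↥T := fun T hT hTp =>
    hcycM T (hT.trans inf_le_left) hTp
  have hpL : ¬ p ∣ Nat.card ↥⁅M ⊓ Ms, M ⊓ Ms⁆ := fun hd =>
    hpc (hd.trans (Subgroup.card_dvd_of_le (Subgroup.commutator_mono inf_le_left inf_le_left)))
  -- common conclusion from a supplement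
  have key : ∀ K : Subgroup G, Ms ≤ Subgroup.normalizer (K : Set G) → K ≤ Ms →
      K ⊔ (M ⊓ Ms) = Ms → ¬ p ∣ Nat.card K →
      (∀ T : Subgroup G, T ≤ Ms → IsPGroup p T → IsCyclic ↥T) ∧ ¬ p ∣ Nat.card ↥⁅Ms, Ms⁆ := by
    intro K hKn hK hsup hpK
    exact ⟨fun T hTM hT => isCyclic_of_supplement hKn hK hL hsup hpK hcycL hTM hT,
      not_dvd_card_commutator_of_supplement hpr hKn hK hL hsup hpK hpL⟩
  by_cases hqs : q ∈ sigma Ms
  · -- `M* = M*_β (M ∩ M*)`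
    refine key (piCoreOf (beta Ms) Ms) (le_normalizer_piCoreOf _ _) (piCoreOf_le _ _)
      (sigma_embedding_sup hG hM hMs hne hq hqs hYq hY1 hYM hNY) ?_
    intro hd
    exact hnβ (piCoreOf_isPiCard (beta Ms) Ms p hpr hd).2
  · -- `M* = M*_σ (M ∩ M*)`
    have hncyc : ¬ IsCyclic ↥S := by
      intro hc
      have h1 : Subgroup.normalizer (S : Set G) ≤ Ms :=
        (normalizer_le_normalizer_of_le_cyclic hc hYS).trans hNY
      exact hqs (Cfsg.Agent.Lib.H19.BG13.mem_sigma_of_sylIn hS' hS1 h1)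
    have hSM : S ≤ M := hS.le.trans inf_le_left
    obtain ⟨-, hsup⟩ := supplement_sigma hG (Cfsg.Agent.Lib.H16.BGHyp.h1416a hG)
      (Cfsg.Agent.Lib.H16.BGHyp.h1417 hG) hM hMs hq hqs hS' hSM hncyc
    refine key (sigmaCore Ms) (Cfsg.Agent.Lib.H20.BGS.le_normalizer_sigmaCore Ms)
      (Cfsg.Agent.Lib.H20.BGS.sigmaCore_le Ms)
      (sup_eq_of_subgroupOf_sup_eq_top _ inf_le_right hsup) ?_
    intro hd
    have hpσ' : p ∈ sigma Ms := Cfsg.Agent.Lib.H20.BGS.sigmaCore_isPiCard Ms p hpr hd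
    exact hnβ (mem_beta_of_mem_sigma_of_dvd hG hM hMs hnc hq hqs hS' hSM hncyc hpr hpM hpσ').2

/-- **BG 12.14(2)**: for `p ∈ τ₁(M)` not ideal and `Y ≠ 1` a `σ(M)`-`q`-subgroup of `G`, every
`p`-subgroup of `N_G(Y)` is cyclic and `p ∤ |N_G(Y)'|`. -/
theorem pstruct_normalizer (hG : IsMinSimpleOddOrder G) {M : Subgroup G}
    (hM : IsCoatom M) {p : ℕ} [hpp : Fact p.Prime] (hp : p ∈ tau1 M)
    (hnβ : ¬ IsIdealPrime p G) {q : ℕ} [Fact q.Prime] (hq : q ∈ sigma M) {Y : Subgroup G}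
    (hYq : IsPGroup q Y) (hY1 : Y ≠ ⊥) :
    (∀ T : Subgroup G, T ≤ Subgroup.normalizer (Y : Set G) → IsPGroup p T → IsCyclic ↥T) ∧
      ¬ p ∣ Nat.card ↥⁅Subgroup.normalizer (Y : Set G), Subgroup.normalizer (Y : Set G)⁆ := by
  obtain ⟨S, hS⟩ := SylIn.exists_sylIn q M
  obtain ⟨-, hST⟩ := normalizer_le_of_sylIn_sigma hq hS
  obtain ⟨g, -, hg⟩ := hST.exists_conj_le hYq le_top
  set Y' := cj(g, Y) with hY'
  have hY'q : IsPGroup q Y' := Cfsg.Agent.Lib.H10.isPGroup_map_conj g hYq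
  have hY'1 : Y' ≠ ⊥ := by
    intro e
    apply hY1
    rw [← Subgroup.card_eq_one] at e ⊢
    rwa [hY', Cfsg.Agent.Lib.H10.card_map_conj] at e
  have hY'M : Y' ≤ M := hg.trans hS.le
  obtain ⟨Ms, hMs, hNMs⟩ := exists_coatom_ge
    (Cfsg.Agent.Lib.H7.BG7.normalizer_ne_top_of_isPGroup hG hY'q hY'1)
  obtain ⟨h1, h2⟩ := pstruct_of_normalizer_le hG hM hMs hp hnβ hq hY'q hY'1 hY'M hNMs
  have hN : cj(g, Subgroup.normalizer (Y : Set G)) ≤ Ms := by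
    rw [← Cfsg.Agent.Lib.H10.normalizer_map_conj]
    exact hNMs
  constructor
  · intro T hT hTp
    have hT' : cj(g, T) ≤ Ms := (Subgroup.map_mono hT).trans hN
    exact Cfsg.Agent.Lib.H19.BG13.isCyclic_of_map_conj_le
      (h1 _ hT' (Cfsg.Agent.Lib.H10.isPGroup_map_conj g hTp)) le_rfl
  · intro hd
    apply h2
    have e : cj(g, ⁅Subgroup.normalizer (Y : Set G), Subgroup.normalizer (Y : Set G)⁆) =
        ⁅cj(g, Subgroup.normalizer (Y : Set G)), cj(g, Subgroup.normalizer (Y : Set G))⁆ :=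
      Subgroup.map_commutator _ _ _
    have h3 : cj(g, ⁅Subgroup.normalizer (Y : Set G), Subgroup.normalizer (Y : Set G)⁆) ≤
        ⁅Ms, Ms⁆ := by
      rw [e]
      exact Subgroup.commutator_mono hN hN
    have h4 := Subgroup.card_dvd_of_le h3
    rw [Cfsg.Agent.Lib.H10.card_map_conj] at h4
    exact hd.trans h4

end Cfsg.Agent.Lib.H16.BG134
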