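import Mathlib
import Cfsg.Agent.Lib.H16.BG134d
import Cfsg.Agent.Lib.H16.SylCommB
import Cfsg.Agent.Lib.H1.CoprimeAbelian
import Cfsg.Agent.S1411

/-!
# BG Lemma 13.4 (S1428), part 4 (helper16): the case of a non-ideal prime

For `p ∈ τ₁(M)` not ideal and `P ≤ M` of order `p`: `C_{M_σ}(P)` is centralized by `C_M(P)`.
-/

set_option autoImplicit false
set_option linter.style.haveILetI false
set_option linter.unusedSectionVars false
set_option linter.unusedVariables false

open Cfsg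

namespace Cfsg.Agent.Lib.H16.BG134

open Cfsg.Agent.Lib.H16.BG
open Cfsg.Agent.Lib.H7.BG7
open Cfsg.Agent.Lib.H7.BG10
open Cfsg.Agent.Lib.H20.BGT
open Cfsg.Agent.Lib.H19 (IsPiCard)
open Cfsg.Agent.Lib.H1 (CoprimeAction)
open scoped commutatorElement

universe u v
variable {G : Type u} [Group G] [Finite G]

local notation:max "cj(" g ", " X ")" => Subgroup.map (MulEquiv.toMonoidHom (MulAut.conj g)) X

theorem isPGroup_of_card_eq {p : ℕ} {P : Subgroup G} (hP : Nat.card P = p) : IsPGroup p P :=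
  IsPGroup.of_card (n := 1) (by rw [hP, pow_one])

theorem ne_bot_of_card_eq_prime {p : ℕ} [hpp : Fact p.Prime] {P : Subgroup G}
    (hP : Nat.card P = p) : P ≠ ⊥ := by
  rintro rfl
  rw [Subgroup.card_bot] at hP
  exact hpp.out.one_lt.ne hP

theorem le_centralizer_self_of_card_eq_prime {p : ℕ} [hpp : Fact p.Prime] {P : Subgroup G}
    (hP : Nat.card P = p) : P ≤ Subgroup.centralizer (P : Set G) := by
  have hc : IsCyclic ↥P := isCyclic_of_prime_card hP
  rw [Subgroup.le_centralizer_iff_isMulCommutative]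
  exact hc.isMulCommutative

/-- a normal `p`-subgroup lies in every Sylow `p`-subgroup. -/
theorem le_sylIn_of_le_normalizer {p : ℕ} [Fact p.Prime] {P S K : Subgroup G}
    (hS : SylIn p S K) (hP : IsPGroup p P) (hPK : P ≤ K)
    (hKP : K ≤ Subgroup.normalizer (P : Set G)) : P ≤ S := by
  obtain ⟨m, hm, hle⟩ := hS.exists_conj_le hP hPK
  have e : cj(m, P) = P := Subgroup.mem_normalizer_iff_map_conj_eq.1 (hKP hm)
  rwa [e] at hle

/-- **Case B1**: `N_G(P) = C_G(P)` and the Sylow `p`-subgroups of `C_G(P)` are cyclic: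
impossible in a minimal simple group of odd order. -/
theorem false_of_cyclic_sylow_centralizer (hG : IsMinSimpleOddOrder G) {p : ℕ}
    [hpp : Fact p.Prime] {P : Subgroup G} (hP : Nat.card P = p) {S : Subgroup G}
    (hS : SylIn p S (Subgroup.centralizer (P : Set G))) (hSc : IsCyclic ↥S)
    (hNC : Subgroup.normalizer (P : Set G) ≤ Subgroup.centralizer (P : Set G)) : False := by
  have hPp : IsPGroup p P := isPGroup_of_card_eq hP
  have hP1 : P ≠ ⊥ := ne_bot_of_card_eq_prime hP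
  have hPC : P ≤ Subgroup.centralizer (P : Set G) := le_centralizer_self_of_card_eq_prime hP
  have hPS : P ≤ S := le_sylIn_of_le_normalizer hS hPp hPC (Subgroup.centralizer_le_normalizer _)
  have hNS : Subgroup.normalizer (S : Set G) ≤ Subgroup.centralizer (P : Set G) :=
    (normalizer_le_normalizer_of_le_cyclic hSc hPS).trans hNC
  have hST : SylIn p S ⊤ := hS.of_normalizer_le le_top (inf_le_right.trans hNS)
  obtain ⟨Sy, hSy⟩ := hST.exists_sylow_top
  obtain ⟨V, hVN, hVc, hsup⟩ := Cfsg.Agent.Lib.H16.SylComm.exists_compl_in_normalizer Sy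
  rw [hSy] at hVN hsup
  have hcop : (Nat.card V).Coprime (Nat.card S) := by
    obtain ⟨n, hn⟩ := IsPGroup.iff_card.1 hS.isPGroup
    rw [hn]
    exact Nat.Coprime.pow_right n hVc
  have hdisj : S ⊓ V = ⊥ := inf_eq_bot_of_coprime_card hcop.symm
  have hcompl : IsComplIn (Sy : Subgroup G) V
      (Subgroup.normalizer ((Sy : Subgroup G) : Set G)) := by
    rw [hSy]
    refine ⟨Subgroup.le_normalizer, hVN, hdisj, ?_⟩
    intro m hm
    rw [← hsup] at hm
    obtain ⟨k, hk, l, hl, rfl⟩ := Cfsg.Agent.Lib.H1.mem_sup_of_le_normalizer hVN hm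
    exact ⟨k, hk, l, hl, rfl⟩
  obtain ⟨h11, -⟩ := Cfsg.Agent.S1411.result hG p Sy V hcompl
  rw [hSy] at h11
  haveI : IsMulCommutative ↥S := hSc.isMulCommutative
  have h0 := Cfsg.Agent.Lib.H1.coprime_abelian_centralizer_inf_commutator hVN hcop
  rw [← h11] at h0
  have hPV : P ≤ Subgroup.centralizer (V : Set G) :=
    le_centralizer_comm (hVN.trans hNS)
  have : P ≤ ⊥ := by
    rw [← h0]
    exact le_inf (le_inf hPS hPV) hPS
  exact hP1 (le_bot_iff.1 this)

/-- **Case A**: `N_G(P) ≠ C_G(P)`. -/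
theorem false_of_normalizer_not_le_centralizer (hG : IsMinSimpleOddOrder G) {M : Subgroup G}
    (hM : IsCoatom M) {p : ℕ} [hpp : Fact p.Prime] (hp : p ∈ tau1 M) (hnβ : ¬ IsIdealPrime p G)
    {q : ℕ} [hqp : Fact q.Prime] (hq : q ∈ sigma M) {P : Subgroup G} (hP : Nat.card P = p)
    (hqC : q ∣ Nat.card (Subgroup.centralizer (P : Set G)))
    (hNC : ¬ Subgroup.normalizer (P : Set G) ≤ Subgroup.centralizer (P : Set G)) : False := by
  obtain ⟨Y, hY⟩ := SylIn.exists_sylIn q (Subgroup.centralizer (P : Set G))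
  have hY1 : Y ≠ ⊥ := hY.ne_bot hqC
  obtain ⟨-, h2⟩ := pstruct_normalizer hG hM hp hnβ hq hY.isPGroup hY1
  apply h2
  obtain ⟨g, hgN, hgC⟩ := SetLike.not_le_iff_exists.1 hNC
  obtain ⟨l, hl, n, hn, rfl⟩ := frattini_rel (Subgroup.centralizer_le_normalizer _)
    (normalizer_le_normalizer_centralizer P) hY g hgN
  have hnC : n ∉ Subgroup.centralizer (P : Set G) := fun h =>
    hgC ((Subgroup.centralizer (P : Set G)).mul_mem hl h)
  rw [Subgroup.mem_centralizer_iff] at hnC
  push Not at hnC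
  obtain ⟨x, hx, hxn⟩ := hnC
  have hxP : x ∈ P := hx
  have hPY : P ≤ Subgroup.normalizer (Y : Set G) :=
    (le_centralizer_comm hY.le).trans (Subgroup.centralizer_le_normalizer _)
  have hcN : ⁅n, x⁆ ∈ ⁅Subgroup.normalizer (Y : Set G), Subgroup.normalizer (Y : Set G)⁆ :=
    Subgroup.commutator_mem_commutator hn.2 (hPY hxP)
  have hcP : ⁅n, x⁆ ∈ P := by
    rw [commutatorElement_def]
    exact P.mul_mem ((Subgroup.mem_normalizer_iff.1 hn.1 x).1 hxP) (P.inv_mem hxP)
  have hc1 : ⁅n, x⁆ ≠ 1 := by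
    intro e
    apply hxn
    rw [commutatorElement_def] at e
    have e2 : n * x * n⁻¹ = x := mul_inv_eq_one.1 e
    calc x * n = (n * x * n⁻¹) * n := by rw [e2]
      _ = n * x := by group
  have hord : orderOf ⁅n, x⁆ = p := by
    have h1 : orderOf (⟨⁅n, x⁆, hcP⟩ : P) ∣ p := by
      rw [← hP]; exact orderOf_dvd_natCard _
    rw [Subgroup.orderOf_mk] at h1
    rcases (Nat.dvd_prime hpp.out).1 h1 with h | h
    · exact absurd (orderOf_eq_one_iff.1 h) hc1
    · exact h
  rw [← hord]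
  have := orderOf_dvd_natCard (⟨⁅n, x⁆, hcN⟩ :
    ↥⁅Subgroup.normalizer (Y : Set G), Subgroup.normalizer (Y : Set G)⁆)
  rwa [Subgroup.orderOf_mk] at this

end Cfsg.Agent.Lib.H16.BG134
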