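import Mathlib
import Cfsg.Agent.Lib.H16.BG134e
import Cfsg.Agent.Lib.H20.BGV2
import Cfsg.Agent.Lib.L0.TransferPC

/-!
# BG Lemma 13.4 (S1428), part 5 (helper16): the case of a non-ideal prime, conclusion

`centralizer_le_of_not_ideal`: for `p ∈ τ₁(M)` not ideal, `P ≤ M` of order `p` and
`R ≤ C_M(P)`: `C_{M_σ}(P) ≤ C_G(R)`.
-/

set_option autoImplicit false
set_option linter.style.haveILetI false
set_option linter.unusedSectionVars false
set_option linter.unusedVariables false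

open Cfsg

namespace Cfsg.Agent.Lib.H16.BG134

open Cfsg.Agent.Lib.H16.BG
open Cfsg.Agent.Lib.H7.BG7
open Cfsg.Agent.Lib.H7.BG10
open Cfsg.Agent.Lib.H20.BGT
open Cfsg.Agent.Lib.H19 (IsPiCard)
open Cfsg.Agent.Lib.H1 (CoprimeAction)
open scoped commutatorElement

universe u v
variable {G : Type u} [Group G] [Finite G]

local notation:max "cj(" g ", " X ")" => Subgroup.map (MulEquiv.toMonoidHom (MulAut.conj g)) X

/-- **Case B2**: the Sylow `p`-subgroups of `C_G(P)` are not cyclic. -/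
theorem false_of_noncyclic_sylow_centralizer (hG : IsMinSimpleOddOrder G) {M H : Subgroup G}
    (hM : IsCoatom M) (hH : IsCoatom H) {p : ℕ} [hpp : Fact p.Prime] (hp : p ∈ tau1 M)
    (hnβ : ¬ IsIdealPrime p G) {q : ℕ} [hqp : Fact q.Prime] (hq : q ∈ sigma M)
    {P : Subgroup G} (hP : Nat.card P = p) (hNH : Subgroup.normalizer (P : Set G) ≤ H)
    {S : Subgroup G} (hS : SylIn p S (Subgroup.centralizer (P : Set G))) (hSc : ¬ IsCyclic ↥S)
    {Y₀ : Subgroup G} (hY₀q : IsPGroup q Y₀) (hY₀1 : Y₀ ≠ ⊥)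
    (hY₀C : Y₀ ≤ Subgroup.centralizer (P : Set G)) (hY₀H : Y₀ ≤ ⁅H, H⁆) : False := by
  have hPp : IsPGroup p P := isPGroup_of_card_eq hP
  have hP1 : P ≠ ⊥ := ne_bot_of_card_eq_prime hP
  have hqp' : q ≠ p := fun e => hp.2.1 (e ▸ hq)
  have hCH : Subgroup.centralizer (P : Set G) ≤ H :=
    (Subgroup.centralizer_le_normalizer _).trans hNH
  have hPH : P ≤ H := Subgroup.le_normalizer.trans hNH
  have hpH : p ∣ Nat.card H := dvd_card_of_ne_bot hPp hPH hP1
  have hpβ : p ∉ beta H := fun h => hnβ h.2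
  set U : Subgroup G := ⁅H, H⁆ with hU
  have h14 : HasNormalPComplement p ↥U :=
    ((Cfsg.Agent.S1414.result hG H hH).2.2.2.2 p hpp.out hpH hpβ).1
  obtain ⟨N₀, hN₀n, hN₀c, k, hk⟩ := Cfsg.Agent.Lib.L0.HasNormalPComplement.exists_normal h14
  set K := Cfsg.Agent.Lib.H7.pPrimeCoreOf p U with hK
  have hKU : K ≤ U := Cfsg.Agent.Lib.H7.pPrimeCoreOf_le p U
  have hUK : U ≤ Subgroup.normalizer (K : Set G) :=
    Cfsg.Agent.Lib.H7.le_normalizer_pPrimeCoreOf p U
  have hHK : H ≤ Subgroup.normalizer (K : Set G) :=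
    (Cfsg.Agent.Lib.H20.BGV.le_normalizer_commutator_self H).trans
      (Cfsg.Agent.Lib.H7.normalizer_le_normalizer_pPrimeCoreOf p U)
  have hKc : (Nat.card K).Coprime p := Cfsg.Agent.Lib.H7.card_pPrimeCoreOf_coprime p U
  have hqK : ¬ q ∣ K.relIndex U := by
    rw [hK, relIndex_pPrimeCoreOf]
    intro hd
    have h1 : N₀ ≤ pPrimeCore p ↥U := Cfsg.Agent.Lib.H22.le_pPrimeCore p N₀ hN₀n
      ((Nat.Prime.coprime_iff_not_dvd hpp.out).2 hN₀c).symm
    have h2 : (pPrimeCore p ↥U).index ∣ N₀.index := Subgroup.index_dvd_of_le h1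
    rw [hk] at h2
    have h3 := hqp.out.dvd_of_dvd_pow (hd.trans h2)
    exact hqp' ((Nat.prime_dvd_prime_iff_eq hqp.out hpp.out).1 h3)
  have hY₀K : Y₀ ≤ K := le_of_isPGroup_of_not_dvd_relIndex hKU hUK hqK hY₀H hY₀q
  set W := K ⊓ Subgroup.centralizer (P : Set G) with hW
  have hSW : S ≤ Subgroup.normalizer (W : Set G) :=
    Cfsg.Agent.Lib.H7.le_normalizer_inf ((hS.le.trans hCH).trans hHK)
      (hS.le.trans Subgroup.le_normalizer)
  have hcop : CoprimeAction S W := by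
    refine ⟨hSW, ?_, Or.inr ?_⟩
    · obtain ⟨n, hn⟩ := IsPGroup.iff_card.1 hS.isPGroup
      rw [hn]
      apply Nat.Coprime.pow_left
      exact (Nat.Coprime.coprime_dvd_left (Subgroup.card_dvd_of_le inf_le_left) hKc).symm
    · exact solvable_of_le_ne_top hG hH.1 (inf_le_right.trans hCH)
  obtain ⟨Y, hY, hSY⟩ := Cfsg.Agent.Lib.H1.coprime_exists_invariant_sylow hcop q
  have hY' : SylIn q Y W := sylIn_of_isSylowOf hY
  have hY1 : Y ≠ ⊥ := hY'.ne_bot (dvd_card_of_ne_bot hY₀q (le_inf hY₀K hY₀C) hY₀1)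
  exact hSc ((pstruct_normalizer hG hM hp hnβ hq hY'.isPGroup hY1).1 S hSY hS.isPGroup)

/-- **BG Lemma 13.4 for a non-ideal prime**: for `p ∈ τ₁(M)` not ideal, `P ≤ M` of order `p`,
`C_{M_σ}(P)` is centralized by every subgroup of `C_M(P)`. -/
theorem centralizer_le_of_not_ideal (hG : IsMinSimpleOddOrder G) {M : Subgroup G}
    (hM : IsCoatom M) {p : ℕ} (hp : p ∈ tau1 M) (hnβ : ¬ IsIdealPrime p G) {P : Subgroup G}
    (hPM : P ≤ M) (hP : Nat.card P = p) {R : Subgroup G} (hRM : R ≤ M)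
    (hRC : R ≤ Subgroup.centralizer (P : Set G)) :
    sigmaCore M ⊓ Subgroup.centralizer (P : Set G) ≤ Subgroup.centralizer (R : Set G) := by
  haveI hpp : Fact p.Prime := ⟨hp.1⟩
  by_contra hnot
  set D := sigmaCore M ⊓ Subgroup.centralizer (P : Set G) with hD
  set X : Subgroup G := ⁅D, R⁆ with hX
  have hX1 : X ≠ ⊥ := fun e => hnot (le_centralizer_of_commutator_eq_bot e)
  have hPp : IsPGroup p P := isPGroup_of_card_eq hP
  have hP1 : P ≠ ⊥ := ne_bot_of_card_eq_prime hP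
  obtain ⟨H, hH, hNH⟩ := exists_coatom_ge
    (Cfsg.Agent.Lib.H7.BG7.normalizer_ne_top_of_isPGroup hG hPp hP1)
  have hCH : Subgroup.centralizer (P : Set G) ≤ H :=
    (Subgroup.centralizer_le_normalizer _).trans hNH
  have hXσ : X ≤ sigmaCore M := by
    have h1 : ⁅R, D⁆ ≤ sigmaCore M := Cfsg.Agent.Lib.H16.BG.commutator_le_of_le_normalizer
      (hRM.trans (Cfsg.Agent.Lib.H20.BGS.le_normalizer_sigmaCore M)) inf_le_left
    rwa [Subgroup.commutator_comm] at h1
  have hXC : X ≤ Subgroup.centralizer (P : Set G) :=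
    (Subgroup.commutator_mono inf_le_right hRC).trans (Subgroup.commutator_le_self _)
  have hXH : X ≤ ⁅H, H⁆ := Subgroup.commutator_mono (inf_le_right.trans hCH) (hRC.trans hCH)
  have hXc : Nat.card X ≠ 1 := fun e => hX1 (Subgroup.card_eq_one.1 e)
  obtain ⟨q, hqpr, hqX⟩ := Nat.exists_prime_and_dvd hXc
  haveI hqp : Fact q.Prime := ⟨hqpr⟩
  have hq : q ∈ sigma M := Cfsg.Agent.Lib.H20.BGS.sigmaCore_isPiCard M q hqpr
    (hqX.trans (Subgroup.card_dvd_of_le hXσ))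
  obtain ⟨Y₀, hY₀⟩ := SylIn.exists_sylIn q X
  have hY₀1 : Y₀ ≠ ⊥ := hY₀.ne_bot hqX
  obtain ⟨S, hS⟩ := SylIn.exists_sylIn p (Subgroup.centralizer (P : Set G))
  by_cases hSc : IsCyclic ↥S
  · by_cases hNC : Subgroup.normalizer (P : Set G) ≤ Subgroup.centralizer (P : Set G)
    · exact false_of_cyclic_sylow_centralizer hG hP hS hSc hNC
    · exact false_of_normalizer_not_le_centralizer hG hM hp hnβ hq hP
        (hqX.trans (Subgroup.card_dvd_of_le hXC)) hNC
  · exact false_of_noncyclic_sylow_centralizer hG hM hH hp hnβ hq hP hNH hS hSc hY₀.isPGroup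
      hY₀1 (hY₀.le.trans hXC) (hY₀.le.trans hXH)

/-- the frozen shape of S1428, for a non-ideal prime. -/
theorem result_of_not_ideal (hG : IsMinSimpleOddOrder G)
    (M : Subgroup G) (hM : IsCoatom M) (E : Subgroup G) (hE : IsComplIn E (sigmaCore M) M) (p : ℕ)
    (hp : p ∈ tau1 M) (hnβ : ¬ IsIdealPrime p G) (P : Subgroup G) (hPE : P ≤ E)
    (hP : Nat.card P = p) (R : Subgroup G) (hRE : R ≤ E ⊓ Subgroup.centralizer (P : Set G)) :
    sigmaCore M ⊓ Subgroup.centralizer (P : Set G) ≤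
      sigmaCore M ⊓ Subgroup.centralizer (R : Set G) :=
  le_inf inf_le_left (centralizer_le_of_not_ideal hG hM hp hnβ (hPE.trans hE.1) hP
    ((hRE.trans inf_le_left).trans hE.1) (hRE.trans inf_le_right))

end Cfsg.Agent.Lib.H16.BG134
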