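import Mathlib
import Cfsg.Prelude.Def_OddOrderLocal
import Cfsg.Agent.Lib.H19.HallPi
import Cfsg.Agent.Lib.H16.SameExp

/-!
# (P4', NA assembly) same exponent subgroup with a normal Hall piece
-/

set_option autoImplicit false

namespace Cfsg.Agent.Lib.H16.SameExp

open Subgroup Cfsg

theorem exists_same_exponent_of_normal_hall {G : Type*} [Group G] [Finite G] {p : ℕ}
    [Fact p.Prime] {E N H₁ T : Subgroup G} (hNE : N ≤ E) (hEN : E ≤ normalizer (N : Set G))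
    (hH₁E : H₁ ≤ E) (hHall : Cfsg.IsPiHallOf ({p}ᶜ : Set ℕ) (N ⊔ H₁) E) (hTE : T ≤ E)
    (hTp : IsPGroup p ↥T) (hH₁T : H₁ ≤ normalizer (T : Set G))
    (hexp : ∀ x ∈ E, (∃ k : ℕ, x ^ p ^ k = 1) → ∃ t ∈ T, orderOf x ∣ orderOf t) :
    ∃ E₀ : Subgroup G, E₀ ≤ E ∧ Monoid.exponent ↥E₀ = Monoid.exponent ↥E ∧
      ∀ x ∈ E₀, orderOf x = p → ∃ g ∈ E₀, g * x * g⁻¹ ∈ T := by
  have hp : p.Prime := Fact.out
  set E₀ : Subgroup G := (H₁ ⊔ T) ⊔ N with hE₀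
  have hE₀E : E₀ ≤ E := sup_le (sup_le hH₁E hTE) hNE
  have hTE₀ : T ≤ E₀ := le_trans le_sup_right le_sup_left
  have hH₁E₀ : H₁ ≤ E₀ := le_trans le_sup_left le_sup_left
  have hNE₀ : N ≤ E₀ := le_sup_right
  have hNH₁E₀ : N ⊔ H₁ ≤ E₀ := sup_le hNE₀ hH₁E₀
  -- cardinalities
  have hc1 : Nat.card (H₁ ⊔ T : Subgroup G) ∣ Nat.card H₁ * Nat.card T :=
    Cfsg.Agent.Lib.H19.card_sup_dvd_mul_of_le_normalizer hH₁T
  have hc2 : Nat.card E₀ ∣ Nat.card (H₁ ⊔ T : Subgroup G) * Nat.card N :=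
    Cfsg.Agent.Lib.H19.card_sup_dvd_mul_of_le_normalizer
      (le_trans (sup_le hH₁E hTE) hEN)
  have hc3 : Nat.card E₀ ∣ Nat.card T * (Nat.card H₁ * Nat.card N) := by
    refine dvd_trans hc2 ?_
    have := Nat.mul_dvd_mul_right hc1 (Nat.card N)
    refine dvd_trans this ?_
    exact dvd_of_eq (by ring)
  have hpN : ¬ p ∣ Nat.card N := fun h =>
    hHall.2.1 p hp (dvd_trans h (Subgroup.card_dvd_of_le le_sup_left)) rfl
  have hpH₁ : ¬ p ∣ Nat.card H₁ := fun h =>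
    hHall.2.1 p hp (dvd_trans h (Subgroup.card_dvd_of_le le_sup_right)) rfl
  have hrel : T.relIndex E₀ ∣ Nat.card H₁ * Nat.card N := by
    have h1 := Cfsg.Agent.Lib.H19.card_mul_relIndex hTE₀
    rw [← h1] at hc3
    exact Nat.dvd_of_mul_dvd_mul_left Nat.card_pos hc3
  have hTHall : Cfsg.IsPiHallOf ({p} : Set ℕ) T E₀ := by
    refine ⟨hTE₀, ?_, ?_⟩
    · intro r hr hrd
      obtain ⟨n, hn⟩ := IsPGroup.iff_card.1 hTp
      rw [hn] at hrd
      exact (Nat.prime_dvd_prime_iff_eq hr hp).1 (hr.dvd_of_dvd_pow hrd)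
    · intro r hr hrp hrd
      have hrp' : r = p := hrp
      subst hrp'
      rcases (Nat.Prime.dvd_mul hr).1 (dvd_trans hrd hrel) with h | h
      · exact hpH₁ h
      · exact hpN h
  refine ⟨E₀, hE₀E, ?_, ?_⟩
  · apply Nat.dvd_antisymm (exponent_dvd_of_le hE₀E)
    apply exponent_dvd_of_forall_prime_pow
    intro x hx q hq hxq
    by_cases hqp : q = p
    · subst hqp
      obtain ⟨t, ht, hxt⟩ := hexp x hx hxq
      exact dvd_trans hxt (orderOf_dvd_exponent_of_mem (hTE₀ ht))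
    · obtain ⟨g, -, hg⟩ := exists_conj_mem_of_hall hHall hq (show q ∈ ({p}ᶜ : Set ℕ) from hqp)
        hx hxq
      have := orderOf_dvd_exponent_of_mem (hNH₁E₀ hg)
      rwa [orderOf_conj'] at this
  · intro x hx hxp
    exact exists_conj_mem_of_hall hTHall hp (rfl : p ∈ ({p} : Set ℕ)) hx
      ⟨1, by rw [pow_one, ← hxp]; exact pow_orderOf_eq_one x⟩

end Cfsg.Agent.Lib.H16.SameExp
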