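import Mathlib
import Cfsg.Agent.Lib.H8.BG12k
import Cfsg.Agent.Lib.H7.BG13a
import Cfsg.Agent.Lib.H16.SameExp3

/-!
# (Q2) a `q`-element of `L`, `q ∈ σ(L)`, normalizing a `p`-subgroup `A ≤ L`, `p ∈ σ(L) ∖ β(L)`,
centralizes it  (piece of BG 12.13, for helper8)
-/

set_option autoImplicit false

open Cfsg Cfsg.Agent.Lib.H8.BG12 Cfsg.Agent.Lib.H7.BG10

namespace Cfsg.Agent.Lib.H16.BG1213

universe u
variable {G : Type u} [Group G] [Finite G]

theorem mem_centralizer_of_sigma (hG : IsMinSimpleOddOrder G) (hU : Uniq3 G) {L : Subgroup G}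
    (hL : IsCoatom L) {p q : ℕ} (hp : p.Prime) (hq : q.Prime) (hqp : q ≠ p) (hpσ : p ∈ sigma L)
    (hpβ : p ∉ beta L) (hqσ : q ∈ sigma L) {A : Subgroup G} (hAL : A ≤ L) (hAp : IsPGroup p ↥A)
    {t : G} (htL : t ∈ L) {k : ℕ} (htk : orderOf t = q ^ k)
    (htA : t ∈ Subgroup.normalizer (A : Set G)) : t ∈ Subgroup.centralizer (A : Set G) := by
  have hpf : Fact p.Prime := ⟨hp⟩
  obtain ⟨n, hn⟩ := IsPGroup.iff_card.1 hAp
  have hzN : Subgroup.zpowers t ≤ Subgroup.normalizer (A : Set G) := by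
    rw [Subgroup.zpowers_le]; exact htA
  have hzL : Subgroup.zpowers t ≤ L := by
    rw [Subgroup.zpowers_le]; exact htL
  -- orders of elements of `A`
  have hordA : ∀ a ∈ A, ∃ j : ℕ, orderOf a = p ^ j := by
    intro a ha
    have h1 : orderOf a ∣ Nat.card A := by
      have := orderOf_dvd_natCard (⟨a, ha⟩ : A)
      rwa [Subgroup.orderOf_mk] at this
    rw [hn] at h1
    obtain ⟨j, -, hj⟩ := (Nat.dvd_prime_pow hp).1 h1
    exact ⟨j, hj⟩
  have hcop : ∀ a ∈ A, (orderOf t).Coprime (orderOf a) := by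
    intro a ha
    obtain ⟨j, hj⟩ := hordA a ha
    rw [htk, hj]
    exact Nat.Coprime.pow _ _ ((Nat.coprime_primes hq hp).2 hqp)
  rw [Subgroup.mem_centralizer_iff]
  by_cases hqβ : q ∈ beta L
  · -- `t` lies in the normal Hall `β(L)`-subgroup `O` of `L`
    set O : Subgroup G := piCoreOf (beta L) L with hO
    have hOH : IsPiHallOf (beta L) O L := (beta_core_theorem hG hU hL).1
    have hLN : L ≤ Subgroup.normalizer (O : Set G) :=
      Cfsg.Agent.Lib.H7.BG7.le_normalizer_piCoreOf (beta L) L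
    have htO : t ∈ O := by
      refine Cfsg.Agent.Lib.H16.SameExp.mem_of_card_coprime hOH.1 htL (hLN htL)
        (m := O.relIndex L) (dvd_of_eq (Cfsg.Agent.Lib.H19.card_mul_relIndex hOH.1).symm) ?_
      apply Nat.coprime_of_dvd
      intro r hr hr1 hr2
      have hrβ : r ∈ beta L := by
        rcases (Nat.Prime.dvd_mul hr).1 hr1 with h | h
        · rw [htk] at h
          rw [(Nat.prime_dvd_prime_iff_eq hr hq).1 (hr.dvd_of_dvd_pow h)]; exact hqβ
        · exact hOH.2.1 r hr h
      exact hOH.2.2 r hr hrβ hr2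
    intro a ha
    have haL : a ∈ L := hAL ha
    -- the commutator lies in `O ⊓ A`
    set c : G := t * a * t⁻¹ * a⁻¹ with hc
    have hcA : c ∈ A := by
      have h1 : t * a * t⁻¹ ∈ A := (Subgroup.mem_normalizer_iff.1 htA a).1 ha
      exact mul_mem h1 (inv_mem ha)
    have hcO : c ∈ O := by
      have h1 : a * t⁻¹ * a⁻¹ ∈ O :=
        (Subgroup.mem_normalizer_iff.1 (hLN haL) t⁻¹).1 (inv_mem htO)
      have h2 : c = t * (a * t⁻¹ * a⁻¹) := by rw [hc]; group
      rw [h2]; exact mul_mem htO h1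
    have hc1 : c = 1 := by
      obtain ⟨j, hj⟩ := hordA c hcA
      have h1 : orderOf c ∣ Nat.card O := by
        have := orderOf_dvd_natCard (⟨c, hcO⟩ : O)
        rwa [Subgroup.orderOf_mk] at this
      rcases Nat.eq_zero_or_pos j with h0 | h0
      · rw [h0, pow_zero] at hj
        exact orderOf_eq_one_iff.1 hj
      · exfalso
        have h2 : p ∣ Nat.card O := by
          refine dvd_trans ?_ h1
          rw [hj]; exact dvd_pow_self p h0.ne'
        exact hpβ (hOH.2.1 p hp h2)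
    have h3 : t * a = a * t := by
      have : c * a * t = t * a := by rw [hc]; group
      rw [← this, hc1, one_mul]
    exact h3.symm
  · -- `zpowers t ⊔ A` is nilpotent
    set X : Subgroup G := Subgroup.zpowers t ⊔ A with hX
    have hXL : X ≤ L := sup_le hzL hAL
    have hcX : Nat.card X ∣ q ^ k * p ^ n := by
      have := Cfsg.Agent.Lib.H19.card_sup_dvd_mul_of_le_normalizer hzN
      rwa [Nat.card_zpowers, htk, hn] at this
    have hXnil : Group.IsNilpotent ↥X := by
      refine nilpotent_of_sigma_not_beta hG hU hL hXL ?_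
      intro r hr hrd
      rcases (Nat.Prime.dvd_mul hr).1 (dvd_trans hrd hcX) with h | h
      · rw [(Nat.prime_dvd_prime_iff_eq hr hq).1 (hr.dvd_of_dvd_pow h)]; exact ⟨hqσ, hqβ⟩
      · rw [(Nat.prime_dvd_prime_iff_eq hr hp).1 (hr.dvd_of_dvd_pow h)]; exact ⟨hpσ, hpβ⟩
    intro a ha
    have htX : t ∈ X := le_sup_left (a := Subgroup.zpowers t) (Subgroup.mem_zpowers t)
    have haX : a ∈ X := le_sup_right (a := Subgroup.zpowers t) ha
    exact (commute_of_nilpotent_coprime hXnil htX haX (hcop a ha)).symm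

end Cfsg.Agent.Lib.H16.BG1213
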