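import Mathlib
import Cfsg.Agent.Lib.H1.CoprimeAbelian
import Cfsg.Agent.Lib.H1.Complement

/-!
# Coprime action on an abelian section (helper16)

`inf_centralizer_le_of_section`: if `A` acts coprimely on `S`, `N ⊴ S` is `A`-invariant with `S/N`
abelian and `S = [S, A] N`, then `C_S(A) ≤ N`.
-/

set_option autoImplicit false
set_option linter.style.haveILetI false
set_option linter.unusedSectionVars false
set_option linter.unusedVariables false
open scoped commutatorElement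

namespace Cfsg.Agent.Lib.H16.BGSect

/-- homomorphism form: `φ` kills `[S, S]`, `S = [S, A] ker φ`, coprime action: `φ` kills `C_S(A)`. -/
theorem inf_centralizer_le_ker {H : Type*} [Group H] [Finite H] {Q : Type*} [Group Q] [Finite Q]
    (φ : H →* Q) {S A : Subgroup H}
    (hAS : A ≤ Subgroup.normalizer (S : Set H)) (hcop : (Nat.card A).Coprime (Nat.card S))
    (hab : ⁅S, S⁆ ≤ φ.ker) (hgen : S ≤ ⁅S, A⁆ ⊔ φ.ker) :
    S ⊓ Subgroup.centralizer (A : Set H) ≤ φ.ker := by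
  haveI : IsMulCommutative ↥(S.map φ) := by
    refine ⟨⟨?_⟩⟩
    rintro ⟨a, s, hs, rfl⟩ ⟨b, t, ht, rfl⟩
    apply Subtype.ext
    show φ s * φ t = φ t * φ s
    have h1 : ⁅s, t⁆ ∈ φ.ker := hab (Subgroup.commutator_mem_commutator hs ht)
    rw [MonoidHom.mem_ker, commutatorElement_def, map_mul, map_mul, map_mul, map_inv, map_inv] at h1
    have h2 : φ s * φ t = (φ s * φ t * (φ s)⁻¹ * (φ t)⁻¹) * (φ t * φ s) := by group
    rw [h2, h1, one_mul]
  have hAS' : A.map φ ≤ Subgroup.normalizer ((S.map φ : Subgroup Q) : Set Q) :=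
    (Subgroup.map_mono hAS).trans (Subgroup.le_normalizer_map φ)
  have hcop' : (Nat.card ↥(A.map φ)).Coprime (Nat.card ↥(S.map φ)) :=
    Nat.Coprime.coprime_dvd_left (Subgroup.card_map_dvd _ φ)
      (Nat.Coprime.coprime_dvd_right (Subgroup.card_map_dvd _ φ) hcop)
  have key := Cfsg.Agent.Lib.H1.coprime_abelian_centralizer_inf_commutator hAS' hcop'
  have hcomm : S.map φ ≤ ⁅S.map φ, A.map φ⁆ := by
    rw [← Subgroup.map_commutator]
    calc S.map φ ≤ (⁅S, A⁆ ⊔ φ.ker).map φ := Subgroup.map_mono hgen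
      _ = (⁅S, A⁆).map φ ⊔ (φ.ker).map φ := Subgroup.map_sup _ _ φ
      _ = (⁅S, A⁆).map φ := by
          rw [sup_eq_left]
          rintro _ ⟨x, hx, rfl⟩
          rw [SetLike.mem_coe, MonoidHom.mem_ker] at hx
          rw [hx]
          exact Subgroup.one_mem _
  intro x hx
  rw [MonoidHom.mem_ker]
  have h1 : φ x ∈ S.map φ := Subgroup.mem_map_of_mem φ hx.1
  have h2 : φ x ∈ Subgroup.centralizer ((A.map φ : Subgroup Q) : Set Q) := by
    rw [Subgroup.mem_centralizer_iff]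
    rintro _ ⟨a, ha, rfl⟩
    have := Subgroup.mem_centralizer_iff.1 hx.2 a ha
    rw [← map_mul, ← map_mul, this]
  have h3 : φ x ∈ (S.map φ ⊓ Subgroup.centralizer ((A.map φ : Subgroup Q) : Set Q)) ⊓
      ⁅S.map φ, A.map φ⁆ := ⟨⟨h1, h2⟩, hcomm h1⟩
  rw [key] at h3
  exact Subgroup.mem_bot.1 h3

variable {G : Type*} [Group G] [Finite G]

/-- `C_S(A) ≤ N` for a coprime action of `A` on `S` with `S/N` abelian and `S = [S, A] N`. -/
theorem inf_centralizer_le_of_section {S A N : Subgroup G}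
    (hAS : A ≤ Subgroup.normalizer (S : Set G)) (hcop : (Nat.card A).Coprime (Nat.card S))
    (hSN : S ≤ Subgroup.normalizer (N : Set G)) (hAN : A ≤ Subgroup.normalizer (N : Set G))
    (hab : ⁅S, S⁆ ≤ N) (hgen : S ≤ ⁅S, A⁆ ⊔ N) :
    S ⊓ Subgroup.centralizer (A : Set G) ≤ N := by
  set B : Subgroup G := Subgroup.normalizer (N : Set G) with hB
  have hNB : N ≤ B := Subgroup.le_normalizer
  haveI hnorm : (N.subgroupOf B).Normal := Subgroup.normal_in_normalizer
  have hcomS : ⁅S, A⁆ ≤ S := (Subgroup.le_normalizer_iff_commutator_le_left).mp hAS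
  have hcomB : ⁅S, A⁆ ≤ B := hcomS.trans hSN
  have hker : (QuotientGroup.mk' (N.subgroupOf B)).ker = N.subgroupOf B := QuotientGroup.ker_mk' _
  have hAS' : A.subgroupOf B ≤ Subgroup.normalizer ((S.subgroupOf B : Subgroup ↥B) : Set ↥B) := by
    intro a ha
    rw [Subgroup.mem_normalizer_iff]
    intro s
    rw [Subgroup.mem_subgroupOf, Subgroup.mem_subgroupOf]
    exact Subgroup.mem_normalizer_iff.1 (hAS (Subgroup.mem_subgroupOf.1 ha)) (s : G)
  have hcop' : (Nat.card ↥(A.subgroupOf B)).Coprime (Nat.card ↥(S.subgroupOf B)) := by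
    rw [Nat.card_congr (Subgroup.subgroupOfEquivOfLe hAN).toEquiv,
      Nat.card_congr (Subgroup.subgroupOfEquivOfLe hSN).toEquiv]
    exact hcop
  have hab' : ⁅S.subgroupOf B, S.subgroupOf B⁆ ≤ (QuotientGroup.mk' (N.subgroupOf B)).ker := by
    rw [hker, Subgroup.commutator_le]
    intro s hs t ht
    rw [Subgroup.mem_subgroupOf]
    exact hab (Subgroup.commutator_mem_commutator (Subgroup.mem_subgroupOf.1 hs)
      (Subgroup.mem_subgroupOf.1 ht))
  have e1 : ⁅S.subgroupOf B, A.subgroupOf B⁆ = (⁅S, A⁆).subgroupOf B := by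
    apply Subgroup.map_injective B.subtype_injective
    rw [Subgroup.map_commutator, Subgroup.map_subgroupOf_eq_of_le hSN,
      Subgroup.map_subgroupOf_eq_of_le hAN, Subgroup.map_subgroupOf_eq_of_le hcomB]
  have hgen' : S.subgroupOf B ≤ ⁅S.subgroupOf B, A.subgroupOf B⁆ ⊔
      (QuotientGroup.mk' (N.subgroupOf B)).ker := by
    rw [hker, e1, ← Subgroup.subgroupOf_sup hcomB hNB]
    intro s hs
    rw [Subgroup.mem_subgroupOf] at hs ⊢
    exact hgen hs
  have key := inf_centralizer_le_ker (QuotientGroup.mk' (N.subgroupOf B)) hAS' hcop' hab' hgen'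
  intro x hx
  have hxB : x ∈ B := hSN hx.1
  have h1 : (⟨x, hxB⟩ : ↥B) ∈ S.subgroupOf B ⊓
      Subgroup.centralizer ((A.subgroupOf B : Subgroup ↥B) : Set ↥B) := by
    refine Subgroup.mem_inf.2 ⟨Subgroup.mem_subgroupOf.2 hx.1, ?_⟩
    rw [Subgroup.mem_centralizer_iff]
    intro a ha
    apply Subtype.ext
    exact Subgroup.mem_centralizer_iff.1 hx.2 (a : G) (Subgroup.mem_subgroupOf.1 ha)
  have h2 := key h1
  rw [hker, Subgroup.mem_subgroupOf] at h2
  exact h2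

/-- `S = [S, K U] ≤ [S, K] (S ∩ T')` when `S, U ≤ T` and `K U` normalizes `S`. -/
theorem le_commutator_sup {S K U T : Subgroup G} (hSE : ⁅S, K ⊔ U⁆ = S)
    (hKU : K ≤ Subgroup.normalizer (U : Set G)) (hUS : U ≤ Subgroup.normalizer (S : Set G))
    (hKS : K ≤ Subgroup.normalizer (S : Set G)) (hST : S ≤ T) (hUT : U ≤ T) :
    S ≤ ⁅S, K⁆ ⊔ (S ⊓ ⁅T, T⁆) := by
  have hcomSK : ⁅S, K⁆ ≤ S := (Subgroup.le_normalizer_iff_commutator_le_left).mp hKS
  conv_lhs => rw [← hSE]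
  rw [Subgroup.commutator_le]
  intro s hs e he
  have he' : e ∈ U ⊔ K := by rw [sup_comm]; exact he
  obtain ⟨u, hu, k', hk', rfl⟩ := Cfsg.Agent.Lib.H1.mem_sup_of_le_normalizer hKU he'
  have e1 : ⁅s, u * k'⁆ = ⁅s, u⁆ * (⁅u, ⁅s, k'⁆⁆ * ⁅s, k'⁆) := by
    simp only [commutatorElement_def]; group
  rw [e1]
  have hsk : ⁅s, k'⁆ ∈ ⁅S, K⁆ := Subgroup.commutator_mem_commutator hs hk'
  have hnS : ∀ m ∈ U, ∀ x ∈ S, ⁅m, x⁆ ∈ S := by
    intro m hm x hx
    have h2 : m * x * m⁻¹ ∈ S := (Subgroup.mem_normalizer_iff.1 (hUS hm) x).1 hx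
    rw [commutatorElement_def]
    exact S.mul_mem h2 (S.inv_mem hx)
  have h3 : ⁅s, u⁆ ∈ S ⊓ ⁅T, T⁆ := by
    refine ⟨?_, Subgroup.commutator_mem_commutator (hST hs) (hUT hu)⟩
    have h4 : ⁅s, u⁆ = (⁅u, s⁆)⁻¹ := by simp only [commutatorElement_def]; group
    rw [h4]
    exact S.inv_mem (hnS u hu s hs)
  have h5 : ⁅u, ⁅s, k'⁆⁆ ∈ S ⊓ ⁅T, T⁆ :=
    ⟨hnS u hu _ (hcomSK hsk),
      Subgroup.commutator_mem_commutator (hUT hu) (hST (hcomSK hsk))⟩
  exact Subgroup.mul_mem _ (Subgroup.mem_sup_right h3)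
    (Subgroup.mul_mem _ (Subgroup.mem_sup_right h5) (Subgroup.mem_sup_left hsk))

end Cfsg.Agent.Lib.H16.BGSect
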