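import Mathlib
import Cfsg.Prelude.Def_BaumannBlocks
import Cfsg.Agent.Lib.H15.MCL
import Cfsg.Agent.Lib.H15.CLAb
import Cfsg.Agent.Lib.H15.PGroup

/-!
S3008 piece CONJ: a conjugate of a minimal centrally large subgroup is minimal centrally large.
-/

set_option autoImplicit false

namespace Cfsg.Agent.Lib.H16.CLB

open scoped Pointwise commutatorElement
open Cfsg.Agent.Lib.H15

variable {G : Type*} [Group G]

/-- The centralizer of the image of a subgroup under an automorphism. -/
theorem centralizer_map_equiv (e : G ≃* G) (R : Subgroup G) :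
    Subgroup.centralizer ((R.map e.toMonoidHom : Subgroup G) : Set G)
      = (Subgroup.centralizer (R : Set G)).map e.toMonoidHom := by
  ext x
  constructor
  · intro h
    rw [Subgroup.mem_centralizer_iff] at h
    refine ⟨e.symm x, ?_, by simp⟩
    show e.symm x ∈ Subgroup.centralizer (R : Set G)
    rw [Subgroup.mem_centralizer_iff]
    intro r hr
    apply e.injective
    have h1 := h (e r) ⟨r, hr, rfl⟩
    simpa using h1
  · rintro ⟨c, hc, rfl⟩
    replace hc : c ∈ Subgroup.centralizer (R : Set G) := hc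
    rw [Subgroup.mem_centralizer_iff] at hc ⊢
    rintro y ⟨r, hr, rfl⟩
    have h1 := hc r hr
    show e r * e c = e c * e r
    rw [← map_mul, ← map_mul, h1]

theorem fz_map_equiv (e : G ≃* G) (R : Subgroup G) :
    fz (R.map e.toMonoidHom) = fz R := by
  rw [fz_eq, fz_eq, centralizer_map_equiv, ← Subgroup.map_inf _ _ _ e.injective,
    Subgroup.card_map_of_injective e.injective, Subgroup.card_map_of_injective e.injective]

theorem cl_map_equiv (e : G ≃* G) {R : Subgroup G} (hR : Cfsg.IsCentrallyLarge R) :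
    Cfsg.IsCentrallyLarge (R.map e.toMonoidHom) := by
  show fz (R.map e.toMonoidHom) = Cfsg.maxCentralProduct G
  rw [fz_map_equiv]
  exact hR

theorem map_symm_map_equiv (e : G ≃* G) (R : Subgroup G) :
    (R.map e.toMonoidHom).map e.symm.toMonoidHom = R := by
  ext x
  constructor
  · rintro ⟨y, ⟨r, hr, rfl⟩, rfl⟩
    simpa using hr
  · intro hx
    exact ⟨e x, ⟨x, hx, rfl⟩, by simp⟩

theorem mcl_map_equiv (e : G ≃* G) {Q : Subgroup G} (hQ : Cfsg.IsMinimalCentrallyLarge Q) :
    Cfsg.IsMinimalCentrallyLarge (Q.map e.toMonoidHom) := by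
  refine ⟨cl_map_equiv e hQ.1, ?_⟩
  intro R' hR' hcl
  have h1 : R'.map e.symm.toMonoidHom ≤ Q := by
    have := Subgroup.map_mono (f := e.symm.toMonoidHom) hR'
    rwa [map_symm_map_equiv] at this
  have h2 := hQ.2 _ h1 (cl_map_equiv e.symm hcl)
  have h3 := map_symm_map_equiv e.symm R'
  simp only [MulEquiv.symm_symm] at h3
  rw [← h3, h2]

/-- **CONJ**: a conjugate of a minimal centrally large subgroup is minimal centrally large. -/
theorem mcl_conj {G : Type*} [Group G] [Finite G] {Q : Subgroup G}
    (hQ : Cfsg.IsMinimalCentrallyLarge Q) (g : G) :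
    Cfsg.IsMinimalCentrallyLarge (Q.map (MulAut.conj g).toMonoidHom) ∧
    Subgroup.centralizer ((Q.map (MulAut.conj g).toMonoidHom : Subgroup G) : Set G)
      = (Subgroup.centralizer (Q : Set G)).map (MulAut.conj g).toMonoidHom :=
  ⟨mcl_map_equiv (MulAut.conj g) hQ, centralizer_map_equiv (MulAut.conj g) Q⟩

end Cfsg.Agent.Lib.H16.CLB
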