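import Mathlib

/-!
# S3814 tool pack AUTCYC (helper16)

The normaliser of a cyclic subgroup `⟨m⟩` acts on it through an abelian group, and through a
cyclic group of order dividing `c - 1` when `m` has prime order `c`.  Everything is elementwise.

* `commutator_commute`: `g, h ∈ N(⟨m⟩)` ⟹ `g h g⁻¹ h⁻¹` centralises `m` (any order of `m`).
* `commute_of_coprime_pred`: `m` of prime order `c`, `g` normalises `⟨m⟩`, `o(g)` coprime to
  `c - 1` ⟹ `g` centralises `m`.
* `dvd_pred_of_not_commute`: `g` of prime order `a` normalising but not centralising `⟨m⟩`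
  ⟹ `a ∣ c - 1`.
* `exists_mul_pow_commute`: `x, z` with `x ^ a = 1 = z ^ a` (`a` prime), both normalising `⟨m⟩`
  ⟹ `z` centralises `m` or some `x * z ^ k` does.
-/

set_option autoImplicit false

namespace Cfsg.Agent.Lib.H16.S3814AutCyc

variable {G : Type*} [Group G]

/-- conjugation of a power, integer exponents. -/
theorem conj_zpow_of_conj_eq {g m : G} {i : ℤ} (h : g * m * g⁻¹ = m ^ i) (k : ℤ) :
    g * m ^ k * g⁻¹ = m ^ (i * k) := by
  rw [← conj_zpow, h, zpow_mul]

/-- conjugation of a power, natural exponents. -/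
theorem conj_pow_of_conj_eq {g m : G} {i : ℕ} (h : g * m * g⁻¹ = m ^ i) (k : ℕ) :
    g * m ^ k * g⁻¹ = m ^ (i * k) := by
  rw [← conj_pow, h, pow_mul]

/-- the product acts by the product of the exponents. -/
theorem conj_mul_of_conj_eq {g h m : G} {i j : ℕ} (hg : g * m * g⁻¹ = m ^ i)
    (hh : h * m * h⁻¹ = m ^ j) : (g * h) * m * (g * h)⁻¹ = m ^ (i * j) := by
  have : (g * h) * m * (g * h)⁻¹ = g * (h * m * h⁻¹) * g⁻¹ := by group
  rw [this, hh, conj_pow_of_conj_eq hg]

/-- a power acts by the power of the exponent. -/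
theorem conj_pow_pow_of_conj_eq {g m : G} {i : ℕ} (hg : g * m * g⁻¹ = m ^ i) (n : ℕ) :
    g ^ n * m * (g ^ n)⁻¹ = m ^ (i ^ n) := by
  induction n with
  | zero => simp
  | succ n ih =>
    have h1 : g ^ (n + 1) = g ^ n * g := pow_succ g n
    rw [h1, conj_mul_of_conj_eq ih hg, pow_succ]

/-- **Aut of a cyclic group is abelian**: commutators of elements of `N(⟨m⟩)` centralise `m`. -/
theorem commutator_commute (m g h : G)
    (hg : g ∈ Subgroup.normalizer (Subgroup.zpowers m : Set G))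
    (hh : h ∈ Subgroup.normalizer (Subgroup.zpowers m : Set G)) :
    Commute (g * h * g⁻¹ * h⁻¹) m := by
  have hm : m ∈ Subgroup.zpowers m := Subgroup.mem_zpowers m
  obtain ⟨i, hi⟩ := Subgroup.mem_zpowers_iff.mp ((Subgroup.mem_normalizer_iff.mp hg m).mp hm)
  obtain ⟨j, hj⟩ := Subgroup.mem_zpowers_iff.mp ((Subgroup.mem_normalizer_iff.mp hh m).mp hm)
  obtain ⟨i', hi'⟩ :=
    Subgroup.mem_zpowers_iff.mp ((Subgroup.mem_normalizer_iff''.mp hg m).mp hm)
  obtain ⟨j', hj'⟩ :=
    Subgroup.mem_zpowers_iff.mp ((Subgroup.mem_normalizer_iff''.mp hh m).mp hm)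
  -- hi : m ^ i = g * m * g⁻¹ ; hi' : m ^ i' = g⁻¹ * m * g
  have hgi : g * m * g⁻¹ = m ^ i := hi.symm
  have hhj : h * m * h⁻¹ = m ^ j := hj.symm
  have hgi' : g⁻¹ * m * (g⁻¹)⁻¹ = m ^ i' := by rw [inv_inv]; exact hi'.symm
  have hhj' : h⁻¹ * m * (h⁻¹)⁻¹ = m ^ j' := by rw [inv_inv]; exact hj'.symm
  -- m ^ (i * i') = m, m ^ (j * j') = m
  have e1 : m ^ (i * i') = m := by
    rw [← conj_zpow_of_conj_eq hgi i', hi']; group
  have e2 : m ^ (j * j') = m := by
    rw [← conj_zpow_of_conj_eq hhj j', hj']; group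
  have key : (g * h * g⁻¹ * h⁻¹) * m * (g * h * g⁻¹ * h⁻¹)⁻¹ = m := by
    have s1 : (g * h * g⁻¹ * h⁻¹) * m * (g * h * g⁻¹ * h⁻¹)⁻¹
        = g * (h * (g⁻¹ * (h⁻¹ * m * (h⁻¹)⁻¹) * (g⁻¹)⁻¹) * h⁻¹) * g⁻¹ := by group
    rw [s1, hhj', conj_zpow_of_conj_eq hgi', conj_zpow_of_conj_eq hhj,
      conj_zpow_of_conj_eq hgi]
    have : i * (j * (i' * j')) = (i * i') * (j * j') := by ring
    rw [this, zpow_mul, e1, e2]
  -- Commute a m ↔ a * m = m * a
  show (g * h * g⁻¹ * h⁻¹) * m = m * (g * h * g⁻¹ * h⁻¹)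
  calc (g * h * g⁻¹ * h⁻¹) * m
      = ((g * h * g⁻¹ * h⁻¹) * m * (g * h * g⁻¹ * h⁻¹)⁻¹) * (g * h * g⁻¹ * h⁻¹) := by group
    _ = m * (g * h * g⁻¹ * h⁻¹) := by rw [key]

section prime

variable {c : ℕ}

/-- exponent bookkeeping: for `m` of order `c`, `m ^ i = m ^ j ↔ (i : ZMod c) = j`. -/
theorem pow_eq_pow_iff_zmod {m : G} (hm : orderOf m = c) (i j : ℕ) :
    m ^ i = m ^ j ↔ (i : ZMod c) = (j : ZMod c) := by
  rw [pow_eq_pow_iff_modEq, hm, ZMod.natCast_eq_natCast_iff]

/-- a conjugate of `m` inside `⟨m⟩` is a natural power when `m` has finite order. -/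
theorem exists_nat_pow_of_mem_zpowers {m y : G} (hc : c.Prime) (hm : orderOf m = c)
    (hy : y ∈ Subgroup.zpowers m) : ∃ i : ℕ, y = m ^ i := by
  have hfin : IsOfFinOrder m := by
    rw [← orderOf_pos_iff, hm]; exact hc.pos
  obtain ⟨i, hi⟩ := (hfin.mem_powers_iff_mem_zpowers).mpr hy
  exact ⟨i, hi.symm⟩

/-- the exponent of a conjugate of `m ≠ 1` is nonzero mod `c`. -/
theorem exponent_ne_zero {m g : G} (hc : c.Prime) (hm : orderOf m = c) {i : ℕ}
    (hg : g * m * g⁻¹ = m ^ i) : (i : ZMod c) ≠ 0 := by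
  intro h0
  have h1 : m ^ i = m ^ 0 := by
    rw [pow_eq_pow_iff_zmod hm]; simpa using h0
  rw [pow_zero] at h1
  rw [h1] at hg
  have : m = 1 := by
    have : m = g⁻¹ * (g * m * g⁻¹) * g := by group
    rw [this, hg]; group
  rw [this, orderOf_one] at hm
  exact hc.one_lt.ne hm

set_option linter.unusedVariables false in
/-- `m` of prime order `c`, `g` normalising `⟨m⟩` with order coprime to `c - 1`: `g` centralises
`m`.  In particular all `c`-elements of `N(⟨m⟩)` centralise `m`.  (`hfin` is not used: it is kept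
for the announced signature.) -/
theorem commute_of_coprime_pred (hc : c.Prime) (m g : G) (hm : orderOf m = c)
    (hg : g * m * g⁻¹ ∈ Subgroup.zpowers m) (hfin : IsOfFinOrder g)
    (hcop : (orderOf g).Coprime (c - 1)) : Commute g m := by
  have : Fact c.Prime := ⟨hc⟩
  obtain ⟨i, hi⟩ := exists_nat_pow_of_mem_zpowers hc hm hg
  have hne : (i : ZMod c) ≠ 0 := exponent_ne_zero hc hm hi
  -- i ^ (orderOf g) = 1 in ZMod c
  have h1 : ((i : ZMod c)) ^ orderOf g = 1 := by
    have h2 := conj_pow_pow_of_conj_eq hi (orderOf g)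
    rw [pow_orderOf_eq_one] at h2
    have h3 : m ^ (i ^ orderOf g) = m ^ 1 := by
      rw [← h2, pow_one]; group
    have := (pow_eq_pow_iff_zmod hm _ _).mp h3
    simpa using this
  have h2 : ((i : ZMod c)) ^ (c - 1) = 1 := ZMod.pow_card_sub_one_eq_one hne
  have h3 : (i : ZMod c) ^ (orderOf g).gcd (c - 1) = 1 := pow_gcd_eq_one.mpr ⟨h1, h2⟩
  rw [hcop, pow_one] at h3
  have h4 : m ^ i = m ^ 1 := by
    rw [pow_eq_pow_iff_zmod hm]; simpa using h3
  rw [pow_one] at h4
  rw [h4] at hi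
  show g * m = m * g
  calc g * m = (g * m * g⁻¹) * g := by group
    _ = m * g := by rw [hi]

/-- `g` of prime order `a` normalising but not centralising `⟨m⟩` (`m` of prime order `c`):
`a ∣ c - 1`. -/
theorem dvd_pred_of_not_commute {a : ℕ} (ha : a.Prime) (hc : c.Prime) (m g : G)
    (hm : orderOf m = c) (hgo : orderOf g = a) (hg : g * m * g⁻¹ ∈ Subgroup.zpowers m)
    (hnc : ¬ Commute g m) : a ∣ c - 1 := by
  by_contra hnd
  apply hnc
  apply commute_of_coprime_pred hc m g hm hg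
  · rw [← orderOf_pos_iff, hgo]; exact ha.pos
  · rw [hgo]; exact (Nat.Prime.coprime_iff_not_dvd ha).mpr hnd

/-- **`N(⟨m⟩)/C(m)` is cyclic**: two commuting elements `x, z` killed by the prime `a`, both
normalising `⟨m⟩` (`m` of prime order `c`): `z` centralises `m`, or `x * z ^ k` does for some
`k`. -/
theorem exists_mul_pow_commute {a : ℕ} (ha : a.Prime) (hc : c.Prime) (m x z : G)
    (hm : orderOf m = c) (hx : x ^ a = 1) (hz : z ^ a = 1)
    (hxm : x * m * x⁻¹ ∈ Subgroup.zpowers m) (hzm : z * m * z⁻¹ ∈ Subgroup.zpowers m) :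
    Commute z m ∨ ∃ k : ℕ, Commute (x * z ^ k) m := by
  classical
  have : Fact c.Prime := ⟨hc⟩
  have : Fact a.Prime := ⟨ha⟩
  obtain ⟨i, hi⟩ := exists_nat_pow_of_mem_zpowers hc hm hxm
  obtain ⟨j, hj⟩ := exists_nat_pow_of_mem_zpowers hc hm hzm
  have hi0 : (i : ZMod c) ≠ 0 := exponent_ne_zero hc hm hi
  have hj0 : (j : ZMod c) ≠ 0 := exponent_ne_zero hc hm hj
  -- i ^ a = 1, j ^ a = 1 in ZMod c
  have pow_one_of : ∀ (y : G) (l : ℕ), y ^ a = 1 → y * m * y⁻¹ = m ^ l →
      (l : ZMod c) ^ a = 1 := by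
    intro y l hy hl
    have h2 := conj_pow_pow_of_conj_eq hl a
    rw [hy] at h2
    have h3 : m ^ (l ^ a) = m ^ 1 := by
      rw [← h2, pow_one]; group
    have := (pow_eq_pow_iff_zmod hm _ _).mp h3
    simpa using this
  have hia : (i : ZMod c) ^ a = 1 := pow_one_of x i hx hi
  have hja : (j : ZMod c) ^ a = 1 := pow_one_of z j hz hj
  -- units
  set ui : (ZMod c)ˣ := Units.mk0 (i : ZMod c) hi0 with hui
  set uj : (ZMod c)ˣ := Units.mk0 (j : ZMod c) hj0 with huj
  have huia : ui ^ a = 1 := by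
    apply Units.ext; simp [hui, hia]
  have huja : uj ^ a = 1 := by
    apply Units.ext; simp [huj, hja]
  -- the conclusion from `i * j ^ k = 1`
  have concl : ∀ k : ℕ, (i : ZMod c) * (j : ZMod c) ^ k = 1 → Commute (x * z ^ k) m := by
    intro k hk
    have h1 : (x * z ^ k) * m * (x * z ^ k)⁻¹ = m ^ (i * j ^ k) :=
      conj_mul_of_conj_eq hi (conj_pow_pow_of_conj_eq hj k)
    have h2 : m ^ (i * j ^ k) = m ^ 1 := by
      rw [pow_eq_pow_iff_zmod hm]; simpa using hk
    rw [h2, pow_one] at h1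
    show (x * z ^ k) * m = m * (x * z ^ k)
    calc (x * z ^ k) * m = ((x * z ^ k) * m * (x * z ^ k)⁻¹) * (x * z ^ k) := by group
      _ = m * (x * z ^ k) := by rw [h1]
  by_cases huj1 : uj = 1
  · left
    have hj1 : (j : ZMod c) = 1 := by
      have := congrArg Units.val huj1
      simpa [huj] using this
    have h4 : m ^ j = m ^ 1 := by
      rw [pow_eq_pow_iff_zmod hm]; simpa using hj1
    rw [pow_one] at h4
    rw [h4] at hj
    show z * m = m * z
    calc z * m = (z * m * z⁻¹) * z := by group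
      _ = m * z := by rw [hj]
  · right
    have hord : orderOf uj = a := orderOf_eq_prime huja huj1
    -- the a-th roots of unity are exactly the powers of uj
    let S : Finset (ZMod c)ˣ := Finset.univ.filter (fun u => u ^ a = 1)
    let T : Finset (ZMod c)ˣ := (Finset.range a).image (fun k => uj ^ k)
    have hS : S.card ≤ a := IsCyclic.card_pow_eq_one_le ha.pos
    have hTS : T ⊆ S := by
      intro u hu
      obtain ⟨k, -, rfl⟩ := Finset.mem_image.mp hu
      simp only [S, Finset.mem_filter, Finset.mem_univ, true_and]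
      rw [← pow_mul, mul_comm, pow_mul, huja, one_pow]
    have hT : T.card = a := by
      rw [Finset.card_image_of_injOn, Finset.card_range]
      intro k1 hk1 k2 hk2 hkk
      have hk1' : k1 < orderOf uj := by rw [hord]; exact Finset.mem_range.mp hk1
      have hk2' : k2 < orderOf uj := by rw [hord]; exact Finset.mem_range.mp hk2
      exact pow_injOn_Iio_orderOf hk1' hk2' hkk
    have hTeq : T = S := Finset.eq_of_subset_of_card_le hTS (by rw [hT]; exact hS)
    have huiS : ui ∈ S := by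
      simp only [S, Finset.mem_filter, Finset.mem_univ, true_and]; exact huia
    rw [← hTeq] at huiS
    obtain ⟨k, hk, hkui⟩ := Finset.mem_image.mp huiS
    have hk' : k ≤ a := (Finset.mem_range.mp hk).le
    refine ⟨a - k, concl (a - k) ?_⟩
    have h5 : ui * uj ^ (a - k) = 1 := by
      rw [← hkui, ← pow_add, Nat.add_sub_cancel' hk', huja]
    have := congrArg Units.val h5
    simpa [hui, huj] using this

/-- consumer form for the (F2) output `x, z` of order `a`, commuting, `x ∉ ⟨z⟩`: if both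
normalise `⟨m⟩` (`m` of prime order `c`) there is `e` of order `a` in `⟨x, z⟩`, of the shape
`x ^ s * z ^ k`, centralising `m`. -/
theorem exists_orderOf_eq_commute {a : ℕ} (ha : a.Prime) (hc : c.Prime) (m x z : G)
    (hm : orderOf m = c) (hx : orderOf x = a) (hz : orderOf z = a) (hxz : Commute x z)
    (hxnz : x ∉ Subgroup.zpowers z)
    (hxm : x * m * x⁻¹ ∈ Subgroup.zpowers m) (hzm : z * m * z⁻¹ ∈ Subgroup.zpowers m) :
    ∃ e : G, (∃ s k : ℕ, e = x ^ s * z ^ k) ∧ orderOf e = a ∧ Commute e m := by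
  have : Fact a.Prime := ⟨ha⟩
  have hxa : x ^ a = 1 := by rw [← hx]; exact pow_orderOf_eq_one x
  have hza : z ^ a = 1 := by rw [← hz]; exact pow_orderOf_eq_one z
  rcases exists_mul_pow_commute ha hc m x z hm hxa hza hxm hzm with h | ⟨k, hk⟩
  · exact ⟨z, ⟨0, 1, by simp⟩, hz, h⟩
  · refine ⟨x * z ^ k, ⟨1, k, by simp⟩, ?_, hk⟩
    apply orderOf_eq_prime
    · rw [(hxz.pow_right k).mul_pow, hxa, ← pow_mul, mul_comm, pow_mul, hza, one_pow, one_mul]
    · intro h1
      apply hxnz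
      have : x = (z ^ k)⁻¹ := eq_inv_of_mul_eq_one_left h1
      rw [this]
      exact Subgroup.inv_mem _ (Subgroup.pow_mem _ (Subgroup.mem_zpowers z) k)

end prime

end Cfsg.Agent.Lib.H16.S3814AutCyc
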