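import Mathlib
import Cfsg.Agent.Lib.H25.ZasSyl

/-!
# Zassenhaus: groups of odd order with a fixed-point-free representation

A finite group `R` of odd order with a fixed-point-free complex representation is a Z-group all of
whose subgroups of order `p * q` are cyclic.  We derive: `R` is solvable, nilpotent such groups are
cyclic, `R` has a unique subgroup of each prime order, elements of prime order commute, and
elements of prime order centralize every cyclic normal subgroup.
-/

namespace Cfsg.Agent.Lib.H16.ZasXOdd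

open Cfsg.Agent.Lib.H25.Zas

/-- the order of `H ⊔ K` for `K` normal and `K ⊓ H = ⊥`. -/
theorem card_sup_of_normal_of_inf_eq_bot {G : Type*} [Group G] (H K : Subgroup G) [K.Normal]
    (hd : K ⊓ H = ⊥) : Nat.card (H ⊔ K : Subgroup G) = Nat.card K * Nat.card H := by
  have h1 : Nat.card K * K.relIndex (H ⊔ K) = Nat.card (H ⊔ K : Subgroup G) := by
    have := Subgroup.relIndex_mul_relIndex ⊥ K (H ⊔ K) bot_le le_sup_right
    rwa [Subgroup.relIndex_bot_left, Subgroup.relIndex_bot_left] at this
  rw [← h1, Subgroup.relIndex_sup_right, ← Subgroup.inf_relIndex_right, hd,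
    Subgroup.relIndex_bot_left]

/-- an element of prime order `p` lies in every normal subgroup of index prime to `p`. -/
theorem mem_of_orderOf_not_dvd_index {R : Type*} [Group R] [Finite R] (N : Subgroup R) [N.Normal]
    {x : R} {p : ℕ} (hp : p.Prime) (hx : orderOf x = p) (hN : ¬ p ∣ N.index) : x ∈ N := by
  rw [← QuotientGroup.eq_one_iff, ← orderOf_eq_one_iff]
  have h1 : orderOf (x : R ⧸ N) ∣ p := hx ▸ orderOf_map_dvd (QuotientGroup.mk' N) x
  have h2 : orderOf (x : R ⧸ N) ∣ N.index := by
    rw [Subgroup.index_eq_card]; exact orderOf_dvd_natCard _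
  rcases (Nat.dvd_prime hp).mp h1 with h | h
  · exact h
  · exact absurd (h ▸ h2) hN

/-- if `x` commutes with `w` and `x * y * x⁻¹ = w * y` then `x ^ k * y * (x ^ k)⁻¹ = w ^ k * y`. -/
theorem conj_pow_eq {R : Type*} [Group R] {x y w : R} (hxw : x * w = w * x)
    (hc : x * y * x⁻¹ = w * y) (k : ℕ) : x ^ k * y * (x ^ k)⁻¹ = w ^ k * y := by
  induction k with
  | zero => simp
  | succ k ih =>
    have hxwk : x * w ^ k = w ^ k * x := (Commute.pow_right hxw k)
    calc x ^ (k + 1) * y * (x ^ (k + 1))⁻¹
        = x * (x ^ k * y * (x ^ k)⁻¹) * x⁻¹ := by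
          rw [pow_succ', mul_inv_rev]; group
      _ = x * (w ^ k * y) * x⁻¹ := by rw [ih]
      _ = (x * w ^ k) * y * x⁻¹ := by group
      _ = w ^ k * (x * y * x⁻¹) := by rw [hxwk]; group
      _ = w ^ (k + 1) * y := by rw [hc, pow_succ]; group

theorem pow_eq_one_of_conj {R : Type*} [Group R] {x y w : R} (hxw : x * w = w * x)
    (hc : x * y * x⁻¹ = w * y) {k : ℕ} (hk : x ^ k = 1) : w ^ k = 1 := by
  have := conj_pow_eq hxw hc k
  rw [hk, one_mul, inv_one, mul_one] at this
  exact (mul_eq_right (a := w ^ k) (b := y)).mp this.symm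

/-- a cyclic subgroup contained in a normal cyclic subgroup is normal. -/
theorem zpowers_normal_of_mem {R : Type*} [Group R] {g a : R} (hN : (Subgroup.zpowers g).Normal)
    (ha : a ∈ Subgroup.zpowers g) : (Subgroup.zpowers a).Normal := by
  refine ⟨fun b hb r => ?_⟩
  obtain ⟨i, rfl⟩ := Subgroup.mem_zpowers_iff.mp hb
  obtain ⟨k, rfl⟩ := Subgroup.mem_zpowers_iff.mp ha
  obtain ⟨j, hj⟩ := Subgroup.mem_zpowers_iff.mp (hN.conj_mem g (Subgroup.mem_zpowers g) r)
  have : r * (g ^ k) ^ i * r⁻¹ = ((g ^ k) ^ i) ^ j := by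
    rw [← conj_zpow, ← conj_zpow, ← hj, ← zpow_mul, ← zpow_mul, ← zpow_mul, ← zpow_mul]
    congr 1; ring
  rw [this]
  exact Subgroup.zpow_mem _ (Subgroup.zpow_mem _ (Subgroup.mem_zpowers _) _) _

/-- in an fpf group an element of prime order `p` commutes with every element of prime order
`q ≠ p` generating a normal subgroup. -/
theorem commute_of_normal_prime {R : Type*} [Group R] [Finite R] (h : IsFPF R) {x c : R}
    {p q : ℕ} (hp : p.Prime) (hq : q.Prime) (hpq : p ≠ q) (hx : orderOf x = p)
    (hc : orderOf c = q) (hN : (Subgroup.zpowers c).Normal) : x * c = c * x := by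
  have hcop : Nat.Coprime (Nat.card (Subgroup.zpowers c)) (Nat.card (Subgroup.zpowers x)) := by
    rw [Nat.card_zpowers, Nat.card_zpowers, hx, hc]
    exact (Nat.coprime_primes hq hp).mpr hpq.symm
  have hcard : Nat.card (Subgroup.zpowers x ⊔ Subgroup.zpowers c : Subgroup R) = q * p := by
    rw [card_sup_of_normal_of_inf_eq_bot _ _ (Subgroup.disjoint_of_coprime_natCard hcop).eq_bot,
      Nat.card_zpowers, Nat.card_zpowers, hx, hc]
  have hcyc : IsCyclic (Subgroup.zpowers x ⊔ Subgroup.zpowers c : Subgroup R) :=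
    (h.subgroup _).isCyclic_of_card_eq_mul hq hp hcard
  let := IsCyclic.commGroup (α := (Subgroup.zpowers x ⊔ Subgroup.zpowers c : Subgroup R))
  have hxm : x ∈ Subgroup.zpowers x ⊔ Subgroup.zpowers c :=
    le_sup_left (a := Subgroup.zpowers x) (Subgroup.mem_zpowers x)
  have hcm : c ∈ Subgroup.zpowers x ⊔ Subgroup.zpowers c :=
    le_sup_right (a := Subgroup.zpowers x) (Subgroup.mem_zpowers c)
  have := mul_comm (⟨x, hxm⟩ : (Subgroup.zpowers x ⊔ Subgroup.zpowers c : Subgroup R)) ⟨c, hcm⟩
  exact congrArg Subtype.val this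

/-- in an fpf group an element of prime order `p` centralizes every normal cyclic subgroup of
order prime to `p` (element form, by induction on the order of a generator). -/
theorem commute_of_zpowers_normal {R : Type*} [Group R] [Finite R] (h : IsFPF R) {x : R} {p : ℕ}
    (hp : p.Prime) (hx : orderOf x = p) :
    ∀ n : ℕ, ∀ g : R, orderOf g = n → (Subgroup.zpowers g).Normal → ¬ p ∣ n → x * g = g * x := by
  intro n
  induction n using Nat.strong_induction_on with
  | _ n ih =>
    intro g hg hN hpn
    by_cases hn1 : n = 1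
    · have : g = 1 := orderOf_eq_one_iff.mp (hg.trans hn1)
      rw [this, mul_one, one_mul]
    have hnpos : 0 < n := hg ▸ orderOf_pos g
    have hq : (n.minFac).Prime := Nat.minFac_prime hn1
    have hqn : n.minFac ∣ n := Nat.minFac_dvd n
    set q := n.minFac with hqdef
    have hpq : p ≠ q := fun e => hpn (e ▸ hqn)
    have ho1 : orderOf (g ^ q) = n / q := by
      rw [orderOf_pow' g hq.ne_zero, hg, Nat.gcd_eq_right hqn]
    have hlt : n / q < n := Nat.div_lt_self hnpos hq.one_lt
    have hpn' : ¬ p ∣ n / q := fun hd => hpn (hd.trans (Nat.div_dvd_of_dvd hqn))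
    have hc1 : x * g ^ q = g ^ q * x :=
      ih (n / q) hlt (g ^ q) ho1
        (zpowers_normal_of_mem hN (Subgroup.pow_mem _ (Subgroup.mem_zpowers g) q)) hpn'
    obtain ⟨j, hj⟩ : ∃ j : ℤ, g ^ j = x * g * x⁻¹ :=
      Subgroup.mem_zpowers_iff.mp (hN.conj_mem g (Subgroup.mem_zpowers g) x)
    set w := x * g * x⁻¹ * g⁻¹ with hw
    have hwj : w = g ^ (j - 1) := by rw [hw, ← hj, zpow_sub_one]
    have hwq : w ^ q = 1 := by
      have e1 : (g ^ q) ^ j = g ^ q := by
        have : (g ^ q) ^ j = x * g ^ q * x⁻¹ := by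
          rw [← zpow_natCast, ← zpow_mul, mul_comm, zpow_mul, hj, zpow_natCast, conj_pow,
            zpow_natCast]
        rw [this, hc1, mul_inv_cancel_right]
      rw [hwj, ← zpow_natCast, ← zpow_mul, mul_comm, zpow_mul, zpow_natCast, zpow_sub_one, e1,
        mul_inv_cancel]
    have hwm : w ∈ Subgroup.zpowers g := hwj ▸ Subgroup.zpow_mem _ (Subgroup.mem_zpowers g) _
    have hconj : x * g * x⁻¹ = w * g := by rw [hw, inv_mul_cancel_right]
    by_cases hw1 : w = 1
    · rw [hw1, one_mul] at hconj
      exact mul_inv_eq_iff_eq_mul.mp hconj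
    · exfalso
      have hwo : orderOf w = q := by
        rcases (Nat.dvd_prime hq).mp (orderOf_dvd_of_pow_eq_one hwq) with h1 | h1
        · exact absurd (orderOf_eq_one_iff.mp h1) hw1
        · exact h1
      have hxw : x * w = w * x :=
        commute_of_normal_prime h hp hq hpq hx hwo (zpowers_normal_of_mem hN hwm)
      have hwp : w ^ p = 1 := pow_eq_one_of_conj hxw hconj (hx ▸ pow_orderOf_eq_one x)
      have hdvd : q ∣ p := hwo ▸ orderOf_dvd_of_pow_eq_one hwp
      exact hpq ((Nat.prime_dvd_prime_iff_eq hq hp).mp hdvd).symm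

/-- a cyclic subgroup is generated by an element whose order is the order of the subgroup. -/
theorem exists_zpowers_eq {R : Type*} [Group R] (Z : Subgroup R) [hZ : IsCyclic Z] :
    ∃ g : R, Subgroup.zpowers g = Z := by
  obtain ⟨g, hg⟩ := hZ.exists_generator
  refine ⟨(g : R), le_antisymm (Subgroup.zpowers_le.mpr g.2) fun z hz => ?_⟩
  obtain ⟨k, hk⟩ := Subgroup.mem_zpowers_iff.mp (hg ⟨z, hz⟩)
  rw [Subgroup.mem_zpowers_iff]
  exact ⟨k, by have := congrArg Subtype.val hk; simpa using this⟩

/-- in an fpf group an element of prime order `p` centralizes every normal cyclic subgroup of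
order prime to `p`. -/
theorem commute_of_cyclic_normal_of_not_dvd {R : Type*} [Group R] [Finite R] (h : IsFPF R)
    {x : R} {p : ℕ} (hp : p.Prime) (hx : orderOf x = p) (Z : Subgroup R) [hZn : Z.Normal]
    [IsCyclic Z] (hpZ : ¬ p ∣ Nat.card Z) : ∀ z ∈ Z, x * z = z * x := by
  obtain ⟨g, hg⟩ := exists_zpowers_eq Z
  have hN : (Subgroup.zpowers g).Normal := hg ▸ hZn
  intro z hz
  rw [← hg] at hz hpZ
  rw [Nat.card_zpowers] at hpZ
  have hdvd : orderOf z ∣ orderOf g := by
    have := Subgroup.card_dvd_of_le (Subgroup.zpowers_le.mpr hz)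
    rwa [Nat.card_zpowers, Nat.card_zpowers] at this
  exact commute_of_zpowers_normal h hp hx (orderOf z) z rfl (zpowers_normal_of_mem hN hz)
    (fun hd => hpZ (hd.trans hdvd))

end Cfsg.Agent.Lib.H16.ZasXOdd

namespace Cfsg.Agent.Lib.H25.Zas

open Cfsg.Agent.Lib.H16.ZasXOdd

/-- a group of odd order with an fpf representation is a Z-group. -/
theorem IsFPF.isZGroup {R : Type*} [Group R] [Finite R] (h : IsFPF R)
    (hodd : Odd (Nat.card R)) : IsZGroup R := by
  refine ⟨fun p hp P => ?_⟩
  have := Fact.mk hp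
  rcases h.sylow p P with hc | ⟨h2, -⟩
  · exact hc
  · subst h2
    have hcard : Nat.card P = 1 := by
      obtain ⟨k, hk⟩ := P.2.exists_card_eq
      have hdvd : Nat.card P ∣ Nat.card R := Subgroup.card_subgroup_dvd_card _
      rcases Nat.eq_zero_or_pos k with h0 | hpos
      · rw [hk, h0, pow_zero]
      · exfalso
        have h2 : 2 ∣ Nat.card R := (hk ▸ dvd_pow_self 2 hpos.ne').trans hdvd
        exact (Nat.not_even_iff_odd.mpr hodd) (even_iff_two_dvd.mpr h2)
    have : Subsingleton P := (Nat.card_eq_one_iff_unique.mp hcard).1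
    exact isCyclic_of_subsingleton

/-- (O5) a group of odd order with an fpf representation is solvable. -/
theorem IsFPF.isSolvable_of_odd {R : Type*} [Group R] [Finite R] (h : IsFPF R)
    (hodd : Odd (Nat.card R)) : Group.IsSolvable R := by
  have := h.isZGroup hodd
  infer_instance

/-- (O4) a nilpotent group of odd order with an fpf representation is cyclic. -/
theorem IsFPF.isCyclic_of_isNilpotent {R : Type*} [Group R] [Finite R] (h : IsFPF R)
    (hodd : Odd (Nat.card R)) (hn : Group.IsNilpotent R) : IsCyclic R := by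
  have := h.isZGroup hodd
  infer_instance

/-- two elements of the same prime order in an fpf group of odd order generate the same
subgroup. -/
theorem IsFPF.zpowers_eq_of_orderOf_eq {R : Type*} [Group R] [Finite R] (h : IsFPF R)
    (hodd : Odd (Nat.card R)) {p : ℕ} (hp : p.Prime) {x y : R} (hx : orderOf x = p)
    (hy : orderOf y = p) : Subgroup.zpowers x = Subgroup.zpowers y := by
  have := h.isZGroup hodd
  apply h.zpowers_eq_of_commute hp hx hy
  have hcyc : IsCyclic (commutator R) := IsZGroup.isCyclic_commutator R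
  have hcop : Nat.Coprime (Nat.card (commutator R)) (commutator R).index :=
    IsZGroup.coprime_commutator_index R
  by_cases hpd : p ∣ Nat.card (commutator R)
  · have hni : ¬ p ∣ (commutator R).index := fun hd =>
      hp.not_dvd_one (hcop ▸ Nat.dvd_gcd hpd hd)
    have hxm := mem_of_orderOf_not_dvd_index (commutator R) hp hx hni
    have hym := mem_of_orderOf_not_dvd_index (commutator R) hp hy hni
    let := IsCyclic.commGroup (α := commutator R)
    have := mul_comm (⟨x, hxm⟩ : commutator R) ⟨y, hym⟩
    exact congrArg Subtype.val this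
  · have hxc := commute_of_cyclic_normal_of_not_dvd h hp hx (commutator R) hpd
    set w := x * y * x⁻¹ * y⁻¹ with hw
    have hwm : w ∈ commutator R := by
      rw [commutator_def]
      exact Subgroup.commutator_mem_commutator (Subgroup.mem_top x) (Subgroup.mem_top y)
    have hconj : x * y * x⁻¹ = w * y := by rw [hw, inv_mul_cancel_right]
    have hwp : w ^ p = 1 := pow_eq_one_of_conj (hxc w hwm) hconj (hx ▸ pow_orderOf_eq_one x)
    have hwo : orderOf w ∣ Nat.card (commutator R) := by
      have := Subgroup.card_dvd_of_le (Subgroup.zpowers_le.mpr hwm)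
      rwa [Nat.card_zpowers] at this
    have hw1 : w = 1 := by
      rw [← orderOf_eq_one_iff]
      rcases (Nat.dvd_prime hp).mp (orderOf_dvd_of_pow_eq_one hwp) with h1 | h1
      · exact h1
      · exact absurd (h1 ▸ hwo) hpd
    rw [hw1, one_mul] at hconj
    exact mul_inv_eq_iff_eq_mul.mp hconj

/-- a subgroup of prime order is generated by any of its elements of that order. -/
theorem IsFPF.exists_zpowers_eq_of_card_prime {R : Type*} [Group R] {p : ℕ} (hp : p.Prime)
    (P : Subgroup R) (hP : Nat.card P = p) : ∃ x : R, orderOf x = p ∧ Subgroup.zpowers x = P := by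
  have := Fact.mk hp
  have hcyc : IsCyclic P := isCyclic_of_prime_card hP
  obtain ⟨x, hx⟩ := exists_zpowers_eq P
  refine ⟨x, ?_, hx⟩
  rw [← Nat.card_zpowers, hx, hP]

/-- (O1) an fpf group of odd order has at most one subgroup of each prime order. -/
theorem IsFPF.eq_of_card_prime {R : Type*} [Group R] [Finite R] (h : IsFPF R)
    (hodd : Odd (Nat.card R)) {p : ℕ} (hp : p.Prime) (P Q : Subgroup R) (hP : Nat.card P = p)
    (hQ : Nat.card Q = p) : P = Q := by
  obtain ⟨x, hx, rfl⟩ := IsFPF.exists_zpowers_eq_of_card_prime hp P hP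
  obtain ⟨y, hy, rfl⟩ := IsFPF.exists_zpowers_eq_of_card_prime hp Q hQ
  exact h.zpowers_eq_of_orderOf_eq hodd hp hx hy

/-- in an fpf group of odd order every subgroup generated by an element of prime order is
normal. -/
theorem IsFPF.zpowers_normal_of_prime_order {R : Type*} [Group R] [Finite R] (h : IsFPF R)
    (hodd : Odd (Nat.card R)) {y : R} (hy : (orderOf y).Prime) : (Subgroup.zpowers y).Normal := by
  refine ⟨fun b hb r => ?_⟩
  have ho : orderOf (r * y * r⁻¹) = orderOf y := by
    rw [← (MulAut.conj r).orderOf_eq y]; rfl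
  have heq := h.zpowers_eq_of_orderOf_eq hodd hy ho rfl
  obtain ⟨i, rfl⟩ := Subgroup.mem_zpowers_iff.mp hb
  rw [← conj_zpow]
  exact heq ▸ Subgroup.zpow_mem _ (Subgroup.mem_zpowers _) _

/-- (O2) in an fpf group of odd order any two elements of prime order commute. -/
theorem IsFPF.commute_of_prime_order {R : Type*} [Group R] [Finite R] (h : IsFPF R)
    (hodd : Odd (Nat.card R)) {x y : R} (hx : (orderOf x).Prime) (hy : (orderOf y).Prime) :
    Commute x y := by
  by_cases hpq : orderOf x = orderOf y
  · have heq := h.zpowers_eq_of_orderOf_eq hodd hx rfl hpq.symm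
    have hym : y ∈ Subgroup.zpowers x := heq ▸ Subgroup.mem_zpowers y
    obtain ⟨i, rfl⟩ := Subgroup.mem_zpowers_iff.mp hym
    exact (Commute.refl x).zpow_right i
  · exact commute_of_normal_prime h hx hy hpq rfl rfl (h.zpowers_normal_of_prime_order hodd hy)

/-- (O3) in an fpf group of odd order an element of prime order centralizes every cyclic normal
subgroup. -/
theorem IsFPF.commute_of_prime_order_of_cyclic_normal {R : Type*} [Group R] [Finite R]
    (h : IsFPF R) (hodd : Odd (Nat.card R)) {x : R} (hx : (orderOf x).Prime) (Z : Subgroup R)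
    (hZn : Z.Normal) (hZ : IsCyclic Z) : ∀ z ∈ Z, Commute x z := by
  by_cases hpd : orderOf x ∣ Nat.card Z
  · -- `x ∈ Z`, and `Z` is commutative
    have := Fact.mk hx
    obtain ⟨c, hc⟩ := exists_prime_orderOf_dvd_card' (G := Z) (orderOf x) hpd
    have hc' : orderOf (c : R) = orderOf x := by rw [Subgroup.orderOf_coe]; exact hc
    have heq := h.zpowers_eq_of_orderOf_eq hodd hx rfl hc'
    have hxZ : x ∈ Z := by
      have : x ∈ Subgroup.zpowers (c : R) := heq ▸ Subgroup.mem_zpowers x
      exact (Subgroup.zpowers_le.mpr c.2) this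
    intro z hz
    let := IsCyclic.commGroup (α := Z)
    have := mul_comm (⟨x, hxZ⟩ : Z) ⟨z, hz⟩
    exact congrArg Subtype.val this
  · intro z hz
    exact commute_of_cyclic_normal_of_not_dvd h hx rfl Z hpd z hz

end Cfsg.Agent.Lib.H25.Zas
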