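import Mathlib
import Cfsg.Agent.Lib.H25.ZasHyp
import Cfsg.Agent.Lib.H25.ZasSyl
import Cfsg.Agent.S0801

/-!
# Zassenhaus: the end game

A group `H` satisfying `HHyp` is not isomorphic to `PSL(2, F)` for a finite field `F` of odd order:
the unipotent subgroup forces `|F|` to be a prime, and then `PSL(2, F)` is generated by an
involution and an element of order three.
-/

namespace Cfsg.Agent.Lib.H16.ZasXEnd

open Matrix Cfsg.Agent.Lib.H25.Zas

variable {F : Type*} [Field F]

/-- the upper unitriangular matrices. -/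
def upperU (x : F) : SpecialLinearGroup (Fin 2) F :=
  ⟨!![1, x; 0, 1], by simp [Matrix.det_fin_two]⟩

theorem upperU_mul (x y : F) : upperU x * upperU y = upperU (x + y) := by
  apply Subtype.ext
  show (upperU x).1 * (upperU y).1 = (upperU (x + y)).1
  simp only [upperU]
  ext i j
  fin_cases i <;> fin_cases j <;> simp [Matrix.mul_apply, Fin.sum_univ_two, add_comm]

theorem upperU_zero : upperU (0 : F) = 1 := by
  apply Subtype.ext
  show (upperU (0 : F)).1 = (1 : Matrix (Fin 2) (Fin 2) F)
  simp only [upperU]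
  ext i j
  fin_cases i <;> fin_cases j <;> simp

/-- the unipotent subgroup as a homomorphism. -/
def upperHom : Multiplicative F →* SpecialLinearGroup (Fin 2) F where
  toFun x := upperU (Multiplicative.toAdd x)
  map_one' := upperU_zero
  map_mul' _ _ := (upperU_mul _ _).symm

theorem not_mem_center_of_offdiag {A : SpecialLinearGroup (Fin 2) F} (h : A.1 0 1 ≠ 0) :
    A ∉ Subgroup.center (SpecialLinearGroup (Fin 2) F) := by
  intro hA
  obtain ⟨r, -, hr⟩ := Matrix.SpecialLinearGroup.mem_center_iff.mp hA
  apply h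
  rw [← hr]
  simp [Matrix.scalar_apply]

theorem upperHom_mk_injective :
    Function.Injective ((QuotientGroup.mk' (Subgroup.center (SpecialLinearGroup (Fin 2) F))).comp
      (upperHom (F := F))) := by
  rw [injective_iff_map_eq_one]
  intro x hx
  rw [MonoidHom.comp_apply, QuotientGroup.mk'_apply, QuotientGroup.eq_one_iff] at hx
  by_contra hne
  refine not_mem_center_of_offdiag ?_ hx
  have : Multiplicative.toAdd x ≠ 0 := fun h0 => hne (by rw [← ofAdd_toAdd x, h0, ofAdd_zero])
  show (upperU (Multiplicative.toAdd x)).1 0 1 ≠ 0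
  simpa [upperU] using this

/-- the four special matrices. -/
def matT : SpecialLinearGroup (Fin 2) F := ⟨!![1, 1; 0, 1], by simp [Matrix.det_fin_two]⟩
def matL : SpecialLinearGroup (Fin 2) F := ⟨!![1, 0; 1, 1], by simp [Matrix.det_fin_two]⟩
def matW : SpecialLinearGroup (Fin 2) F := ⟨!![0, 1; -1, 0], by simp [Matrix.det_fin_two]⟩
def matB : SpecialLinearGroup (Fin 2) F := ⟨!![0, 1; -1, 1], by simp [Matrix.det_fin_two]⟩

theorem matB_mul_matL : matB * matL = (matT : SpecialLinearGroup (Fin 2) F) := by
  apply Subtype.ext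
  show (matB : SpecialLinearGroup (Fin 2) F).1 * (matL : SpecialLinearGroup (Fin 2) F).1
    = (matT : SpecialLinearGroup (Fin 2) F).1
  simp only [matB, matL, matT]
  ext i j
  fin_cases i <;> fin_cases j <;> simp [Matrix.mul_apply, Fin.sum_univ_two]

theorem matB_mul_matT : matB * matT = (matW : SpecialLinearGroup (Fin 2) F) := by
  apply Subtype.ext
  show (matB : SpecialLinearGroup (Fin 2) F).1 * (matT : SpecialLinearGroup (Fin 2) F).1
    = (matW : SpecialLinearGroup (Fin 2) F).1
  simp only [matB, matT, matW]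
  ext i j
  fin_cases i <;> fin_cases j <;> simp [Matrix.mul_apply, Fin.sum_univ_two]

theorem negOne_mem_center {A : SpecialLinearGroup (Fin 2) F} (hA : A.1 = !![-1, 0; 0, -1]) :
    A ∈ Subgroup.center (SpecialLinearGroup (Fin 2) F) := by
  rw [Matrix.SpecialLinearGroup.mem_center_iff]
  refine ⟨-1, by simp, ?_⟩
  rw [hA]
  ext i j
  fin_cases i <;> fin_cases j <;> simp [Matrix.scalar_apply]

theorem matW_sq : ((matW : SpecialLinearGroup (Fin 2) F) ^ 2).1 = !![-1, 0; 0, -1] := by
  rw [pow_two]
  show (matW : SpecialLinearGroup (Fin 2) F).1 * (matW : SpecialLinearGroup (Fin 2) F).1 = _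
  simp only [matW]
  ext i j
  fin_cases i <;> fin_cases j <;> simp [Matrix.mul_apply, Fin.sum_univ_two]

theorem matB_cube : ((matB : SpecialLinearGroup (Fin 2) F) ^ 3).1 = !![-1, 0; 0, -1] := by
  rw [pow_succ, pow_two]
  show (matB : SpecialLinearGroup (Fin 2) F).1 * (matB : SpecialLinearGroup (Fin 2) F).1
    * (matB : SpecialLinearGroup (Fin 2) F).1 = _
  simp only [matB]
  ext i j
  fin_cases i <;> fin_cases j <;> simp [Matrix.mul_apply, Fin.sum_univ_two]

theorem orderOf_mk_matW :
    orderOf (QuotientGroup.mk' (Subgroup.center (SpecialLinearGroup (Fin 2) F)) matW) = 2 := by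
  have : Fact (Nat.Prime 2) := ⟨Nat.prime_two⟩
  apply orderOf_eq_prime
  · rw [← map_pow, QuotientGroup.mk'_apply, QuotientGroup.eq_one_iff]
    exact negOne_mem_center matW_sq
  · rw [QuotientGroup.mk'_apply, Ne, QuotientGroup.eq_one_iff]
    exact not_mem_center_of_offdiag (by simp [matW])

theorem orderOf_mk_matB :
    orderOf (QuotientGroup.mk' (Subgroup.center (SpecialLinearGroup (Fin 2) F)) matB) = 3 := by
  have : Fact (Nat.Prime 3) := ⟨Nat.prime_three⟩
  apply orderOf_eq_prime
  · rw [← map_pow, QuotientGroup.mk'_apply, QuotientGroup.eq_one_iff]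
    exact negOne_mem_center matB_cube
  · rw [QuotientGroup.mk'_apply, Ne, QuotientGroup.eq_one_iff]
    exact not_mem_center_of_offdiag (by simp [matB])

/-- if `T` and `L` generate `SL(2, F)` then so do `W` and `B`. -/
theorem closure_WB_eq_top
    (hgen : Subgroup.closure {g : SpecialLinearGroup (Fin 2) F |
      (g : Matrix (Fin 2) (Fin 2) F) = !![1, 0; 1, 1] ∨ (g : Matrix (Fin 2) (Fin 2) F) = !![1, 1; 0, 1]} = ⊤) :
    Subgroup.closure {(matW : SpecialLinearGroup (Fin 2) F), matB} = ⊤ := by
  rw [eq_top_iff, ← hgen, Subgroup.closure_le]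
  have hW : (matW : SpecialLinearGroup (Fin 2) F) ∈ Subgroup.closure {(matW : SpecialLinearGroup (Fin 2) F), matB} :=
    Subgroup.subset_closure (by simp)
  have hB : (matB : SpecialLinearGroup (Fin 2) F) ∈ Subgroup.closure {(matW : SpecialLinearGroup (Fin 2) F), matB} :=
    Subgroup.subset_closure (by simp)
  have hT : (matT : SpecialLinearGroup (Fin 2) F) ∈ Subgroup.closure {(matW : SpecialLinearGroup (Fin 2) F), matB} := by
    have : (matT : SpecialLinearGroup (Fin 2) F) = matB⁻¹ * matW := by
      rw [← matB_mul_matT, inv_mul_cancel_left]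
    rw [this]
    exact Subgroup.mul_mem _ (Subgroup.inv_mem _ hB) hW
  have hL : (matL : SpecialLinearGroup (Fin 2) F) ∈ Subgroup.closure {(matW : SpecialLinearGroup (Fin 2) F), matB} := by
    have : (matL : SpecialLinearGroup (Fin 2) F) = matB⁻¹ * matT := by
      rw [← matB_mul_matL, inv_mul_cancel_left]
    rw [this]
    exact Subgroup.mul_mem _ (Subgroup.inv_mem _ hB) hT
  rintro g (hg | hg)
  · have : g = matL := Subtype.ext hg
    rw [this]; exact hL
  · have : g = matT := Subtype.ext hg
    rw [this]; exact hT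

/-- a finite field whose additive group is cyclic has prime order. -/
theorem card_prime_of_isCyclic [Fintype F] (hc : IsCyclic (Multiplicative F)) :
    (Fintype.card F).Prime := by
  obtain ⟨p, hp⟩ := CharP.exists F
  have := hp
  have hpp : Fact p.Prime := ⟨CharP.char_is_prime F p⟩
  obtain ⟨g, hg⟩ := hc.exists_generator
  have hgp : g ^ p = 1 := by
    have : (p : ℕ) • (Multiplicative.toAdd g) = 0 := by
      rw [nsmul_eq_mul, CharP.cast_eq_zero, zero_mul]
    rw [← ofAdd_toAdd g, ← ofAdd_nsmul, this, ofAdd_zero]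
  have hcard : Nat.card (Multiplicative F) ∣ p := by
    rw [← orderOf_eq_card_of_forall_mem_zpowers hg]
    exact orderOf_dvd_of_pow_eq_one hgp
  have hcard' : Fintype.card F ∣ p := by
    rw [Nat.card_eq_fintype_card, Fintype.card_multiplicative] at hcard
    exact hcard
  rcases (Nat.dvd_prime hpp.out).mp hcard' with h1 | h1
  · exfalso
    have := Fintype.one_lt_card (α := F)
    omega
  · rw [h1]; exact hpp.out

/-- in a finite field of prime order, `1` generates the field. -/
theorem closure_one_eq_top [Fintype F] (hp : (Fintype.card F).Prime) :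
    Subfield.closure ({1} : Set F) = ⊤ := by
  have : Fact (Nat.card F).Prime := ⟨by rw [Nat.card_eq_fintype_card]; exact hp⟩
  rw [eq_top_iff]
  intro x _
  have h1 := AddSubgroup.eq_bot_or_eq_top_of_prime_card
    (Subfield.closure ({1} : Set F)).toSubring.toAddSubgroup
  rcases h1 with h1 | h1
  · exfalso
    have : (1 : F) ∈ (Subfield.closure ({1} : Set F)).toSubring.toAddSubgroup :=
      (Subfield.closure ({1} : Set F)).one_mem
    rw [h1, AddSubgroup.mem_bot] at this
    exact one_ne_zero this
  · have : x ∈ (Subfield.closure ({1} : Set F)).toSubring.toAddSubgroup := h1 ▸ AddSubgroup.mem_top x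
    exact this

end Cfsg.Agent.Lib.H16.ZasXEnd

namespace Cfsg.Agent.Lib.H25.Zas

open Matrix Cfsg.Agent.Lib.H16.ZasXEnd

/-- **End game.** A group satisfying `HHyp` is not `PSL(2, F)` for a finite field of odd order. -/
theorem HHyp.not_psl2 {H : Type*} [Group H] (h : HHyp H) (F : Type) [Field F] [Fintype F]
    (hodd : Odd (Fintype.card F)) (e : H ≃* Matrix.ProjectiveSpecialLinearGroup (Fin 2) F) :
    False := by
  classical
  have := h.finite
  -- the unipotent subgroup
  set φ : Multiplicative F →* H :=
    e.symm.toMonoidHom.comp ((QuotientGroup.mk' (Subgroup.center (SpecialLinearGroup (Fin 2) F))).comp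
      (upperHom (F := F))) with hφ
  have hφinj : Function.Injective φ := by
    rw [hφ]
    exact e.symm.injective.comp upperHom_mk_injective
  have hcardR : Nat.card φ.range = Fintype.card F := by
    rw [← Nat.card_congr (MonoidHom.ofInjective hφinj).toEquiv, Nat.card_eq_fintype_card,
      Fintype.card_multiplicative]
  have hfpf : IsFPF φ.range := h.odd φ.range (hcardR ▸ hodd)
  have hcomm : ∀ a b : φ.range, a * b = b * a := by
    rintro ⟨a, x, rfl⟩ ⟨b, y, rfl⟩
    apply Subtype.ext
    simp only [Subgroup.coe_mul]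
    rw [← map_mul, ← map_mul, mul_comm]
  have hcycR : IsCyclic φ.range := hfpf.isCyclic_of_comm hcomm
  have hcycF : IsCyclic (Multiplicative F) :=
    isCyclic_of_surjective (MonoidHom.ofInjective hφinj).symm
      (MonoidHom.ofInjective hφinj).symm.surjective
  have hprime : (Fintype.card F).Prime := card_prime_of_isCyclic hcycF
  -- generation
  have h2 : (2 : F) ≠ 0 := by
    apply Ring.two_ne_zero
    intro hchar
    have := FiniteField.even_card_of_char_two hchar
    rcases hodd with ⟨k, hk⟩
    omega
  have h9 : ¬ (Fintype.card F = 9 ∧ (1 : F) ^ 2 = -1) := by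
    rintro ⟨h9, -⟩
    rw [h9] at hprime
    exact absurd hprime (by norm_num)
  have hgen0 := Cfsg.Agent.S0801.result h2 (1 : F) one_ne_zero (closure_one_eq_top hprime)
  have hgen : Subgroup.closure {g : SpecialLinearGroup (Fin 2) F |
      (g : Matrix (Fin 2) (Fin 2) F) = !![1, 0; 1, 1] ∨ (g : Matrix (Fin 2) (Fin 2) F) = !![1, 1; 0, 1]} = ⊤ := by
    rcases hgen0 with ⟨h1, -⟩ | ⟨h1, h2, -⟩
    · exact h1
    · exact absurd ⟨h1, h2⟩ h9
  have hWB := closure_WB_eq_top hgen
  -- push to `H`
  set q := QuotientGroup.mk' (Subgroup.center (SpecialLinearGroup (Fin 2) F)) with hq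
  set a : H := e.symm (q matW) with ha
  set b : H := e.symm (q matB) with hb
  have hoa : orderOf a = 2 := by
    rw [ha, MulEquiv.orderOf_eq]; exact orderOf_mk_matW
  have hob : orderOf b = 3 := by
    rw [hb, MulEquiv.orderOf_eq]; exact orderOf_mk_matB
  apply h.gen a b (Or.inl hoa) hob
  have hmap : Subgroup.map (e.symm.toMonoidHom.comp q) (Subgroup.closure {matW, matB})
      = Subgroup.closure {a, b} := by
    rw [MonoidHom.map_closure]
    congr 1
    ext x
    simp [ha, hb, Set.image_insert_eq]
  rw [← hmap, hWB, ← MonoidHom.range_eq_map, MonoidHom.range_eq_top]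
  exact e.symm.surjective.comp (QuotientGroup.mk'_surjective _)

end Cfsg.Agent.Lib.H25.Zas
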