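/-
S5663 project (Aschbacher, unitary case), module UM8.3 (helper16), part b: twisted forms on tensor powers
(`pureT`, `posEmb` and a ring endomorphism), the unitary form of a hermitian matrix.
-/
import Cfsg.Agent.Lib.H21.AschM83C
import Cfsg.Agent.Lib.H6.AschU3c
import Cfsg.Agent.Lib.Lead.AschUDefs

set_option autoImplicit false

namespace Cfsg.Agent.Lib.H16.Asch

open Cfsg Cfsg.Geo Cfsg.Agent.Lib.Lead.Asch Cfsg.Agent.Lib.H21.Asch Cfsg.Agent.Lib.H6.Asch
open scoped MatrixGroups Matrix Kronecker

section ring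

variable {R : Type*} [CommRing R] {m t : ℕ}

theorem pureT_map (τ : R →+* R) (gs : Fin t → Matrix (Fin m) (Fin m) R) :
    (pureT gs).map τ = pureT (fun i => (gs i).map τ) := by
  ext x y
  simp [pureT_apply, map_prod]

theorem posEmb_map (τ : R →+* R) (i : Fin t) (a : Matrix (Fin m) (Fin m) R) :
    (posEmb i a).map τ = posEmb i (a.map τ) := by
  rw [posEmb_def, posEmb_def, pureT_map]
  congr 1
  funext k
  by_cases hk : k = i
  · subst hk
    simp only [Function.update_self]
  · simp only [Function.update_of_ne hk]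
    exact Matrix.map_one τ (map_zero τ) (map_one τ)

/-- a twisted form invariant under `s` gives a tensor power form invariant under `s` in any position. -/
theorem posEmb_fixes_pureT (τ : R →+* R) (i : Fin t) (s B : Matrix (Fin m) (Fin m) R)
    (h : sᵀ * B * s.map τ = B) :
    (posEmb i s)ᵀ * pureT (fun _ : Fin t => B) * (posEmb i s).map τ = pureT (fun _ : Fin t => B) := by
  rw [posEmb_map, posEmb_def, posEmb_def, pureT_transpose, ← pureT_mul, ← pureT_mul]
  congr 1
  funext k
  by_cases hk : k = i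
  · subst hk
    simp only [Function.update_self]
    exact h
  · simp [Function.update_of_ne hk]

theorem isUnit_det_pureT (B : Matrix (Fin m) (Fin m) R) (hB : IsUnit B.det) :
    IsUnit (pureT (fun _ : Fin t => B)).det := by
  have h1 : pureT (fun _ : Fin t => B) * pureT (fun _ : Fin t => B⁻¹) = 1 := by
    rw [← pureT_mul]
    simp only [Matrix.mul_nonsing_inv B hB]
    exact pureT_one
  exact Matrix.isUnit_det_of_right_inverse h1

end ring

variable {F : Type*} [Field F]

/-- the twisted form of an invertible hermitian matrix is a unitary form. -/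
theorem isUnitaryFormPow_formOf {κ : Type} [Fintype κ] [DecidableEq κ] {q : ℕ} (σ : F →+* F)
    (hσ : ∀ x, σ x = x ^ q) (hσ2 : ∀ x, σ (σ x) = x) (B : Matrix κ κ F) (hB : IsUnit B.det)
    (hherm : (B.map σ)ᵀ = B) : IsUnitaryFormPow q (formOf σ B) := by
  have hrep : Rep σ B (formOf σ B) := rep_formOf _ _
  refine ⟨hrep.add_left, hrep.smul_left, fun v w => ?_, hrep.nondegenerate hB⟩
  rw [← hσ]
  show v ⬝ᵥ (B *ᵥ (fun i => σ (w i))) = σ (w ⬝ᵥ (B *ᵥ (fun i => σ (v i))))
  have h1 : σ (w ⬝ᵥ (B *ᵥ (fun i => σ (v i)))) = (fun i => σ (w i)) ⬝ᵥ (B.map σ *ᵥ v) := by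
    have e1 := RingHom.map_dotProduct σ w (B *ᵥ (fun i => σ (v i)))
    have e2 : (σ ∘ (B *ᵥ (fun i => σ (v i)))) = B.map σ *ᵥ v := by
      funext i
      rw [Function.comp_apply, RingHom.map_mulVec]
      congr 1
      funext j
      exact hσ2 (v j)
    rw [e2] at e1
    exact e1
  have hh2 : Bᵀ = B.map σ := by
    have := congrArg Matrix.transpose hherm
    rw [Matrix.transpose_transpose] at this
    exact this.symm
  rw [h1, Matrix.dotProduct_mulVec, dotProduct_comm, ← Matrix.mulVec_transpose, hh2]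

theorem gramMatrix_formOf {κ : Type} [Fintype κ] [DecidableEq κ] (σ : F →+* F) (B : Matrix κ κ F) :
    gramMatrix (formOf σ B) = B := by
  ext a b
  exact (rep_formOf σ B).apply_single a b

/-- a matrix commuting with the members of a family of subgroups commutes with their join. -/
lemma commute_of_mem_iSup {ι : Type*} {n : ℕ} (L : ι → Subgroup (GL (Fin n) F))
    (M : Matrix (Fin n) (Fin n) F)
    (h : ∀ i, ∀ y ∈ L i, M * (y : Matrix (Fin n) (Fin n) F) = (y : Matrix (Fin n) (Fin n) F) * M)
    (g : GL (Fin n) F) (hg : g ∈ ⨆ i, L i) :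
    M * (g : Matrix (Fin n) (Fin n) F) = (g : Matrix (Fin n) (Fin n) F) * M := by
  refine Subgroup.iSup_induction L
    (C := fun g : GL (Fin n) F =>
      M * (g : Matrix (Fin n) (Fin n) F) = (g : Matrix (Fin n) (Fin n) F) * M) hg ?_ ?_ ?_
  · intro i y hy
    exact h i y hy
  · simp
  · intro x y hx hy
    rw [Units.val_mul, ← mul_assoc, hx, mul_assoc, hy, mul_assoc]

end Cfsg.Agent.Lib.H16.Asch
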