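/-
S5630 project, module M8.3 (helper16): preparatory lemmas for the assembly
(algebra homomorphisms `a ↦ U (a ⊗ 1) U⁻¹`, spans of commuting sets, joins of subgroups).
-/
import Mathlib
import Cfsg.Agent.Lib.Lead.AschDefs2

set_option autoImplicit false

namespace Cfsg.Agent.Lib.H16.Asch

open Cfsg Cfsg.Geo Cfsg.Agent.Lib.Lead.Asch
open scoped MatrixGroups Matrix Kronecker

variable {F : Type*} [Field F]

/-- `a ↦ a ⊗ 1_k` as an algebra homomorphism. -/
noncomputable def kronOneAlgHom (d k : ℕ) :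
    Matrix (Fin d) (Fin d) F →ₐ[F] Matrix (Fin d × Fin k) (Fin d × Fin k) F where
  toFun a := a ⊗ₖ (1 : Matrix (Fin k) (Fin k) F)
  map_one' := Matrix.one_kronecker_one
  map_mul' a b := by
    have := Matrix.mul_kronecker_mul a b (1 : Matrix (Fin k) (Fin k) F)
      (1 : Matrix (Fin k) (Fin k) F)
    rw [mul_one] at this
    exact this
  map_zero' := Matrix.zero_kronecker _
  map_add' a b := Matrix.add_kronecker _ _ _
  commutes' r := by
    rw [Algebra.algebraMap_eq_smul_one, Algebra.algebraMap_eq_smul_one, Matrix.smul_kronecker,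
      Matrix.one_kronecker_one]

@[simp] lemma kronOneAlgHom_apply (d k : ℕ) (a : Matrix (Fin d) (Fin d) F) :
    kronOneAlgHom (F := F) d k a = a ⊗ₖ (1 : Matrix (Fin k) (Fin k) F) := rfl

/-- conjugation by an invertible matrix as an algebra homomorphism. -/
noncomputable def conjAlgHom {ι : Type*} [Fintype ι] [DecidableEq ι] (U : GL ι F) :
    Matrix ι ι F →ₐ[F] Matrix ι ι F where
  toFun a := (U : Matrix ι ι F) * a * ((U⁻¹ : GL ι F) : Matrix ι ι F)
  map_one' := by rw [mul_one, ← Units.val_mul, mul_inv_cancel, Units.val_one]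
  map_mul' a b := by
    have h : ((U⁻¹ : GL ι F) : Matrix ι ι F) * (U : Matrix ι ι F) = 1 := by
      rw [← Units.val_mul, inv_mul_cancel, Units.val_one]
    calc (U : Matrix ι ι F) * (a * b) * ((U⁻¹ : GL ι F) : Matrix ι ι F)
        = (U : Matrix ι ι F) * a * (((U⁻¹ : GL ι F) : Matrix ι ι F) * (U : Matrix ι ι F)) * b *
            ((U⁻¹ : GL ι F) : Matrix ι ι F) := by rw [h]; simp only [mul_one, mul_assoc]
      _ = _ := by simp only [mul_assoc]
  map_zero' := by simp
  map_add' a b := by rw [mul_add, add_mul]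
  commutes' r := by
    rw [Algebra.algebraMap_eq_smul_one, Matrix.mul_smul, Matrix.smul_mul, mul_one, ← Units.val_mul,
      mul_inv_cancel, Units.val_one]

@[simp] lemma conjAlgHom_apply {ι : Type*} [Fintype ι] [DecidableEq ι] (U : GL ι F) (a : Matrix ι ι F) :
    conjAlgHom U a = (U : Matrix ι ι F) * a * ((U⁻¹ : GL ι F) : Matrix ι ι F) := rfl

lemma conjAlgHom_mul {ι : Type*} [Fintype ι] [DecidableEq ι] (U V : GL ι F) (a : Matrix ι ι F) :
    conjAlgHom (U * V) a = conjAlgHom U (conjAlgHom V a) := by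
  simp only [conjAlgHom_apply, mul_inv_rev, Units.val_mul, mul_assoc]

lemma conjAlgHom_one {ι : Type*} [Fintype ι] [DecidableEq ι] (a : Matrix ι ι F) :
    conjAlgHom (1 : GL ι F) a = a := by
  simp [conjAlgHom_apply]

lemma conjAlgHom_inv_conj {ι : Type*} [Fintype ι] [DecidableEq ι] (U : GL ι F) (a : Matrix ι ι F) :
    conjAlgHom U⁻¹ (conjAlgHom U a) = a := by
  rw [← conjAlgHom_mul, inv_mul_cancel, conjAlgHom_one]

lemma conjAlgHom_mul_self {ι : Type*} [Fintype ι] [DecidableEq ι] (U : GL ι F) (a : Matrix ι ι F) :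
    conjAlgHom U a * (U : Matrix ι ι F) = (U : Matrix ι ι F) * a := by
  rw [conjAlgHom_apply, mul_assoc, ← Units.val_mul, inv_mul_cancel, Units.val_one, mul_one]

/-- `a ↦ U (reindex (a ⊗ 1)) U⁻¹`. -/
noncomputable def phiHom {n d k : ℕ} (e : Fin n ≃ Fin d × Fin k) (U : GL (Fin n) F) :
    Matrix (Fin d) (Fin d) F →ₐ[F] Matrix (Fin n) (Fin n) F :=
  (conjAlgHom U).comp ((Matrix.reindexAlgEquiv F F e.symm).toAlgHom.comp (kronOneAlgHom d k))

lemma phiHom_apply {n d k : ℕ} (e : Fin n ≃ Fin d × Fin k) (U : GL (Fin n) F)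
    (a : Matrix (Fin d) (Fin d) F) :
    phiHom e U a = (U : Matrix (Fin n) (Fin n) F) *
      Matrix.reindex e.symm e.symm (a ⊗ₖ (1 : Matrix (Fin k) (Fin k) F)) *
      ((U⁻¹ : GL (Fin n) F) : Matrix (Fin n) (Fin n) F) := rfl

/-- Elements of the spans of two elementwise commuting sets commute. -/
lemma commute_of_mem_span {A : Type*} [Ring A] [Algebra F A] (S T : Set A)
    (h : ∀ s ∈ S, ∀ t ∈ T, s * t = t * s) (x y : A) (hx : x ∈ Submodule.span F S)
    (hy : y ∈ Submodule.span F T) : x * y = y * x := by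
  induction hx using Submodule.span_induction with
  | mem s hs =>
    induction hy using Submodule.span_induction with
    | mem t ht => exact h s hs t ht
    | zero => simp
    | add a b _ _ ha hb => rw [mul_add, add_mul, ha, hb]
    | smul c a _ ha => rw [mul_smul_comm, smul_mul_assoc, ha]
  | zero => simp
  | add a b _ _ ha hb => rw [mul_add, add_mul, ha, hb]
  | smul c a _ ha => rw [mul_smul_comm, smul_mul_assoc, ha]

end Cfsg.Agent.Lib.H16.Asch
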