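/-
S5630 project, module M8.3 (helper16): lemmas on the join of a family of subgroups of GL_n(F)
permuted by `H`.
-/
import Mathlib
import Cfsg.Agent.Lib.Lead.AschDefs2

set_option autoImplicit false

namespace Cfsg.Agent.Lib.H16.Asch

open Cfsg Cfsg.Geo Cfsg.Agent.Lib.Lead.Asch
open scoped MatrixGroups Matrix Kronecker

variable {F : Type*} [Field F] {n : ℕ}

lemma normalizedBy_iSup {ι : Type*} (H : Subgroup (GL (Fin n) F)) (L : ι → Subgroup (GL (Fin n) F))
    (hperm : ∀ h ∈ H, ∃ σ : Equiv.Perm ι, ∀ i, (L i).map (MulAut.conj h).toMonoidHom = L (σ i)) :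
    NormalizedBy H (⨆ i, L i) := by
  intro h hh x hx
  obtain ⟨σ, hσ⟩ := hperm h hh
  refine Subgroup.iSup_induction L (C := fun x => h * x * h⁻¹ ∈ ⨆ i, L i) hx ?_ ?_ ?_
  · intro i y hy
    have : h * y * h⁻¹ ∈ L (σ i) := by
      rw [← hσ i]
      exact Subgroup.mem_map.2 ⟨y, hy, by simp [MulAut.conj_apply]⟩
    exact (le_iSup L (σ i)) this
  · simp
  · intro x y hx hy
    have : h * (x * y) * h⁻¹ = (h * x * h⁻¹) * (h * y * h⁻¹) := by group
    rw [this]
    exact mul_mem hx hy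

lemma map_le_of_mem_iSup {ι : Type*} (L : ι → Subgroup (GL (Fin n) F)) (W : Submodule F (Fin n → F))
    (h : ∀ i, ∀ y ∈ L i, W.map (Matrix.toLin' (y : Matrix (Fin n) (Fin n) F)) ≤ W)
    (g : GL (Fin n) F) (hg : g ∈ ⨆ i, L i) :
    W.map (Matrix.toLin' (g : Matrix (Fin n) (Fin n) F)) ≤ W := by
  refine Subgroup.iSup_induction L
    (C := fun g : GL (Fin n) F => W.map (Matrix.toLin' (g : Matrix (Fin n) (Fin n) F)) ≤ W) hg ?_ ?_ ?_
  · intro i y hy
    exact h i y hy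
  · simp
  · intro x y hx hy
    rw [Units.val_mul, Matrix.toLin'_mul, Submodule.map_comp]
    exact (Submodule.map_mono hy).trans hx

lemma form_fixed_of_mem_iSup {ι : Type*} (L : ι → Subgroup (GL (Fin n) F))
    (B : Matrix (Fin n) (Fin n) F)
    (h : ∀ i, ∀ y ∈ L i, (y : Matrix (Fin n) (Fin n) F)ᵀ * B * (y : Matrix (Fin n) (Fin n) F) = B)
    (g : GL (Fin n) F) (hg : g ∈ ⨆ i, L i) :
    (g : Matrix (Fin n) (Fin n) F)ᵀ * B * (g : Matrix (Fin n) (Fin n) F) = B := by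
  refine Subgroup.iSup_induction L
    (C := fun g : GL (Fin n) F =>
      (g : Matrix (Fin n) (Fin n) F)ᵀ * B * (g : Matrix (Fin n) (Fin n) F) = B) hg ?_ ?_ ?_
  · intro i y hy
    exact h i y hy
  · simp
  · intro x y hx hy
    rw [Units.val_mul, Matrix.transpose_mul]
    calc (y : Matrix (Fin n) (Fin n) F)ᵀ * (x : Matrix (Fin n) (Fin n) F)ᵀ * B *
          ((x : Matrix (Fin n) (Fin n) F) * (y : Matrix (Fin n) (Fin n) F))
        = (y : Matrix (Fin n) (Fin n) F)ᵀ * ((x : Matrix (Fin n) (Fin n) F)ᵀ * B *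
          (x : Matrix (Fin n) (Fin n) F)) * (y : Matrix (Fin n) (Fin n) F) := by
          simp only [mul_assoc]
      _ = B := by rw [hx, hy]

lemma sup_iSup_ne {ι : Type*} (L : ι → Subgroup (GL (Fin n) F)) (i0 : ι) :
    L i0 ⊔ (⨆ j : {j : ι // j ≠ i0}, L j.1) = ⨆ i, L i := by
  apply le_antisymm
  · exact sup_le (le_iSup L i0) (iSup_le fun j => le_iSup L j.1)
  · refine iSup_le fun i => ?_
    by_cases hi : i = i0
    · subst hi; exact le_sup_left
    · exact le_trans (le_iSup (fun j : {j : ι // j ≠ i0} => L j.1) ⟨i, hi⟩) le_sup_right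

lemma commute_iSup_ne {ι : Type*} (L : ι → Subgroup (GL (Fin n) F)) (i0 : ι)
    (hcomm : ∀ i j, i ≠ j → ∀ x ∈ L i, ∀ y ∈ L j, x * y = y * x) :
    ∀ a ∈ L i0, ∀ b ∈ (⨆ j : {j : ι // j ≠ i0}, L j.1), a * b = b * a := by
  intro a ha b hb
  refine Subgroup.iSup_induction (fun j : {j : ι // j ≠ i0} => L j.1)
    (C := fun b => a * b = b * a) hb ?_ ?_ ?_
  · intro j y hy
    exact hcomm i0 j.1 (fun h => j.2 h.symm) a ha y hy
  · simp
  · intro x y hx hy
    rw [← mul_assoc, hx, mul_assoc, hy, mul_assoc]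

end Cfsg.Agent.Lib.H16.Asch
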