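/-
S5630 project, module M8.3 (helper16): at least two components => tensor decomposition (C7), or C8
when the factors have dimension 2.
-/
import Cfsg.Agent.Lib.H16.AschM8Ca
import Cfsg.Agent.Lib.H16.AschM8Cb
import Cfsg.Agent.Lib.H21.AschM83C
import Cfsg.Agent.Lib.H6.AschU3b
import Cfsg.Agent.Lib.H8.AschM2x
import Cfsg.Agent.Lib.H4.AschM83A
import Cfsg.Agent.Lib.H14.AschM83B
import Cfsg.Agent.Lib.H8.AschM83D
import Cfsg.Agent.Lib.H26.AschM8Defs
import Cfsg.Agent.Lib.H3.AschU1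
import Cfsg.Agent.Lib.H8.AschM5

set_option autoImplicit false

namespace Cfsg.Agent.Lib.H16.Asch

open Cfsg Cfsg.Geo Cfsg.Agent.Lib.Lead.Asch Cfsg.Agent.Lib.H26.Asch
  Cfsg.Agent.Lib.H21.Asch Cfsg.Agent.Lib.H6.Asch Cfsg.Agent.Lib.H8.Asch Cfsg.Agent.Lib.H4.Asch
  Cfsg.Agent.Lib.H14.Asch
open scoped MatrixGroups Matrix Kronecker

variable {F : Type*} [Field F] {n : ℕ}

lemma matrixSet_range {d : ℕ} {N : Subgroup (GL (Fin n) F)} (ρ : N →* GL (Fin d) F) :
    matrixSet ρ.range = repSet ρ := by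
  ext M
  constructor
  · rintro ⟨g, ⟨x, rfl⟩, rfl⟩
    exact ⟨x, rfl⟩
  · rintro ⟨x, rfl⟩
    exact ⟨ρ x, ⟨x, rfl⟩, rfl⟩

/-- A perfect subgroup is represented by matrices of determinant one. -/
lemma det_eq_one_of_perfect {d : ℕ} (A : Subgroup (GL (Fin n) F)) (hperf : ⁅A, A⁆ = A)
    (ρ : A →* GL (Fin d) F) (x : A) :
    ((ρ x : GL (Fin d) F) : Matrix (Fin d) (Fin d) F).det = 1 := by
  have hc : _root_.commutator A = ⊤ := by
    apply Subgroup.map_injective A.subtype_injective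
    rw [Subgroup.map_subtype_commutator, hperf, ← MonoidHom.range_eq_map, Subgroup.range_subtype]
  let f : A →* Fˣ := (Matrix.GeneralLinearGroup.det).comp ρ
  have hk : _root_.commutator A ≤ f.ker := Abelianization.commutator_subset_ker f
  have hx : x ∈ f.ker := hk (hc ▸ Subgroup.mem_top x)
  have h1 : f x = 1 := hx
  have h2 : ((f x : Fˣ) : F) = 1 := by rw [h1]; rfl
  simpa [f] using h2

/-- Core of M8.3, stated with explicit hypotheses instead of the structure `Components`. -/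
theorem tame_of_components_aux [Fintype F] (hn : 3 ≤ n) (H : Subgroup (GL (Fin n) F)) (hgood : Good H)
    (t : ℕ) (L : Fin t → Subgroup (GL (Fin n) F)) (ht : 2 ≤ t)
    (hle : ∀ i, L i ≤ H) (hperf : ∀ i, ⁅L i, L i⁆ = L i)
    (hcomm : ∀ i j, i ≠ j → ∀ x ∈ L i, ∀ y ∈ L j, x * y = y * x)
    (hperm : ∀ h ∈ H, ∃ σ : Equiv.Perm (Fin t), ∀ i, (L i).map (MulAut.conj h).toMonoidHom = L (σ i))
    (htrans : ∀ i j, ∃ h ∈ H, (L i).map (MulAut.conj h).toMonoidHom = L j)
    (hns : ∀ i, ¬ L i ≤ scalars (Fin n) F) : TameC7 H ∨ TameC8 H := by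
  classical
  have hn0 : 0 < n := by omega
  have ht0 : 0 < t := by omega
  set i0 : Fin t := ⟨0, ht0⟩ with hi0
  set Ls : Subgroup (GL (Fin n) F) := ⨆ i, L i with hLs
  have hLsH : Ls ≤ H := iSup_le hle
  have hLsN : NormalizedBy H Ls := normalizedBy_iSup H L hperm
  have hLsns : ¬ Ls ≤ scalars (Fin n) F := fun h => hns i0 ((le_iSup L i0).trans h)
  have habsL : ActsAbsolutelyIrreducibly (matrixSet Ls) :=
    (hgood.star Ls hLsH hLsN).resolve_left hLsns
  have hAB : L i0 ⊔ (⨆ j : {j : Fin t // j ≠ i0}, L j.1) = Ls := sup_iSup_ne L i0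
  have hcAB := commute_iSup_ne L i0 hcomm
  obtain ⟨D⟩ := exists_homogData_of_commuting hn0 Ls (L i0) _ habsL.1 hAB.symm hcAB
  have hρabs : ActsAbsolutelyIrreducibly (repSet D.ρ) :=
    absIrr_rep_of_commuting hn0 (L i0) _ hcAB (hAB ▸ habsL) D
  have hm2 : 2 ≤ D.d := by
    by_contra hlt
    exact hns i0 (le_scalars_of_homog_d_le_one (L i0) D (by omega))
  obtain ⟨m, k, e, P, ρ, hirrρ, heq⟩ := D
  dsimp only at hρabs hm2
  -- Burnside
  have hspan : Submodule.span F (repSet ρ) = ⊤ := by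
    have := Cfsg.Agent.Lib.H3.Asch.span_eq_top_of_absIrr ρ.range (by rw [matrixSet_range]; exact hρabs)
    rwa [matrixSet_range] at this
  -- conjugating elements
  choose hc hcH hcmap using fun i => htrans i0 i
  let φ : Fin t → (Matrix (Fin m) (Fin m) F →ₐ[F] Matrix (Fin n) (Fin n) F) :=
    fun i => phiHom e (hc i * P⁻¹)
  have hφ1 : ∀ i, ∀ y ∈ L i, ∃ x : L i0, (y : Matrix (Fin n) (Fin n) F) =
      φ i ((ρ x : GL (Fin m) F) : Matrix (Fin m) (Fin m) F) := by
    intro i y hy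
    rw [← hcmap i] at hy
    obtain ⟨x, hx, rfl⟩ := Subgroup.mem_map.1 hy
    refine ⟨⟨x, hx⟩, ?_⟩
    show _ = phiHom e (hc i * P⁻¹) _
    rw [phiHom_apply, ← heq ⟨x, hx⟩, ← Units.val_mul, ← Units.val_mul]
    congr 1
    simp only [MulEquiv.coe_toMonoidHom, MulAut.conj_apply]
    group
  have hφ2 : ∀ i a, φ i a ∈ Submodule.span F (matrixSet (L i)) := by
    intro i a
    have ha : a ∈ Submodule.span F (repSet ρ) := by rw [hspan]; trivial
    induction ha using Submodule.span_induction with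
    | mem b hb =>
      obtain ⟨x, rfl⟩ := hb
      apply Submodule.subset_span
      refine ⟨hc i * (x : GL (Fin n) F) * (hc i)⁻¹, ?_, ?_⟩
      · rw [← hcmap i]
        exact Subgroup.mem_map.2 ⟨x, x.2, by simp [MulAut.conj_apply]⟩
      · show _ = phiHom e (hc i * P⁻¹) _
        rw [phiHom_apply, ← heq x, ← Units.val_mul, ← Units.val_mul]
        congr 1
        group
    | zero => rw [map_zero]; exact Submodule.zero_mem _
    | add a b _ _ ha hb => rw [map_add]; exact Submodule.add_mem _ ha hb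
    | smul c a _ ha => rw [map_smul]; exact Submodule.smul_mem _ c ha
  have hφ2' : ∀ i, ∀ z ∈ Submodule.span F (matrixSet (L i)), ∃ a, φ i a = z := by
    intro i z hz
    induction hz using Submodule.span_induction with
    | mem y hy =>
      obtain ⟨g, hg, rfl⟩ := hy
      obtain ⟨x, hx⟩ := hφ1 i g hg
      exact ⟨_, hx.symm⟩
    | zero => exact ⟨0, map_zero _⟩
    | add a b _ _ ha hb =>
      obtain ⟨a', rfl⟩ := ha
      obtain ⟨b', rfl⟩ := hb
      exact ⟨a' + b', map_add _ _ _⟩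
    | smul c a _ ha =>
      obtain ⟨a', rfl⟩ := ha
      exact ⟨c • a', map_smul _ _ _⟩
  have hφ3 : ∀ i j, i ≠ j → ∀ a b, φ i a * φ j b = φ j b * φ i a := by
    intro i j hij a b
    refine commute_of_mem_span (F := F) (matrixSet (L i)) (matrixSet (L j)) ?_ _ _ (hφ2 i a) (hφ2 j b)
    rintro _ ⟨x, hx, rfl⟩ _ ⟨y, hy, rfl⟩
    rw [← Units.val_mul, ← Units.val_mul, hcomm i j hij x hx y hy]
  have hφ4 : ∀ W : Submodule F (Fin n → F),
      (∀ i a, W.map (Matrix.toLin' (φ i a)) ≤ W) → W = ⊥ ∨ W = ⊤ := by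
    intro W hW
    apply habsL.1 W
    rintro _ ⟨g, hg, rfl⟩
    refine map_le_of_mem_iSup L W ?_ g hg
    intro i y hy
    obtain ⟨x, hx⟩ := hφ1 i y hy
    rw [hx]
    exact hW i _
  obtain ⟨e', Q, hQ⟩ := exists_tensor_basis hn0 (by omega) ht0 φ hφ3 hφ4
  -- `Rq` : reindexing as an algebra equivalence
  set Rq : Matrix (Fin t → Fin m) (Fin t → Fin m) F ≃ₐ[F] Matrix (Fin n) (Fin n) F :=
    Matrix.reindexAlgEquiv F F e'.symm with hRq
  have hQ' : ∀ i a, φ i a = conjAlgHom Q (Rq (posEmb i a)) := by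
    intro i a
    rw [hQ i a]
    rfl
  -- every element of `H` is permutation * pure tensor in the tensor basis
  have hmem : ∀ h ∈ H, h ∈ tensorWreathSubgroup m t e' Q := by
    intro h hh
    obtain ⟨σ, hσ⟩ := hperm h hh
    have hconj : ∀ i, ∀ z ∈ Submodule.span F (matrixSet (L i)),
        conjAlgHom h z ∈ Submodule.span F (matrixSet (L (σ i))) := by
      intro i z hz
      induction hz using Submodule.span_induction with
      | mem y hy =>
        obtain ⟨g, hg, rfl⟩ := hy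
        apply Submodule.subset_span
        refine ⟨h * g * h⁻¹, ?_, ?_⟩
        · rw [← hσ i]
          exact Subgroup.mem_map.2 ⟨g, hg, by simp [MulAut.conj_apply]⟩
        · show ((h * g * h⁻¹ : GL (Fin n) F) : Matrix (Fin n) (Fin n) F) = _
          rw [conjAlgHom_apply, Units.val_mul, Units.val_mul]
      | zero => rw [map_zero]; exact Submodule.zero_mem _
      | add a b _ _ ha hb => rw [map_add]; exact Submodule.add_mem _ ha hb
      | smul c a _ ha => rw [map_smul]; exact Submodule.smul_mem _ c ha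
    set G0 : GL (Fin n) F := Q⁻¹ * h * Q with hG0
    have hG0' : ∀ i a, ∃ a', (G0 : Matrix (Fin n) (Fin n) F) * Rq (posEmb i a) =
        Rq (posEmb (σ i) a') * (G0 : Matrix (Fin n) (Fin n) F) := by
      intro i a
      obtain ⟨a', ha'⟩ := hφ2' (σ i) _ (hconj i _ (hφ2 i a))
      refine ⟨a', ?_⟩
      rw [hQ', hQ'] at ha'
      -- ha' : conj Q (Rq X') = conj h (conj Q (Rq X))
      have h1 : Rq (posEmb (σ i) a') = conjAlgHom G0 (Rq (posEmb i a)) := by
        rw [hG0, conjAlgHom_mul, conjAlgHom_mul, ← ha', conjAlgHom_inv_conj]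
      rw [h1, conjAlgHom_mul_self]
    let g : GL (Fin t → Fin m) F := glReindex e' G0
    have hgval : (g : Matrix (Fin t → Fin m) (Fin t → Fin m) F) =
        Rq.symm (G0 : Matrix (Fin n) (Fin n) F) := rfl
    have hg : ∀ i (a : Matrix (Fin m) (Fin m) F), ∃ a' : Matrix (Fin m) (Fin m) F,
        (g : Matrix (Fin t → Fin m) (Fin t → Fin m) F) * posEmb i a =
          posEmb (σ i) a' * (g : Matrix (Fin t → Fin m) (Fin t → Fin m) F) := by
      intro i a
      obtain ⟨a', ha'⟩ := hG0' i a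
      refine ⟨a', ?_⟩
      apply Rq.injective
      rw [hgval, map_mul, map_mul, AlgEquiv.apply_symm_apply]
      exact ha'
    obtain ⟨gs, hgs⟩ := perm_pure_of_permutes (by omega) ht0 g σ hg
    apply mem_tensorWreathSubgroup_of_eq e' Q h σ gs
    have h2 : (G0 : Matrix (Fin n) (Fin n) F) =
        Rq (permMat σ * pureT (fun i => ((gs i : GL (Fin m) F) : Matrix (Fin m) (Fin m) F))) := by
      rw [← hgs, hgval, AlgEquiv.apply_symm_apply]
    have h3 : h = Q * G0 * Q⁻¹ := by rw [hG0]; group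
    rw [h3, Units.val_mul, Units.val_mul, h2]
    rfl
  by_cases hm3 : 3 ≤ m
  · exact Or.inl ⟨m, t, e', Q, hm3, ht, hmem⟩
  · -- factors of dimension 2: an invariant alternating form
    right
    have hm : m = 2 := by omega
    subst hm
    set J : Matrix (Fin t → Fin 2) (Fin t → Fin 2) F :=
      pureT (fun _ : Fin t => (!![0, 1; -1, 0] : Matrix (Fin 2) (Fin 2) F)) with hJ
    set B : Matrix (Fin n) (Fin n) F :=
      ((Q⁻¹ : GL (Fin n) F) : Matrix (Fin n) (Fin n) F)ᵀ * Rq J *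
        ((Q⁻¹ : GL (Fin n) F) : Matrix (Fin n) (Fin n) F) with hB
    have hQQ : ((Q⁻¹ : GL (Fin n) F) : Matrix (Fin n) (Fin n) F) * (Q : Matrix (Fin n) (Fin n) F) = 1 := by
      rw [← Units.val_mul, inv_mul_cancel, Units.val_one]
    have hQQ' : (Q : Matrix (Fin n) (Fin n) F) * ((Q⁻¹ : GL (Fin n) F) : Matrix (Fin n) (Fin n) F) = 1 := by
      rw [← Units.val_mul, mul_inv_cancel, Units.val_one]
    have hRqT : ∀ X : Matrix (Fin t → Fin 2) (Fin t → Fin 2) F, (Rq X)ᵀ = Rq Xᵀ := by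
      intro X
      rfl
    have hBne : B ≠ 0 := by
      intro h0
      have h1 : Rq J = 0 := by
        have : (Q : Matrix (Fin n) (Fin n) F)ᵀ * B * (Q : Matrix (Fin n) (Fin n) F) = Rq J := by
          rw [hB]
          calc (Q : Matrix (Fin n) (Fin n) F)ᵀ *
                (((Q⁻¹ : GL (Fin n) F) : Matrix (Fin n) (Fin n) F)ᵀ * Rq J *
                  ((Q⁻¹ : GL (Fin n) F) : Matrix (Fin n) (Fin n) F)) * (Q : Matrix (Fin n) (Fin n) F)
              = ((Q : Matrix (Fin n) (Fin n) F)ᵀ * ((Q⁻¹ : GL (Fin n) F) : Matrix (Fin n) (Fin n) F)ᵀ) * Rq J *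
                  (((Q⁻¹ : GL (Fin n) F) : Matrix (Fin n) (Fin n) F) * (Q : Matrix (Fin n) (Fin n) F)) := by
                simp only [mul_assoc]
            _ = Rq J := by rw [← Matrix.transpose_mul, hQQ, Matrix.transpose_one, one_mul, mul_one]
        rw [← this, h0, mul_zero, zero_mul]
      have h2 : J = 0 := by
        apply Rq.injective
        rw [h1, map_zero]
      exact pureT_J_ne_zero h2
    have hfix : ∀ g ∈ matrixSet Ls, gᵀ * B * g = B := by
      rintro _ ⟨g, hg, rfl⟩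
      refine form_fixed_of_mem_iSup L B ?_ g hg
      intro i y hy
      obtain ⟨x, hx⟩ := hφ1 i y hy
      have hdet := det_eq_one_of_perfect (L i0) (hperf i0) ρ x
      have hfixJ := posEmb_fixes_pureT_J (F := F) i _ hdet
      rw [hx, hQ', conjAlgHom_apply]
      set p := posEmb (t := t) i ((ρ x : GL (Fin 2) F) : Matrix (Fin 2) (Fin 2) F) with hp
      rw [hB, Matrix.transpose_mul, Matrix.transpose_mul, hRqT]
      calc ((Q⁻¹ : GL (Fin n) F) : Matrix (Fin n) (Fin n) F)ᵀ * (Rq pᵀ * (Q : Matrix (Fin n) (Fin n) F)ᵀ) *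
            (((Q⁻¹ : GL (Fin n) F) : Matrix (Fin n) (Fin n) F)ᵀ * Rq J *
              ((Q⁻¹ : GL (Fin n) F) : Matrix (Fin n) (Fin n) F)) *
            ((Q : Matrix (Fin n) (Fin n) F) * Rq p * ((Q⁻¹ : GL (Fin n) F) : Matrix (Fin n) (Fin n) F))
          = ((Q⁻¹ : GL (Fin n) F) : Matrix (Fin n) (Fin n) F)ᵀ * Rq pᵀ *
              ((Q : Matrix (Fin n) (Fin n) F)ᵀ * ((Q⁻¹ : GL (Fin n) F) : Matrix (Fin n) (Fin n) F)ᵀ) * Rq J *
              (((Q⁻¹ : GL (Fin n) F) : Matrix (Fin n) (Fin n) F) * (Q : Matrix (Fin n) (Fin n) F)) * Rq p *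
              ((Q⁻¹ : GL (Fin n) F) : Matrix (Fin n) (Fin n) F) := by simp only [mul_assoc]
        _ = ((Q⁻¹ : GL (Fin n) F) : Matrix (Fin n) (Fin n) F)ᵀ * (Rq pᵀ * Rq J * Rq p) *
              ((Q⁻¹ : GL (Fin n) F) : Matrix (Fin n) (Fin n) F) := by
            rw [← Matrix.transpose_mul, hQQ, Matrix.transpose_one]
            simp only [mul_one, mul_assoc]
        _ = ((Q⁻¹ : GL (Fin n) F) : Matrix (Fin n) (Fin n) F)ᵀ * Rq J *
              ((Q⁻¹ : GL (Fin n) F) : Matrix (Fin n) (Fin n) F) := by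
            rw [← map_mul, ← map_mul, hfixJ]
    exact tame_of_fixes_bilin_matrix hn H Ls hLsN habsL B hBne hfix

/-- **M8.3** (exact signature of tools/blueprints/S5630_M8_sigs.lean, v2). -/
theorem tame_of_components [Fintype F] (hn : 3 ≤ n) (H : Subgroup (GL (Fin n) F)) (hgood : Good H)
    (t : ℕ) (L : Fin t → Subgroup (GL (Fin n) F)) (hL : Components H t L) (ht : 2 ≤ t) :
    TameC7 H ∨ TameC8 H :=
  tame_of_components_aux hn H hgood t L ht hL.le hL.perfect hL.comm hL.perm hL.trans hL.not_scal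

end Cfsg.Agent.Lib.H16.Asch
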