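import Mathlib
import Cfsg.Agent.Lib.H1.JordanB

/-!
# S4484, part (X1): Blichfeldt's 60-degree theorem via the "atoms" extremal argument (helper16)

`E` a finite-dimensional complex inner product space, `R : G →* (E ≃ₗᵢ[ℂ] E)` irreducible, `G` finite,
`y ∈ G`, `F = ker (R y - ε) ≠ ⊥, ⊤`, and the key inequality (KI) for the conjugates of `y`. Then `E` is an orthogonal
direct sum of at least two nonzero subspaces permuted by `G`.
-/

set_option autoImplicit false

namespace Cfsg.Agent.Lib.H16.B60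

open Module.End Cfsg.Agent.Lib.H1.Jordan
open scoped InnerProductSpace

variable {E : Type*} [NormedAddCommGroup E] [InnerProductSpace ℂ E]

/-! ## A. maps of submodules under isometries -/

theorem mem_map_lin (T : E ≃ₗᵢ[ℂ] E) (W : Submodule ℂ E) (v : E) :
    v ∈ W.map (lin T) ↔ T.symm v ∈ W := by
  constructor
  · rintro ⟨u, hu, rfl⟩
    simpa using hu
  · intro h
    exact ⟨T.symm v, h, by simp⟩

theorem apply_mem_map_lin (T : E ≃ₗᵢ[ℂ] E) (W : Submodule ℂ E) {w : E} (hw : w ∈ W) :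
    T w ∈ W.map (lin T) := ⟨w, hw, rfl⟩

theorem map_lin_le_iff (T : E ≃ₗᵢ[ℂ] E) (W X : Submodule ℂ E) :
    W.map (lin T) ≤ X.map (lin T) ↔ W ≤ X := by
  constructor
  · intro h w hw
    have := h (apply_mem_map_lin T W hw)
    rw [mem_map_lin] at this
    simpa using this
  · intro h
    exact Submodule.map_mono h

theorem map_lin_ne_bot (T : E ≃ₗᵢ[ℂ] E) {W : Submodule ℂ E} (hW : W ≠ ⊥) : W.map (lin T) ≠ ⊥ := by
  intro h
  apply hW
  rw [Submodule.eq_bot_iff]
  intro w hw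
  have := apply_mem_map_lin T W hw
  rw [h, Submodule.mem_bot] at this
  simpa using this

/-- If the isometry `T` maps `W` onto itself and `W` meets the `ε`-eigenspace of `T` trivially, then `W` is
orthogonal to that eigenspace. -/
theorem inner_eq_zero_of_map_eq [FiniteDimensional ℂ E] (T : E ≃ₗᵢ[ℂ] E) (ε : ℂ) (W : Submodule ℂ E)
    (hW : W.map (lin T) = W) (hdisj : W ⊓ eigenspace (lin T) ε = ⊥) {u w : E}
    (hu : u ∈ eigenspace (lin T) ε) (hw : w ∈ W) : ⟪u, w⟫_ℂ = 0 := by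
  -- `T` commutes with the projection onto `W`
  have hcomm : ∀ v, W.starProjection (T v) = T (W.starProjection v) := by
    intro v
    apply Submodule.eq_starProjection_of_mem_of_inner_eq_zero
    · have := apply_mem_map_lin T W (Submodule.starProjection_apply_mem W v)
      rwa [hW] at this
    · intro w' hw'
      have hw'' : T.symm w' ∈ W := by
        rw [← mem_map_lin, hW]; exact hw'
      have h1 : T v - T (W.starProjection v) = T (v - W.starProjection v) := by
        rw [map_sub]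
      have h2 : w' = T (T.symm w') := by simp
      rw [h1, h2, LinearIsometryEquiv.inner_map_map]
      exact Submodule.starProjection_inner_eq_zero v _ hw''
  have hTu : T u = ε • u := mem_eigenspace_iff.mp hu
  have hPu : W.starProjection u ∈ W ⊓ eigenspace (lin T) ε := by
    refine ⟨Submodule.starProjection_apply_mem W u, ?_⟩
    rw [SetLike.mem_coe, mem_eigenspace_iff]
    show T (W.starProjection u) = ε • W.starProjection u
    rw [← hcomm, hTu, map_smul]
  rw [hdisj, Submodule.mem_bot] at hPu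
  have h3 := Submodule.starProjection_inner_eq_zero (K := W) u w hw
  rw [hPu, sub_zero] at h3
  exact h3


/-! ## B. atoms of a finite family of subspaces -/

section Atoms

variable {G : Type*}

/-- An atom of the family `Fm`: a nonzero subspace which is the intersection of the members containing it and is
inside or disjoint from every member (= a minimal nonzero intersection of members). -/
structure IsAt (Fm : G → Submodule ℂ E) (W : Submodule ℂ E) : Prop where
  ne_bot : W ≠ ⊥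
  closed : ∀ v, (∀ g, W ≤ Fm g → v ∈ Fm g) → v ∈ W
  dich : ∀ g, W ≤ Fm g ∨ W ⊓ Fm g = ⊥

variable {Fm : G → Submodule ℂ E}

theorem IsAt.le_of_forall {W X : Submodule ℂ E} (hW : IsAt Fm W) (h : ∀ g, W ≤ Fm g → X ≤ Fm g) : X ≤ W :=
  fun v hv => hW.closed v (fun g hg => h g hg hv)

/-- (iii) atoms form an antichain. -/
theorem IsAt.eq_of_le {W W' : Submodule ℂ E} (hW : IsAt Fm W) (hW' : IsAt Fm W') (h : W ≤ W') : W = W' := by
  refine le_antisymm h (hW.le_of_forall fun g hg => ?_)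
  rcases hW'.dich g with h1 | h1
  · exact h1
  · exfalso
    apply hW.ne_bot
    rw [eq_bot_iff, ← h1]
    exact le_inf h hg

/-- existence of an atom below any nonzero "closed" subspace. -/
theorem exists_isAt [FiniteDimensional ℂ E] :
    ∀ (n : ℕ) (X : Submodule ℂ E), Module.finrank ℂ X = n → X ≠ ⊥ →
      (∀ v, (∀ g, X ≤ Fm g → v ∈ Fm g) → v ∈ X) → ∃ W, IsAt Fm W ∧ W ≤ X := by
  intro n
  induction n using Nat.strong_induction_on with
  | _ n ih =>
    intro X hn hX hcl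
    by_cases hd : ∀ g, X ≤ Fm g ∨ X ⊓ Fm g = ⊥
    · exact ⟨X, ⟨hX, hcl, hd⟩, le_rfl⟩
    · push Not at hd
      obtain ⟨g, hg1, hg2⟩ := hd
      have hlt : X ⊓ Fm g < X := by
        refine lt_of_le_of_ne inf_le_left (fun h => hg1 ?_)
        rw [← h]; exact inf_le_right
      have hfr : Module.finrank ℂ ↥(X ⊓ Fm g) < n := by
        rw [← hn]; exact Submodule.finrank_lt_finrank_of_lt hlt
      obtain ⟨W, hW, hWX⟩ := ih _ hfr (X ⊓ Fm g) rfl hg2 (by
        intro v hv
        refine ⟨hcl v (fun k hk => hv k (le_trans inf_le_left hk)), hv g inf_le_right⟩)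
      exact ⟨W, hW, le_trans hWX inf_le_left⟩

theorem exists_isAt_le [FiniteDimensional ℂ E] (g₀ : G) (h₀ : Fm g₀ ≠ ⊥) : ∃ W, IsAt Fm W ∧ W ≤ Fm g₀ :=
  exists_isAt _ (Fm g₀) rfl h₀ (fun _ hv => hv g₀ le_rfl)

/-- the atoms are finitely many when the index type is finite. -/
theorem finite_isAt [Finite G] : {W : Submodule ℂ E | IsAt Fm W}.Finite := by
  have hinj : Set.InjOn (fun W : Submodule ℂ E => {g | W ≤ Fm g}) {W | IsAt Fm W} := by
    intro W hW W' hW' h
    have h' : ∀ g, W ≤ Fm g ↔ W' ≤ Fm g := fun g => by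
      have := Set.ext_iff.mp h g
      simpa using this
    exact le_antisymm (hW'.le_of_forall fun g hg => (h' g).mpr hg) (hW.le_of_forall fun g hg => (h' g).mp hg)
  exact Set.Finite.of_injOn (f := fun W : Submodule ℂ E => {g | W ≤ Fm g}) (t := Set.univ)
    (fun _ _ => Set.mem_univ _) hinj Set.finite_univ

variable [Group G] (R : G →* (E ≃ₗᵢ[ℂ] E))

/-- (iv) the atoms are permuted by `G`. -/
theorem IsAt.map {W : Submodule ℂ E} (hmap : ∀ h g, (Fm g).map (lin (R h)) = Fm (h * g)) (hW : IsAt Fm W)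
    (h : G) : IsAt Fm (W.map (lin (R h))) := by
  have key : ∀ g, W.map (lin (R h)) ≤ Fm g ↔ W ≤ Fm (h⁻¹ * g) := by
    intro g
    have : Fm g = (Fm (h⁻¹ * g)).map (lin (R h)) := by
      rw [hmap, mul_inv_cancel_left]
    rw [this, map_lin_le_iff]
  refine ⟨map_lin_ne_bot _ hW.ne_bot, ?_, ?_⟩
  · intro v hv
    rw [mem_map_lin]
    apply hW.closed
    intro k hk
    have h1 : W.map (lin (R h)) ≤ Fm (h * k) := by
      rw [key, inv_mul_cancel_left]; exact hk
    have h2 := hv _ h1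
    rw [← hmap, mem_map_lin] at h2
    exact h2
  · intro g
    rcases hW.dich (h⁻¹ * g) with h1 | h1
    · left; exact (key g).mpr h1
    · right
      rw [eq_bot_iff]
      intro v hv
      have hv1 : (R h).symm v ∈ W := (mem_map_lin _ _ _).mp hv.1
      have hv2 : (R h).symm v ∈ Fm (h⁻¹ * g) := by
        have : v ∈ (Fm (h⁻¹ * g)).map (lin (R h)) := by
          rw [hmap, mul_inv_cancel_left]; exact hv.2
        exact (mem_map_lin _ _ _).mp this
      have hv3 : (R h).symm v ∈ W ⊓ Fm (h⁻¹ * g) := ⟨hv1, hv2⟩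
      rw [h1, Submodule.mem_bot] at hv3
      rw [Submodule.mem_bot]
      simpa using hv3

end Atoms


/-! ## C. the extremal argument -/

section Main

variable [FiniteDimensional ℂ E]

/-- a unit vector of `W` maximising `‖P w‖`. -/
theorem exists_max_unit (W : Submodule ℂ E) (hW : W ≠ ⊥) (P : E →L[ℂ] E) :
    ∃ w ∈ W, ‖w‖ = 1 ∧ ∀ w' ∈ W, ‖w'‖ = 1 → ‖P w'‖ ≤ ‖P w‖ := by
  have hc : IsCompact ((W : Set E) ∩ Metric.sphere (0 : E) 1) :=
    (isCompact_sphere (0 : E) 1).inter_left W.closed_of_finiteDimensional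
  have hne : ((W : Set E) ∩ Metric.sphere (0 : E) 1).Nonempty := by
    obtain ⟨w, hw, hw0⟩ := Submodule.exists_mem_ne_zero_of_ne_bot hW
    refine ⟨((‖w‖ : ℂ)⁻¹) • w, W.smul_mem _ hw, ?_⟩
    rw [mem_sphere_zero_iff_norm]
    exact norm_smul_inv_norm hw0
  obtain ⟨w, hw, hmax⟩ := hc.exists_isMaxOn hne (P.continuous.norm.continuousOn)
  refine ⟨w, hw.1, mem_sphere_zero_iff_norm.mp hw.2, fun w' hw' hw1 => ?_⟩
  exact hmax ⟨hw', mem_sphere_zero_iff_norm.mpr hw1⟩

theorem norm_inner_le_norm_starProjection (F : Submodule ℂ E) {u : E} (hu : u ∈ F) (hu1 : ‖u‖ = 1) (w : E) :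
    ‖⟪u, w⟫_ℂ‖ ≤ ‖F.starProjection w‖ := by
  have h1 : ⟪u, w⟫_ℂ = ⟪u, F.starProjection w⟫_ℂ := by
    rw [← Submodule.inner_starProjection_left_eq_right, Submodule.starProjection_eq_self_iff.mpr hu]
  rw [h1]
  calc ‖⟪u, F.starProjection w⟫_ℂ‖ ≤ ‖u‖ * ‖F.starProjection w‖ := norm_inner_le_norm _ _
    _ = ‖F.starProjection w‖ := by rw [hu1, one_mul]

variable {G : Type*} [Group G] (R : G →* (E ≃ₗᵢ[ℂ] E)) (y : G) (ε : ℂ)

/-- the `ε`-eigenspace of the conjugate `g y g⁻¹` (`= R g (F)`). -/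
noncomputable def Fm (g : G) : Submodule ℂ E := eigenspace (lin (R (g * y * g⁻¹))) ε

omit [FiniteDimensional ℂ E] in
theorem conj_apply (h t : G) (u : E) : R (h * t * h⁻¹) (R h u) = R h (R t u) := by
  have : R (h * t * h⁻¹) (R h u) = (R (h * t * h⁻¹) * R h) u := rfl
  rw [this, ← map_mul, inv_mul_cancel_right, map_mul]
  rfl

omit [FiniteDimensional ℂ E] in
theorem map_Fm (h g : G) : (Fm R y ε g).map (lin (R h)) = Fm R y ε (h * g) := by
  ext v
  rw [mem_map_lin]
  unfold Fm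
  rw [mem_eigenspace_iff, mem_eigenspace_iff]
  have e1 : h * g * y * (h * g)⁻¹ = h * (g * y * g⁻¹) * h⁻¹ := by group
  obtain ⟨u, rfl⟩ : ∃ u, v = R h u := ⟨(R h).symm v, by simp⟩
  show R (g * y * g⁻¹) ((R h).symm (R h u)) = ε • (R h).symm (R h u) ↔
    R (h * g * y * (h * g)⁻¹) (R h u) = ε • R h u
  rw [e1, conj_apply, LinearIsometryEquiv.symm_apply_apply, ← LinearIsometryEquiv.map_smul]
  exact ⟨fun h1 => by rw [h1], fun h1 => (R h).injective h1⟩

variable [Finite G]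

/-- (MAX)+(POS): every atom is inside or orthogonal to every member of the family. -/
theorem isAt_le_or_le_orthogonal
    (hKI : ∀ g (w : E), ‖w‖ = 1 →
      (1 + ‖(Fm R y ε g).starProjection w‖ ^ 2) / 2 ≤ ‖⟪w, R (g * y * g⁻¹) w⟫_ℂ‖)
    (W₀ : Submodule ℂ E) (g₀ : G) (hW₀ : IsAt (Fm R y ε) W₀) :
    W₀ ≤ Fm R y ε g₀ ∨ W₀ ≤ (Fm R y ε g₀)ᗮ := by
  classical
  by_contra hcon
  rw [not_or] at hcon
  obtain ⟨hc1, hc2⟩ := hcon
  -- maximisers for every pair
  have hmaxv : ∀ p : Submodule ℂ E × G, ∃ w : E, p.1 ≠ ⊥ →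
      (w ∈ p.1 ∧ ‖w‖ = 1 ∧ ∀ w' ∈ p.1, ‖w'‖ = 1 →
        ‖(Fm R y ε p.2).starProjection w'‖ ≤ ‖(Fm R y ε p.2).starProjection w‖) := by
    intro p
    by_cases hp : p.1 ≠ ⊥
    · obtain ⟨w, h1, h2, h3⟩ := exists_max_unit p.1 hp (Fm R y ε p.2).starProjection
      exact ⟨w, fun _ => ⟨h1, h2, h3⟩⟩
    · exact ⟨0, fun h => absurd h hp⟩
  choose wm hwm using hmaxv
  let val : Submodule ℂ E × G → ℝ := fun p => ‖(Fm R y ε p.2).starProjection (wm p)‖
  let A : Set (Submodule ℂ E × G) := {p | IsAt (Fm R y ε) p.1 ∧ ¬ p.1 ≤ Fm R y ε p.2}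
  have hAfin : A.Finite := by
    refine ((finite_isAt (Fm := Fm R y ε)).prod (Set.finite_univ (α := G))).subset ?_
    intro p hp
    exact ⟨hp.1, Set.mem_univ _⟩
  have hAne : A.Nonempty := ⟨(W₀, g₀), hW₀, hc1⟩
  obtain ⟨⟨W, g⟩, ⟨hW, hWg⟩, hmaxp⟩ := Set.exists_max_image A val hAfin hAne
  obtain ⟨hwW, hw1, hwmax⟩ := hwm (W, g) hW.ne_bot
  set w := wm (W, g) with hwdef
  set a := ‖(Fm R y ε g).starProjection w‖ with hadef
  have hdisj : W ⊓ Fm R y ε g = ⊥ := (hW.dich g).resolve_left hWg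
  -- global maximality
  have hglob : ∀ (W₁ : Submodule ℂ E) (g₁ : G), IsAt (Fm R y ε) W₁ → ¬ W₁ ≤ Fm R y ε g₁ →
      ∀ w₁ ∈ W₁, ‖w₁‖ = 1 → ‖(Fm R y ε g₁).starProjection w₁‖ ≤ a := by
    intro W₁ g₁ h1 h2 w₁ hw₁ hn
    have h3 := (hwm (W₁, g₁) h1.ne_bot).2.2 w₁ hw₁ hn
    have h4 : val (W₁, g₁) ≤ val (W, g) := hmaxp (W₁, g₁) ⟨h1, h2⟩
    exact le_trans h3 h4
  -- `a > 0`
  have hapos : 0 < a := by
    obtain ⟨w₀, hw₀, hw₀'⟩ := SetLike.not_le_iff_exists.mp hc2
    have hw₀0 : w₀ ≠ 0 := fun h => hw₀' (h ▸ Submodule.zero_mem _)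
    have hP : (Fm R y ε g₀).starProjection w₀ ≠ 0 := fun h =>
      hw₀' ((Submodule.starProjection_apply_eq_zero_iff _).mp h)
    have h5 := hglob W₀ g₀ hW₀ hc1 (((‖w₀‖ : ℂ)⁻¹) • w₀) (W₀.smul_mem _ hw₀) (norm_smul_inv_norm hw₀0)
    rw [map_smul, norm_smul] at h5
    have h6 : 0 < ‖((‖w₀‖ : ℂ)⁻¹)‖ * ‖(Fm R y ε g₀).starProjection w₀‖ := by
      apply mul_pos
      · rw [norm_pos_iff]
        exact inv_ne_zero (by exact_mod_cast (norm_ne_zero_iff.mpr hw₀0))
      · exact norm_pos_iff.mpr hP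
    linarith
  -- `a < 1`
  have hale : a ≤ 1 := by
    have := Submodule.norm_starProjection_apply_le (Fm R y ε g) w
    rwa [hw1] at this
  have halt : a < 1 := by
    refine lt_of_le_of_ne hale (fun h => ?_)
    have h7 : w ∈ Fm R y ε g := by
      rw [Submodule.mem_iff_norm_starProjection, hw1]; exact h
    have h8 : w ∈ W ⊓ Fm R y ε g := ⟨hwW, h7⟩
    rw [hdisj, Submodule.mem_bot] at h8
    rw [h8, norm_zero] at hw1
    exact zero_ne_one hw1
  -- the translate of `W`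
  set t := g * y * g⁻¹ with ht
  have hKIw := hKI g w hw1
  have hW' : IsAt (Fm R y ε) (W.map (lin (R t))) := hW.map R (map_Fm R y ε) t
  have hcl : ∀ h, W.map (lin (R t)) ≤ Fm R y ε h → W ≤ Fm R y ε h := by
    intro h hh
    by_contra hn
    have h9 := hglob W h hW hn w hwW hw1
    have h10 : R t w ∈ Fm R y ε h := hh (apply_mem_map_lin (R t) W hwW)
    have h11 : ‖R t w‖ = 1 := by rw [LinearIsometryEquiv.norm_map]; exact hw1
    have h12 := norm_inner_le_norm_starProjection (Fm R y ε h) h10 h11 w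
    rw [norm_inner_symm] at h12
    have h13 : (1 + a ^ 2) / 2 ≤ a := le_trans (le_trans hKIw h12) h9
    nlinarith [sq_nonneg (1 - a), sub_pos.mpr halt]
  have hle : W ≤ W.map (lin (R t)) := hW'.le_of_forall hcl
  have heq : W.map (lin (R t)) = W := (hW.eq_of_le hW' hle).symm
  have horth : w ∈ (Fm R y ε g)ᗮ := by
    rw [Submodule.mem_orthogonal]
    intro u hu
    exact inner_eq_zero_of_map_eq (R t) ε W heq hdisj hu hwW
  have ha0 : a = 0 := by
    rw [hadef, (Submodule.starProjection_apply_eq_zero_iff _).mpr horth, norm_zero]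
  linarith

/-- **Blichfeldt's 60-degree theorem, core form** (with the key inequality as a hypothesis). -/
theorem blichfeldt60_core
    (hirr : ∀ W : Submodule ℂ E, (∀ g, W.map (lin (R g)) ≤ W) → W = ⊥ ∨ W = ⊤)
    (hFbot : eigenspace (lin (R y)) ε ≠ ⊥) (hFtop : eigenspace (lin (R y)) ε ≠ ⊤)
    (hKI : ∀ g (w : E), ‖w‖ = 1 →
      (1 + ‖(eigenspace (lin (R (g * y * g⁻¹))) ε).starProjection w‖ ^ 2) / 2
        ≤ ‖⟪w, R (g * y * g⁻¹) w⟫_ℂ‖) :
    ∃ 𝓦 : Finset (Submodule ℂ E), 2 ≤ 𝓦.card ∧ (∀ W ∈ 𝓦, W ≠ ⊥) ∧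
      (∀ W ∈ 𝓦, ∀ W' ∈ 𝓦, W ≠ W' → W ⟂ W') ∧ sSup (𝓦 : Set (Submodule ℂ E)) = ⊤ ∧
      ∀ g, ∀ W ∈ 𝓦, W.map (lin (R g)) ∈ 𝓦 := by
  classical
  have hF1 : Fm R y ε 1 = eigenspace (lin (R y)) ε := by
    unfold Fm; rw [one_mul, inv_one, mul_one]
  have hzero := isAt_le_or_le_orthogonal R y ε hKI
  have hfin := finite_isAt (Fm := Fm R y ε)
  -- distinct atoms are orthogonal
  have horth : ∀ W W', IsAt (Fm R y ε) W → IsAt (Fm R y ε) W' → W ≠ W' → W ⟂ W' := by
    intro W W' hW hW' hne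
    by_contra hno
    apply hne
    refine (hW'.eq_of_le hW (hW.le_of_forall fun g hg => ?_)).symm
    rcases hzero W' g hW' with h1 | h1
    · exact h1
    · exfalso
      apply hno
      rw [Submodule.isOrtho_iff_inner_eq]
      intro u hu v hv
      exact Submodule.inner_right_of_mem_orthogonal (hg hu) (h1 hv)
  -- the sum of the atoms is everything
  obtain ⟨Wa, hWa, hWaF⟩ := exists_isAt_le (Fm := Fm R y ε) 1 (by rw [hF1]; exact hFbot)
  have hsup : sSup {W | IsAt (Fm R y ε) W} = ⊤ := by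
    rcases hirr (sSup {W | IsAt (Fm R y ε) W}) (fun g => by
      rw [Submodule.map_le_iff_le_comap]
      apply sSup_le
      intro W hW
      rw [← Submodule.map_le_iff_le_comap]
      exact le_sSup (hW.map R (map_Fm R y ε) g)) with h | h
    · exfalso
      apply hWa.ne_bot
      rw [eq_bot_iff, ← h]
      exact le_sSup hWa
    · exact h
  refine ⟨hfin.toFinset, ?_, ?_, ?_, ?_, ?_⟩
  · by_contra hcard
    rw [not_le] at hcard
    have hle1 : hfin.toFinset.card ≤ 1 := by omega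
    have hall : ∀ W, IsAt (Fm R y ε) W → W = Wa := fun W hW =>
      Finset.card_le_one.mp hle1 W (hfin.mem_toFinset.mpr hW) Wa (hfin.mem_toFinset.mpr hWa)
    have htop : Wa = ⊤ := by
      rw [eq_top_iff, ← hsup]
      apply sSup_le
      intro W hW
      rw [hall W hW]
    rcases hWa.dich 1 with h | h
    · apply hFtop
      rw [← hF1, eq_top_iff, ← htop]; exact h
    · apply hFbot
      rw [← hF1, ← h, htop, top_inf_eq]
  · intro W hW
    exact (hfin.mem_toFinset.mp hW).ne_bot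
  · intro W hW W' hW' hne
    exact horth W W' (hfin.mem_toFinset.mp hW) (hfin.mem_toFinset.mp hW') hne
  · rw [Set.Finite.coe_toFinset]; exact hsup
  · intro g W hW
    exact hfin.mem_toFinset.mpr ((hfin.mem_toFinset.mp hW).map R (map_Fm R y ε) g)

end Main

end Cfsg.Agent.Lib.H16.B60
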