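import Cfsg.Agent.Lib.H16.GlaubTQ

/-!
# S4385 on top of the S4359 chain calculus: kill of the case `(q, t) = (4, 6)`, `p = 2`

If `Q = I[s+1,s+5]` is normalised by `I[s,s+6]`, then so is `N = I[s+2,s+5]`.
(helper16; board note "(T6) KILL".)
-/

set_option autoImplicit false
open scoped Pointwise
open Cfsg.Agent.Lib.H5.Glaub Cfsg.Agent.Lib.H5.Glaub.Setup
namespace Cfsg.Agent.Lib.H16.Glaub

variable {G : Type*} [Group G] [Finite G]

omit [Finite G] in
theorem le_normalizer_of_conj {B N : Subgroup G} (h : ∀ g ∈ B, ∀ a ∈ N, g * a * g⁻¹ ∈ N) :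
    B ≤ Subgroup.normalizer (N : Set G) :=
  Subgroup.le_normalizer_iff.2 h

omit [Finite G] in
theorem X_card (S : Setup G) {t : ℕ} (hI : S.Ivl t) (ht : 1 ≤ t) (k : ℤ) :
    Nat.card (S.X t k) = S.p := by
  have := hI.card k k le_rfl (by omega)
  rw [S.Iv_self] at this
  simpa using this

theorem X_sq (S : Setup G) {t : ℕ} (hI : S.Ivl t) (ht : 1 ≤ t) (hp2 : S.p = 2) {k : ℤ} {x : G}
    (hx : x ∈ S.X t k) : x * x = 1 := by
  have h := X_card S hI ht k
  rw [hp2] at h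
  have h1 := pow_card_eq_one' (G := S.X t k) (x := ⟨x, hx⟩)
  rw [h] at h1
  have h2 := congrArg Subtype.val h1
  simpa [pow_two] using h2

theorem X_eq_one_or (S : Setup G) {t : ℕ} (hI : S.Ivl t) (ht : 1 ≤ t) (hp2 : S.p = 2) {k : ℤ}
    {a b : G} (ha : a ∈ S.X t k) (ha1 : a ≠ 1) (hb : b ∈ S.X t k) : b = 1 ∨ b = a := by
  have h := X_card S hI ht k
  rw [hp2] at h
  obtain ⟨y, -, hy⟩ := (Nat.card_eq_two_iff' (1 : S.X t k)).1 h
  by_cases hb1 : b = 1
  · exact Or.inl hb1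
  · right
    have e1 : (⟨a, ha⟩ : S.X t k) = y := hy _ (fun h => ha1 (congrArg Subtype.val h))
    have e2 : (⟨b, hb⟩ : S.X t k) = y := hy _ (fun h => hb1 (congrArg Subtype.val h))
    exact congrArg Subtype.val (e2.trans e1.symm)

/-- the main computation: `x_s x_(s+5) x_s⁻¹ ∈ I[s+2,s+5]` -/
theorem t6_conj_X5 (S : Setup G) (hp2 : S.p = 2) (hI : S.Ivl 6) (hC : S.Cen 6 4) (s : ℤ)
    {g a : G} (hg : g ∈ S.X 6 s) (ha : a ∈ S.X 6 (s + 5)) :
    g * a * g⁻¹ ∈ S.Iv 6 (s + 2) (s + 5) := by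
  by_cases ha1 : a = 1
  · subst ha1; simp
  have ht : 1 ≤ 6 := by norm_num
  obtain ⟨hZQ, -⟩ := hC (s + 1) (s + 5) (by omega) (by omega)
  obtain ⟨hZA, -⟩ := hC (s + 1) (s + 4) (by omega) (by omega)
  -- `A = I[s+1,s+4]` is commutative of exponent 2
  have hAcomm : ∀ x ∈ S.Iv 6 (s + 1) (s + 4), ∀ y ∈ S.Iv 6 (s + 1) (s + 4), x * y = y * x := by
    intro x hx y hy
    have : y ∈ zc (S.Iv 6 (s + 1) (s + 4)) := by
      rw [hZA]; exact S.Iv_mono 6 (by omega) (by omega) hy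
    exact (mem_zc.1 this).2 x hx
  have hAsq : ∀ x ∈ S.Iv 6 (s + 1) (s + 4), x * x = 1 := by
    let E : Subgroup G :=
      { carrier := {x | x ∈ S.Iv 6 (s + 1) (s + 4) ∧ x * x = 1}
        mul_mem' := by
          rintro x y ⟨hx, hx2⟩ ⟨hy, hy2⟩
          refine ⟨Subgroup.mul_mem _ hx hy, ?_⟩
          calc x * y * (x * y) = x * (y * x) * y := by group
            _ = x * (x * y) * y := by rw [hAcomm y hy x hx]
            _ = (x * x) * (y * y) := by group
            _ = 1 := by rw [hx2, hy2, one_mul]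
        one_mem' := ⟨Subgroup.one_mem _, by simp⟩
        inv_mem' := by
          rintro x ⟨hx, hx2⟩
          refine ⟨Subgroup.inv_mem _ hx, ?_⟩
          rw [← mul_inv_rev, hx2, inv_one] }
    have hle : S.Iv 6 (s + 1) (s + 4) ≤ E := (S.Iv_le_iff 6).2 fun k h1 h2 x hx =>
      ⟨S.X_le_Iv 6 h1 h2 hx, X_sq S hI ht hp2 hx⟩
    exact fun x hx => (hle hx).2
  have hg2 := X_sq S hI ht hp2 hg
  have ha2 := X_sq S hI ht hp2 ha
  have hginv : g⁻¹ = g := inv_eq_of_mul_eq_one_left hg2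
  have hainv : a⁻¹ = a := inv_eq_of_mul_eq_one_left ha2
  -- `d = [g, a] ∈ A`
  have hgB : g ∈ S.Iv 6 s (s + 5) := S.X_le_Iv 6 (by omega) (by omega) hg
  have haB : a ∈ S.Iv 6 s (s + 5) := S.X_le_Iv 6 (by omega) (by omega) ha
  have hdA : g * a * g⁻¹ * a⁻¹ ∈ S.Iv 6 (s + 1) (s + 4) := by
    have h1 : g * a * g⁻¹ * a⁻¹ ∈ S.Iv 6 (s + 1) (s + 5) := by
      have ha' : a ∈ S.Iv 6 (s + 1) (s + 5) := S.X_le_Iv 6 (by omega) (by omega) ha
      exact Subgroup.mul_mem _ (Iv_conj_right S hI (a := s) (a' := s + 1) (b := s + 5) rfl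
        (by omega) (by omega) hgB ha') (Subgroup.inv_mem _ ha')
    have h2 : g * a * g⁻¹ * a⁻¹ ∈ S.Iv 6 s (s + 4) := by
      have hg' : g ∈ S.Iv 6 s (s + 4) := S.X_le_Iv 6 (by omega) (by omega) hg
      have e : g * a * g⁻¹ * a⁻¹ = g * (a * g⁻¹ * a⁻¹) := by group
      rw [e]
      exact Subgroup.mul_mem _ hg'
        (Iv_conj_left S hI (a := s) (b := s + 5) (b' := s + 4) (by ring) (by omega) (by omega)
          haB (Subgroup.inv_mem _ hg'))
    have h := Subgroup.mem_inf.2 ⟨h1, h2⟩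
    rw [hI.inf s (s + 5) _ _ _ _ (by omega) (by omega) (by omega) (by omega) (by omega)] at h
    exact S.Iv_mono 6 (by omega) (by omega) h
  have hd2 := hAsq _ hdA
  -- `a` commutes with `d`
  have hcomm : a * (g * a * g⁻¹ * a⁻¹) = (g * a * g⁻¹ * a⁻¹) * a := by
    rw [hginv, hainv] at hd2 ⊢
    have hdinv : (g * a * g * a)⁻¹ = g * a * g * a := inv_eq_of_mul_eq_one_left hd2
    have e1 : a * g * a * g = g * a * g * a := by
      rw [← hdinv]
      simp only [mul_inv_rev, hginv, hainv, mul_assoc]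
    calc a * (g * a * g * a) = (a * g * a * g) * a := by group
      _ = (g * a * g * a) * a := by rw [e1]
  -- `d ∈ Z(Q)`
  have hdZ : g * a * g⁻¹ * a⁻¹ ∈ zc (S.Iv 6 (s + 1) (s + 5)) := by
    rw [mem_zc]
    refine ⟨S.Iv_mono 6 le_rfl (by omega) hdA, ?_⟩
    have hle : S.Iv 6 (s + 1) (s + 5) ≤ Subgroup.centralizer {g * a * g⁻¹ * a⁻¹} := by
      rw [Iv_le_iff]
      intro k h1 h2 x hx
      rw [Subgroup.mem_centralizer_iff]
      intro d hd
      rw [Set.mem_singleton_iff] at hd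
      subst hd
      by_cases hk : k ≤ s + 4
      · exact hAcomm _ hdA _ (S.X_le_Iv 6 h1 hk hx)
      · have hk5 : k = s + 5 := by omega
        subst hk5
        rcases X_eq_one_or S hI ht hp2 ha ha1 hx with rfl | rfl
        · simp
        · exact hcomm.symm
    intro y hy
    exact (Subgroup.mem_centralizer_iff.1 (hle hy)) _ rfl |>.symm
  rw [hZQ] at hdZ
  have e : g * a * g⁻¹ = (g * a * g⁻¹ * a⁻¹) * a := by group
  rw [e]
  exact Subgroup.mul_mem _ (S.Iv_mono 6 (by omega) (by omega) hdZ)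
    (S.X_le_Iv 6 (by omega) (by omega) ha)

/-- (T6): if `Q = I[s+1,s+5]` is normalised by `I[s,s+6]` then so is `N = I[s+2,s+5]`. -/
theorem t6_normal (S : Setup G) (hp2 : S.p = 2) (hI : S.Ivl 6) (hD : S.Dist 6 4) (hC : S.Cen 6 4)
    (s : ℤ)
    (hQ : ∀ g ∈ S.Iv 6 s (s + 6), ∀ a ∈ S.Iv 6 (s + 1) (s + 5),
      g * a * g⁻¹ ∈ S.Iv 6 (s + 1) (s + 5)) :
    ∀ g ∈ S.Iv 6 s (s + 6), ∀ a ∈ S.Iv 6 (s + 2) (s + 5),
      g * a * g⁻¹ ∈ S.Iv 6 (s + 2) (s + 5) := by
  obtain ⟨hZQ, -⟩ := hC (s + 1) (s + 5) (by omega) (by omega)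
  have hle : S.Iv 6 s (s + 6) ≤ Subgroup.normalizer (S.Iv 6 (s + 2) (s + 5) : Set G) := by
    rw [Iv_le_iff]
    intro k h1 h2
    by_cases hk0 : k = s
    · -- the main case
      subst hk0
      apply le_normalizer_of_conj
      intro g hg a ha
      have hsub : S.Iv 6 (k + 2) (k + 5) ≤
          (S.Iv 6 (k + 2) (k + 5)).comap (MulAut.conj g).toMonoidHom := by
        rw [Iv_le_iff]
        intro j hj1 hj2 x hx
        rw [Subgroup.mem_comap]
        show g * x * g⁻¹ ∈ _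
        by_cases hj : j ≤ k + 4
        · have hxZ : x ∈ zc (S.Iv 6 (k + 1) (k + 5)) := by
            rw [hZQ]; exact S.X_le_Iv 6 (by omega) (by omega) hx
          have := conj_mem_zc (B := S.Iv 6 k (k + 6)) hQ
            (S.X_le_Iv 6 (by omega) (by omega) hg) hxZ
          rw [hZQ] at this
          exact S.Iv_mono 6 (by omega) (by omega) this
        · have hj5 : j = k + 5 := by omega
          subst hj5
          exact t6_conj_X5 S hp2 hI hC k hg hx
      exact hsub ha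
    by_cases hk1 : k = s + 1
    · subst hk1
      apply le_normalizer_of_conj (B := S.X 6 (s + 1))
      intro g hg a ha
      exact Iv_conj_right S hI (a := s + 1) (a' := s + 2) (b := s + 5) (by ring) (by omega)
        (by omega) (S.X_le_Iv 6 (by omega) (by omega) hg) ha
    by_cases hk6 : k = s + 6
    · subst hk6
      apply le_normalizer_of_conj (B := S.X 6 (s + 6))
      intro g hg a ha
      exact Iv_conj_left S hI (a := s + 2) (b := s + 6) (b' := s + 5) (by ring) (by omega)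
        (by omega) (S.X_le_Iv 6 (by omega) (by omega) hg) ha
    · exact (S.X_le_Iv 6 (by omega) (by omega)).trans Subgroup.le_normalizer
  intro g hg a ha
  exact (Subgroup.mem_normalizer_iff.1 (hle hg) a).1 ha

end Cfsg.Agent.Lib.H16.Glaub
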