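import Cfsg.Agent.Lib.H13.MinusFix
import Cfsg.Agent.Lib.H2.GOMinus2

/-!
# S3589 farm-out T1 (helper16): a Singer-type element of order `q ^ c + 1` in the standard
minus-type orthogonal group of dimension `2 c`, `q` even.
Adapted from helper13's `Lib/H13/MinusFix.exists_fpf_minus`.
-/

set_option autoImplicit false

namespace Cfsg.Agent.Lib.H16.S8O

open Module Matrix QuadraticMap
open scoped MatrixGroups
open Cfsg.Agent.Lib.H13 Cfsg.Agent.Lib.H13.OInvol Cfsg.Agent.Lib.H13.MinusClass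
  Cfsg.Agent.Lib.H13.TraceForm Cfsg.Agent.Lib.H13.MinusFix

variable {F : Type*} [Field F] [Fintype F]

/-- **T1** Singer-type element of order `q^c+1` in the standard minus-type orthogonal group of
dimension `2c`. -/
theorem exists_minus_singer [CharP F 2] (c : ℕ) (hc : 1 ≤ c) (a b : F)
    (hab : ∀ z₁ z₂ : F, z₁ ^ 2 + a * z₁ * z₂ + b * z₂ ^ 2 = 0 → z₁ = 0 ∧ z₂ = 0) :
    ∃ h ∈ Cfsg.isometryGroup F (Cfsg.quadFormMinus (c - 1) F a b),
      orderOf h = Fintype.card F ^ c + 1 := by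
  classical
  obtain ⟨k, rfl⟩ : ∃ k, c = k + 1 := ⟨c - 1, by omega⟩
  show ∃ h ∈ Cfsg.isometryGroup F (Cfsg.quadFormMinus k F a b),
      orderOf h = Fintype.card F ^ (k + 1) + 1
  -- an odd prime `r` dividing `q ^ (k + 1) + 1`
  obtain ⟨n, -, hn⟩ := FiniteField.card F 2
  have hq2 : 2 ∣ Fintype.card F := by
    rw [hn]
    exact dvd_pow_self 2 n.pos.ne'
  have hNodd : ¬ 2 ∣ Fintype.card F ^ (k + 1) + 1 := by
    intro h
    have h1 : 2 ∣ Fintype.card F ^ (k + 1) := dvd_pow hq2 (by omega)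
    have h2 : 2 ∣ 1 := (Nat.dvd_add_right h1).1 h
    omega
  have hN1 : Fintype.card F ^ (k + 1) + 1 ≠ 1 := by
    have : 0 < Fintype.card F ^ (k + 1) := pow_pos Fintype.card_pos _
    omega
  obtain ⟨r, hrdef⟩ : ∃ r, r = Nat.minFac (Fintype.card F ^ (k + 1) + 1) := ⟨_, rfl⟩
  haveI : Fact r.Prime := ⟨by rw [hrdef]; exact Nat.minFac_prime hN1⟩
  have hr : r ∣ Fintype.card F ^ (k + 1) + 1 := by rw [hrdef]; exact Nat.minFac_dvd _
  have hr2 : r ≠ 2 := fun h => hNodd (h ▸ hr)
  -- the extension field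
  obtain ⟨K, _, _, _, hK⟩ := Singer.exists_ext F 2 (k + 1) (by omega)
  haveI : Fintype K := Fintype.ofFinite K
  haveI : CharP K 2 := charP_of_injective_algebraMap (algebraMap F K).injective 2
  haveI : Module.Finite F K := Module.Finite.of_finite
  have hcardK : Fintype.card K = Fintype.card F ^ (k + 1) := by
    rw [← Nat.card_eq_fintype_card, Module.natCard_eq_pow_finrank (K := F) (V := K), hK,
      Nat.card_eq_fintype_card]
  obtain ⟨ζ, hζ⟩ := exists_irred K
  have hab' := aniso_of_irred ζ hζ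
  -- the element of order `|K| + 1` in the dihedral group `O₂⁻(K)`
  obtain ⟨y₀, hy₀⟩ : ∃ y₀ : ↥(Cfsg.isometryGroup K ⇑(minusQF K 0 1 ζ)),
      orderOf y₀ = Fintype.card K + 1 := by
    rw [Cfsg.Agent.S0288.coe_minusQF]
    obtain ⟨e⟩ := Cfsg.Agent.Lib.H2.GOMinus2.main (F := K) (q := Fintype.card K) 1 ζ rfl hab'
    refine ⟨e.symm (DihedralGroup.r 1), ?_⟩
    rw [MulEquiv.orderOf_eq, DihedralGroup.orderOf_r_one]
  have hord := Cfsg.Agent.S0288.main_k (F := K) 1 ζ hab' 0
  rw [← Cfsg.Agent.S0288.coe_minusQF] at hord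
  simp only [zero_add, mul_zero, pow_zero, mul_one, pow_one, Finset.range_zero,
    Finset.prod_empty] at hord
  have hdvd : r ∣ Nat.card ↥(Cfsg.isometryGroup K ⇑(minusQF K 0 1 ζ)) := by
    rw [hord, hcardK]
    exact Dvd.dvd.mul_left hr 2
  obtain ⟨y, hy⟩ := exists_prime_orderOf_dvd_card' r hdvd
  have hyr : y ^ r = 1 := by rw [← hy]; exact pow_orderOf_eq_one y
  have hy1 : y ≠ 1 := by
    rintro rfl
    rw [orderOf_one] at hy
    exact (Fact.out : r.Prime).one_lt.ne hy
  have hnd := Cfsg.Agent.S0288.nondeg (F := K) 1 ζ hab' 0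
  obtain ⟨j, hj⟩ : ∃ j, r = 2 * j + 1 := by
    rcases (Fact.out : r.Prime).eq_two_or_odd' with h | h
    · exact absurd h hr2
    · obtain ⟨j, hj⟩ := h
      exact ⟨j, hj⟩
  have hcardI : Fintype.card (IM 0) = 2 := by
    simp [Fintype.card_sum]
  have hnofix : ∀ v : IM 0 → K,
      ((y : GL (IM 0) K) : Matrix (IM 0) (IM 0) K) *ᵥ v = v → v = 0 := by
    have h1 := no_fixed_of_odd (minusQF K 0 1 ζ) hnd
      (by rw [Module.finrank_fintype_fun_eq_card, hcardI])
      (Matrix.toLin' ((y : GL (IM 0) K) : Matrix (IM 0) (IM 0) K))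
      (fun x => by rw [Matrix.toLin'_apply]; exact iso_apply (minusQF K 0 1 ζ) y x) j
      (by
        intro v
        have h2 := Singer.pow_mulVec (y : GL (IM 0) K) r v
        rw [← SubmonoidClass.coe_pow, hyr] at h2
        rw [← hj]
        have h3 : (⇑(Matrix.toLin' ((y : GL (IM 0) K) : Matrix (IM 0) (IM 0) K))) =
            fun u => ((y : GL (IM 0) K) : Matrix (IM 0) (IM 0) K) *ᵥ u := by
          funext u
          rw [Matrix.toLin'_apply]
        rw [h3, ← h2]
        simp)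
      (by
        by_contra hall
        push Not at hall
        apply hy1
        apply Subtype.ext
        apply Singer.gl_ext
        intro v
        have := hall v
        rw [Matrix.toLin'_apply] at this
        rw [this]
        simp)
    intro v hv
    exact h1 v (by rw [Matrix.toLin'_apply]; exact hv)
  let ρ : ↥(Cfsg.isometryGroup K ⇑(minusQF K 0 1 ζ)) →* Module.End F (IM 0 → K) :=
    { toFun := fun g =>
        (Matrix.toLin' ((g : GL (IM 0) K) : Matrix (IM 0) (IM 0) K)).restrictScalars F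
      map_one' := by
        apply LinearMap.ext
        intro v
        simp
      map_mul' := fun g h => by
        apply LinearMap.ext
        intro v
        simp [Matrix.toLin'_mul] }
  have hρ : ∀ g v, ρ g v = ((g : GL (IM 0) K) : Matrix (IM 0) (IM 0) K) *ᵥ v := fun g v => by
    show Matrix.toLin' ((g : GL (IM 0) K) : Matrix (IM 0) (IM 0) K) v = _
    rw [Matrix.toLin'_apply]
  obtain ⟨Q', hQ'def⟩ : ∃ Q' : QuadraticForm F (IM 0 → K),
    Q' = trQF (F := F) (minusQF K 0 1 ζ) := ⟨_, rfl⟩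
  have hQ'nd : (polarBilin Q').Nondegenerate := by
    rw [hQ'def]; exact nondeg_trQF _ hnd
  have hpres : ∀ g v, Q' (ρ g v) = Q' v := by
    intro g v
    rw [hQ'def, trQF_apply, trQF_apply, hρ, iso_apply (minusQF K 0 1 ζ) g v]
  have hdim : finrank F (IM 0 → K) = 2 * (k + 1) := by
    rw [← Module.finrank_mul_finrank F K (IM 0 → K), hK, Module.finrank_fintype_fun_eq_card,
      hcardI, mul_comm]
  have hfix : ∀ v, ρ y v = v → v = 0 := by
    intro v hv
    rw [hρ] at hv
    exact hnofix v hv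
  rcases classify Q' hQ'nd (d := k + 1) (by omega) hdim with ⟨Φ, hΦ⟩ | ⟨ζ₂, hζ₂, Φ, hΦ⟩
  · exfalso
    have h1 := dvd_card_singular ρ Q' hpres y r hyr hfix
    have e : {v : IM 0 → K // v ≠ 0 ∧ Q' v = 0} ≃
        {w : Fin (k + 1) ⊕ Fin (k + 1) → F // w ≠ 0 ∧ Cfsg.quadFormPlus (k + 1) F w = 0} :=
      Φ.toEquiv.subtypeEquiv (fun v => by
        rw [hΦ v]
        simp)
    rw [Nat.card_congr e, card_singular_plus (k + 1) (by omega)] at h1
    exact arith_plus (Fintype.card F) k r Fintype.card_pos Fact.out hr2 hr h1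
  · obtain ⟨φ, hφ⟩ := minus_equiv k a b ζ₂ hab hζ₂
    have hb : ∀ v, Q' v = Cfsg.quadFormMinus k F a b ((Φ.trans φ.symm) v) := by
      intro v
      rw [← hφ, LinearEquiv.trans_apply, LinearEquiv.apply_symm_apply]
      exact hΦ v
    obtain ⟨ψ, hψ⟩ := exists_hom_isometryGroup (Φ.trans φ.symm) (Cfsg.quadFormMinus k F a b)
      (⇑Q') hb ρ hpres
    have hinj : Function.Injective ψ := by
      rw [injective_iff_map_eq_one]
      intro g hg
      apply Subtype.ext
      apply Singer.gl_ext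
      intro v
      have h1 := hψ g v
      rw [hg] at h1
      simp only [OneMemClass.coe_one, Units.val_one, Matrix.one_mulVec] at h1
      have h2 := (Φ.trans φ.symm).injective h1
      rw [← hρ, ← h2]
      simp
    refine ⟨((ψ y₀ : ↥(Cfsg.isometryGroup F (Cfsg.quadFormMinus k F a b))) : GL (IM k) F),
      (ψ y₀).2, ?_⟩
    rw [Subgroup.orderOf_coe, orderOf_injective ψ hinj y₀, hy₀, hcardK]

end Cfsg.Agent.Lib.H16.S8O
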