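import Mathlib
import Cfsg.Prelude.Def_Characters
import Cfsg.Agent.Lib.L0.FiniteOrderEnd
import Cfsg.Agent.Lib.H17.SHINV2

/-!
# Lemma Q3 (S3016, CASE B with `|H| = 3`; piece Q3-REP, helper16)

`χ` a character of a finite group, `L` a subgroup normalised by `a`, `χ` constant on the coset `a L`.
Then for every `y ∈ L`: `2 Re χ a - χ 1 ≤ Re χ y`.

Proof: `e := |L|⁻¹ ∑_{l ∈ L} ρ l` is an idempotent commuting with `ρ a`, `tr (ρ a * e) = χ a`,
`F := ρ a * e + (1 - e)` has finite order and trace `χ a + χ 1 - tr e`, so `Re χ a ≤ tr e = dim range e`;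
`y ∈ L` fixes `range e` pointwise, so `Re χ y ≥ 2 dim range e - χ 1`.
-/

set_option autoImplicit false

open Module

namespace Cfsg.Agent.Lib.H16.SHQ3

open Cfsg.Agent.Lib.L0 Cfsg.Agent.Lib.H17.SH

section Ring

variable {R : Type*} [Ring R]

/-- `(x e + (1 - e)) ^ k = x ^ k e + (1 - e)` for an idempotent `e` commuting with `x` -/
theorem pow_mul_idem_add (x e : R) (hee : e * e = e) (hxe : e * x = x * e) (k : ℕ) :
    (x * e + (1 - e)) ^ k = x ^ k * e + (1 - e) := by
  induction k with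
  | zero => simp
  | succ k ih =>
    rw [pow_succ, ih]
    have h1 : x ^ k * e * (x * e) = x ^ (k + 1) * e := by
      rw [mul_assoc, ← mul_assoc e x e, hxe, mul_assoc x e e, hee, ← mul_assoc, ← pow_succ]
    have h2 : x ^ k * e * (1 - e) = 0 := by
      rw [mul_assoc, mul_sub, mul_one, hee, sub_self, mul_zero]
    have h3 : (1 - e) * (x * e) = 0 := by
      rw [sub_mul, one_mul, ← mul_assoc, hxe, mul_assoc, hee, sub_self]
    have h4 : (1 - e) * (1 - e) = 1 - e := by
      rw [sub_mul, one_mul, mul_sub, mul_one, hee, sub_self, sub_zero]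
    rw [add_mul, mul_add, mul_add, h1, h2, h3, h4, add_zero, zero_add]

end Ring

section LinAlg

variable {G : Type*} [Group G] [Finite G]
variable {V : Type*} [AddCommGroup V] [Module ℂ V] [FiniteDimensional ℂ V]

/-- Lemma Q3, for a representation -/
theorem re_trace_ge_of_const_coset (ρ : G →* End ℂ V) (L : Subgroup G) (a : G)
    (hnorm : ∀ l ∈ L, a * l * a⁻¹ ∈ L)
    (hconst : ∀ l ∈ L, LinearMap.trace ℂ V (ρ (a * l)) = LinearMap.trace ℂ V (ρ a))
    (y : G) (hy : y ∈ L) :
    2 * (LinearMap.trace ℂ V (ρ a)).re - finrank ℂ V ≤ (LinearMap.trace ℂ V (ρ y)).re := by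
  classical
  have : Fintype L := Fintype.ofFinite L
  obtain ⟨S, hS⟩ : ∃ S : End ℂ V, S = ∑ l : L, ρ (l : G) := ⟨_, rfl⟩
  obtain ⟨c, hc⟩ : ∃ c : ℂ, c = (Fintype.card L : ℂ) := ⟨_, rfl⟩
  have hc0 : c ≠ 0 := by
    rw [hc]
    exact Nat.cast_ne_zero.2 Fintype.card_ne_zero
  -- `ρ z * S = S` for `z ∈ L`
  have hzS : ∀ z ∈ L, ρ z * S = S := by
    intro z hz
    rw [hS, Finset.mul_sum]
    refine Fintype.sum_equiv (Equiv.mulLeft (⟨z, hz⟩ : L)) _ _ (fun l => ?_)
    rw [← map_mul]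
    rfl
  -- `S * S = c • S`
  have hSS : S * S = c • S := by
    have h1 : S * S = ∑ l : L, ρ (l : G) * S := by
      conv_lhs => rw [hS, Finset.sum_mul, ← hS]
    have h2 : ∀ l ∈ (Finset.univ : Finset L), ρ (l : G) * S = S := fun l _ => hzS (l : G) l.property
    rw [h1, Finset.sum_congr rfl h2, Finset.sum_const, Finset.card_univ, hc,
      Nat.cast_smul_eq_nsmul]
  -- conjugation by `a` permutes `L`
  have hinj : Function.Injective (fun l : L => (⟨a * l * a⁻¹, hnorm l l.2⟩ : L)) := by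
    intro l l' h
    have h' : a * (l : G) * a⁻¹ = a * (l' : G) * a⁻¹ := congrArg Subtype.val h
    exact Subtype.ext (mul_left_cancel (mul_right_cancel h'))
  have hbij := Finite.injective_iff_bijective.1 hinj
  -- `ρ a` commutes with `S`
  have haS : S * ρ a = ρ a * S := by
    rw [hS, Finset.mul_sum, Finset.sum_mul]
    symm
    refine Fintype.sum_equiv (Equiv.ofBijective _ hbij) _ _ (fun l => ?_)
    rw [← map_mul, ← map_mul]
    congr 1
    simp [mul_assoc]
  -- the idempotent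
  obtain ⟨e, he⟩ : ∃ e : End ℂ V, e = c⁻¹ • S := ⟨_, rfl⟩
  have hee : e * e = e := by
    rw [he, smul_mul_smul_comm, hSS, smul_smul, mul_assoc, inv_mul_cancel₀ hc0, mul_one]
  have hae : e * ρ a = ρ a * e := by
    rw [he, smul_mul_assoc, haS, mul_smul_comm]
  have hye : ρ y * e = e := by
    rw [he, mul_smul_comm, hzS y hy]
  -- the trace of `ρ a * e`
  have htr_ae : LinearMap.trace ℂ V (ρ a * e) = LinearMap.trace ℂ V (ρ a) := by
    rw [he, mul_smul_comm, map_smul, hS, Finset.mul_sum, map_sum]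
    have h1 : ∀ l ∈ (Finset.univ : Finset L),
        LinearMap.trace ℂ V (ρ a * ρ (l : G)) = LinearMap.trace ℂ V (ρ a) := by
      intro l _
      rw [← map_mul]
      exact hconst l l.2
    rw [Finset.sum_congr rfl h1, Finset.sum_const, Finset.card_univ, ← Nat.cast_smul_eq_nsmul ℂ, ← hc,
      smul_smul, inv_mul_cancel₀ hc0, one_smul]
  -- the trace of `e`
  have hidem : IsIdempotentElem e := hee
  have htr_e : LinearMap.trace ℂ V e = (finrank ℂ (LinearMap.range e) : ℂ) :=
    ((LinearMap.isProj_range_iff_isIdempotentElem e).2 hidem).trace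
  -- `F := ρ a * e + (1 - e)` has finite order
  have hm : 0 < orderOf a := orderOf_pos a
  have hF : (ρ a * e + (1 - e)) ^ orderOf a = 1 := by
    rw [pow_mul_idem_add (ρ a) e hee hae, ← map_pow, pow_orderOf_eq_one, map_one, one_mul,
      add_sub_cancel]
  have hnF := norm_trace_le hm hF
  have htrF : LinearMap.trace ℂ V (ρ a * e + (1 - e)) =
      LinearMap.trace ℂ V (ρ a) + ((finrank ℂ V : ℂ) - (finrank ℂ (LinearMap.range e) : ℂ)) := by
    rw [map_add, map_sub, htr_ae, htr_e, LinearMap.trace_one]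
  have hreF : (LinearMap.trace ℂ V (ρ a * e + (1 - e))).re ≤ finrank ℂ V :=
    (Complex.re_le_norm _).trans hnF
  rw [htrF] at hreF
  simp only [Complex.add_re, Complex.sub_re, Complex.natCast_re] at hreF
  -- `y` fixes the range of `e`
  have hle : LinearMap.range e ≤ (ρ y).eigenspace 1 := by
    rintro v ⟨w, rfl⟩
    rw [Module.End.mem_eigenspace_iff, one_smul, ← Module.End.mul_apply, hye]
  have hfin : finrank ℂ (LinearMap.range e) ≤ finrank ℂ ((ρ y).eigenspace 1) :=
    Submodule.finrank_mono hle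
  have hmy : 0 < orderOf y := orderOf_pos y
  have hYpow : (ρ y) ^ orderOf y = 1 := by
    rw [← map_pow, pow_orderOf_eq_one, map_one]
  have h1 := re_trace_ge_of_pow_eq_one (ρ y) (orderOf y) hmy hYpow
  have h2 : (finrank ℂ (LinearMap.range e) : ℝ) ≤ finrank ℂ ((ρ y).eigenspace 1) := by
    exact_mod_cast hfin
  linarith

end LinAlg

section Character

variable {G : Type*} [Group G] [Finite G]

/-- **Lemma Q3**: `χ` a character, `a` normalises `L`, `χ (a l) = χ a` for all `l ∈ L`; then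
`2 Re χ a - χ 1 ≤ Re χ y` for all `y ∈ L`. -/
theorem q3_rep (χ : G → ℂ) (hχ : Cfsg.IsCharacter G χ) (L : Subgroup G) (a : G)
    (hnorm : ∀ l ∈ L, a * l * a⁻¹ ∈ L) (hconst : ∀ l ∈ L, χ (a * l) = χ a) (y : G) (hy : y ∈ L) :
    2 * (χ a).re - (χ 1).re ≤ (χ y).re := by
  obtain ⟨n, ρ, rfl⟩ := hχ
  have h := re_trace_ge_of_const_coset (V := Fin n → ℂ) ρ L a hnorm hconst y hy
  have h1 : (ρ.character 1).re = (finrank ℂ (Fin n → ℂ) : ℝ) := by
    rw [Representation.char_one]
    simp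
  rw [h1]
  exact h

/-- Lemma Q3 with the hypothesis in conjugacy form: every element of `a L` is conjugate to `a`. -/
theorem q3_rep_of_isConj (χ : G → ℂ) (hχ : Cfsg.IsCharacter G χ) (L : Subgroup G) (a : G)
    (hnorm : ∀ l ∈ L, a * l * a⁻¹ ∈ L) (hconj : ∀ l ∈ L, IsConj (a * l) a) (y : G) (hy : y ∈ L) :
    2 * (χ a).re - (χ 1).re ≤ (χ y).re := by
  refine q3_rep χ hχ L a hnorm (fun l hl => ?_) y hy
  obtain ⟨n, ρ, rfl⟩ := hχ
  obtain ⟨g, hg⟩ := isConj_iff.1 (hconj l hl)
  have h := Representation.char_conj ρ (a * l) g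
  rw [hg] at h
  exact h.symm

end Character

end Cfsg.Agent.Lib.H16.SHQ3
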