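import Mathlib
import Cfsg.Agent.Lib.H16.PGroupCenter
import Cfsg.Agent.Lib.H8.PGroup
import Cfsg.Agent.Lib.H22.UniqueOrderP

/-!
# Normal four-subgroups of 2-groups of rank at least 3   (helper16)

`exists_normal_four_data`: a finite 2-group `S` containing an elementary abelian subgroup of order 8
contains a central involution `z` and an involution `u ∉ {1, z}` all of whose conjugates are `u` or
`u * z`; so `{1, z, u, u * z}` is a normal four-subgroup.
-/

set_option autoImplicit false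

namespace Cfsg.Agent.Lib.H16

section Cyclic

variable {S : Type*} [Group S]

/-- In a cyclic group `⟨a⟩` of order `2 ^ m`, an element killed by `2 * odd` is `1` or the
involution. -/
theorem eq_one_or_eq_involution_of_pow {a : S} {m : ℕ} (hm : 1 ≤ m) (ha : orderOf a = 2 ^ m)
    {c : S} (hc : c ∈ Subgroup.zpowers a) {q : ℕ} (hq : Odd q) (h : c ^ (2 * q) = 1) :
    c = 1 ∨ c = a ^ (2 ^ (m - 1)) := by
  have hfin : IsOfFinOrder a := by
    rw [← orderOf_pos_iff, ha]; positivity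
  have hc2m : c ^ (2 ^ m) = 1 := by
    have hd : orderOf c ∣ orderOf a := orderOf_dvd_of_mem_zpowers hc
    rw [ha] at hd
    exact orderOf_dvd_iff_pow_eq_one.mp hd
  have hgcd : Nat.gcd (2 * q) (2 ^ m) = 2 := by
    obtain ⟨m', rfl⟩ : ∃ m', m = m' + 1 := ⟨m - 1, by omega⟩
    rw [pow_succ, mul_comm (2 ^ m') 2, Nat.gcd_mul_left]
    have : Nat.Coprime q (2 ^ m') := Nat.Coprime.pow_right _ (Nat.coprime_two_right.mpr hq)
    rw [this.gcd_eq_one]
  have hc2 : c ^ 2 = 1 := by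
    have := (pow_gcd_eq_one (a := c)).mpr ⟨h, hc2m⟩
    rwa [hgcd] at this
  obtain ⟨i, -, rfl⟩ : ∃ i, i < orderOf a ∧ a ^ i = c := by
    classical
    have := (hfin.mem_zpowers_iff_mem_range_orderOf (y := c)).mp hc
    rw [Finset.mem_image] at this
    obtain ⟨i, hi, hic⟩ := this
    exact ⟨i, Finset.mem_range.mp hi, hic⟩
  rw [← pow_mul] at hc2
  have hdvd : 2 ^ m ∣ i * 2 := by
    rw [← ha]; exact orderOf_dvd_of_pow_eq_one hc2
  obtain ⟨m', rfl⟩ : ∃ m', m = m' + 1 := ⟨m - 1, by omega⟩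
  have hdvd' : 2 ^ m' ∣ i := by
    rw [pow_succ] at hdvd
    exact Nat.dvd_of_mul_dvd_mul_right (by norm_num) hdvd
  obtain ⟨j, rfl⟩ := hdvd'
  simp only [Nat.add_sub_cancel]
  rw [pow_mul]
  have hz2 : (a ^ 2 ^ m') ^ 2 = 1 := by
    rw [← pow_mul, ← pow_succ, ← ha, pow_orderOf_eq_one]
  rcases Nat.even_or_odd' j with ⟨t, rfl | rfl⟩
  · left; rw [pow_mul, hz2, one_pow]
  · right; rw [pow_succ, pow_mul, hz2, one_pow, one_mul]

/-- conjugation acts on a normal cyclic subgroup `⟨a⟩` of order `2 ^ m` by an odd power. -/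
theorem exists_odd_pow_of_normal {a : S} {m : ℕ} (hm : 1 ≤ m) (ha : orderOf a = 2 ^ m)
    (hn : (Subgroup.zpowers a).Normal) (s : S) :
    ∃ k : ℕ, Odd k ∧ ∀ x ∈ Subgroup.zpowers a, s * x * s⁻¹ = x ^ k := by
  have hmem : s * a * s⁻¹ ∈ Subgroup.zpowers a := hn.conj_mem a (Subgroup.mem_zpowers a) s
  have hfin : IsOfFinOrder a := by
    rw [← orderOf_pos_iff, ha]; positivity
  obtain ⟨k, hk⟩ : ∃ k : ℕ, a ^ k = s * a * s⁻¹ := by
    classical
    have := (hfin.mem_zpowers_iff_mem_range_orderOf (y := s * a * s⁻¹)).mp hmem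
    rw [Finset.mem_image] at this
    obtain ⟨i, -, hic⟩ := this
    exact ⟨i, hic⟩
  refine ⟨k, ?_, ?_⟩
  · by_contra hodd
    rw [Nat.not_odd_iff_even] at hodd
    obtain ⟨t, rfl⟩ := hodd
    obtain ⟨m', rfl⟩ : ∃ m', m = m' + 1 := ⟨m - 1, by omega⟩
    have h1 : (s * a * s⁻¹) ^ (2 ^ m') = 1 := by
      rw [← hk, ← pow_mul, ← two_mul, mul_assoc, mul_comm t, ← mul_assoc, ← pow_succ', pow_mul, ← ha,
        pow_orderOf_eq_one, one_pow]
    rw [conj_pow, mul_inv_eq_iff_eq_mul, one_mul, mul_eq_left] at h1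
    have := orderOf_dvd_of_pow_eq_one h1
    rw [ha, pow_succ] at this
    have h2 : 0 < 2 ^ m' := by positivity
    have := Nat.le_of_dvd h2 this
    omega
  · intro x hx
    obtain ⟨i, rfl⟩ := Subgroup.mem_zpowers_iff.mp hx
    rw [← conj_zpow, ← hk, ← zpow_natCast, ← zpow_natCast, ← zpow_mul, ← zpow_mul, mul_comm]

end Cyclic

section Omega

variable {S : Type*} [Group S]

/-- the elements of order dividing two of an abelian subgroup. -/
def omegaTwo (A : Subgroup S) (hA : ∀ x ∈ A, ∀ y ∈ A, x * y = y * x) : Subgroup S where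
  carrier := {x | x ∈ A ∧ x ^ 2 = 1}
  one_mem' := ⟨A.one_mem, one_pow 2⟩
  mul_mem' := by
    rintro x y ⟨hx, hx2⟩ ⟨hy, hy2⟩
    refine ⟨A.mul_mem hx hy, ?_⟩
    have hc : Commute x y := hA x hx y hy
    rw [hc.mul_pow, hx2, hy2, one_mul]
  inv_mem' := by
    rintro x ⟨hx, hx2⟩
    exact ⟨A.inv_mem hx, by rw [inv_pow, hx2, inv_one]⟩

theorem mem_omegaTwo {A : Subgroup S} {hA : ∀ x ∈ A, ∀ y ∈ A, x * y = y * x} {x : S} :
    x ∈ omegaTwo A hA ↔ x ∈ A ∧ x ^ 2 = 1 := Iff.rfl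

theorem omegaTwo_normal (A : Subgroup S) (hA : ∀ x ∈ A, ∀ y ∈ A, x * y = y * x) [hn : A.Normal] :
    (omegaTwo A hA).Normal := by
  constructor
  rintro x ⟨hx, hx2⟩ g
  refine ⟨hn.conj_mem x hx g, ?_⟩
  rw [conj_pow, hx2, mul_one, mul_inv_cancel]

end Omega

/-- Noncyclic case: a noncyclic abelian normal subgroup of a 2-group yields a normal four-group. -/
theorem exists_normal_four_data_of_not_isCyclic {S : Type*} [Group S] [Finite S]
    (hS : IsPGroup 2 S) (A : Subgroup S) [hAn : A.Normal] (hA : ∀ x ∈ A, ∀ y ∈ A, x * y = y * x)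
    (hnc : ¬ IsCyclic A) :
    ∃ z u : S, z ∈ Subgroup.center S ∧ z ≠ 1 ∧ z ^ 2 = 1 ∧ u ^ 2 = 1 ∧ u ≠ 1 ∧ u ≠ z ∧
      ∀ s : S, s * u * s⁻¹ = u ∨ s * u * s⁻¹ = u * z := by
  have : Fact (Nat.Prime 2) := ⟨Nat.prime_two⟩
  -- two distinct involutions in A
  have hex : ∃ x y : S, x ∈ A ∧ y ∈ A ∧ x ^ 2 = 1 ∧ y ^ 2 = 1 ∧ x ≠ 1 ∧ y ≠ 1 ∧ x ≠ y := by
    by_contra hno
    push Not at hno
    apply hnc
    apply Cfsg.Agent.Lib.H22.isCyclic_of_comm_of_atMostOne (p := 2) (hS.to_subgroup A)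
    · intro H K hH hK
      -- generators
      have gen : ∀ L : Subgroup A, Nat.card L = 2 → ∃ x : A, x ≠ 1 ∧ x ^ 2 = 1 ∧
          L = Subgroup.zpowers x := by
        intro L hL
        have hnt : Nontrivial L := by
          rw [← Finite.one_lt_card_iff_nontrivial, hL]; norm_num
        obtain ⟨x, hx⟩ := exists_ne (1 : L)
        have hx2 : x ^ 2 = 1 := by
          rw [← hL]; exact pow_card_eq_one'
        refine ⟨(x : A), fun h => hx (Subtype.ext h), by
          have := congrArg Subtype.val hx2; simpa using this, ?_⟩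
        have hord : orderOf (x : A) = 2 := by
          have hd : orderOf (x : A) ∣ 2 := orderOf_dvd_of_pow_eq_one (by
            have := congrArg Subtype.val hx2; simpa using this)
          rcases (Nat.dvd_prime Nat.prime_two).mp hd with h | h
          · exact absurd (Subtype.ext (orderOf_eq_one_iff.mp h)) hx
          · exact h
        symm
        apply Subgroup.eq_of_le_of_card_ge
        · rw [Subgroup.zpowers_le]; exact x.2
        · rw [hL, Nat.card_zpowers, hord]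
      obtain ⟨x, hx1, hx2, rfl⟩ := gen H hH
      obtain ⟨y, hy1, hy2, rfl⟩ := gen K hK
      have hxy : (x : S) = (y : S) :=
        hno (x : S) (y : S) x.2 y.2 (by
          have := congrArg Subtype.val hx2; simpa using this) (by
          have := congrArg Subtype.val hy2; simpa using this)
          (fun h => hx1 (Subtype.ext h)) (fun h => hy1 (Subtype.ext h))
      rw [Subtype.ext hxy]
    · intro a b
      exact Subtype.ext (hA a a.2 b b.2)
  obtain ⟨x, y, hxA, hyA, hx2, hy2, hx1, hy1, hxy⟩ := hex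
  set Ω := omegaTwo A hA with hΩ
  have hΩn : Ω.Normal := omegaTwo_normal A hA
  have hΩne : Ω ≠ ⊥ := by
    intro h
    have : x ∈ Ω := ⟨hxA, hx2⟩
    rw [h, Subgroup.mem_bot] at this
    exact hx1 this
  obtain ⟨z, hzΩ, hz1, hzc⟩ := exists_ne_one_mem_center_of_normal' Nat.prime_two hS Ω hΩne
  have hz2 : z ^ 2 = 1 := hzΩ.2
  -- an involution of Ω outside {1, z}
  obtain ⟨w, hwΩ, hw1, hwz⟩ : ∃ w ∈ Ω, w ≠ 1 ∧ w ≠ z := by
    by_cases hxz : x = z
    · exact ⟨y, ⟨hyA, hy2⟩, hy1, fun h => hxy (hxz.trans h.symm)⟩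
    · exact ⟨x, ⟨hxA, hx2⟩, hx1, hxz⟩
  set Z := Subgroup.zpowers z with hZ
  have hZn : Z.Normal := by
    constructor
    intro n hn g
    obtain ⟨i, rfl⟩ := Subgroup.mem_zpowers_iff.mp hn
    have hc : g * z ^ i = z ^ i * g := by
      have := Subgroup.mem_center_iff.mp (Subgroup.zpow_mem _ hzc i) g
      exact this
    rw [hc, mul_inv_cancel_right]
    exact Subgroup.zpow_mem_zpowers z i
  have hZmem : ∀ t ∈ Z, t = 1 ∨ t = z := by
    intro t ht
    obtain ⟨i, rfl⟩ := Subgroup.mem_zpowers_iff.mp ht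
    rcases Int.even_or_odd' i with ⟨j, rfl | rfl⟩
    · left
      rw [zpow_mul, zpow_ofNat, hz2, one_zpow]
    · right
      rw [zpow_add, zpow_mul, zpow_ofNat, hz2, one_zpow, one_mul, zpow_one]
  have hwZ : w ∉ Z := fun h => by
    rcases hZmem w h with h | h
    · exact hw1 h
    · exact hwz h
  -- pass to the quotient by Z
  set π := QuotientGroup.mk' Z with hπ
  have hQ : IsPGroup 2 (S ⧸ Z) := hS.to_quotient Z
  have hNn : (Ω.map π).Normal := Subgroup.Normal.map hΩn π (QuotientGroup.mk'_surjective Z)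
  have hNne : Ω.map π ≠ ⊥ := by
    intro h
    have : π w ∈ Ω.map π := Subgroup.mem_map_of_mem π hwΩ
    rw [h, Subgroup.mem_bot] at this
    exact hwZ ((QuotientGroup.eq_one_iff w).mp this)
  obtain ⟨ub, hubN, hub1, hubc⟩ :=
    exists_ne_one_mem_center_of_normal' Nat.prime_two hQ (Ω.map π) hNne
  obtain ⟨u, huΩ, rfl⟩ := Subgroup.mem_map.mp hubN
  have huZ : u ∉ Z := fun h => hub1 ((QuotientGroup.eq_one_iff u).mpr h)
  refine ⟨z, u, hzc, hz1, hz2, huΩ.2, fun h => huZ (h ▸ Z.one_mem),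
    fun h => huZ (h ▸ Subgroup.mem_zpowers z), ?_⟩
  intro s
  have hcomm : π s * π u = π u * π s := Subgroup.mem_center_iff.mp hubc (π s)
  have hmem : s * u * s⁻¹ * u⁻¹ ∈ Z := by
    rw [← QuotientGroup.eq_one_iff]
    show π (s * u * s⁻¹ * u⁻¹) = 1
    rw [map_mul, map_mul, map_mul, map_inv, map_inv, hcomm, mul_inv_cancel_right, mul_inv_cancel]
  rcases hZmem _ hmem with h | h
  · left
    rw [mul_inv_eq_one] at h
    exact h
  · right
    rw [mul_inv_eq_iff_eq_mul] at h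
    rw [h]
    exact Subgroup.mem_center_iff.mp hzc u |>.symm

/-- Cyclic case. -/
theorem exists_normal_four_data_of_cyclic {S : Type*} [Group S] [Finite S]
    (a : S) {m : ℕ} (hm : 1 ≤ m) (ha : orderOf a = 2 ^ m)
    (hAn : (Subgroup.zpowers a).Normal)
    (hCA : Subgroup.centralizer ((Subgroup.zpowers a : Subgroup S) : Set S) = Subgroup.zpowers a)
    (E : Subgroup S) (hE8 : Nat.card E = 8) (hE2 : ∀ e ∈ E, e ^ 2 = 1) :
    ∃ z u : S, z ∈ Subgroup.center S ∧ z ≠ 1 ∧ z ^ 2 = 1 ∧ u ^ 2 = 1 ∧ u ≠ 1 ∧ u ≠ z ∧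
      ∀ s : S, s * u * s⁻¹ = u ∨ s * u * s⁻¹ = u * z := by
  classical
  set A := Subgroup.zpowers a with hA
  set z := a ^ (2 ^ (m - 1)) with hz
  have hzA : z ∈ A := Subgroup.pow_mem _ (Subgroup.mem_zpowers a) _
  have hz2 : z ^ 2 = 1 := by
    rw [hz, ← pow_mul, ← pow_succ, Nat.sub_add_cancel hm, ← ha, pow_orderOf_eq_one]
  have hz1 : z ≠ 1 := by
    intro h
    have hd := orderOf_dvd_of_pow_eq_one h
    rw [ha] at hd
    have h2 : 0 < 2 ^ (m - 1) := by positivity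
    have hle := Nat.le_of_dvd h2 hd
    have : 2 ^ (m - 1) < 2 ^ m := Nat.pow_lt_pow_right (by norm_num) (by omega)
    omega
  have hinvE : ∀ e ∈ E, e⁻¹ = e := by
    intro e he
    have := hE2 e he
    rw [sq, mul_eq_one_iff_eq_inv] at this
    exact this.symm
  -- power maps
  have hpow := exists_odd_pow_of_normal hm ha hAn
  -- z is central
  have hzc : z ∈ Subgroup.center S := by
    rw [Subgroup.mem_center_iff]
    intro s
    obtain ⟨k, hk, hks⟩ := hpow s
    have h1 := hks z hzA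
    obtain ⟨t, rfl⟩ := hk
    rw [pow_succ, pow_mul, hz2, one_pow, one_mul] at h1
    rw [mul_inv_eq_iff_eq_mul] at h1
    exact h1
  -- E ∩ A ⊆ {1, z}
  have hEA : ∀ x ∈ E, x ∈ A → x = 1 ∨ x = z := by
    intro x hxE hxA
    exact eq_one_or_eq_involution_of_pow hm ha hxA odd_one (by rw [mul_one]; exact hE2 x hxE)
  -- e₁ ∈ E \ A
  obtain ⟨e₁, he₁E, he₁A⟩ : ∃ e₁ ∈ E, e₁ ∉ A := by
    by_contra hno
    push Not at hno
    have hsub : (E : Set S) ⊆ ({1, z} : Finset S) := by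
      intro x hx
      rcases hEA x hx (hno x hx) with h | h <;> simp [h]
    have hcard : Nat.card E ≤ 2 := by
      calc Nat.card E = (E : Set S).ncard := (Nat.card_coe_set_eq _)
        _ ≤ ((({1, z} : Finset S) : Set S)).ncard := Set.ncard_le_ncard hsub (Finset.finite_toSet _)
        _ = ({1, z} : Finset S).card := Set.ncard_coe_finset _
        _ ≤ 2 := Finset.card_le_two
    omega
  -- e₂ ∈ E \ {1, z, e₁, e₁ z}
  obtain ⟨e₂, he₂E, he₂⟩ : ∃ e₂ ∈ E, e₂ ∉ ({1, z, e₁, e₁ * z} : Finset S) := by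
    by_contra hno
    push Not at hno
    have hsub : (E : Set S) ⊆ ({1, z, e₁, e₁ * z} : Finset S) := fun x hx => hno x hx
    have hcard : Nat.card E ≤ 4 := by
      calc Nat.card E = (E : Set S).ncard := (Nat.card_coe_set_eq _)
        _ ≤ ((({1, z, e₁, e₁ * z} : Finset S) : Set S)).ncard :=
            Set.ncard_le_ncard hsub (Finset.finite_toSet _)
        _ = ({1, z, e₁, e₁ * z} : Finset S).card := Set.ncard_coe_finset _
        _ ≤ 4 := Finset.card_le_four
    omega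
  simp only [Finset.mem_insert, Finset.mem_singleton, not_or] at he₂
  obtain ⟨he₂1, he₂z, he₂e₁, he₂e₁z⟩ := he₂
  have he₂A : e₂ ∉ A := fun h => by
    rcases hEA e₂ he₂E h with h | h
    · exact he₂1 h
    · exact he₂z h
  have he₁₂A : e₁ * e₂ ∉ A := fun h => by
    rcases hEA (e₁ * e₂) (E.mul_mem he₁E he₂E) h with h | h
    · apply he₂e₁
      rw [mul_eq_one_iff_eq_inv, hinvE e₂ he₂E] at h
      exact h.symm
    · apply he₂e₁z
      have : e₂ = e₁⁻¹ * z := by rw [← h]; group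
      rw [this, hinvE e₁ he₁E]
  -- choose e with exponent ≡ 1 mod 4
  obtain ⟨e, heE, heA, k, hk4, hke⟩ : ∃ e ∈ E, e ∉ A ∧ ∃ k : ℕ, k % 4 = 1 ∧
      ∀ x ∈ A, e * x * e⁻¹ = x ^ k := by
    obtain ⟨k₁, hk₁, hk₁e⟩ := hpow e₁
    obtain ⟨k₂, hk₂, hk₂e⟩ := hpow e₂
    by_cases h1 : k₁ % 4 = 1
    · exact ⟨e₁, he₁E, he₁A, k₁, h1, hk₁e⟩
    by_cases h2 : k₂ % 4 = 1
    · exact ⟨e₂, he₂E, he₂A, k₂, h2, hk₂e⟩
    refine ⟨e₁ * e₂, E.mul_mem he₁E he₂E, he₁₂A, k₂ * k₁, ?_, ?_⟩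
    · have h1' : k₁ % 4 = 3 := by
        have := Nat.odd_iff.mp hk₁; omega
      have h2' : k₂ % 4 = 3 := by
        have := Nat.odd_iff.mp hk₂; omega
      rw [Nat.mul_mod, h1', h2']
    · intro x hx
      have hx2 : x ^ k₂ ∈ A := Subgroup.pow_mem _ hx _
      calc e₁ * e₂ * x * (e₁ * e₂)⁻¹ = e₁ * (e₂ * x * e₂⁻¹) * e₁⁻¹ := by group
        _ = e₁ * (x ^ k₂) * e₁⁻¹ := by rw [hk₂e x hx]
        _ = (x ^ k₂) ^ k₁ := hk₁e _ hx2
        _ = x ^ (k₂ * k₁) := (pow_mul x k₂ k₁).symm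
  have he2 : e ^ 2 = 1 := hE2 e heE
  have heinv : e⁻¹ = e := hinvE e heE
  refine ⟨z, e, hzc, hz1, hz2, he2, fun h => heA (h ▸ A.one_mem), fun h => heA (h ▸ hzA), ?_⟩
  intro s
  obtain ⟨ks, -, hks⟩ := hpow s
  -- d = s⁻¹ e⁻¹ s e centralizes A
  set d := s⁻¹ * e⁻¹ * s * e with hd
  have hdA : d ∈ A := by
    rw [← hCA, Subgroup.mem_centralizer_iff]
    intro x hx
    have hxA : x ∈ A := hx
    have h1 : s * (e * x * e⁻¹) * s⁻¹ = e * (s * x * s⁻¹) * e⁻¹ := by
      rw [hke x hxA, hks _ (Subgroup.pow_mem _ hxA _), hks x hxA,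
        hke _ (Subgroup.pow_mem _ hxA _), ← pow_mul, ← pow_mul, mul_comm]
    have h2 : d * x * d⁻¹ = x := by
      have : d * x * d⁻¹ = (e * s)⁻¹ * (s * (e * x * e⁻¹) * s⁻¹) * (e * s) := by
        rw [hd]; group
      rw [this, h1]; group
    rw [mul_inv_eq_iff_eq_mul] at h2
    exact h2.symm
  set c := s * d * s⁻¹ with hc
  have hcA : c ∈ A := hAn.conj_mem d hdA s
  have hsec : s * e * s⁻¹ = e * c := by
    rw [hc, hd]; group
  have hc1 : c ^ (k + 1) = 1 := by
    have h1 : (e * c) ^ 2 = 1 := by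
      rw [← hsec, conj_pow, he2, mul_one, mul_inv_cancel]
    have h2 : e * c * e⁻¹ = c ^ k := hke c hcA
    rw [heinv] at h2
    rw [sq] at h1
    calc c ^ (k + 1) = c ^ k * c := pow_succ c k
      _ = e * c * e * c := by rw [h2]
      _ = e * c * (e * c) := by group
      _ = 1 := h1
  have hq : ∃ q, Odd q ∧ k + 1 = 2 * q := by
    refine ⟨(k + 1) / 2, ?_, by omega⟩
    rw [Nat.odd_iff]; omega
  obtain ⟨q, hqodd, hkq⟩ := hq
  rw [hkq] at hc1
  rcases eq_one_or_eq_involution_of_pow hm ha hcA hqodd hc1 with h | h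
  · left; rw [hsec, h, mul_one]
  · right; rw [hsec, h]

/-- **Normal four-groups**: a finite 2-group containing an elementary abelian subgroup of order 8
has a central involution `z` and a further involution `u` whose conjugates are `u` and `u * z`. -/
theorem exists_normal_four_data {S : Type*} [Group S] [Finite S] (hS : IsPGroup 2 S)
    (E : Subgroup S) (hE8 : Nat.card E = 8) (hE2 : ∀ e ∈ E, e ^ 2 = 1) :
    ∃ z u : S, z ∈ Subgroup.center S ∧ z ≠ 1 ∧ z ^ 2 = 1 ∧ u ^ 2 = 1 ∧ u ≠ 1 ∧ u ≠ z ∧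
      ∀ s : S, s * u * s⁻¹ = u ∨ s * u * s⁻¹ = u * z := by
  have : Fact (Nat.Prime 2) := ⟨Nat.prime_two⟩
  have hbotc : IsMulCommutative (⊥ : Subgroup S) := ⟨⟨fun a b => Subsingleton.elim _ _⟩⟩
  obtain ⟨A, -, hAn, hAc, hCA⟩ := Cfsg.Agent.Lib.H8.exists_normal_selfCentralizing hS ⊥
  have hAcomm : ∀ x ∈ A, ∀ y ∈ A, x * y = y * x := fun x hx y hy =>
    congrArg Subtype.val (hAc.is_comm.comm (⟨x, hx⟩ : A) ⟨y, hy⟩)
  by_cases hcyc : IsCyclic A
  · obtain ⟨g, hg⟩ := IsCyclic.exists_generator (α := A)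
    set a : S := (g : S) with ha
    have hAeq : A = Subgroup.zpowers a := by
      apply le_antisymm
      · intro x hx
        obtain ⟨k, hk⟩ := Subgroup.mem_zpowers_iff.mp (hg ⟨x, hx⟩)
        refine Subgroup.mem_zpowers_iff.mpr ⟨k, ?_⟩
        have := congrArg Subtype.val hk
        simpa using this
      · rw [Subgroup.zpowers_le]; exact g.2
    obtain ⟨m, hm⟩ := IsPGroup.iff_card.mp (hS.to_subgroup A)
    have hord : orderOf a = 2 ^ m := by
      rw [← hm, hAeq, Nat.card_zpowers]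
    have hm1 : 1 ≤ m := by
      by_contra h
      have hm0 : m = 0 := by omega
      rw [hm0, pow_zero] at hm
      have hAbot : A = ⊥ := Subgroup.card_eq_one.mp hm
      rw [hAbot] at hCA
      have htop : (⊤ : Subgroup S) = ⊥ := by
        rw [← hCA, eq_comm, eq_top_iff]
        intro x _
        rw [Subgroup.mem_centralizer_iff]
        intro y hy
        rw [SetLike.mem_coe, Subgroup.mem_bot] at hy
        rw [hy, one_mul, mul_one]
      have hE : E = ⊥ := by
        rw [eq_bot_iff, ← htop]; exact le_top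
      rw [hE, Subgroup.card_bot] at hE8
      omega
    exact exists_normal_four_data_of_cyclic a hm1 hord (hAeq ▸ hAn) (by rw [← hAeq]; exact hCA)
      E hE8 hE2
  · exact exists_normal_four_data_of_not_isCyclic hS A hAcomm hcyc

end Cfsg.Agent.Lib.H16
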