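import Mathlib
import Cfsg.Agent.S3360
import Cfsg.Agent.Lib.H27.FrobAut

/-!
# S3776, brick HUP-TRANSPORT: Huppert's theorem (S3360) for an abstract action in characteristic 2

A finite solvable group `E` acting additively on a finite elementary abelian 2-group `V` with at least
4 elements, transitively on `V ∖ 0`: `V` is the additive group of a finite field `F` of characteristic 2
and every `e : E` acts as `x ↦ a * x ^ (2 ^ s)` with `a ≠ 0`.  The action need not be faithful.
-/

set_option autoImplicit false

namespace Cfsg.Agent.Lib.H16.S3776Hup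

universe u w

/-- a power of `2` is none of the exceptional cardinalities of S3360 -/
theorem two_pow_not_exc (k : ℕ) : (2 : ℕ) ^ k ∉ ({9, 25, 49, 121, 529, 81} : Set ℕ) := by
  intro h
  simp only [Set.mem_insert_iff, Set.mem_singleton_iff] at h
  have hodd : ∀ N : ℕ, N % 2 = 1 → 1 < N → (2 : ℕ) ^ k ≠ N := by
    intro N hN h1 hk
    rcases Nat.eq_zero_or_pos k with rfl | hkpos
    · simp at hk; omega
    · have : 2 ∣ 2 ^ k := dvd_pow_self 2 (Nat.pos_iff_ne_zero.mp hkpos)
      rw [hk] at this
      omega
  rcases h with h | h | h | h | h | h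
  · exact hodd 9 (by norm_num) (by norm_num) h
  · exact hodd 25 (by norm_num) (by norm_num) h
  · exact hodd 49 (by norm_num) (by norm_num) h
  · exact hodd 121 (by norm_num) (by norm_num) h
  · exact hodd 529 (by norm_num) (by norm_num) h
  · exact hodd 81 (by norm_num) (by norm_num) h

section
variable {V : Type u} [AddCommGroup V] [Module (ZMod 2) V] {E : Type w} [Group E]

/-- the linear automorphism of `V` given by `e` -/
def linOf (act : E → V → V) (hone : ∀ v, act 1 v = v)
    (hmul : ∀ e e' v, act (e * e') v = act e (act e' v))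
    (hadd : ∀ e v w, act e (v + w) = act e v + act e w) (e : E) : V ≃ₗ[ZMod 2] V :=
  let f : V →+ V :=
    { toFun := act e
      map_zero' := by
        have h := hadd e 0 0
        rw [add_zero] at h
        exact left_eq_add.mp h
      map_add' := hadd e }
  { toFun := act e
    invFun := act e⁻¹
    left_inv := fun v => by rw [← hmul, inv_mul_cancel, hone]
    right_inv := fun v => by rw [← hmul, mul_inv_cancel, hone]
    map_add' := hadd e
    map_smul' := fun c v => ZMod.map_smul f c v }

theorem linOf_apply (act : E → V → V) (hone : ∀ v, act 1 v = v)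
    (hmul : ∀ e e' v, act (e * e') v = act e (act e' v))
    (hadd : ∀ e v w, act e (v + w) = act e v + act e w) (e : E) (v : V) :
    linOf act hone hmul hadd e v = act e v := rfl

/-- the action as a homomorphism into the linear automorphisms -/
def rhoOf (act : E → V → V) (hone : ∀ v, act 1 v = v)
    (hmul : ∀ e e' v, act (e * e') v = act e (act e' v))
    (hadd : ∀ e v w, act e (v + w) = act e v + act e w) : E →* (V ≃ₗ[ZMod 2] V) where
  toFun := linOf act hone hmul hadd
  map_one' := by
    apply LinearEquiv.ext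
    intro v
    rw [linOf_apply, hone]
    rfl
  map_mul' e e' := by
    apply LinearEquiv.ext
    intro v
    rw [linOf_apply, hmul]
    rfl

end

/-- **HUP-TRANSPORT.** -/
theorem hup_transport {V : Type u} [AddCommGroup V] [Finite V] (h2 : ∀ v : V, v + v = 0)
    (h4 : 4 ≤ Nat.card V) {E : Type w} [Group E] [Finite E] (hsol : Group.IsSolvable E)
    (act : E → V → V) (hone : ∀ v, act 1 v = v)
    (hmul : ∀ e e' v, act (e * e') v = act e (act e' v))
    (hadd : ∀ e v w, act e (v + w) = act e v + act e w)
    (htrans : ∀ v w : V, v ≠ 0 → w ≠ 0 → ∃ e : E, act e v = w) :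
    ∃ (F : Type) (_ : Field F) (_ : Fintype F) (_ : CharP F 2) (n : ℕ) (_ : Fintype.card F = 2 ^ n)
      (ψ : V ≃+ F), ∀ e : E, ∃ (a : F) (s : Fin n), a ≠ 0 ∧
        ∀ v : V, ψ (act e v) = a * (ψ v) ^ (2 ^ (s : ℕ)) := by
  classical
  haveI : Fact (Nat.Prime 2) := ⟨Nat.prime_two⟩
  letI : Module (ZMod 2) V := AddCommGroup.zmodModule (n := 2) (fun x => by rw [two_nsmul]; exact h2 x)
  haveI : Nontrivial V := by
    rw [← Finite.one_lt_card_iff_nontrivial]
    omega
  -- the representation and its faithful quotient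
  let ρ0 : E →* (V ≃ₗ[ZMod 2] V) := rhoOf act hone hmul hadd
  let ρ : E ⧸ ρ0.ker →* (V ≃ₗ[ZMod 2] V) := QuotientGroup.kerLift ρ0
  have hρ : Function.Injective ρ := QuotientGroup.kerLift_injective ρ0
  have hρmk : ∀ (e : E) (v : V), ρ (QuotientGroup.mk e) v = act e v := fun e v => rfl
  have hsolQ : Group.IsSolvable (E ⧸ ρ0.ker) := inferInstance
  have htr' : ∀ v w : V, v ≠ 0 → w ≠ 0 → ∃ g : E ⧸ ρ0.ker, ρ g v = w := by
    intro v w hv hw
    obtain ⟨e, he⟩ := htrans v w hv hw
    exact ⟨QuotientGroup.mk e, by rw [hρmk, he]⟩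
  have hcardV : ∃ k : ℕ, Nat.card V = 2 ^ k := by
    haveI : Module.Finite (ZMod 2) V := Module.Finite.of_finite
    have h1 := Module.natCard_eq_pow_finrank (K := ZMod 2) (V := V)
    rw [Nat.card_zmod] at h1
    exact ⟨_, h1⟩
  rcases Cfsg.Agent.S3360.result 2 hsolQ ρ hρ htr' with ⟨F, instF, instFt, ψ, hsemi⟩ | hexc
  · -- the field case
    letI := instF
    letI := instFt
    have hone_ne : (1 : F) ≠ 0 := one_ne_zero
    have htwo : (2 : F) = 0 := by
      have h := h2 (ψ.symm 1)
      have h' := congrArg ψ h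
      rw [map_add, map_zero, AddEquiv.apply_symm_apply] at h'
      rw [← one_add_one_eq_two]
      exact h'
    haveI hchar : CharP F 2 := CharTwo.of_one_ne_zero_of_two_eq_zero hone_ne htwo
    obtain ⟨n, hn⟩ := FiniteField.card F 2
    have hnat : Nat.card F = 2 ^ (n : ℕ) := by rw [Nat.card_eq_fintype_card]; exact hn.2
    refine ⟨F, instF, instFt, hchar, (n : ℕ), hn.2, ψ, ?_⟩
    intro e
    obtain ⟨a, σ, ha⟩ := hsemi (QuotientGroup.mk e)
    obtain ⟨s, hs⟩ := Cfsg.Agent.Lib.H27.FrobAut.exists_frobenius_pow_eq hnat σ.toRingHom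
    refine ⟨a, s, ?_, ?_⟩
    · rintro rfl
      obtain ⟨v, hv⟩ := exists_ne (0 : V)
      have h1 := ha v
      rw [zero_mul, hρmk] at h1
      have h3 : act e v = 0 := by
        have := ψ.injective (h1.trans (map_zero ψ).symm)
        exact this
      have h4' : act e⁻¹ (act e v) = v := by rw [← hmul, inv_mul_cancel, hone]
      rw [h3] at h4'
      have h5 : act e⁻¹ 0 = 0 := by
        have h := hadd e⁻¹ 0 0
        rw [add_zero] at h
        exact left_eq_add.mp h
      exact hv (h4'.symm.trans h5)
    · intro v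
      have h1 := ha v
      rw [hρmk] at h1
      rw [h1]
      congr 1
      exact hs (ψ v)
  · exfalso
    obtain ⟨k, hk⟩ := hcardV
    rw [hk] at hexc
    exact two_pow_not_exc k hexc

end Cfsg.Agent.Lib.H16.S3776Hup
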