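import Mathlib
import Cfsg.Prelude.Def_Characters
import Cfsg.Agent.Lib.L0.FiniteOrderEnd
import Cfsg.Agent.Lib.H17.SHINV2

/-!
# The rank bound for products of two elements of order `p` (S3016, piece INVp; helper16)

For endomorphisms `A`, `B` of a finite-dimensional complex space with `A ^ p = B ^ p = 1` and `A * B` of
finite order: `dim Fix A = (1/p) ∑_{k<p} tr (A ^ k)`, and
`2 dim Fix A + 2 dim Fix B - 3 dim V ≤ Re tr (A * B)`.
Character form: if `χ (x ^ k) = d` and `χ (y ^ k) = d'` for `0 < k < p`, then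
`2 (χ 1 + (p-1) d) + 2 (χ 1 + (p-1) d') - 3 p χ 1 ≤ p Re χ (x y)`.
-/

set_option autoImplicit false

open Module

namespace Cfsg.Agent.Lib.H16.SHp

open Cfsg.Agent.Lib.L0 Cfsg.Agent.Lib.H17.SH

section LinAlg

variable {V : Type*} [AddCommGroup V] [Module ℂ V] [FiniteDimensional ℂ V]

/-- the geometric sum of a `p`-th root of unity -/
theorem geom_sum_root (μ : ℂ) (p : ℕ) (hμ : μ ^ p = 1) :
    ∑ k ∈ Finset.range p, μ ^ k = if μ = 1 then (p : ℂ) else 0 := by
  by_cases h1 : μ = 1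
  · rw [if_pos h1, h1]
    simp
  · rw [if_neg h1]
    have h := mul_geom_sum μ p
    rw [hμ, sub_self] at h
    rcases mul_eq_zero.1 h with h' | h'
    · exact absurd (sub_eq_zero.1 h') h1
    · exact h'

/-- (a) `∑_{k<p} tr (A ^ k) = p * dim Fix A` for `A ^ p = 1` -/
theorem sum_trace_pow_eq (A : End ℂ V) (p : ℕ) (hp : 0 < p) (hA : A ^ p = 1) :
    ∑ k ∈ Finset.range p, LinearMap.trace ℂ V (A ^ k) = (p : ℂ) * (finrank ℂ (A.eigenspace 1) : ℂ) := by
  classical
  have hf := isSemisimple_of_pow_eq_one hp hA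
  have h1 : ∀ k ∈ Finset.range p, LinearMap.trace ℂ V (A ^ k) =
      ∑ μ : A.Eigenvalues, (finrank ℂ (A.eigenspace (μ : ℂ)) : ℂ) * (μ : ℂ) ^ k :=
    fun k _ => trace_pow_eq_sum hf k
  rw [Finset.sum_congr rfl h1, Finset.sum_comm]
  have h2 : ∀ μ ∈ (Finset.univ : Finset A.Eigenvalues),
      ∑ k ∈ Finset.range p, (finrank ℂ (A.eigenspace (μ : ℂ)) : ℂ) * (μ : ℂ) ^ k =
        (p : ℂ) * ((if (μ : ℂ) = 1 then finrank ℂ (A.eigenspace (μ : ℂ)) else 0 : ℕ) : ℂ) := by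
    intro μ _
    rw [← Finset.mul_sum, geom_sum_root (μ : ℂ) p (eigenvalue_pow_eq_one hA μ)]
    by_cases hμ : (μ : ℂ) = 1
    · rw [if_pos hμ, if_pos hμ, mul_comm]
    · rw [if_neg hμ, if_neg hμ]
      simp
  rw [Finset.sum_congr rfl h2, ← Finset.mul_sum, ← Nat.cast_sum, sum_ite_finrank_eigenspace_one A]

/-- (b) the rank bound for a product of two endomorphisms, in terms of the fixed spaces -/
theorem re_trace_mul_ge_fix (A B : End ℂ V) (m : ℕ) (hm : 0 < m) (hAB : (A * B) ^ m = 1) :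
    2 * (finrank ℂ (A.eigenspace 1) : ℝ) + 2 * (finrank ℂ (B.eigenspace 1) : ℝ) - 3 * finrank ℂ V ≤
      (LinearMap.trace ℂ V (A * B)).re := by
  have hle : A.eigenspace 1 ⊓ B.eigenspace 1 ≤ (A * B).eigenspace 1 := by
    intro v hv
    rw [Submodule.mem_inf, Module.End.mem_eigenspace_iff, Module.End.mem_eigenspace_iff] at hv
    rw [Module.End.mem_eigenspace_iff, Module.End.mul_apply, hv.2, one_smul, hv.1, one_smul]
  have hdim := Submodule.finrank_sup_add_finrank_inf_eq (A.eigenspace 1) (B.eigenspace 1)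
  have hsup : finrank ℂ ↥(A.eigenspace 1 ⊔ B.eigenspace 1) ≤ finrank ℂ V := Submodule.finrank_le _
  have hinf : finrank ℂ ↥(A.eigenspace 1 ⊓ B.eigenspace 1) ≤
      finrank ℂ ↥((A * B).eigenspace 1) := Submodule.finrank_mono hle
  have h1 := re_trace_ge_of_pow_eq_one (A * B) m hm hAB
  have h2 : (finrank ℂ (A.eigenspace 1) : ℝ) + finrank ℂ (B.eigenspace 1) ≤
      (finrank ℂ V : ℝ) + finrank ℂ ↥((A * B).eigenspace 1) := by
    have : finrank ℂ (A.eigenspace 1) + finrank ℂ (B.eigenspace 1) ≤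
        finrank ℂ V + finrank ℂ ↥((A * B).eigenspace 1) := by omega
    exact_mod_cast this
  linarith

/-- (c) the rank bound in terms of the traces of the powers -/
theorem re_trace_mul_ge_pow (A B : End ℂ V) (p : ℕ) (hp : 0 < p) (hA : A ^ p = 1) (hB : B ^ p = 1)
    (m : ℕ) (hm : 0 < m) (hAB : (A * B) ^ m = 1) :
    2 * (∑ k ∈ Finset.range p, LinearMap.trace ℂ V (A ^ k)).re +
        2 * (∑ k ∈ Finset.range p, LinearMap.trace ℂ V (B ^ k)).re - 3 * p * finrank ℂ V ≤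
      p * (LinearMap.trace ℂ V (A * B)).re := by
  have h := re_trace_mul_ge_fix A B m hm hAB
  rw [sum_trace_pow_eq A p hp hA, sum_trace_pow_eq B p hp hB]
  have hA' : ((p : ℂ) * (finrank ℂ (A.eigenspace 1) : ℂ)).re = (p : ℝ) * finrank ℂ (A.eigenspace 1) := by
    simp
  have hB' : ((p : ℂ) * (finrank ℂ (B.eigenspace 1) : ℂ)).re = (p : ℝ) * finrank ℂ (B.eigenspace 1) := by
    simp
  rw [hA', hB']
  have hp' : (0 : ℝ) < p := by exact_mod_cast hp
  nlinarith

end LinAlg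

section Character

variable {G : Type*} [Group G] [Finite G]

/-- (d) character form: `x ^ p = 1`, `y ^ p = 1`, `χ` constant `= d` on the nontrivial powers of `x`
and constant `= d'` on those of `y`:
`2 (χ 1 + (p-1) d) + 2 (χ 1 + (p-1) d') - 3 p χ 1 ≤ p Re χ (x y)`. -/
theorem char_mul_order_p_ge (χ : G → ℂ) (hχ : Cfsg.IsCharacter G χ) (p : ℕ) (hp : 0 < p) (x y : G)
    (hx : x ^ p = 1) (hy : y ^ p = 1) (d d' : ℂ)
    (hdx : ∀ k : ℕ, 0 < k → k < p → χ (x ^ k) = d) (hdy : ∀ k : ℕ, 0 < k → k < p → χ (y ^ k) = d') :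
    2 * ((χ 1).re + ((p : ℝ) - 1) * d.re) + 2 * ((χ 1).re + ((p : ℝ) - 1) * d'.re) -
        3 * p * (χ 1).re ≤ p * (χ (x * y)).re := by
  obtain ⟨n, ρ, rfl⟩ := hχ
  have hA : (ρ x) ^ p = 1 := by rw [← map_pow, hx, map_one]
  have hB : (ρ y) ^ p = 1 := by rw [← map_pow, hy, map_one]
  have hm : 0 < orderOf (x * y) := orderOf_pos (x * y)
  have hAB : (ρ x * ρ y) ^ orderOf (x * y) = 1 := by
    rw [← map_mul, ← map_pow, pow_orderOf_eq_one, map_one]
  have h := re_trace_mul_ge_pow (ρ x) (ρ y) p hp hA hB _ hm hAB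
  have h1 : (ρ.character 1).re = (finrank ℂ (Fin n → ℂ) : ℝ) := by
    rw [Representation.char_one]
    simp
  -- the sums of the traces of the powers
  have hsum : ∀ (z : G) (e : ℂ), (∀ k : ℕ, 0 < k → k < p → ρ.character (z ^ k) = e) →
      (∑ k ∈ Finset.range p, LinearMap.trace ℂ (Fin n → ℂ) ((ρ z) ^ k)).re =
        (ρ.character 1).re + ((p : ℝ) - 1) * e.re := by
    intro z e he
    obtain ⟨q, rfl⟩ : ∃ q, p = q + 1 := ⟨p - 1, by omega⟩
    rw [Finset.sum_range_succ', pow_zero]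
    have h2 : ∀ k ∈ Finset.range q, LinearMap.trace ℂ (Fin n → ℂ) ((ρ z) ^ (k + 1)) = e := by
      intro k hk
      rw [Finset.mem_range] at hk
      rw [← map_pow]
      exact he (k + 1) (by omega) (by omega)
    rw [Finset.sum_congr rfl h2, Finset.sum_const, Finset.card_range]
    have h3 : LinearMap.trace ℂ (Fin n → ℂ) (1 : End ℂ (Fin n → ℂ)) = ρ.character 1 := by
      simp only [Representation.character, map_one]
    rw [h3, Complex.add_re, nsmul_eq_mul, Complex.mul_re, Complex.natCast_re, Complex.natCast_im,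
      zero_mul, sub_zero]
    push_cast
    ring
  rw [hsum x d hdx, hsum y d' hdy, ← h1] at h
  simp only [Representation.character] at h ⊢
  rw [map_mul]
  exact h

/-- (e) the symmetric case `d = d'`: `4 (χ 1 + (p-1) d) - 3 p χ 1 ≤ p Re χ (x y)` -/
theorem char_mul_order_p_ge' (χ : G → ℂ) (hχ : Cfsg.IsCharacter G χ) (p : ℕ) (hp : 0 < p) (x y : G)
    (hx : x ^ p = 1) (hy : y ^ p = 1) (d : ℂ)
    (hdx : ∀ k : ℕ, 0 < k → k < p → χ (x ^ k) = d) (hdy : ∀ k : ℕ, 0 < k → k < p → χ (y ^ k) = d) :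
    4 * ((χ 1).re + ((p : ℝ) - 1) * d.re) - 3 * p * (χ 1).re ≤ p * (χ (x * y)).re := by
  have h := char_mul_order_p_ge χ hχ p hp x y hx hy d d hdx hdy
  linarith

omit [Finite G] in
/-- (f) the multiplicity of the eigenvalue `1`: `χ 1 + (p-1) d = p * m` with `m` a natural number -/
theorem exists_fix_dim (χ : G → ℂ) (hχ : Cfsg.IsCharacter G χ) (p : ℕ) (hp : 0 < p) (x : G)
    (hx : x ^ p = 1) (d : ℂ) (hdx : ∀ k : ℕ, 0 < k → k < p → χ (x ^ k) = d) :
    ∃ m : ℕ, χ 1 + ((p : ℂ) - 1) * d = (p : ℂ) * (m : ℂ) := by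
  obtain ⟨n, ρ, rfl⟩ := hχ
  have hA : (ρ x) ^ p = 1 := by rw [← map_pow, hx, map_one]
  refine ⟨finrank ℂ (Module.End.eigenspace (ρ x) 1), ?_⟩
  rw [← sum_trace_pow_eq (ρ x) p hp hA]
  obtain ⟨q, rfl⟩ : ∃ q, p = q + 1 := ⟨p - 1, by omega⟩
  rw [Finset.sum_range_succ', pow_zero]
  have h2 : ∀ k ∈ Finset.range q, LinearMap.trace ℂ (Fin n → ℂ) ((ρ x) ^ (k + 1)) = d := by
    intro k hk
    rw [Finset.mem_range] at hk
    rw [← map_pow]
    exact hdx (k + 1) (by omega) (by omega)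
  rw [Finset.sum_congr rfl h2, Finset.sum_const, Finset.card_range]
  have h3 : LinearMap.trace ℂ (Fin n → ℂ) (1 : End ℂ (Fin n → ℂ)) = ρ.character 1 := by
    simp only [Representation.character, map_one]
  rw [h3, nsmul_eq_mul]
  push_cast
  ring

end Character

end Cfsg.Agent.Lib.H16.SHp
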