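import Cfsg.Agent.Lib.H16.HSBlk

/-!
# HS project (architect helper13), stage 2, piece A7 `struct8_alt`
-/

namespace Cfsg.Agent.Lib.H16.HS

open Equiv MulAction Cfsg.Agent.Lib.H13.HS
open scoped Pointwise

/-- a permutation mapping a set into itself fixes it setwise (finite case) -/
theorem hsa7_smul_set_eq {α : Type*} [Finite α] (g : Perm α) (s : Set α)
    (h : ∀ x ∈ s, g x ∈ s) : g • s = s := by
  refine Set.eq_of_subset_of_ncard_le ?_ ?_ (Set.toFinite _)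
  · rintro _ ⟨x, hx, rfl⟩
    exact h x hx
  · rw [Set.ncard_smul_set]

/-- a product of two disjoint-type swaps preserving a set and fixing a point, even -/
theorem hsa7_two_swaps {α : Type*} [Finite α] (a : α) (Δ : Set α) (x y c d : α)
    (hxy : x ≠ y) (hcd : c ≠ d)
    (hxa : x ≠ a) (hya : y ≠ a) (hca : c ≠ a) (hda : d ≠ a)
    (hxc : x ≠ c) (hxd : x ≠ d)
    (hΔxy : x ∈ Δ ↔ y ∈ Δ) (hΔcd : c ∈ Δ ↔ d ∈ Δ) :
    ∃ g : Perm α, g a = a ∧ g x = y ∧ g • Δ = Δ ∧ g ∈ altSub α := by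
  classical
  have : Fintype α := Fintype.ofFinite α
  refine ⟨swap x y * swap c d, ?_, ?_, ?_, ?_⟩
  · rw [Perm.mul_apply, swap_apply_of_ne_of_ne hca.symm hda.symm,
      swap_apply_of_ne_of_ne hxa.symm hya.symm]
  · rw [Perm.mul_apply, swap_apply_of_ne_of_ne hxc hxd, swap_apply_left]
  · apply hsa7_smul_set_eq
    intro z hz
    rw [Perm.mul_apply]
    have h1 : swap c d z ∈ Δ := by
      by_cases hzc : z = c
      · rw [hzc, swap_apply_left]; exact hΔcd.mp (hzc ▸ hz)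
      · by_cases hzd : z = d
        · rw [hzd, swap_apply_right]; exact hΔcd.mpr (hzd ▸ hz)
        · rw [swap_apply_of_ne_of_ne hzc hzd]; exact hz
    generalize swap c d z = w at h1
    by_cases hwx : w = x
    · rw [hwx, swap_apply_left]; exact hΔxy.mp (hwx ▸ h1)
    · by_cases hwy : w = y
      · rw [hwy, swap_apply_right]; exact hΔxy.mpr (hwy ▸ h1)
      · rw [swap_apply_of_ne_of_ne hwx hwy]; exact h1
  · rw [altSub_eq α, Equiv.Perm.mem_alternatingGroup, Equiv.Perm.sign_mul,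
      Equiv.Perm.sign_swap hxy, Equiv.Perm.sign_swap hcd]
    rfl

/-- A7 : the block argument inside `A_8`. -/
theorem struct8_alt {α : Type*} [Finite α] (h8 : Nat.card α = 8) {π : Set ℕ} (h23 : TwoThree π 8)
    {M : Subgroup (Perm α)} (hM : Cfsg.IsPiHallOf π M (altSub α)) (htr : IsPretransitive M α)
    (a : α) (Δ : Set α) (hΔ : Δ.ncard = 3) (ha : a ∉ Δ)
    (hst : ∀ g : Perm α, g a = a → (g ∈ M ↔ g • Δ = Δ ∧ g ∈ altSub α)) :
    M ≤ partStab (insert a Δ) := by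
  classical
  have : Fintype α := Fintype.ofFinite α
  have hcard : Fintype.card α = 8 := by rw [← Nat.card_eq_fintype_card, h8]
  have hcard4 : (insert a Δ).ncard = 4 := by
    rw [Set.ncard_insert_of_notMem ha (Set.toFinite Δ), hΔ]
  have hcompl4 : (insert a Δ)ᶜ.ncard = 4 := by
    have := Set.ncard_add_ncard_compl (insert a Δ)
    omega
  -- three points of Δ, three points of the complement C
  obtain ⟨d₁, d₂, d₃, hd12, hd13, hd23, hΔeq⟩ := Set.ncard_eq_three.mp hΔ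
  have hd₁ : d₁ ∈ Δ := by rw [hΔeq]; simp
  have hd₂ : d₂ ∈ Δ := by rw [hΔeq]; simp
  obtain ⟨c₁, c₂, c₃, hc₁, hc₂, hc₃, hc12, hc13, hc23⟩ :=
    (Set.two_lt_ncard_iff (Set.toFinite _)).mp (by rw [hcompl4]; norm_num :
      2 < ((insert a Δ)ᶜ).ncard)
  have hCa : ∀ z, z ∉ insert a Δ → z ≠ a := fun z hz h => hz (Or.inl h)
  have hCΔ : ∀ z, z ∉ insert a Δ → z ∉ Δ := fun z hz h => hz (Or.inr h)
  have hΔa : ∀ z, z ∈ Δ → z ≠ a := fun z hz h => ha (h ▸ hz)
  -- M is not primitive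
  have hnp : ¬ IsPreprimitive M α := by
    intro hprim
    have h3 : (swap c₁ c₂ * swap c₁ c₃).IsThreeCycle :=
      Equiv.Perm.isThreeCycle_swap_mul_swap_same hc12 hc13 hc23
    have hmem : swap c₁ c₂ * swap c₁ c₃ ∈ M := by
      have hfa : (swap c₁ c₂ * swap c₁ c₃) a = a := by
        rw [Perm.mul_apply, swap_apply_of_ne_of_ne (hCa c₁ hc₁).symm (hCa c₃ hc₃).symm,
          swap_apply_of_ne_of_ne (hCa c₁ hc₁).symm (hCa c₂ hc₂).symm]
      rw [hst _ hfa]
      refine ⟨?_, ?_⟩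
      · apply hsa7_smul_set_eq
        intro z hz
        have hz1 : z ≠ c₁ := fun h => hCΔ c₁ hc₁ (h ▸ hz)
        have hz2 : z ≠ c₂ := fun h => hCΔ c₂ hc₂ (h ▸ hz)
        have hz3 : z ≠ c₃ := fun h => hCΔ c₃ hc₃ (h ▸ hz)
        rw [Perm.mul_apply, swap_apply_of_ne_of_ne hz1 hz3, swap_apply_of_ne_of_ne hz1 hz2]
        exact hz
      · rw [altSub_eq α]
        exact h3.mem_alternatingGroup
    have hA : alternatingGroup α ≤ M :=
      Equiv.Perm.alternatingGroup_le_of_isPreprimitive_of_isThreeCycle_mem hprim h3 hmem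
    have : Nontrivial α := by
      rw [← Fintype.one_lt_card_iff_nontrivial, hcard]
      norm_num
    have hAcard : Nat.card (alternatingGroup α) = 20160 := by
      rw [nat_card_alternatingGroup, h8]
      decide
    have h5M : 5 ∣ Nat.card M := by
      have hdvd : Nat.card (alternatingGroup α) ∣ Nat.card M := Subgroup.card_dvd_of_le hA
      rw [hAcard] at hdvd
      exact dvd_trans (by norm_num) hdvd
    have h5π : 5 ∈ π := hM.2.1 5 (by norm_num) h5M
    have := (h23 5 (by norm_num) (by norm_num)).mp h5π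
    omega
  apply hsblk_core h8 htr hnp a Δ hΔ ha
  · intro x hx y hy
    by_cases hxy : x = y
    · exact ⟨1, M.one_mem, rfl, by rw [hxy]; rfl⟩
    · obtain ⟨g, hga, hgx, hgΔ, hgA⟩ := hsa7_two_swaps a Δ x y c₁ c₂ hxy hc12
        (hΔa x hx) (hΔa y hy) (hCa c₁ hc₁) (hCa c₂ hc₂)
        (fun h => hCΔ c₁ hc₁ (h ▸ hx)) (fun h => hCΔ c₂ hc₂ (h ▸ hx))
        ⟨fun _ => hy, fun _ => hx⟩
        ⟨fun h => absurd h (hCΔ c₁ hc₁), fun h => absurd h (hCΔ c₂ hc₂)⟩
      exact ⟨g, (hst g hga).mpr ⟨hgΔ, hgA⟩, hga, hgx⟩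
  · intro x hx y hy
    by_cases hxy : x = y
    · exact ⟨1, M.one_mem, rfl, by rw [hxy]; rfl⟩
    · obtain ⟨g, hga, hgx, hgΔ, hgA⟩ := hsa7_two_swaps a Δ x y d₁ d₂ hxy hd12
        (hCa x hx) (hCa y hy) (hΔa d₁ hd₁) (hΔa d₂ hd₂)
        (fun h => hCΔ x hx (h ▸ hd₁)) (fun h => hCΔ x hx (h ▸ hd₂))
        ⟨fun h => absurd h (hCΔ x hx), fun h => absurd h (hCΔ y hy)⟩
        ⟨fun _ => hd₂, fun _ => hd₁⟩
      exact ⟨g, (hst g hga).mpr ⟨hgΔ, hgA⟩, hga, hgx⟩

end Cfsg.Agent.Lib.H16.HS
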