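import Cfsg.Agent.Lib.H16.HSA7
import Cfsg.Agent.Lib.H13.HSMain

/-!
# HS project (architect helper13), stage 2, piece Q1 `struct8`

A Hall `{2,3}`-subgroup of `S_8` is the stabilizer of a partition into two `4`-sets.
-/

namespace Cfsg.Agent.Lib.H16.HS

open Equiv MulAction Cfsg.Agent.Lib.H13.HS
open scoped Pointwise

open Cfsg.Agent.Lib.H1.HS (hall_eq_of_le hall_conj_elt)
open Cfsg.Agent.Lib.H24.HS (hall_ptRes ptRes_eq_stabilizer_set)
open Cfsg.Agent.Lib.H22.HS (hall_partStab)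

/-- Q1 : Hall `{2,3}`-subgroups of `S_8`. -/
theorem struct8 {α : Type} [Finite α] (h8 : Nat.card α = 8) {π : Set ℕ} (h23 : TwoThree π 8)
    {H : Subgroup (Perm α)} (hH : Cfsg.IsPiHall π H) :
    ∃ s : Set α, s.ncard = 4 ∧ H = partStab s := by
  classical
  have : Fintype α := Fintype.ofFinite α
  have hcard : Fintype.card α = 8 := by rw [← Nat.card_eq_fintype_card, h8]
  have h2π : 2 ∈ π := (h23 2 Nat.prime_two (by norm_num)).mpr (Or.inl rfl)
  have h3π : 3 ∈ π := (h23 3 Nat.prime_three (by norm_num)).mpr (Or.inr rfl)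
  have h5π : 5 ∉ π := by
    intro h
    have := (h23 5 (by norm_num) (by norm_num)).mp h
    omega
  -- an 8-cycle in H, hence transitivity
  obtain ⟨σ₀, hσ₀⟩ : ∃ g : Perm α, g.cycleType = ({8} : Multiset ℕ) := by
    rw [Equiv.Perm.exists_with_cycleType_iff]
    refine ⟨by simp [hcard], ?_⟩
    intro a ha
    rw [Multiset.mem_singleton] at ha
    omega
  have hord₀ : orderOf σ₀ = 2 ^ 3 := by
    rw [← Equiv.Perm.lcm_cycleType, hσ₀]
    simp
  obtain ⟨g₀, hg₀⟩ := hall_conj_elt hH Nat.prime_two h2π σ₀ 3 hord₀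
  set σ := g₀ * σ₀ * g₀⁻¹ with hσdef
  have hσ : σ.cycleType = ({8} : Multiset ℕ) := by rw [hσdef, Equiv.Perm.cycleType_conj, hσ₀]
  have hσcyc : σ.IsCycle := by
    rw [← Equiv.Perm.card_cycleType_eq_one, hσ]
    rfl
  have hσsupp : σ.support.card = 8 := by
    rw [← Equiv.Perm.sum_cycleType, hσ]
    simp
  have hσuniv : σ.support = Finset.univ := by
    apply Finset.eq_univ_of_card
    rw [hσsupp, hcard]
  have hmoves : ∀ x : α, σ x ≠ x := by
    intro x
    rw [← Equiv.Perm.mem_support, hσuniv]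
    exact Finset.mem_univ x
  have htr : IsPretransitive H α := by
    constructor
    intro x y
    obtain ⟨i, hi⟩ := hσcyc.exists_zpow_eq (hmoves x) (hmoves y)
    exact ⟨⟨σ ^ i, H.zpow_mem hg₀ i⟩, hi⟩
  have hne : Nonempty α := by
    rw [← Fintype.card_pos_iff, hcard]
    norm_num
  obtain ⟨a⟩ := hne
  have hHa : Cfsg.IsPiHall π (ptRes H a) := hall_ptRes hH htr a
  have hc7 : Nat.card {x : α // x ≠ a} = 7 := by
    rw [Nat.card_eq_fintype_card, Fintype.card_subtype_compl, Fintype.card_subtype_eq, hcard]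
  have hconcl := main_aux 7 {x : α // x ≠ a} hc7 π (ptRes H a) hHa
  rw [Concl, hc7] at hconcl
  rcases hconcl with hfew | hfull | ⟨hbelow, _⟩ | ⟨_, _, t, ht3, hteq⟩ | ⟨h8', _⟩
  · exfalso
    have := hfew 2 3 Nat.prime_two Nat.prime_three h2π h3π (by norm_num) (by norm_num)
    omega
  · exfalso
    exact h5π (hfull 5 (by norm_num) (by norm_num))
  · exfalso
    exact h5π ((hbelow.2 5 (by norm_num) (by norm_num)).mpr (by norm_num))
  · -- the main case
    set Δ : Set α := Subtype.val '' t with hΔdef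
    have hΔ : Δ.ncard = 3 := by
      rw [hΔdef, Set.ncard_image_of_injective _ Subtype.val_injective, ht3]
    have ha : a ∉ Δ := by
      rintro ⟨⟨x, hx⟩, _, hxa⟩
      exact hx hxa
    have hst : ∀ g : Perm α, g a = a → (g ∈ H ↔ g • Δ = Δ) := ptRes_eq_stabilizer_set hteq
    have hcard4 : (insert a Δ).ncard = 4 := by
      rw [Set.ncard_insert_of_notMem ha (Set.toFinite Δ), hΔ]
    have hcompl4 : (insert a Δ)ᶜ.ncard = 4 := by
      have := Set.ncard_add_ncard_compl (insert a Δ)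
      omega
    obtain ⟨d₁, d₂, d₃, hd12, hd13, hd23, hΔeq⟩ := Set.ncard_eq_three.mp hΔ
    have hd₁ : d₁ ∈ Δ := by rw [hΔeq]; simp
    have hd₂ : d₂ ∈ Δ := by rw [hΔeq]; simp
    obtain ⟨c₁, c₂, c₃, hc₁, hc₂, hc₃, hc12, hc13, hc23⟩ :=
      (Set.two_lt_ncard_iff (Set.toFinite _)).mp (by rw [hcompl4]; norm_num :
        2 < ((insert a Δ)ᶜ).ncard)
    have hCa : ∀ z, z ∉ insert a Δ → z ≠ a := fun z hz h => hz (Or.inl h)
    have hCΔ : ∀ z, z ∉ insert a Δ → z ∉ Δ := fun z hz h => hz (Or.inr h)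
    have hΔa : ∀ z, z ∈ Δ → z ≠ a := fun z hz h => ha (h ▸ hz)
    -- H is not primitive
    have hnp : ¬ IsPreprimitive H α := by
      intro hprim
      have h3 : (swap c₁ c₂ * swap c₁ c₃).IsThreeCycle :=
        Equiv.Perm.isThreeCycle_swap_mul_swap_same hc12 hc13 hc23
      have hmem : swap c₁ c₂ * swap c₁ c₃ ∈ H := by
        have hfa : (swap c₁ c₂ * swap c₁ c₃) a = a := by
          rw [Perm.mul_apply, swap_apply_of_ne_of_ne (hCa c₁ hc₁).symm (hCa c₃ hc₃).symm,
            swap_apply_of_ne_of_ne (hCa c₁ hc₁).symm (hCa c₂ hc₂).symm]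
        rw [hst _ hfa]
        apply hsa7_smul_set_eq
        intro z hz
        have hz1 : z ≠ c₁ := fun h => hCΔ c₁ hc₁ (h ▸ hz)
        have hz2 : z ≠ c₂ := fun h => hCΔ c₂ hc₂ (h ▸ hz)
        have hz3 : z ≠ c₃ := fun h => hCΔ c₃ hc₃ (h ▸ hz)
        rw [Perm.mul_apply, swap_apply_of_ne_of_ne hz1 hz3, swap_apply_of_ne_of_ne hz1 hz2]
        exact hz
      have hA : alternatingGroup α ≤ H :=
        Equiv.Perm.alternatingGroup_le_of_isPreprimitive_of_isThreeCycle_mem hprim h3 hmem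
      have : Nontrivial α := by
        rw [← Fintype.one_lt_card_iff_nontrivial, hcard]
        norm_num
      have hAcard : Nat.card (alternatingGroup α) = 20160 := by
        rw [nat_card_alternatingGroup, h8]
        decide
      have h5H : 5 ∣ Nat.card H := by
        have hdvd : Nat.card (alternatingGroup α) ∣ Nat.card H := Subgroup.card_dvd_of_le hA
        rw [hAcard] at hdvd
        exact dvd_trans (by norm_num) hdvd
      exact h5π (hH.1 5 (by norm_num) h5H)
    have hle : H ≤ partStab (insert a Δ) := by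
      apply hsblk_core h8 htr hnp a Δ hΔ ha
      · intro x hx y hy
        by_cases hxy : x = y
        · exact ⟨1, H.one_mem, rfl, by rw [hxy]; rfl⟩
        · obtain ⟨g, hga, hgx, hgΔ, -⟩ := hsa7_two_swaps a Δ x y c₁ c₂ hxy hc12
            (hΔa x hx) (hΔa y hy) (hCa c₁ hc₁) (hCa c₂ hc₂)
            (fun h => hCΔ c₁ hc₁ (h ▸ hx)) (fun h => hCΔ c₂ hc₂ (h ▸ hx))
            ⟨fun _ => hy, fun _ => hx⟩
            ⟨fun h => absurd h (hCΔ c₁ hc₁), fun h => absurd h (hCΔ c₂ hc₂)⟩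
          exact ⟨g, (hst g hga).mpr hgΔ, hga, hgx⟩
      · intro x hx y hy
        by_cases hxy : x = y
        · exact ⟨1, H.one_mem, rfl, by rw [hxy]; rfl⟩
        · obtain ⟨g, hga, hgx, hgΔ, -⟩ := hsa7_two_swaps a Δ x y d₁ d₂ hxy hd12
            (hCa x hx) (hCa y hy) (hΔa d₁ hd₁) (hΔa d₂ hd₂)
            (fun h => hCΔ x hx (h ▸ hd₁)) (fun h => hCΔ x hx (h ▸ hd₂))
            ⟨fun h => absurd h (hCΔ x hx), fun h => absurd h (hCΔ y hy)⟩
            ⟨fun _ => hd₂, fun _ => hd₁⟩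
          exact ⟨g, (hst g hga).mpr hgΔ, hga, hgx⟩
    exact ⟨insert a Δ, hcard4,
      hall_eq_of_le hH hle (hall_partStab h8 h23 (insert a Δ) hcard4).1⟩
  · omega

end Cfsg.Agent.Lib.H16.HS
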