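import Mathlib

/-!
# S3592, piece CLASSDIV (helper16): the number of elements of order `n` is a sum of class sizes
-/

set_option autoImplicit false

universe u

namespace Cfsg.Agent.Lib.H16.NSE

/-- class equation for one class: `|x^X| * |C(x)| = |X|` -/
theorem ncard_conj_mul_card_centralizer {X : Type u} [Group X] [Finite X] (x : X) :
    Set.ncard {y : X | IsConj x y} * Nat.card (Subgroup.centralizer ({x} : Set X)) = Nat.card X := by
  have h1 := MulAction.index_stabilizer (ConjAct X) x
  have h2 := (MulAction.stabilizer (ConjAct X) x).card_mul_index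
  have h3 := Subgroup.nat_card_centralizer_nat_card_stabilizer x
  have h4 : MulAction.orbit (ConjAct X) x = {y : X | IsConj x y} := by
    rw [ConjAct.orbit_eq_carrier_conjClasses]
    ext y
    rw [ConjClasses.mem_carrier_iff_mk_eq, Set.mem_ofPred_eq, ConjClasses.mk_eq_mk_iff_isConj]
    exact ⟨fun h => h.symm, fun h => h.symm⟩
  rw [h4] at h1
  rw [← h1, h3, mul_comm]
  exact h2

/-- the size of the class of `x` -/
theorem ncard_conj_eq_div {X : Type u} [Group X] [Finite X] (x : X) :
    Set.ncard {y : X | IsConj x y} =
      Nat.card X / Nat.card (Subgroup.centralizer ({x} : Set X)) := by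
  have h := ncard_conj_mul_card_centralizer x
  have hpos : 0 < Nat.card (Subgroup.centralizer ({x} : Set X)) := Nat.card_pos
  rw [← h, Nat.mul_div_cancel _ hpos]

/-- (CLASSDIV) the elements of order `n` form a union of conjugacy classes; if every such class
has size divisible by `N` then so is their number. -/
theorem dvd_card_orderOf_of_dvd_class {X : Type u} [Group X] [Finite X] (n N : ℕ)
    (h : ∀ g : X, orderOf g = n →
      N ∣ Nat.card X / Nat.card (Subgroup.centralizer ({g} : Set X))) :
    N ∣ Nat.card {g : X // orderOf g = n} := by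
  classical
  have := Fintype.ofFinite X
  have hS : Nat.card {g : X // orderOf g = n} = (Finset.univ.filter (fun g : X => orderOf g = n)).card := by
    rw [Nat.card_eq_fintype_card, Fintype.card_subtype]
  rw [hS]
  have hfib := Finset.card_eq_sum_card_fiberwise (f := (ConjClasses.mk : X → ConjClasses X))
    (s := Finset.univ.filter (fun g : X => orderOf g = n)) (t := Finset.univ)
    (fun _ _ => Finset.mem_coe.2 (Finset.mem_univ _))
  rw [hfib]
  apply Finset.dvd_sum
  intro c _
  by_cases hc : ∃ g : X, orderOf g = n ∧ ConjClasses.mk g = c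
  · obtain ⟨g, hgn, rfl⟩ := hc
    have hset : ((Finset.univ.filter (fun g : X => orderOf g = n)).filter
        (fun a => ConjClasses.mk a = ConjClasses.mk g)).card = Set.ncard {y : X | IsConj g y} := by
      rw [Set.ncard_eq_toFinset_card' ]
      congr 1
      ext a
      simp only [Finset.mem_filter, Finset.mem_univ, true_and, Set.mem_toFinset, Set.mem_ofPred_eq]
      constructor
      · rintro ⟨_, ha⟩
        exact (ConjClasses.mk_eq_mk_iff_isConj.1 ha).symm
      · intro ha
        refine ⟨?_, (ConjClasses.mk_eq_mk_iff_isConj.2 ha).symm⟩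
        obtain ⟨c, hc⟩ := isConj_iff.1 ha
        have h1 : SemiconjBy c g a := by
          unfold SemiconjBy
          rw [← hc, inv_mul_cancel_right]
        rw [← h1.orderOf_eq, hgn]
    rw [hset, ncard_conj_eq_div]
    exact h g hgn
  · have hempty : ((Finset.univ.filter (fun g : X => orderOf g = n)).filter
        (fun a => ConjClasses.mk a = c)) = ∅ := by
      rw [Finset.eq_empty_iff_forall_notMem]
      intro a ha
      rw [Finset.mem_filter, Finset.mem_filter] at ha
      exact hc ⟨a, ha.1.2, ha.2⟩
    rw [hempty, Finset.card_empty]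
    exact dvd_zero _

end Cfsg.Agent.Lib.H16.NSE
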