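import Cfsg.Agent.Lib.H13.O7Defs

set_option autoImplicit false
set_option linter.unusedVariables false
set_option linter.unusedSectionVars false
set_option linter.dupNamespace false

/-!
# Transport lemmas for the abstract core of S2647 (helper16, for helper13)

* `core_of_equiv`: `Core` is invariant under group isomorphism.
* `core_of_coreIn`: the relative version `CoreIn H` gives `Core ↥H`.
* `commEquiv`: an isomorphism induces an isomorphism of derived subgroups.
-/

namespace Cfsg.Agent.Lib.H13.O7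

open Matrix Equiv Cfsg

variable {F : Type*} [Field F]

theorem core_of_equiv {G G' : Type*} [Group G] [Group G'] (Θ : G ≃* G') (h : Core G') :
    Core G := by
  obtain ⟨S', hcard, hv, hN, hsc⟩ := h
  refine ⟨S'.comap Θ.toMonoidHom, ?_, ?_, ?_, ?_⟩
  · have e : ↥(S'.comap Θ.toMonoidHom) ≃ ↥S' :=
      { toFun := fun x => ⟨Θ x.1, x.2⟩
        invFun := fun y => ⟨Θ.symm y.1, by
          show Θ (Θ.symm y.1) ∈ S'
          rw [MulEquiv.apply_symm_apply]
          exact y.2⟩
        left_inv := fun x => Subtype.ext (Θ.symm_apply_apply x.1)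
        right_inv := fun y => Subtype.ext (Θ.apply_symm_apply y.1) }
    rw [Nat.card_congr e, hcard]
  · rw [Nat.card_congr Θ.toEquiv, hv]
  · intro g hg
    show Θ g ∈ S'
    apply hN
    rw [Subgroup.mem_normalizer_iff] at hg ⊢
    intro y
    have h1 := hg (Θ.symm y)
    have e1 : (Θ.symm y ∈ S'.comap Θ.toMonoidHom) ↔ y ∈ S' := by
      show Θ (Θ.symm y) ∈ S' ↔ _
      rw [MulEquiv.apply_symm_apply]
    have e2 : (g * Θ.symm y * g⁻¹ ∈ S'.comap Θ.toMonoidHom) ↔ Θ g * y * (Θ g)⁻¹ ∈ S' := by
      show Θ (g * Θ.symm y * g⁻¹) ∈ S' ↔ _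
      rw [map_mul, map_mul, map_inv, MulEquiv.apply_symm_apply]
    rw [← e1, ← e2]
    exact h1
  · intro T hT
    obtain ⟨hT1, hT2⟩ := hT
    have hT' : Cfsg.IsStronglyClosed (T.comap Θ.symm.toMonoidHom) S' := by
      refine ⟨?_, ?_⟩
      · intro y hy
        have h1 : Θ.symm y ∈ T := hy
        have h2 : Θ (Θ.symm y) ∈ S' := hT1 h1
        rwa [MulEquiv.apply_symm_apply] at h2
      · intro y hy g' hg'
        have h1 : Θ.symm y ∈ T := hy
        show Θ.symm (g' * y * g'⁻¹) ∈ T
        rw [map_mul, map_mul, map_inv]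
        apply hT2 _ h1
        show Θ (Θ.symm g' * Θ.symm y * (Θ.symm g')⁻¹) ∈ S'
        rw [map_mul, map_mul, map_inv, MulEquiv.apply_symm_apply, MulEquiv.apply_symm_apply]
        exact hg'
    rcases hsc _ hT' with h0 | h0
    · left
      rw [Subgroup.eq_bot_iff_forall]
      intro x hx
      have h1 : Θ x ∈ T.comap Θ.symm.toMonoidHom := by
        show Θ.symm (Θ x) ∈ T
        rw [MulEquiv.symm_apply_apply]
        exact hx
      rw [h0, Subgroup.mem_bot] at h1
      exact (map_eq_one_iff Θ Θ.injective).1 h1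
    · right
      ext x
      have e1 : x ∈ T ↔ Θ x ∈ T.comap Θ.symm.toMonoidHom := by
        show _ ↔ Θ.symm (Θ x) ∈ T
        rw [MulEquiv.symm_apply_apply]
      rw [e1, h0]
      rfl

theorem core_of_coreIn {A : Type*} [Group A] (H : Subgroup A) (h : CoreIn H) : Core ↥H := by
  obtain ⟨S, hSH, hcard, hv, hN, hsc⟩ := h
  refine ⟨S.subgroupOf H, ?_, hv, ?_, ?_⟩
  · rw [Nat.card_congr (Subgroup.subgroupOfEquivOfLe hSH).toEquiv, hcard]
  · intro g hg
    rw [Subgroup.mem_normalizer_iff] at hg
    show (g : A) ∈ S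
    apply hN _ g.2
    intro x
    constructor
    · intro hx
      have h1 := (hg ⟨x, hSH hx⟩).1 hx
      exact h1
    · intro hx
      have hxH : x ∈ H := by
        have h1 : (g : A)⁻¹ * ((g : A) * x * (g : A)⁻¹) * (g : A) ∈ H :=
          H.mul_mem (H.mul_mem (H.inv_mem g.2) (hSH hx)) g.2
        have h2 : (g : A)⁻¹ * ((g : A) * x * (g : A)⁻¹) * (g : A) = x := by group
        rwa [h2] at h1
      have h1 := (hg ⟨x, hxH⟩).2 hx
      exact h1
  · intro T hT
    obtain ⟨hT1, hT2⟩ := hT
    have h1 : T.map H.subtype ≤ S := by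
      rintro _ ⟨x, hx, rfl⟩
      exact hT1 hx
    have h2 : ∀ x ∈ T.map H.subtype, ∀ g ∈ H, g * x * g⁻¹ ∈ S → g * x * g⁻¹ ∈ T.map H.subtype := by
      rintro _ ⟨x, hx, rfl⟩ g hg hgx
      refine ⟨⟨g, hg⟩ * x * ⟨g, hg⟩⁻¹, ?_, rfl⟩
      exact hT2 x hx ⟨g, hg⟩ hgx
    rcases hsc _ h1 h2 with h0 | h0
    · left
      rw [Subgroup.eq_bot_iff_forall]
      intro x hx
      have h3 : (x : A) ∈ T.map H.subtype := ⟨x, hx, rfl⟩
      rw [h0, Subgroup.mem_bot] at h3
      exact Subtype.ext h3
    · right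
      ext x
      constructor
      · intro hx
        exact hT1 hx
      · intro hx
        have h3 : (x : A) ∈ T.map H.subtype := by
          rw [h0]
          exact hx
        obtain ⟨y, hy, hyx⟩ := h3
        have : y = x := Subtype.ext hyx
        rwa [this] at hy

theorem tr16_map_commutator_equiv {G G' : Type*} [Group G] [Group G'] (Θ : G ≃* G') :
    (commutator G).map Θ.toMonoidHom = commutator G' := by
  rw [commutator_def, commutator_def, Subgroup.map_commutator,
    Subgroup.map_top_of_surjective _ Θ.surjective]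

noncomputable def commEquiv {G G' : Type*} [Group G] [Group G'] (Θ : G ≃* G') :
    ↥(commutator G) ≃* ↥(commutator G') :=
  (Θ.subgroupMap (commutator G)).trans (MulEquiv.subgroupCongr (tr16_map_commutator_equiv Θ))

end Cfsg.Agent.Lib.H13.O7
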