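import Mathlib
import Cfsg.Agent.Lib.H16.RTWDefs

/-!
# S3174 piece F2 (helper16): `⁅u, ᵗu⁆ ∈ Z₂` for `t` in the four-group `C_T(Z₂)/W`.
Also basic facts about a `Ctx` used by other pieces.
-/

set_option autoImplicit false

namespace Cfsg.Agent.Lib.H16.RTW

open scoped commutatorElement

variable {T : Type*} [Group T] [Finite T]

/-- `Z₃` commutes elementwise with `W`. -/
theorem Ctx.commute (c : Ctx T) {x : T} (hx : x ∈ Subgroup.upperCentralSeries T 3) {y : T}
    (hy : y ∈ c.W) : x * y = y * x := by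
  have hy' := hy
  rw [c.hW] at hy'
  exact Subgroup.mem_centralizer_iff.mp hy' x hx

theorem Ctx.conj_mem (c : Ctx T) {u : T} (hu : u ∈ c.W) (t : T) : t * u * t⁻¹ ∈ c.W :=
  c.hWn.conj_mem u hu t

/-- `⁅v, u * e⁆ = ⁅v, u⁆` if `e` commutes with `v`. -/
theorem comm_mul_right_of_comm {G : Type*} [Group G] {v u e : G} (h : e * v = v * e) :
    ⁅v, u * e⁆ = ⁅v, u⁆ := by
  rw [commutatorElement_def, commutatorElement_def]
  have h1 : e * v⁻¹ * e⁻¹ = v⁻¹ := by
    have : e * v⁻¹ = v⁻¹ * e := by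
      calc e * v⁻¹ = v⁻¹ * (v * e) * v⁻¹ := by group
        _ = v⁻¹ * (e * v) * v⁻¹ := by rw [h]
        _ = v⁻¹ * e := by group
    rw [this]; group
  calc v * (u * e) * v⁻¹ * (u * e)⁻¹ = v * u * (e * v⁻¹ * e⁻¹) * u⁻¹ := by group
    _ = v * u * v⁻¹ * u⁻¹ := by rw [h1]

/-- `⁅v, e * u⁆ = ⁅v, u⁆` if `e` commutes with `v` and `u`. -/
theorem comm_mul_left_of_comm {G : Type*} [Group G] {v u e : G} (h : e * v = v * e)
    (h' : e * u = u * e) : ⁅v, e * u⁆ = ⁅v, u⁆ := by
  rw [h', comm_mul_right_of_comm h]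

/-- an element of `UT3` with `a = 0` squares to one -/
theorem UT3.mul_self_of_a (g : UT3) (h : g.a = 0) : g * g = 1 := by
  revert h; revert g; decide

/-- **F2**: for `t` in the four-group `C_T(Z₂)/W` (`a = 0`) and `u ∈ W`: `⁅u, ᵗu⁆ ∈ Z₂`. -/
theorem comm_conj_mem (c : Ctx T) (k : Coord c) (t : T) (ht : (k.φ t).a = 0) (u : T) (hu : u ∈ c.W) :
    ⁅u, t * u * t⁻¹⁆ ∈ Subgroup.upperCentralSeries T 2 := by
  have hv : t * u * t⁻¹ ∈ c.W := c.conj_mem hu t
  by_cases h1 : k.φ t = 1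
  · -- `t ∈ W`
    have htW : t ∈ c.W := by rw [← k.hker]; exact h1
    have he : ⁅t, u⁆ ∈ Subgroup.upperCentralSeries T 3 := c.hcomm t htW u hu
    have h2 : t * u * t⁻¹ = ⁅t, u⁆ * u := by rw [commutatorElement_def]; group
    have h3 : ⁅u, t * u * t⁻¹⁆ = 1 := by
      rw [h2, comm_mul_left_of_comm (c.commute he hu) (c.commute he hu), commutatorElement_self]
    rw [h3]; exact Subgroup.one_mem _
  · set e := ⁅u, t * u * t⁻¹⁆ with he
    have heZ : e ∈ Subgroup.upperCentralSeries T 3 := c.hcomm u hu _ hv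
    have hs : t * t ∈ c.W := by
      rw [← k.hker, MonoidHom.mem_ker, map_mul]
      exact UT3.mul_self_of_a _ ht
    have he'' : ⁅t * t, u⁆ ∈ Subgroup.upperCentralSeries T 3 := c.hcomm _ hs u hu
    have h2 : t * (t * u * t⁻¹) * t⁻¹ = ⁅t * t, u⁆ * u := by rw [commutatorElement_def]; group
    have h3 : t * e * t⁻¹ = ⁅t * u * t⁻¹, t * (t * u * t⁻¹) * t⁻¹⁆ := by
      rw [he, commutatorElement_def, commutatorElement_def]; group
    have h4 : t * e * t⁻¹ = e⁻¹ := by
      rw [h3, h2, comm_mul_left_of_comm (c.commute he'' hv) (c.commute he'' hu), he,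
        commutatorElement_inv]
    have h5 : e⁻¹ = e := by
      have h6 := c.hexp e heZ
      rw [pow_two] at h6
      exact inv_eq_of_mul_eq_one_left h6
    have h7 : t * e = e * t := by
      rw [h5] at h4
      calc t * e = t * e * t⁻¹ * t := by group
        _ = e * t := by rw [h4]
    exact k.hfix t ht h1 e heZ h7

end Cfsg.Agent.Lib.H16.RTW
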