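/-
S5634 farm-out (helper14), task B2, part a: root pairs `(w, ψ)` (`1 + w (cψ)ᵀ ∈ M` for all `c`), the commutator
calculus, in-block root pairs.  (helper16)
-/
import Cfsg.Agent.Lib.H14.C2Defs

set_option autoImplicit false

namespace Cfsg.Agent.Lib.H16.C2

open Matrix Cfsg.Agent.Lib.H14.C2

variable {F : Type*} [Field F]

section gen

variable {ι : Type} [Fintype ι] [DecidableEq ι]

theorem det_one_add_vmv (v φ : ι → F) : det (1 + vecMulVec v φ) = 1 + φ ⬝ᵥ v := by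
  rw [vecMulVec_eq Unit, det_one_add_replicateCol_mul_replicateRow]

theorem one_add_vmv_mul (a φ b χ : ι → F) :
    (1 + vecMulVec a φ) * (1 + vecMulVec b χ) =
      1 + vecMulVec a φ + vecMulVec b χ + (φ ⬝ᵥ b) • vecMulVec a χ := by
  rw [add_mul, mul_add, mul_add, one_mul, one_mul, mul_one, vecMulVec_mul_vecMulVec, vecMulVec_smul]
  abel

theorem one_add_vmv_mulVec (u φ w : ι → F) :
    (1 + vecMulVec u φ) *ᵥ w = w + (φ ⬝ᵥ w) • u := by
  rw [add_mulVec, one_mulVec, vecMulVec_mulVec]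
  congr 1
  ext p
  simp [mul_comm]

theorem vecMul_one_add_vmv (ψ u φ : ι → F) :
    ψ ᵥ* (1 + vecMulVec u φ) = ψ + (ψ ⬝ᵥ u) • φ := by
  rw [vecMul_add, vecMul_one, vecMul_vecMulVec]

/-- a purely ring-theoretic commutator identity -/
theorem ring_comm_id {R : Type*} [Ring R] (X Y : R) (hXX : X * X = 0) (hYY : Y * Y = 0)
    (hXY : X * Y = 0) : (1 - X) * (1 + Y) * (1 + X) * (1 - Y) = 1 + Y * X := by
  have h1 : (1 - X) * (1 + Y) = 1 + Y - X := by
    have : (1 - X) * (1 + Y) = 1 + Y - X - X * Y := by noncomm_ring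
    rw [this, hXY, sub_zero]
  have h2 : (1 + X) * (1 - Y) = 1 - Y + X := by
    have : (1 + X) * (1 - Y) = 1 - Y + X - X * Y := by noncomm_ring
    rw [this, hXY, sub_zero]
  have h3 : (1 + Y - X) * (1 - Y + X) = 1 + Y * X - Y * Y + X * Y - X * X := by noncomm_ring
  rw [mul_assoc ((1 - X) * (1 + Y)), h1, h2, h3, hXX, hYY, hXY]
  abel

/-- `M` contains the full root subgroup `{1 + w (cψ)ᵀ}`. -/
def Root (M : Subgroup (GL ι F)) (w ψ : ι → F) : Prop :=
  ∀ c : F, ∃ x ∈ M, (x : Matrix ι ι F) = 1 + Matrix.vecMulVec w (c • ψ)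

theorem Root.smul {M : Subgroup (GL ι F)} {w ψ : ι → F} (h : Root M w ψ) (k : F) :
    Root M w (k • ψ) := by
  intro c
  obtain ⟨x, hx, e⟩ := h (c * k)
  exact ⟨x, hx, by rw [e, smul_smul]⟩

theorem Root.of_smul {M : Subgroup (GL ι F)} {w ψ : ι → F} {k : F} (hk : k ≠ 0)
    (h : Root M w (k • ψ)) : Root M w ψ := by
  have := h.smul k⁻¹
  rwa [smul_smul, inv_mul_cancel₀ hk, one_smul] at this

/-- **(C1)** the commutator of two root subgroups. -/
theorem Root.comm {M : Subgroup (GL ι F)} {w ψ a φ : ι → F} (h1 : Root M w ψ) (h2 : Root M a φ)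
    (hψw : ψ ⬝ᵥ w = 0) (hφa : φ ⬝ᵥ a = 0) (hψa : ψ ⬝ᵥ a = 0) :
    Root M a ((φ ⬝ᵥ w) • ψ) := by
  intro c
  obtain ⟨x₁, hx₁, e₁⟩ := h1 (-c)
  obtain ⟨x₂, hx₂, e₂⟩ := h1 c
  obtain ⟨y₁, hy₁, f₁⟩ := h2 1
  obtain ⟨y₂, hy₂, f₂⟩ := h2 (-1)
  refine ⟨x₁ * y₁ * x₂ * y₂, M.mul_mem (M.mul_mem (M.mul_mem hx₁ hy₁) hx₂) hy₂, ?_⟩
  set X : Matrix ι ι F := vecMulVec w (c • ψ) with hX
  set Y : Matrix ι ι F := vecMulVec a φ with hY
  have e₁' : (x₁ : Matrix ι ι F) = 1 - X := by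
    rw [e₁, hX, neg_smul, vecMulVec_neg, sub_eq_add_neg]
  have f₁' : (y₁ : Matrix ι ι F) = 1 + Y := by rw [f₁, one_smul]
  have f₂' : (y₂ : Matrix ι ι F) = 1 - Y := by
    rw [f₂, hY, neg_smul, one_smul, vecMulVec_neg, sub_eq_add_neg]
  have hXX : X * X = 0 := by
    rw [hX, vecMulVec_mul_vecMulVec, smul_dotProduct, hψw, smul_zero, zero_smul, vecMulVec_zero]
  have hYY : Y * Y = 0 := by
    rw [hY, vecMulVec_mul_vecMulVec, hφa, zero_smul, vecMulVec_zero]
  have hXY : X * Y = 0 := by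
    rw [hX, hY, vecMulVec_mul_vecMulVec, smul_dotProduct, hψa, smul_zero, zero_smul, vecMulVec_zero]
  rw [Units.val_mul, Units.val_mul, Units.val_mul, e₁', f₁', e₂, f₂', ring_comm_id X Y hXX hYY hXY,
    hY, hX, vecMulVec_mul_vecMulVec, smul_comm]

/-- conjugation by an element of `M` fixing `w`, combined with additivity in the second slot. -/
theorem Root.sub_conj {M : Subgroup (GL ι F)} {w ψ : ι → F} (h : Root M w ψ) (hψw : ψ ⬝ᵥ w = 0)
    (k : GL ι F) (hk : k ∈ M) (hkw : (k : Matrix ι ι F) *ᵥ w = w) :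
    Root M w (ψ - ψ ᵥ* (k : Matrix ι ι F)) := by
  intro c
  obtain ⟨x₁, hx₁, e₁⟩ := h c
  obtain ⟨x₂, hx₂, e₂⟩ := h (-c)
  refine ⟨x₁ * (k⁻¹ * x₂ * k), M.mul_mem hx₁ (M.mul_mem (M.mul_mem (M.inv_mem hk) hx₂) hk), ?_⟩
  have hkw' : ((k⁻¹ : GL ι F) : Matrix ι ι F) *ᵥ w = w := by
    conv_lhs => rw [← hkw]
    rw [mulVec_mulVec, ← Units.val_mul, inv_mul_cancel, Units.val_one, one_mulVec]
  have hconj : ((k⁻¹ * x₂ * k : GL ι F) : Matrix ι ι F) =
      1 + vecMulVec w ((-c • ψ) ᵥ* (k : Matrix ι ι F)) := by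
    rw [Units.val_mul, Units.val_mul, e₂, mul_add, add_mul, mul_one, ← Units.val_mul, inv_mul_cancel,
      Units.val_one, mul_vecMulVec, vecMulVec_mul, hkw']
  rw [Units.val_mul, hconj, e₁, one_add_vmv_mul, smul_dotProduct, hψw, smul_zero, zero_smul, add_zero,
    add_assoc, ← vecMulVec_add]
  congr 2
  rw [smul_sub, neg_smul, neg_vecMul, smul_vecMul, sub_eq_add_neg]

end gen

/-! ### blocks -/

section blocks

variable {t m : ℕ}

/-- `v` is supported in block `i`. -/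
def inB (i : Fin t) (v : Fin t × Fin m → F) : Prop := ∀ p : Fin t × Fin m, p.1 ≠ i → v p = 0

theorem inB_single (p : Fin t × Fin m) (x : F) : inB p.1 (Pi.single p x : Fin t × Fin m → F) := by
  intro q hq
  rw [Pi.single_apply, if_neg]
  rintro rfl
  exact hq rfl

theorem inB.smul {i : Fin t} {v : Fin t × Fin m → F} (h : inB i v) (c : F) : inB i (c • v) := by
  intro p hp
  rw [Pi.smul_apply, h p hp, smul_zero]

theorem inB.sub {i : Fin t} {v v' : Fin t × Fin m → F} (h : inB i v) (h' : inB i v') :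
    inB i (v - v') := by
  intro p hp
  rw [Pi.sub_apply, h p hp, h' p hp, sub_zero]

theorem dot_eq_zero_of_inB {i j : Fin t} (hij : i ≠ j) {χ a : Fin t × Fin m → F} (hχ : inB j χ)
    (ha : inB i a) : χ ⬝ᵥ a = 0 := by
  unfold dotProduct
  refine Finset.sum_eq_zero fun p _ => ?_
  by_cases hp : p.1 = i
  · rw [hχ p (by rw [hp]; exact hij), zero_mul]
  · rw [ha p hp, mul_zero]

/-- a block-diagonal invertible matrix stabilises the standard decomposition. -/
theorem mem_blockStab_of_blockDiag (g : GL (Fin t × Fin m) F)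
    (h : ∀ p p' : Fin t × Fin m, p.1 ≠ p'.1 →
      (g : Matrix (Fin t × Fin m) (Fin t × Fin m) F) p p' = 0) : g ∈ blockStab t m F := by
  refine ⟨1, fun i => ?_⟩
  have hle : (stdD (F := F) t m i).map
      (Matrix.toLin' (g : Matrix (Fin t × Fin m) (Fin t × Fin m) F)) ≤ stdD t m i := by
    rintro _ ⟨v, hv, rfl⟩
    have hv' : ∀ p : Fin t × Fin m, p.1 ≠ i → v p = 0 := hv
    rw [mem_stdD]
    intro p hp
    rw [Matrix.toLin'_apply, Matrix.mulVec, dotProduct]
    refine Finset.sum_eq_zero fun p' _ => ?_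
    by_cases hp' : p'.1 = i
    · rw [h p p' (by rw [hp']; exact hp), zero_mul]
    · rw [hv' p' hp', mul_zero]
  have hinj : Function.Injective
      (Matrix.toLin' (g : Matrix (Fin t × Fin m) (Fin t × Fin m) F)) := by
    intro v v' hvv
    have h1 : ∀ z, Matrix.toLin' ((g⁻¹ : GL (Fin t × Fin m) F) : Matrix (Fin t × Fin m) (Fin t × Fin m) F)
        (Matrix.toLin' (g : Matrix (Fin t × Fin m) (Fin t × Fin m) F) z) = z := by
      intro z
      rw [← LinearMap.comp_apply, ← Matrix.toLin'_mul, ← Units.val_mul, inv_mul_cancel, Units.val_one,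
        Matrix.toLin'_one, LinearMap.id_apply]
    rw [← h1 v, hvv, h1]
  exact Submodule.eq_of_le_of_finrank_eq hle
    ((Submodule.equivMapOfInjective _ hinj _).finrank_eq).symm

theorem one_add_vmv_blockDiag {i : Fin t} {a φ : Fin t × Fin m → F} (ha : inB i a) (hφ : inB i φ)
    (p p' : Fin t × Fin m) (hpp' : p.1 ≠ p'.1) :
    (1 + vecMulVec a φ : Matrix (Fin t × Fin m) (Fin t × Fin m) F) p p' = 0 := by
  have hne : p ≠ p' := fun h => hpp' (by rw [h])
  rw [Matrix.add_apply, Matrix.one_apply_ne hne, zero_add, vecMulVec_apply]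
  by_cases hp : p.1 = i
  · rw [hφ p' (by rw [← hp]; exact hpp'.symm), mul_zero]
  · rw [ha p hp, zero_mul]

/-- in-block root pairs lie in `M`. -/
theorem root_of_inB (M : Subgroup (GL (Fin t × Fin m) F))
    (hHM : blockStab t m F ⊓ Cfsg.Geo.specialLinear (Fin t × Fin m) F ≤ M) {i : Fin t}
    {a φ : Fin t × Fin m → F} (ha : inB i a) (hφ : inB i φ) (h0 : φ ⬝ᵥ a = 0) : Root M a φ := by
  intro c
  have hdet : (1 + vecMulVec a (c • φ)).det = 1 := by
    rw [det_one_add_vmv, smul_dotProduct, h0, smul_zero, add_zero]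
  refine ⟨Matrix.GeneralLinearGroup.mkOfDetNeZero _ (by rw [hdet]; exact one_ne_zero),
    hHM (Subgroup.mem_inf.2 ⟨?_, ?_⟩), rfl⟩
  · apply mem_blockStab_of_blockDiag
    intro p p' hpp'
    exact one_add_vmv_blockDiag ha (hφ.smul c) p p' hpp'
  · rw [mem_sl_iff]
    exact hdet

end blocks

end Cfsg.Agent.Lib.H16.C2
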