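/-
S5634 farm-out (helper14), task B2: from a root pair `(w, ψ)` with `w` spread over two blocks to an off-block
elementary transvection.  (helper16)
-/
import Cfsg.Agent.Lib.H16.C2B2a

set_option autoImplicit false

namespace Cfsg.Agent.Lib.H16.C2

open Matrix Cfsg.Agent.Lib.H14.C2

variable {F : Type*} [Field F]

/-- a non-zero vector supported on two given coordinates and orthogonal to `ψ`. -/
theorem exists_perp_two {ι : Type} [Fintype ι] [DecidableEq ι] (p₁ p₂ : ι) (h : p₁ ≠ p₂) (ψ : ι → F) :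
    ∃ a : ι → F, a ≠ 0 ∧ ψ ⬝ᵥ a = 0 ∧ ∀ p, p ≠ p₁ → p ≠ p₂ → a p = 0 := by
  by_cases h0 : ψ p₁ = 0
  · refine ⟨Pi.single p₁ 1, ?_, ?_, ?_⟩
    · intro hc
      have := congrFun hc p₁
      rw [Pi.single_eq_same, Pi.zero_apply] at this
      exact one_ne_zero this
    · rw [dotProduct_single, h0, zero_mul]
    · intro p hp _
      rw [Pi.single_apply, if_neg hp]
  · refine ⟨ψ p₂ • Pi.single p₁ 1 - ψ p₁ • Pi.single p₂ 1, ?_, ?_, ?_⟩
    · intro hc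
      have := congrFun hc p₂
      rw [Pi.sub_apply, Pi.smul_apply, Pi.smul_apply, Pi.single_eq_same, Pi.single_apply,
        if_neg h.symm, smul_zero, zero_sub, Pi.zero_apply, smul_eq_mul, mul_one, neg_eq_zero] at this
      exact h0 this
    · rw [dotProduct_sub, dotProduct_smul, dotProduct_smul, dotProduct_single, dotProduct_single,
        mul_one, mul_one, smul_eq_mul, smul_eq_mul]
      ring
    · intro p hp hp'
      rw [Pi.sub_apply, Pi.smul_apply, Pi.smul_apply, Pi.single_apply, Pi.single_apply, if_neg hp,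
        if_neg hp', smul_zero, smul_zero, sub_zero]

section blocks

variable {t m : ℕ}

theorem exists_other (hm : 2 ≤ m) (k : Fin m) : ∃ k' : Fin m, k' ≠ k := by
  by_cases hk : k.val = 0
  · exact ⟨⟨1, by omega⟩, fun h => by
      have := congrArg Fin.val h
      simp only at this
      omega⟩
  · exact ⟨⟨0, by omega⟩, fun h => by
      have := congrArg Fin.val h
      simp only at this
      omega⟩

theorem exists_other_two (hm : 3 ≤ m) (k : Fin m) : ∃ k₁ k₂ : Fin m, k₁ ≠ k ∧ k₂ ≠ k ∧ k₁ ≠ k₂ := by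
  have key : ∀ (x y : ℕ) (hx : x < m) (hy : y < m), x ≠ k.val → y ≠ k.val → x ≠ y →
      ∃ k₁ k₂ : Fin m, k₁ ≠ k ∧ k₂ ≠ k ∧ k₁ ≠ k₂ := by
    intro x y hx hy hxk hyk hxy
    refine ⟨⟨x, hx⟩, ⟨y, hy⟩, ?_, ?_, ?_⟩
    · intro h; exact hxk (congrArg Fin.val h)
    · intro h; exact hyk (congrArg Fin.val h)
    · intro h; exact hxy (congrArg Fin.val h)
  by_cases h0 : k.val = 0
  · exact key 1 2 (by omega) (by omega) (by omega) (by omega) (by omega)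
  · by_cases h1 : k.val = 1
    · exact key 0 2 (by omega) (by omega) (by omega) (by omega) (by omega)
    · exact key 0 1 (by omega) (by omega) (by omega) (by omega) (by omega)

theorem exists_other_in_block (hm : 2 ≤ m) (p : Fin t × Fin m) :
    ∃ p' : Fin t × Fin m, p'.1 = p.1 ∧ p' ≠ p := by
  obtain ⟨k', hk'⟩ := exists_other hm p.2
  exact ⟨(p.1, k'), rfl, fun h => hk' (congrArg Prod.snd h)⟩

theorem exists_ne_zero_coord {v : Fin t × Fin m → F} (hv : v ≠ 0) : ∃ p, v p ≠ 0 := by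
  by_contra hcon
  push Not at hcon
  exact hv (funext hcon)

theorem fst_eq_of_inB {i : Fin t} {v : Fin t × Fin m → F} (h : inB i v) {p : Fin t × Fin m}
    (hp : v p ≠ 0) : p.1 = i := by
  by_contra hne
  exact hp (h p hne)

theorem single_ne_zero' (p : Fin t × Fin m) : (Pi.single p 1 : Fin t × Fin m → F) ≠ 0 := by
  intro hc
  have := congrFun hc p
  rw [Pi.single_eq_same, Pi.zero_apply] at this
  exact one_ne_zero this

/-- the restriction of a covector to block `i`. -/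
def res (i : Fin t) (ψ : Fin t × Fin m → F) : Fin t × Fin m → F :=
  fun p => if p.1 = i then ψ p else 0

theorem inB_res (i : Fin t) (ψ : Fin t × Fin m → F) : inB i (res i ψ) := by
  intro p hp
  unfold res
  rw [if_neg hp]

theorem res_dot_of_inB {i : Fin t} (ψ : Fin t × Fin m → F) {a : Fin t × Fin m → F} (ha : inB i a) :
    res i ψ ⬝ᵥ a = ψ ⬝ᵥ a := by
  unfold dotProduct
  refine Finset.sum_congr rfl fun p _ => ?_
  unfold res
  by_cases hp : p.1 = i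
  · rw [if_pos hp]
  · rw [if_neg hp, ha p hp, mul_zero, mul_zero]

/-- a vector in block `i` with prescribed pairing against a non-zero covector of block `i`. -/
theorem exists_inB_dot {i : Fin t} {φ : Fin t × Fin m → F} (hφ : inB i φ) (hφ0 : φ ≠ 0) (δ : F) :
    ∃ u : Fin t × Fin m → F, inB i u ∧ φ ⬝ᵥ u = δ := by
  obtain ⟨p, hp⟩ := exists_ne_zero_coord hφ0
  have hpi := fst_eq_of_inB hφ hp
  refine ⟨(δ / φ p) • Pi.single p 1, ?_, ?_⟩
  · rw [← hpi]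
    exact (inB_single p 1).smul _
  · rw [dotProduct_smul, dotProduct_single, mul_one, smul_eq_mul]
    field_simp

variable (M : Subgroup (GL (Fin t × Fin m) F))

/-- the conclusion of B2 -/
def OffElem : Prop :=
  ∃ (p p' : Fin t × Fin m) (h : p ≠ p') (c : F), p.1 ≠ p'.1 ∧ c ≠ 0 ∧ elemGL h c ∈ M

variable {M}

/-- an off-block root pair gives an off-block elementary transvection. -/
theorem finish (hm : 2 ≤ m)
    (hHM : blockStab t m F ⊓ Cfsg.Geo.specialLinear (Fin t × Fin m) F ≤ M) {i j : Fin t}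
    (hij : i ≠ j) {a χ : Fin t × Fin m → F} (ha : inB i a) (hχ : inB j χ) (ha0 : a ≠ 0)
    (hχ0 : χ ≠ 0) (hr : Root M a χ) : OffElem M := by
  obtain ⟨p₃, hp₃⟩ := exists_ne_zero_coord ha0
  have hp₃i := fst_eq_of_inB ha hp₃
  obtain ⟨p₄, hp₄i, hp₄⟩ := exists_other_in_block hm p₃
  obtain ⟨q₃, hq₃⟩ := exists_ne_zero_coord hχ0
  have hq₃j := fst_eq_of_inB hχ hq₃
  obtain ⟨q₄, hq₄j, hq₄⟩ := exists_other_in_block hm q₃
  have hp₄i' : p₄.1 = i := hp₄i.trans hp₃i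
  have hq₄j' : q₄.1 = j := hq₄j.trans hq₃j
  -- first slot
  have hB4 : inB i (Pi.single p₄ 1 : Fin t × Fin m → F) := hp₄i' ▸ inB_single p₄ 1
  have hB3 : inB i (Pi.single p₃ 1 : Fin t × Fin m → F) := hp₃i ▸ inB_single p₃ 1
  have hr1 : Root M (Pi.single p₄ 1) (Pi.single p₃ 1) := by
    refine root_of_inB M hHM hB4 hB3 ?_
    rw [dotProduct_single, mul_one, Pi.single_apply, if_neg hp₄]
  have h1 := Root.comm hr hr1 (dot_eq_zero_of_inB hij hχ ha)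
    (by rw [dotProduct_single, mul_one, Pi.single_apply, if_neg hp₄])
    (dot_eq_zero_of_inB hij hχ hB4)
  rw [single_dotProduct, one_mul] at h1
  have h2 : Root M (Pi.single p₄ 1) χ := Root.of_smul hp₃ h1
  -- second slot
  have hC3 : inB j (Pi.single q₃ 1 : Fin t × Fin m → F) := hq₃j ▸ inB_single q₃ 1
  have hC4 : inB j (Pi.single q₄ 1 : Fin t × Fin m → F) := hq₄j' ▸ inB_single q₄ 1
  have hr2 : Root M (Pi.single q₃ 1) (Pi.single q₄ 1) := by
    refine root_of_inB M hHM hC3 hC4 ?_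
    rw [dotProduct_single, mul_one, Pi.single_apply, if_neg hq₄.symm]
  have h3 := Root.comm hr2 h2
    (by rw [dotProduct_single, mul_one, Pi.single_apply, if_neg hq₄.symm])
    (dot_eq_zero_of_inB hij hχ hB4) (dot_eq_zero_of_inB hij hC4 hB4)
  rw [dotProduct_single, mul_one] at h3
  have h4 : Root M (Pi.single p₄ 1) (Pi.single q₄ 1) := Root.of_smul hq₃ h3
  obtain ⟨x, hx, ex⟩ := h4 1
  have hne : p₄ ≠ q₄ := by
    intro h
    apply hij
    rw [← hp₄i', ← hq₄j', h]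
  refine ⟨p₄, q₄, hne, 1, ?_, one_ne_zero, ?_⟩
  · rw [hp₄i', hq₄j']; exact hij
  · have : x = elemGL hne 1 := by
      apply Units.ext
      rw [ex, elemGL_val, one_smul, single_eq_single_vecMulVec_single]
    rw [← this]; exact hx

/-- step X: a root pair `(a, ψ)` with `a` in block `i` and `ψ` non-zero outside block `i`. -/
theorem stepX (hm : 2 ≤ m)
    (hHM : blockStab t m F ⊓ Cfsg.Geo.specialLinear (Fin t × Fin m) F ≤ M) {i : Fin t}
    {a ψ : Fin t × Fin m → F} (ha : inB i a) (ha0 : a ≠ 0) (hψa : ψ ⬝ᵥ a = 0) (hr : Root M a ψ)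
    {p₁ : Fin t × Fin m} (hp₁ : p₁.1 ≠ i) (hψp₁ : ψ p₁ ≠ 0) : OffElem M := by
  obtain ⟨p₂, hp₂j, hp₂⟩ := exists_other_in_block hm p₁
  have hB1 : inB p₁.1 (Pi.single p₁ 1 : Fin t × Fin m → F) := inB_single p₁ 1
  have hB2 : inB p₁.1 (Pi.single p₂ 1 : Fin t × Fin m → F) := hp₂j ▸ inB_single p₂ 1
  have hr1 : Root M (Pi.single p₁ 1) (Pi.single p₂ 1) := by
    refine root_of_inB M hHM hB1 hB2 ?_
    rw [dotProduct_single, mul_one, Pi.single_apply, if_neg hp₂.symm]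
  have h1 := Root.comm hr1 hr
    (by rw [dotProduct_single, mul_one, Pi.single_apply, if_neg hp₂.symm]) hψa
    (dot_eq_zero_of_inB (Ne.symm hp₁) hB2 ha)
  rw [dotProduct_single, mul_one] at h1
  have h2 : Root M a (Pi.single p₂ 1) := Root.of_smul hψp₁ h1
  exact finish hm hHM (Ne.symm hp₁) ha hB2 ha0 (single_ne_zero' p₂) h2

/-- a "good" block. -/
theorem of_good (hm : 2 ≤ m)
    (hHM : blockStab t m F ⊓ Cfsg.Geo.specialLinear (Fin t × Fin m) F ≤ M)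
    {w ψ : Fin t × Fin m → F} (hψw : ψ ⬝ᵥ w = 0) (hr : Root M w ψ) {i : Fin t}
    {a φ : Fin t × Fin m → F} (ha : inB i a) (hφ : inB i φ) (ha0 : a ≠ 0) (hψa : ψ ⬝ᵥ a = 0)
    (hφa : φ ⬝ᵥ a = 0) (hφw : φ ⬝ᵥ w ≠ 0) {p₁ : Fin t × Fin m} (hp₁ : p₁.1 ≠ i)
    (hψp₁ : ψ p₁ ≠ 0) : OffElem M := by
  have h1 := Root.comm hr (root_of_inB M hHM ha hφ hφa) hψw hφa hψa
  have h2 : Root M a ψ := Root.of_smul hφw h1
  exact stepX hm hHM ha ha0 hψa h2 hp₁ hψp₁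

/-- case (a): `ψ` vanishes on a block where `w` does not. -/
theorem caseA (hm : 2 ≤ m)
    (hHM : blockStab t m F ⊓ Cfsg.Geo.specialLinear (Fin t × Fin m) F ≤ M)
    {w ψ : Fin t × Fin m → F} (hψw : ψ ⬝ᵥ w = 0) (hψ : ψ ≠ 0) (hr : Root M w ψ)
    {p : Fin t × Fin m} (hwp : w p ≠ 0) (hψi : ∀ p' : Fin t × Fin m, p'.1 = p.1 → ψ p' = 0) :
    OffElem M := by
  obtain ⟨p', hp'i, hp'⟩ := exists_other_in_block hm p
  obtain ⟨p₁, hp₁⟩ := exists_ne_zero_coord hψ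
  have hp₁i : p₁.1 ≠ p.1 := fun h => hp₁ (hψi p₁ h)
  refine of_good hm hHM hψw hr (i := p.1) (a := Pi.single p' 1) (φ := Pi.single p 1)
    (hp'i ▸ inB_single p' 1) (inB_single p 1) (single_ne_zero' p') ?_ ?_ ?_ hp₁i hp₁
  · rw [dotProduct_single, mul_one]; exact hψi p' hp'i
  · rw [dotProduct_single, mul_one, Pi.single_apply, if_neg hp']
  · rw [single_dotProduct, one_mul]; exact hwp

/-- case (b1): `ψ_i · w_i ≠ 0`. -/
theorem caseB1 (hm : 2 ≤ m)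
    (hHM : blockStab t m F ⊓ Cfsg.Geo.specialLinear (Fin t × Fin m) F ≤ M)
    {w ψ : Fin t × Fin m → F} (hψw : ψ ⬝ᵥ w = 0) (hr : Root M w ψ) {i : Fin t}
    (hi : res i ψ ⬝ᵥ w ≠ 0) {p₁ : Fin t × Fin m} (hp₁ : p₁.1 ≠ i) (hψp₁ : ψ p₁ ≠ 0) :
    OffElem M := by
  obtain ⟨k', hk'⟩ := exists_other hm (⟨0, by omega⟩ : Fin m)
  have hne : ((i, k') : Fin t × Fin m) ≠ (i, ⟨0, by omega⟩) := fun h => hk' (congrArg Prod.snd h)
  obtain ⟨a, ha0, hψa, hsupp⟩ := exists_perp_two _ _ hne ψ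
  have ha : inB i a := by
    intro p hp
    apply hsupp p
    · rintro rfl; exact hp rfl
    · rintro rfl; exact hp rfl
  refine of_good hm hHM hψw hr ha (inB_res i ψ) ha0 hψa ?_ hi hp₁ hψp₁
  rw [res_dot_of_inB ψ ha]; exact hψa

/-- case (b2): `m ≥ 3`. -/
theorem caseB2 (hm : 3 ≤ m)
    (hHM : blockStab t m F ⊓ Cfsg.Geo.specialLinear (Fin t × Fin m) F ≤ M)
    {w ψ : Fin t × Fin m → F} (hψw : ψ ⬝ᵥ w = 0) (hr : Root M w ψ) {p : Fin t × Fin m}
    (hwp : w p ≠ 0) {p₁ : Fin t × Fin m} (hp₁ : p₁.1 ≠ p.1) (hψp₁ : ψ p₁ ≠ 0) : OffElem M := by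
  obtain ⟨k₁, k₂, hk₁, hk₂, hk₁₂⟩ := exists_other_two hm p.2
  have hne : ((p.1, k₁) : Fin t × Fin m) ≠ (p.1, k₂) := fun h => hk₁₂ (congrArg Prod.snd h)
  obtain ⟨a, ha0, hψa, hsupp⟩ := exists_perp_two _ _ hne ψ
  have ha : inB p.1 a := by
    intro q hq
    apply hsupp q
    · rintro rfl; exact hq rfl
    · rintro rfl; exact hq rfl
  have hap : a p = 0 := by
    apply hsupp p
    · intro h; exact hk₁ (congrArg Prod.snd h).symm
    · intro h; exact hk₂ (congrArg Prod.snd h).symm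
  refine of_good (by omega) hHM hψw hr ha (inB_single p 1) ha0 hψa ?_ ?_ hp₁ hψp₁
  · rw [single_dotProduct, one_mul]; exact hap
  · rw [single_dotProduct, one_mul]; exact hwp

theorem exists_ne_zero_one [Fintype F] (hq : 3 ≤ Fintype.card F) : ∃ c : F, c ≠ 0 ∧ c ≠ 1 := by
  classical
  by_contra hcon
  push Not at hcon
  have : Fintype.card F ≤ 2 := by
    have hsub : (Finset.univ : Finset F) ⊆ {0, 1} := by
      intro c _
      by_cases hc : c = 0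
      · simp [hc]
      · simp [hcon c hc]
    calc Fintype.card F = (Finset.univ : Finset F).card := Finset.card_univ.symm
      _ ≤ ({0, 1} : Finset F).card := Finset.card_le_card hsub
      _ ≤ 2 := Finset.card_le_two
  omega

/-- case (c): the degenerate case, using a block-diagonal element of determinant one which is not unipotent. -/
theorem caseC [Fintype F] (hm : 2 ≤ m) (hq : 3 ≤ Fintype.card F)
    (hHM : blockStab t m F ⊓ Cfsg.Geo.specialLinear (Fin t × Fin m) F ≤ M)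
    {w ψ : Fin t × Fin m → F} (hψw : ψ ⬝ᵥ w = 0) (hr : Root M w ψ)
    {p' q₁ : Fin t × Fin m} {i₃ : Fin t} (hwp' : w p' ≠ 0) (hq₁ : ψ q₁ ≠ 0) (h12 : q₁.1 ≠ p'.1)
    (h31 : i₃ ≠ q₁.1) (h32 : i₃ ≠ p'.1) (hi : res q₁.1 ψ ⬝ᵥ w = 0) : OffElem M := by
  obtain ⟨c, hc0, hc1⟩ := exists_ne_zero_one hq
  set φ₁ := res q₁.1 ψ with hφ₁def
  have hφ₁ : inB q₁.1 φ₁ := inB_res _ _
  have hφ₁q : φ₁ q₁ = ψ q₁ := by rw [hφ₁def]; unfold res; rw [if_pos rfl]
  have hφ₁0 : φ₁ ≠ 0 := by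
    intro h
    apply hq₁
    rw [← hφ₁q, h, Pi.zero_apply]
  obtain ⟨u₁, hu₁, hd₁⟩ := exists_inB_dot hφ₁ hφ₁0 (c - 1)
  obtain ⟨k', hk'⟩ := exists_other hm (⟨0, by omega⟩ : Fin m)
  have hne : ((i₃, k') : Fin t × Fin m) ≠ (i₃, ⟨0, by omega⟩) := fun h => hk' (congrArg Prod.snd h)
  obtain ⟨φ₃, hφ₃0, hwφ₃, hsupp⟩ := exists_perp_two _ _ hne w
  have hφ₃ : inB i₃ φ₃ := by
    intro p hp
    apply hsupp p
    · rintro rfl; exact hp rfl
    · rintro rfl; exact hp rfl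
  have hφ₃w : φ₃ ⬝ᵥ w = 0 := by rw [dotProduct_comm]; exact hwφ₃
  obtain ⟨u₃, hu₃, hd₃⟩ := exists_inB_dot hφ₃ hφ₃0 (c⁻¹ - 1)
  have hdet₁ : (1 + vecMulVec u₁ φ₁).det = c := by rw [det_one_add_vmv, hd₁]; ring
  have hdet₃ : (1 + vecMulVec u₃ φ₃).det = c⁻¹ := by rw [det_one_add_vmv, hd₃]; ring
  set K₁ : GL (Fin t × Fin m) F :=
    Matrix.GeneralLinearGroup.mkOfDetNeZero (1 + vecMulVec u₁ φ₁) (by rw [hdet₁]; exact hc0) with hK₁
  set K₃ : GL (Fin t × Fin m) F :=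
    Matrix.GeneralLinearGroup.mkOfDetNeZero (1 + vecMulVec u₃ φ₃)
      (by rw [hdet₃]; exact inv_ne_zero hc0) with hK₃
  have hK₁v : (K₁ : Matrix (Fin t × Fin m) (Fin t × Fin m) F) = 1 + vecMulVec u₁ φ₁ := rfl
  have hK₃v : (K₃ : Matrix (Fin t × Fin m) (Fin t × Fin m) F) = 1 + vecMulVec u₃ φ₃ := rfl
  have hk : K₁ * K₃ ∈ M := by
    refine hHM (Subgroup.mem_inf.2 ⟨?_, ?_⟩)
    · refine (blockStab t m F).mul_mem ?_ ?_
      · apply mem_blockStab_of_blockDiag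
        intro p p' hpp'
        rw [hK₁v]
        exact one_add_vmv_blockDiag hu₁ hφ₁ p p' hpp'
      · apply mem_blockStab_of_blockDiag
        intro p p' hpp'
        rw [hK₃v]
        exact one_add_vmv_blockDiag hu₃ hφ₃ p p' hpp'
    · rw [mem_sl_iff, Units.val_mul, Matrix.det_mul, hK₁v, hK₃v, hdet₁, hdet₃, mul_inv_cancel₀ hc0]
  have hkw : ((K₁ * K₃ : GL (Fin t × Fin m) F) : Matrix (Fin t × Fin m) (Fin t × Fin m) F) *ᵥ w = w := by
    rw [Units.val_mul, ← mulVec_mulVec, hK₃v, one_add_vmv_mulVec, hφ₃w, zero_smul, add_zero, hK₁v,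
      one_add_vmv_mulVec, hi, zero_smul, add_zero]
  have hr' := Root.sub_conj hr hψw _ hk hkw
  have hψu₁ : ψ ⬝ᵥ u₁ = c - 1 := by rw [← res_dot_of_inB ψ hu₁]; exact hd₁
  set κ : F := (ψ + (c - 1) • φ₁) ⬝ᵥ u₃ with hκ
  have hψ' : ψ - ψ ᵥ* ((K₁ * K₃ : GL (Fin t × Fin m) F) : Matrix (Fin t × Fin m) (Fin t × Fin m) F) =
      -((c - 1) • φ₁) - κ • φ₃ := by
    rw [Units.val_mul, ← vecMul_vecMul, hK₁v, hK₃v, vecMul_one_add_vmv, vecMul_one_add_vmv, hψu₁, ← hκ]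
    abel
  rw [hψ'] at hr'
  have hc1' : c - 1 ≠ 0 := sub_ne_zero.2 hc1
  refine caseA hm hHM (w := w) (ψ := -((c - 1) • φ₁) - κ • φ₃) ?_ ?_ hr' hwp' ?_
  · rw [sub_dotProduct, neg_dotProduct, smul_dotProduct, smul_dotProduct, hi, hφ₃w, smul_zero,
      smul_zero, neg_zero, sub_zero]
  · intro h
    have := congrFun h q₁
    rw [Pi.sub_apply, Pi.neg_apply, Pi.smul_apply, Pi.smul_apply, hφ₃ q₁ (Ne.symm h31), smul_zero,
      sub_zero, Pi.zero_apply, neg_eq_zero, hφ₁q, smul_eq_mul] at this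
    rcases mul_eq_zero.1 this with h' | h'
    · exact hc1' h'
    · exact hq₁ h'
  · intro q hq
    rw [Pi.sub_apply, Pi.neg_apply, Pi.smul_apply, Pi.smul_apply,
      hφ₁ q (by rw [hq]; exact Ne.symm h12), hφ₃ q (by rw [hq]; exact Ne.symm h32), smul_zero,
      smul_zero, neg_zero, sub_zero]

/-- **B2** (exact signature of tools/blueprints/S5634_sigs.lean, with `RootIn` unfolded). -/
theorem offElem_of_root [Fintype F] (t m : ℕ) (hm : 2 ≤ m) (ht : 2 ≤ t)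
    (h2 : m = 2 → 3 ≤ t ∧ 3 ≤ Fintype.card F)
    (M : Subgroup (GL (Fin t × Fin m) F))
    (hHM : blockStab t m F ⊓ Cfsg.Geo.specialLinear (Fin t × Fin m) F ≤ M)
    (w ψ : Fin t × Fin m → F) (hψw : ψ ⬝ᵥ w = 0) (hψ : ψ ≠ 0)
    (hroot : ∀ c : F, ∃ x ∈ M,
      (x : Matrix (Fin t × Fin m) (Fin t × Fin m) F) = 1 + Matrix.vecMulVec w (c • ψ))
    (hw : ∃ p p' : Fin t × Fin m, p.1 ≠ p'.1 ∧ w p ≠ 0 ∧ w p' ≠ 0) :
    ∃ (p p' : Fin t × Fin m) (h : p ≠ p') (c : F), p.1 ≠ p'.1 ∧ c ≠ 0 ∧ elemGL h c ∈ M := by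
  have hr : Root M w ψ := hroot
  obtain ⟨p, p', hpp', hwp, hwp'⟩ := hw
  show OffElem M
  by_cases hA1 : ∀ q : Fin t × Fin m, q.1 = p.1 → ψ q = 0
  · exact caseA hm hHM hψw hψ hr hwp hA1
  by_cases hA2 : ∀ q : Fin t × Fin m, q.1 = p'.1 → ψ q = 0
  · exact caseA hm hHM hψw hψ hr hwp' hA2
  push Not at hA1 hA2
  obtain ⟨q₁, hq₁i, hq₁⟩ := hA1
  obtain ⟨q₂, hq₂i, hq₂⟩ := hA2
  by_cases hm3 : 3 ≤ m
  · exact caseB2 hm3 hHM hψw hr hwp (by rw [hq₂i]; exact Ne.symm hpp') hq₂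
  obtain ⟨ht3, hq3⟩ := h2 (by omega)
  by_cases hB1 : res q₁.1 ψ ⬝ᵥ w = 0
  · obtain ⟨k₁, k₂, hk₁, hk₂, hk₁₂⟩ := exists_other_two ht3 p.1
    have h12 : q₁.1 ≠ p'.1 := by rw [hq₁i]; exact hpp'
    by_cases hk : k₁ = p'.1
    · refine caseC hm hq3 hHM hψw hr (i₃ := k₂) hwp' hq₁ h12 (by rw [hq₁i]; exact hk₂) ?_ hB1
      rw [← hk]; exact Ne.symm hk₁₂
    · exact caseC hm hq3 hHM hψw hr (i₃ := k₁) hwp' hq₁ h12 (by rw [hq₁i]; exact hk₁) hk hB1
  · exact caseB1 hm hHM hψw hr hB1 (by rw [hq₂i, hq₁i]; exact Ne.symm hpp') hq₂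

end blocks

end Cfsg.Agent.Lib.H16.C2
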