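import Mathlib

set_option autoImplicit false

namespace Cfsg.Agent.Lib.H16

/-- If `C` is a characteristic subgroup of index two in a finite group `X`, `C` is a 2-group and
`MulAut C` is a 2-group, then `MulAut X` is a 2-group. -/
theorem isPGroup_mulAut_of_char_index_two {X : Type*} [Group X] [Finite X] (C : Subgroup X)
    [C.Characteristic] (hidx : C.index = 2) (hC : IsPGroup 2 C) (hA : IsPGroup 2 (MulAut C)) :
    IsPGroup 2 (MulAut X) := by
  intro σ
  obtain ⟨a, ha⟩ := hA (MulAut.characteristic C σ)
  obtain ⟨b, hb⟩ := IsPGroup.iff_card.mp hC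
  have hexp : ∀ c ∈ C, c ^ (2 ^ b) = 1 := by
    intro c hc
    have h1 : (⟨c, hc⟩ : C) ^ (Nat.card C) = 1 := pow_card_eq_one'
    rw [hb] at h1
    have := congrArg (fun z : C => (z : X)) h1
    simpa using this
  have hfix : ∀ c ∈ C, (σ ^ (2 ^ a)) c = c := by
    intro c hc
    have h1 : MulAut.characteristic C (σ ^ (2 ^ a)) = 1 := by rw [map_pow, ha]
    have h3 : (((MulAut.characteristic C (σ ^ (2 ^ a))) ⟨c, hc⟩ : C) : X) = (σ ^ (2 ^ a)) c := rfl
    rw [h1] at h3
    exact h3.symm
  have hfixpow : ∀ (n : ℕ) (c : X), c ∈ C → ((σ ^ (2 ^ a)) ^ n) c = c := by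
    intro n
    induction n with
    | zero => intro c _; simp
    | succ n ih =>
      intro c hc
      rw [pow_succ', MulAut.mul_apply, ih c hc, hfix c hc]
  refine ⟨a + b, ?_⟩
  rw [pow_add, pow_mul]
  ext g
  rw [MulAut.one_apply]
  by_cases hg : g ∈ C
  · exact hfixpow _ g hg
  · have hρg : (σ ^ (2 ^ a)) g ∉ C := by
      intro hmem
      apply hg
      have hch := (Subgroup.characteristic_iff_le_comap.mp (inferInstance : C.Characteristic))
        ((σ ^ (2 ^ a)).symm) hmem
      simpa using hch
    have hd : g⁻¹ * (σ ^ (2 ^ a)) g ∈ C := by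
      rw [Subgroup.mul_mem_iff_of_index_two hidx, inv_mem_iff]
      exact ⟨fun h => absurd h hg, fun h => absurd h hρg⟩
    have key : ∀ n : ℕ, ((σ ^ (2 ^ a)) ^ n) g = g * (g⁻¹ * (σ ^ (2 ^ a)) g) ^ n := by
      intro n
      induction n with
      | zero => simp
      | succ n ih =>
        rw [pow_succ', MulAut.mul_apply, ih, map_mul, map_pow, hfix _ hd, pow_succ' _ n]
        simp [mul_assoc]
    rw [key, hexp _ hd, mul_one]

/-- If `|X| = 2 * orderOf x` and no element outside `⟨x⟩` has the same order as `x`, then `⟨x⟩` is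
a characteristic subgroup. -/
theorem zpowers_characteristic_of_orderOf_ne {X : Type*} [Group X] (x : X)
    (hne : ∀ g : X, g ∉ Subgroup.zpowers x → orderOf g ≠ orderOf x) :
    (Subgroup.zpowers x).Characteristic := by
  rw [Subgroup.characteristic_iff_map_le]
  intro φ
  rw [MonoidHom.map_zpowers, Subgroup.zpowers_le]
  by_contra hcon
  exact hne _ hcon (MulEquiv.orderOf_eq φ x)

/-- Index of `⟨x⟩` when `|X| = 2 * orderOf x`. -/
theorem zpowers_index_two {X : Type*} [Group X] [Finite X] (x : X)
    (hcard : Nat.card X = 2 * orderOf x) : (Subgroup.zpowers x).index = 2 := by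
  have h1 := Subgroup.card_mul_index (Subgroup.zpowers x)
  rw [Nat.card_zpowers, hcard] at h1
  have hpos : 0 < orderOf x := orderOf_pos x
  have : orderOf x * (Subgroup.zpowers x).index = orderOf x * 2 := by rw [h1, mul_comm]
  exact Nat.eq_of_mul_eq_mul_left hpos this

/-- The automorphism group of a finite cyclic 2-group is a 2-group. -/
theorem isPGroup_mulAut_of_isCyclic {C : Type*} [Group C] [Finite C] [IsCyclic C]
    (hC : IsPGroup 2 C) : IsPGroup 2 (MulAut C) := by
  obtain ⟨k, hk⟩ := IsPGroup.iff_card.mp hC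
  rcases Nat.eq_zero_or_pos k with h0 | h0
  · apply IsPGroup.of_card (n := 0)
    rw [IsCyclic.card_mulAut, hk, h0, pow_zero, Nat.totient_one]
  · apply IsPGroup.of_card (n := k - 1)
    rw [IsCyclic.card_mulAut, hk, Nat.totient_prime_pow Nat.prime_two h0]
    simp

/-- Combined criterion: a finite 2-group with an element `x` such that `|X| = 2 * orderOf x` and no
element outside `⟨x⟩` has the order of `x` has a 2-group as automorphism group. -/
theorem isPGroup_mulAut_of_cyclic_index_two {X : Type*} [Group X] [Finite X] (h2 : IsPGroup 2 X)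
    (x : X) (hcard : Nat.card X = 2 * orderOf x)
    (hne : ∀ g : X, g ∉ Subgroup.zpowers x → orderOf g ≠ orderOf x) :
    IsPGroup 2 (MulAut X) := by
  have := zpowers_characteristic_of_orderOf_ne x hne
  exact isPGroup_mulAut_of_char_index_two (Subgroup.zpowers x) (zpowers_index_two x hcard)
    (h2.to_subgroup _) (isPGroup_mulAut_of_isCyclic (h2.to_subgroup _))

end Cfsg.Agent.Lib.H16
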