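import Mathlib

/-!
# S4885 farm-out, piece FRAT (helper16)
-/

set_option autoImplicit false

namespace Cfsg.Agent.Lib.H16.PQ

/-- FRAT: a normal subgroup of `G` inside the Frattini subgroup of some subgroup `K` lies in
`Φ(G)`. -/
theorem le_frattini_of_le_frattini_subgroup {G : Type*} [Group G] [Finite G]
    (N : Subgroup G) [N.Normal] (K : Subgroup G)
    (h : N ≤ (frattini K).map K.subtype) : N ≤ frattini G := by
  unfold frattini Order.radical
  refine le_iInf₂ ?_
  intro M hM
  by_contra hNM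
  have hsup : N ⊔ M = ⊤ :=
    hM.2 _ (lt_of_le_of_ne le_sup_right (fun heq => hNM (heq ▸ le_sup_left)))
  have hNK : N ≤ K := h.trans (Subgroup.map_subtype_le _)
  have hK : M.subgroupOf K ⊔ frattini ↥K = ⊤ := by
    rw [eq_top_iff]
    rintro ⟨k, hk⟩ -
    have hk' : k ∈ N ⊔ M := hsup ▸ Subgroup.mem_top k
    obtain ⟨n, hn, m, hm, hnm⟩ := Subgroup.mem_sup_of_normal_left.mp hk'
    obtain ⟨n', hn', hn'n⟩ := h hn
    have hmK : m ∈ K := by
      have : m = n⁻¹ * k := by rw [← hnm]; group
      rw [this]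
      exact K.mul_mem (K.inv_mem (hNK hn)) hk
    have hkeq : (⟨k, hk⟩ : ↥K) = n' * ⟨m, hmK⟩ := by
      apply Subtype.ext
      show k = (n' : G) * m
      have : (n' : G) = n := hn'n
      rw [this, hnm]
    rw [hkeq]
    exact Subgroup.mul_mem _ (Subgroup.mem_sup_right hn')
      (Subgroup.mem_sup_left (Subgroup.mem_subgroupOf.mpr hm))
  have htop : M.subgroupOf K = ⊤ := frattini_nongenerating hK
  have hKM : K ≤ M := Subgroup.subgroupOf_eq_top.mp htop
  exact hNM (hNK.trans hKM)

end Cfsg.Agent.Lib.H16.PQ
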