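import Mathlib
import Cfsg.Agent.Lib.H2.HermCount
import Cfsg.Agent.Lib.H4.Herm

/-!
# S2335 / S2334 (Landazuri-Seitz bound for `SU_n(q)`, architect helper15, blueprint by lead), piece H (helper16):
the ORBIT LEMMA.

`F` a field with `q²` elements, `m ≥ 2`, `S` a set of `m × m` matrices invariant under `Z ↦ g^* Z g`
(`g ∈ SL_m(F)`, `g^* = (g^{(q)})ᵀ`) containing a non-zero hermitian matrix: then `(q + 1) |S| ≥ q^{2m} - 1`.

Proof (uniform, no case split on the rank): for every index `i` the set `S` contains a hermitian matrix with non-zero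
`(i,i)` entry; with the unipotent elements `Tm i c = 1 + e_i cᵀ` and the diagonal elements `Dm i i' l` one produces, for
every non-zero fixed `b`, and every choice of the entries `c_j` (`j < i`), an element `Z` of `S` with `Z_ii = b`,
`Z_jj = 0` for `j > i` (solve a norm equation for `c_j`, `j > i`) and `Z_ji = (Y_b)_ji + c_j^q b` for `j < i`.  These are
`(q - 1) q^{2 i}` distinct elements with "last non-zero diagonal entry at `i`"; summing over `i` gives
`(q - 1)(q^{2m} - 1)/(q² - 1)`.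
-/

set_option autoImplicit false

namespace Cfsg.Agent.Lib.H16.LS

open Matrix

section abstract

variable {F : Type*} [Field F] {m : ℕ}

/-- conjugate transpose w.r.t. a ring endomorphism -/
def cs (φ : F →+* F) (g : Matrix (Fin m) (Fin m) F) : Matrix (Fin m) (Fin m) F := (g.map φ)ᵀ

/-- the unipotent matrix with row `i` equal to `e_i + c` -/
def Tm (i : Fin m) (c : Fin m → F) : Matrix (Fin m) (Fin m) F := 1 + vecMulVec (Pi.single i 1) c

theorem det_Tm (i : Fin m) (c : Fin m → F) (hc : c i = 0) : (Tm i c).det = 1 := by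
  unfold Tm
  rw [vecMulVec_eq Unit, det_one_add_replicateCol_mul_replicateRow]
  simp [hc]

theorem cs_Tm (φ : F →+* F) (i : Fin m) (c : Fin m → F) :
    cs φ (Tm i c) = 1 + vecMulVec (fun a => φ (c a)) (Pi.single i 1) := by
  ext a b
  simp only [cs, Tm, Matrix.transpose_apply, Matrix.map_apply, Matrix.add_apply, Matrix.one_apply,
    Matrix.vecMulVec_apply, Pi.single_apply, map_add, map_mul]
  by_cases hab : a = b
  · subst hab
    by_cases hai : a = i
    · simp [hai]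
    · simp [hai]
  · have hba : ¬ b = a := fun h => hab h.symm
    by_cases hbi : b = i
    · subst hbi
      have hab' : ¬ b = a := hba
      simp [hab, hab', mul_comm]
    · simp [hab, hba, hbi]

theorem act_Tm (φ : F →+* F) (i : Fin m) (c : Fin m → F) (Z : Matrix (Fin m) (Fin m) F) (j k : Fin m) :
    (cs φ (Tm i c) * Z * Tm i c) j k
      = Z j k + φ (c j) * Z i k + Z j i * c k + φ (c j) * Z i i * c k := by
  rw [cs_Tm]
  unfold Tm
  rw [Matrix.add_mul, Matrix.one_mul, Matrix.mul_add, Matrix.mul_one, Matrix.add_mul, vecMulVec_mul,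
    mul_vecMulVec, vecMulVec_mul_vecMulVec]
  simp only [Matrix.add_apply, Matrix.vecMulVec_apply, Pi.smul_apply, smul_eq_mul]
  simp [Matrix.vecMul, Matrix.mulVec, dotProduct, Pi.single_apply]
  ring
def Dm (i i' : Fin m) (l : F) : Matrix (Fin m) (Fin m) F :=
  diagonal (fun j => if j = i then l else if j = i' then l⁻¹ else 1)

theorem det_Dm (i i' : Fin m) (h : i ≠ i') (l : F) (hl : l ≠ 0) : (Dm i i' l).det = 1 := by
  unfold Dm
  rw [det_diagonal, Fintype.prod_eq_mul i i' h]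
  · simp [h.symm, hl]
  · intro x hx
    simp [hx.1, hx.2]

theorem act_Dm_ii (φ : F →+* F) (i i' : Fin m) (l : F) (Z : Matrix (Fin m) (Fin m) F) :
    (cs φ (Dm i i' l) * Z * Dm i i' l) i i = φ l * Z i i * l := by
  unfold Dm cs
  rw [diagonal_map (map_zero φ), diagonal_transpose, mul_diagonal, diagonal_mul]
  simp

theorem cs_mul (φ : F →+* F) (A B : Matrix (Fin m) (Fin m) F) : cs φ (A * B) = cs φ B * cs φ A := by
  unfold cs
  rw [Matrix.map_mul, transpose_mul]

theorem cs_cs (φ : F →+* F) (hφφ : ∀ x, φ (φ x) = x) (A : Matrix (Fin m) (Fin m) F) :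
    cs φ (cs φ A) = A := by
  ext a b
  simp [cs, hφφ]

theorem isH_act (φ : F →+* F) (hφφ : ∀ x, φ (φ x) = x) (g Z : Matrix (Fin m) (Fin m) F)
    (hZ : cs φ Z = Z) : cs φ (cs φ g * Z * g) = cs φ g * Z * g := by
  rw [cs_mul, cs_mul, cs_cs φ hφφ, hZ, Matrix.mul_assoc]

theorem isH_apply (φ : F →+* F) (Z : Matrix (Fin m) (Fin m) F) (hZ : cs φ Z = Z) (a b : Fin m) :
    φ (Z a b) = Z b a := by
  have h := congrFun (congrFun hZ b) a
  simpa [cs] using h

theorem norm_complete (φ : F →+* F) (hφφ : ∀ x, φ (φ x) = x) (b d A y : F) (hb : b ≠ 0) (hbf : φ b = b) :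
    d + φ (y - φ A / b) * φ A + A * (y - φ A / b) + φ (y - φ A / b) * b * (y - φ A / b)
      = d + b * (y * φ y) - A * φ A / b := by
  rw [map_sub, map_div₀, hφφ, hbf]
  field_simp
  ring

theorem exists_family [Fintype F] [DecidableEq F] (φ : F →+* F) (hφφ : ∀ x, φ (φ x) = x)
    (hN : ∀ c, φ c = c → ∃ x, x * φ x = c) (hm : 2 ≤ m)
    (S : Set (Matrix (Fin m) (Fin m) F))
    (hS : ∀ Z ∈ S, ∀ g : Matrix (Fin m) (Fin m) F, g.det = 1 → cs φ g * Z * g ∈ S)
    (i : Fin m) (Y : Matrix (Fin m) (Fin m) F) (hYS : Y ∈ S) (hYh : cs φ Y = Y) (hYi : Y i i ≠ 0) :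
    ∃ f : {b : F // φ b = b ∧ b ≠ 0} × ({j : Fin m // j < i} → F) → Matrix (Fin m) (Fin m) F,
      (∀ p, f p ∈ S) ∧ (∀ p, f p i i = p.1.1) ∧ (∀ p, ∀ j, i < j → f p j j = 0) ∧
        Function.Injective f := by
  classical
  have hnt : Nontrivial (Fin m) := Fin.nontrivial_iff_two_le.2 hm
  obtain ⟨i', hi'⟩ := exists_ne i
  have haf : φ (Y i i) = Y i i := isH_apply φ Y hYh i i
  have h1 : ∀ b : {b : F // φ b = b ∧ b ≠ 0}, ∃ Yb : Matrix (Fin m) (Fin m) F,
      Yb ∈ S ∧ cs φ Yb = Yb ∧ Yb i i = b.1 := by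
    intro b
    obtain ⟨l, hl⟩ := hN (b.1 / Y i i) (by rw [map_div₀, b.2.1, haf])
    have hl0 : l ≠ 0 := by
      rintro rfl
      rw [zero_mul] at hl
      have := (div_eq_zero_iff.1 hl.symm)
      rcases this with h | h
      · exact b.2.2 h
      · exact hYi h
    refine ⟨cs φ (Dm i i' l) * Y * Dm i i' l, hS Y hYS _ (det_Dm i i' hi'.symm l hl0),
      isH_act φ hφφ _ _ hYh, ?_⟩
    rw [act_Dm_ii]
    field_simp at hl
    linear_combination hl
  choose Yb hYbS hYbh hYbi using h1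
  have h2 : ∀ (b : {b : F // φ b = b ∧ b ≠ 0}) (j : Fin m), ∃ x : F,
      Yb b j j + φ x * Yb b i j + Yb b j i * x + φ x * Yb b i i * x = 0 := by
    intro b j
    have hbb : Yb b i i ≠ 0 := by rw [hYbi]; exact b.2.2
    have hbf : φ (Yb b i i) = Yb b i i := isH_apply φ _ (hYbh b) i i
    have hdf : φ (Yb b j j) = Yb b j j := isH_apply φ _ (hYbh b) j j
    have hA : φ (Yb b j i) = Yb b i j := isH_apply φ _ (hYbh b) j i
    obtain ⟨y, hy⟩ := hN ((Yb b j i * φ (Yb b j i) / Yb b i i - Yb b j j) / Yb b i i) (by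
      rw [map_div₀, map_sub, map_div₀, map_mul, hφφ, hbf, hdf, mul_comm])
    refine ⟨y - φ (Yb b j i) / Yb b i i, ?_⟩
    have h := norm_complete φ hφφ (Yb b i i) (Yb b j j) (Yb b j i) y hbb hbf
    rw [hA] at h hy ⊢
    rw [h, hy]
    field_simp
    ring
  choose s hs using h2
  let c : {b : F // φ b = b ∧ b ≠ 0} → ({j : Fin m // j < i} → F) → Fin m → F :=
    fun b c' j => if h : j < i then c' ⟨j, h⟩ else if j = i then 0 else s b j
  have hci : ∀ b c', c b c' i = 0 := by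
    intro b c'
    simp [c]
  have hclt : ∀ b c' (j : Fin m) (h : j < i), c b c' j = c' ⟨j, h⟩ := by
    intro b c' j h
    simp [c, h]
  have hcgt : ∀ b c' (j : Fin m), i < j → c b c' j = s b j := by
    intro b c' j h
    have h1 : ¬ j < i := not_lt.2 h.le
    have h2 : j ≠ i := ne_of_gt h
    simp [c, h1, h2]
  refine ⟨fun p => cs φ (Tm i (c p.1 p.2)) * Yb p.1 * Tm i (c p.1 p.2), ?_, ?_, ?_, ?_⟩
  · intro p
    exact hS _ (hYbS p.1) _ (det_Tm i _ (hci _ _))
  · intro p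
    show (cs φ (Tm i (c p.1 p.2)) * Yb p.1 * Tm i (c p.1 p.2)) i i = p.1.1
    rw [act_Tm, hci, hYbi]
    simp
  · intro p j hj
    show (cs φ (Tm i (c p.1 p.2)) * Yb p.1 * Tm i (c p.1 p.2)) j j = 0
    rw [act_Tm, hcgt _ _ j hj]
    exact hs p.1 j
  · intro p p' hpp
    have hpp' : (cs φ (Tm i (c p.1 p.2)) * Yb p.1 * Tm i (c p.1 p.2))
        = (cs φ (Tm i (c p'.1 p'.2)) * Yb p'.1 * Tm i (c p'.1 p'.2)) := hpp
    have e1 := congrFun (congrFun hpp' i) i
    rw [act_Tm, act_Tm, hci, hci, hYbi, hYbi] at e1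
    simp only [map_zero, zero_mul, mul_zero, add_zero] at e1
    have hb : p.1 = p'.1 := Subtype.ext e1
    have hc : p.2 = p'.2 := by
      funext ⟨j, hj⟩
      have e2 := congrFun (congrFun hpp' j) i
      rw [act_Tm, act_Tm, hci, hci, hclt _ _ j hj, hclt _ _ j hj, ← hb, hYbi] at e2
      simp only [mul_zero, add_zero] at e2
      have e3 : φ (p.2 ⟨j, hj⟩) * p.1.1 = φ (p'.2 ⟨j, hj⟩) * p.1.1 := add_left_cancel e2
      have e4 := mul_right_cancel₀ p.1.2.2 e3
      have e5 := congrArg φ e4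
      rwa [hφφ, hφφ] at e5
    exact Prod.ext hb hc

theorem exists_diag_ne_one (φ : F →+* F) (htr : ∃ t : F, t + φ t ≠ 0)
    (S : Set (Matrix (Fin m) (Fin m) F))
    (hS : ∀ Z ∈ S, ∀ g : Matrix (Fin m) (Fin m) F, g.det = 1 → cs φ g * Z * g ∈ S)
    (hφφ : ∀ x, φ (φ x) = x)
    (Y : Matrix (Fin m) (Fin m) F) (hYS : Y ∈ S) (hY : Y ≠ 0) (hYh : cs φ Y = Y) :
    ∃ (i : Fin m) (Y1 : Matrix (Fin m) (Fin m) F), Y1 ∈ S ∧ cs φ Y1 = Y1 ∧ Y1 i i ≠ 0 := by
  by_cases h : ∃ i, Y i i ≠ 0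
  · obtain ⟨i, hi⟩ := h
    exact ⟨i, Y, hYS, hYh, hi⟩
  · push Not at h
    have h1 : ∃ i j, Y i j ≠ 0 := by
      by_contra hcon
      push Not at hcon
      apply hY
      ext a b
      exact hcon a b
    obtain ⟨i, j, hij⟩ := h1
    have hne : i ≠ j := by
      rintro rfl
      exact hij (h i)
    obtain ⟨t0, ht0⟩ := htr
    have hc : (Pi.single i (t0 / Y i j) : Fin m → F) j = 0 := by
      rw [Pi.single_apply, if_neg hne.symm]
    refine ⟨i, cs φ (Tm j (Pi.single i (t0 / Y i j))) * Y * Tm j (Pi.single i (t0 / Y i j)),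
      hS Y hYS _ (det_Tm j _ hc), isH_act φ hφφ _ _ hYh, ?_⟩
    rw [act_Tm, Pi.single_eq_same, h i, h j, ← isH_apply φ Y hYh i j, ← map_mul, mul_zero, zero_mul,
      zero_add, add_zero, div_mul_cancel₀ _ hij, mul_div_cancel₀ _ hij, add_comm]
    exact ht0

theorem exists_diag_ne (φ : F →+* F) (htr : ∃ t : F, t + φ t ≠ 0)
    (S : Set (Matrix (Fin m) (Fin m) F))
    (hS : ∀ Z ∈ S, ∀ g : Matrix (Fin m) (Fin m) F, g.det = 1 → cs φ g * Z * g ∈ S)
    (hφφ : ∀ x, φ (φ x) = x)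
    (Y : Matrix (Fin m) (Fin m) F) (hYS : Y ∈ S) (hY : Y ≠ 0) (hYh : cs φ Y = Y) (i : Fin m) :
    ∃ (Yi : Matrix (Fin m) (Fin m) F), Yi ∈ S ∧ cs φ Yi = Yi ∧ Yi i i ≠ 0 := by
  obtain ⟨i0, Y1, hY1S, hY1h, hY1⟩ := exists_diag_ne_one φ htr S hS hφφ Y hYS hY hYh
  by_cases hi : i = i0
  · subst hi
    exact ⟨Y1, hY1S, hY1h, hY1⟩
  · have hbf : φ (Y1 i0 i0) = Y1 i0 i0 := isH_apply φ Y1 hY1h i0 i0
    have hA : φ (Y1 i i0) = Y1 i0 i := isH_apply φ Y1 hY1h i i0
    have key : ∀ y : F, ∃ (Yi : Matrix (Fin m) (Fin m) F), Yi ∈ S ∧ cs φ Yi = Yi ∧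
        Yi i i = Y1 i i + Y1 i0 i0 * (y * φ y) - Y1 i i0 * φ (Y1 i i0) / Y1 i0 i0 := by
      intro y
      have hc : (Pi.single i (y - φ (Y1 i i0) / Y1 i0 i0) : Fin m → F) i0 = 0 := by
        rw [Pi.single_apply, if_neg (Ne.symm hi)]
      refine ⟨cs φ (Tm i0 (Pi.single i (y - φ (Y1 i i0) / Y1 i0 i0))) * Y1 *
          Tm i0 (Pi.single i (y - φ (Y1 i i0) / Y1 i0 i0)),
        hS Y1 hY1S _ (det_Tm i0 _ hc), isH_act φ hφφ _ _ hY1h, ?_⟩
      rw [act_Tm, Pi.single_eq_same, ← hA]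
      exact norm_complete φ hφφ (Y1 i0 i0) (Y1 i i) (Y1 i i0) y hY1 hbf
    by_cases hd : Y1 i i - Y1 i i0 * φ (Y1 i i0) / Y1 i0 i0 = 0
    · obtain ⟨Yi, h1, h2, h3⟩ := key 1
      refine ⟨Yi, h1, h2, ?_⟩
      rw [h3, map_one, mul_one, mul_one]
      have : Y1 i i + Y1 i0 i0 - Y1 i i0 * φ (Y1 i i0) / Y1 i0 i0 = Y1 i0 i0 := by
        linear_combination hd
      rw [this]
      exact hY1
    · obtain ⟨Yi, h1, h2, h3⟩ := key 0
      refine ⟨Yi, h1, h2, ?_⟩
      rw [h3, map_zero, mul_zero, mul_zero, add_zero]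
      exact hd

theorem card_ge_abstract [Fintype F] [DecidableEq F] (φ : F →+* F) (hφφ : ∀ x, φ (φ x) = x)
    (hN : ∀ c, φ c = c → ∃ x, x * φ x = c) (htr : ∃ t : F, t + φ t ≠ 0)
    (r : ℕ) (hfix : r ≤ Fintype.card {b : F // φ b = b ∧ b ≠ 0}) (hm : 2 ≤ m)
    (S : Set (Matrix (Fin m) (Fin m) F))
    (hS : ∀ Z ∈ S, ∀ g : Matrix (Fin m) (Fin m) F, g.det = 1 → cs φ g * Z * g ∈ S)
    (Y : Matrix (Fin m) (Fin m) F) (hYS : Y ∈ S) (hY : Y ≠ 0) (hYh : cs φ Y = Y) :
    ∑ i : Fin m, r * (Fintype.card F) ^ (i : ℕ) ≤ S.ncard := by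
  classical
  have h1 := exists_diag_ne φ htr S hS hφφ Y hYS hY hYh
  choose Yi hYiS hYih hYii using h1
  have h2 := fun i => exists_family φ hφφ hN hm S hS i (Yi i) (hYiS i) (hYih i) (hYii i)
  choose f hfS hfi hfj hfinj using h2
  let G : (Σ i : Fin m, {b : F // φ b = b ∧ b ≠ 0} × ({j : Fin m // j < i} → F)) →
      Matrix (Fin m) (Fin m) F := fun x => f x.1 x.2
  have hGinj : Function.Injective G := by
    rintro ⟨i, p⟩ ⟨i', p'⟩ hxx
    have hxx' : f i p = f i' p' := hxx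
    have hii : i = i' := by
      rcases lt_trichotomy i i' with h | h | h
      · exfalso
        have e1 := hfj i p i' h
        rw [hxx', hfi] at e1
        exact p'.1.2.2 e1
      · exact h
      · exfalso
        have e1 := hfj i' p' i h
        rw [← hxx', hfi] at e1
        exact p.1.2.2 e1
    subst hii
    have := hfinj i hxx'
    rw [this]
  have hGS : Set.range G ⊆ S := by
    rintro _ ⟨x, rfl⟩
    exact hfS x.1 x.2
  have h3 : (Set.range G).ncard ≤ S.ncard := Set.ncard_le_ncard hGS (Set.toFinite S)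
  rw [Set.ncard_range_of_injective hGinj, Nat.card_eq_fintype_card, Fintype.card_sigma] at h3
  refine le_trans (Finset.sum_le_sum ?_) h3
  intro i _
  rw [Fintype.card_prod, Fintype.card_fun]
  have h4 : Fintype.card {j : Fin m // j < i} = (i : ℕ) := by
    rw [← Fintype.card_fin_lt_of_le (n := m) (m := (i : ℕ)) i.2.le]
    exact Fintype.card_congr (Equiv.subtypeEquivRight (fun j => Fin.lt_def))
  rw [h4]
  exact Nat.mul_le_mul_right _ hfix

end abstract

section concrete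

variable {F : Type*} [Field F] [Fintype F] {q : ℕ}

theorem ls_card_le_of_forall_pow_eq {K : Type*} [Field K] (T : Finset K) {k : ℕ} (hk : 1 < k)
    (h : ∀ x ∈ T, x ^ k = x) : T.card ≤ k := by
  classical
  have hne : (Polynomial.X ^ k - Polynomial.X : Polynomial K) ≠ 0 :=
    FiniteField.X_pow_card_sub_X_ne_zero K hk
  have hdeg := FiniteField.X_pow_card_sub_X_natDegree_eq K hk
  rw [← hdeg]
  apply Polynomial.card_le_degree_of_subset_roots
  intro x hx
  rw [Polynomial.mem_roots hne]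
  have hx' : x ∈ T := by simpa using hx
  simp [h x hx']

theorem ls_exists_pow_ne (hF : Fintype.card F = q ^ 2) : ∃ c : F, c ^ q ≠ c := by
  classical
  by_contra h
  push Not at h
  have hq := Cfsg.Agent.Lib.H2.Herm.two_le_q hF
  have := ls_card_le_of_forall_pow_eq (Finset.univ : Finset F) (by omega : 1 < q) (fun x _ => h x)
  rw [Finset.card_univ, hF] at this
  nlinarith

/-- the norm `x ↦ x * x ^ q` is onto the fixed field -/
theorem ls_exists_norm (hF : Fintype.card F = q ^ 2) (c : F) (hc : c ^ q = c) : ∃ x : F, x * x ^ q = c := by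
  by_cases hc0 : c = 0
  · refine ⟨0, ?_⟩
    rw [hc0, zero_mul]
  · have h := Cfsg.Agent.Lib.H2.Herm.card_N_fiber hF c hc0 hc
    have hpos : 0 < Nat.card {x : F // Cfsg.Agent.Lib.H2.Herm.N q x = c} := by
      rw [h]
      omega
    obtain ⟨x⟩ := (Nat.card_pos_iff.1 hpos).1
    exact ⟨x.1, x.2⟩

/-- a non-zero trace -/
theorem ls_exists_trace (hF : Fintype.card F = q ^ 2) : ∃ t : F, t + t ^ q ≠ 0 := by
  by_contra h
  push Not at h
  obtain ⟨c, hc⟩ := ls_exists_pow_ne hF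
  have h1 := h 1
  rw [one_pow] at h1
  have h2 : c ^ q = -c := by
    have := h c
    linear_combination this
  apply hc
  rw [h2]
  have h3 : c * (1 + 1) = 0 := by rw [h1, mul_zero]
  linear_combination -h3

/-- there are at least `q - 1` non-zero fixed elements -/
theorem ls_card_fixed (hF : Fintype.card F = q ^ 2) [DecidableEq F] :
    q - 1 ≤ Fintype.card {b : F // b ^ q = b ∧ b ≠ 0} := by
  classical
  have hq := Cfsg.Agent.Lib.H2.Herm.two_le_q hF
  let ν : {x : F // x ≠ 0} → {b : F // b ^ q = b ∧ b ≠ 0} := fun x =>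
    ⟨Cfsg.Agent.Lib.H2.Herm.N q x.1, Cfsg.Agent.Lib.H2.Herm.N_pow_q hF x.1,
      fun h => x.2 ((Cfsg.Agent.Lib.H2.Herm.N_eq_zero_iff hF x.1).1 h)⟩
  have h1 : (Finset.univ : Finset {x : F // x ≠ 0}).card ≤
      (q + 1) * ((Finset.univ : Finset {x : F // x ≠ 0}).image ν).card := by
    apply Finset.card_le_mul_card_image
    intro a _
    have h2 := Cfsg.Agent.Lib.H2.Herm.card_N_fiber hF a.1 a.2.2 a.2.1
    rw [Nat.card_eq_fintype_card] at h2
    rw [← h2, ← Fintype.card_subtype]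
    apply Fintype.card_le_of_injective
      (fun x : {x : {x : F // x ≠ 0} // ν x = a} =>
        (⟨x.1.1, congrArg Subtype.val x.2⟩ : {x : F // Cfsg.Agent.Lib.H2.Herm.N q x = a.1}))
    intro x y hxy
    have := congrArg Subtype.val hxy
    exact Subtype.ext (Subtype.ext this)
  have h3 : ((Finset.univ : Finset {x : F // x ≠ 0}).image ν).card ≤
      Fintype.card {b : F // b ^ q = b ∧ b ≠ 0} := by
    rw [← Finset.card_univ]
    exact Finset.card_le_card (Finset.subset_univ _)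
  have h4 : (Finset.univ : Finset {x : F // x ≠ 0}).card = q ^ 2 - 1 := by
    rw [Finset.card_univ, Fintype.card_subtype_compl, Fintype.card_subtype_eq, hF]
  rw [h4] at h1
  have h5 : q ^ 2 - 1 = (q + 1) * (q - 1) := by
    obtain ⟨r, rfl⟩ : ∃ r, q = r + 1 := ⟨q - 1, by omega⟩
    simp only [Nat.add_sub_cancel]
    have : (r + 1) ^ 2 = (r + 1 + 1) * r + 1 := by ring
    rw [this, Nat.add_sub_cancel]
  rw [h5] at h1
  have h6 := le_trans h1 (Nat.mul_le_mul_left _ h3)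
  exact Nat.le_of_mul_le_mul_left h6 (by omega)

theorem ls_geom (a m : ℕ) (ha : 1 ≤ a) : (a - 1) * ∑ i ∈ Finset.range m, a ^ i + 1 = a ^ m := by
  obtain ⟨b, rfl⟩ : ∃ b, a = b + 1 := ⟨a - 1, by omega⟩
  simp only [Nat.add_sub_cancel]
  induction m with
  | zero => simp
  | succ k ih =>
    rw [Finset.sum_range_succ, mul_add, add_right_comm, ih]
    ring

/-- **S2335 piece H, the orbit lemma**: an `SL_m(q²)`-invariant set of matrices (action `Z ↦ g^* Z g`) containing a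
non-zero hermitian matrix has at least `(q^{2m} - 1)/(q + 1)` elements (`m ≥ 2`). -/
theorem card_orbit_ge [DecidableEq F] (hF : Fintype.card F = q ^ 2) {m : ℕ} (hm : 2 ≤ m)
    (S : Set (Matrix (Fin m) (Fin m) F))
    (hS : ∀ Z ∈ S, ∀ g : Matrix.SpecialLinearGroup (Fin m) F,
      ((g : Matrix (Fin m) (Fin m) F).map (· ^ q))ᵀ * Z * (g : Matrix (Fin m) (Fin m) F) ∈ S)
    (Y : Matrix (Fin m) (Fin m) F) (hYS : Y ∈ S) (hY : Y ≠ 0) (hYh : ∀ i j, Y j i = (Y i j) ^ q) :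
    q ^ (2 * m) - 1 ≤ (q + 1) * S.ncard := by
  obtain ⟨φ, hφ, hφφ⟩ := Cfsg.Agent.Lib.H4.exists_frob hF
  have hq := Cfsg.Agent.Lib.H2.Herm.two_le_q hF
  have hN : ∀ c, φ c = c → ∃ x, x * φ x = c := by
    intro c hc
    rw [hφ] at hc
    obtain ⟨x, hx⟩ := ls_exists_norm hF c hc
    exact ⟨x, by rw [hφ]; exact hx⟩
  have htr : ∃ t : F, t + φ t ≠ 0 := by
    obtain ⟨t, ht⟩ := ls_exists_trace hF
    exact ⟨t, by rw [hφ]; exact ht⟩
  have hfix : q - 1 ≤ Fintype.card {b : F // φ b = b ∧ b ≠ 0} := by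
    have h := ls_card_fixed hF
    have e : {b : F // b ^ q = b ∧ b ≠ 0} ≃ {b : F // φ b = b ∧ b ≠ 0} :=
      Equiv.subtypeEquivRight (fun b => by rw [hφ])
    rwa [Fintype.card_congr e] at h
  have hS' : ∀ Z ∈ S, ∀ g : Matrix (Fin m) (Fin m) F, g.det = 1 → cs φ g * Z * g ∈ S := by
    intro Z hZ g hg
    have h := hS Z hZ ⟨g, hg⟩
    have e : (g.map (· ^ q)) = g.map φ := by
      ext a b
      simp [hφ]
    change ((g.map (· ^ q))ᵀ * Z * g ∈ S) at h
    rw [e] at h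
    exact h
  have hYh' : cs φ Y = Y := by
    ext a b
    simp only [cs, Matrix.transpose_apply, Matrix.map_apply, hφ]
    exact (hYh b a).symm
  have h := card_ge_abstract φ hφφ hN htr (q - 1) hfix hm S hS' Y hYS hY hYh'
  rw [hF, Fin.sum_univ_eq_sum_range (fun i => (q - 1) * (q ^ 2) ^ i) m, ← Finset.mul_sum] at h
  have hg := ls_geom (q ^ 2) m (by nlinarith)
  have h5 : q ^ 2 - 1 = (q + 1) * (q - 1) := by
    obtain ⟨r, rfl⟩ : ∃ r, q = r + 1 := ⟨q - 1, by omega⟩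
    simp only [Nat.add_sub_cancel]
    have : (r + 1) ^ 2 = (r + 1 + 1) * r + 1 := by ring
    rw [this, Nat.add_sub_cancel]
  have h6 : q ^ (2 * m) - 1 = (q + 1) * ((q - 1) * ∑ i ∈ Finset.range m, (q ^ 2) ^ i) := by
    rw [pow_mul, ← hg, Nat.add_sub_cancel, h5, mul_assoc]
  rw [h6]
  exact Nat.mul_le_mul_left _ h

/-- the `m = 1` version (torus acting by norms), used for `SU_3` -/
theorem card_orbit_ge_one [DecidableEq F] (hF : Fintype.card F = q ^ 2) (S : Set F)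
    (hS : ∀ z ∈ S, ∀ l : F, l ≠ 0 → l ^ (q + 1) * z ∈ S) (y : F) (hyS : y ∈ S) (hy : y ≠ 0)
    (hyq : y ^ q = y) : q - 1 ≤ S.ncard := by
  classical
  have h := ls_card_fixed hF
  refine le_trans h ?_
  have hsub : Set.range (fun b : {b : F // b ^ q = b ∧ b ≠ 0} => b.1) ⊆ S := by
    rintro _ ⟨b, rfl⟩
    obtain ⟨l, hl⟩ := ls_exists_norm hF (b.1 / y) (by rw [div_pow, b.2.1, hyq])
    have hl0 : l ≠ 0 := by
      rintro rfl
      rw [zero_mul] at hl
      rcases div_eq_zero_iff.1 hl.symm with h | h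
      · exact b.2.2 h
      · exact hy h
    have h1 := hS y hyS l hl0
    rw [pow_succ', hl, div_mul_cancel₀ _ hy] at h1
    exact h1
  have h2 := Set.ncard_le_ncard hsub (Set.toFinite S)
  rwa [Set.ncard_range_of_injective Subtype.val_injective, Nat.card_eq_fintype_card] at h2

end concrete

end Cfsg.Agent.Lib.H16.LS
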