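import Mathlib
import Cfsg.Agent.Lib.H16.RTWDefs
import Cfsg.Agent.Lib.H24.RTWUCS
import Cfsg.Agent.Lib.H24.RTWNORMK
import Cfsg.Agent.Lib.H24.RTWIDX8
import Cfsg.Agent.Lib.H21.RTWCORE
import Cfsg.Agent.Lib.H21.RTWCOREIDX
import Cfsg.Agent.Lib.H1.PGroupBasic
import Cfsg.Agent.Lib.H15.Card

/-!
# S3174: assembly of the numerical part (helper16)
-/

set_option autoImplicit false

namespace Cfsg.Agent.Lib.H16.RTW

open scoped commutatorElement
open Cfsg.Agent.Lib.H24.RTW (ucs_card le_ucs_of_card_le index_centralizer_ucs3_le)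
open Cfsg.Agent.Lib.H21.RTW (exists_core_free_maximal relIndex_core_le)

/-- three bounded factors with product at least the product of the bounds are equal to the bounds -/
theorem eq_of_mul_ge {a r i : ℕ} (ha : a ≤ 8) (hr : r ≤ 256) (hi : i ≤ 8) (h : 16384 ≤ a * r * i) :
    a = 8 ∧ r = 256 ∧ i = 8 := by
  have h1 : a * r * i ≤ a * 256 * 8 := Nat.mul_le_mul (Nat.mul_le_mul_left a hr) hi
  have h2 : a * r * i ≤ 8 * r * 8 := Nat.mul_le_mul (Nat.mul_le_mul_right r ha) hi
  have h3 : a * r * i ≤ 8 * 256 * i := Nat.mul_le_mul_right i (Nat.mul_le_mul ha hr)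
  refine ⟨by omega, by omega, by omega⟩

theorem ru_numerics {T : Type*} [Group T] [Finite T] (hT : IsPGroup 2 T) (ha : 2 ^ 14 ≤ Nat.card T)
    (hb : Nat.card ↥(Subgroup.upperCentralSeries T 4) = 16)
    (W : Subgroup T) (hW : W = Subgroup.centralizer ((Subgroup.upperCentralSeries T 3 : Subgroup T) : Set T))
    (hc : Nat.card ↥(frattini ↥W) ≤ 8) :
    Nat.card T = 2 ^ 14 ∧ W.index = 8 ∧
    Nat.card ↥(Subgroup.upperCentralSeries T 1) = 2 ∧ Nat.card ↥(Subgroup.upperCentralSeries T 2) = 4 ∧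
    Nat.card ↥(Subgroup.upperCentralSeries T 3) = 8 ∧
    (frattini ↥W).map W.subtype = Subgroup.upperCentralSeries T 3 ∧
    ∃ M : Subgroup T, Subgroup.upperCentralSeries T 3 ≤ M ∧ M ≤ W ∧ M.relIndex W = 2 ∧
      ∀ u ∈ W, (∀ t : T, t * u * t⁻¹ ∈ M) → u ∈ Subgroup.upperCentralSeries T 3 := by
  have hlt : 16 < Nat.card T := by norm_num at ha; omega
  obtain ⟨c1, c2, c3⟩ := ucs_card hT hlt hb
  haveI hWn : W.Normal := by
    rw [hW]; exact Subgroup.normal_centralizer
  set P : Subgroup T := (frattini ↥W).map W.subtype with hP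
  haveI hPn : P.Normal := ConjAct.normal_of_characteristic_of_normal
  have hPW : P ≤ W := Subgroup.map_subtype_le _
  have hcardP : Nat.card P = Nat.card (frattini ↥W) :=
    Subgroup.card_map_of_injective W.subtype_injective
  obtain ⟨k, hk⟩ := IsPGroup.iff_card.mp (hT.to_subgroup P)
  have hk3 : k ≤ 3 := by
    have h1 : 2 ^ k ≤ 2 ^ 3 := by rw [← hk, hcardP]; exact hc
    exact (Nat.pow_le_pow_iff_right (by norm_num)).mp h1
  have hPZk : P ≤ Subgroup.upperCentralSeries T k := le_ucs_of_card_le hT P k (by rw [hk])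
  have hcardZ : Nat.card ↥(Subgroup.upperCentralSeries T (k + 1)) = 2 ^ (k + 1) := by
    interval_cases k
    · simpa using c1
    · simpa using c2
    · simpa using c3
    · simpa using hb
  have hWT : IsPGroup 2 ↥W := hT.to_subgroup W
  have hsq : ∀ u ∈ W, u ^ 2 ∈ P := fun u hu =>
    ⟨(⟨u, hu⟩ : ↥W) ^ 2, Cfsg.Agent.Lib.H1.isPGroup_pow_mem_frattini hWT ⟨u, hu⟩, rfl⟩
  have hcomm : ∀ u ∈ W, ∀ v ∈ W, ⁅u, v⁆ ∈ P := by
    intro u hu v hv
    refine ⟨⁅(⟨u, hu⟩ : ↥W), ⟨v, hv⟩⁆, ?_, rfl⟩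
    exact Cfsg.Agent.Lib.H1.isPGroup_commutator_le_frattini hWT
      (Subgroup.commutator_mem_commutator (Subgroup.mem_top _) (Subgroup.mem_top _))
  have hC : ∀ C : Subgroup T, P ≤ C → C ≤ W → (∀ x ∈ C, ∀ t : T, ⁅x, t⁆ ∈ P) →
      Nat.card C ≤ 2 * Nat.card P := by
    intro C _ _ h
    have hCZ : C ≤ Subgroup.upperCentralSeries T (k + 1) := fun x hx =>
      Subgroup.mem_upperCentralSeries_succ_iff.mpr (fun t => hPZk (h x hx t))
    calc Nat.card C ≤ Nat.card ↥(Subgroup.upperCentralSeries T (k + 1)) := Subgroup.card_le_of_le hCZ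
      _ = 2 ^ (k + 1) := hcardZ
      _ = 2 * Nat.card P := by rw [hk, pow_succ]; ring
  obtain ⟨M, hPM, hMW, hMidx, hcore⟩ := exists_core_free_maximal hT W P hPW hsq hcomm hC
  have hcoreidx := relIndex_core_le W M hMW hMidx
  have hidx8 : W.index ≤ 8 := by rw [hW]; exact index_centralizer_ucs3_le c1 c2 c3
  set K : Subgroup T := ⨅ t : T, M.map (MulAut.conj t).toMonoidHom with hK
  have hKP : K = P := by
    apply le_antisymm
    · intro u hu
      have hu' := Subgroup.mem_iInf.mp hu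
      have huW : u ∈ W := by
        obtain ⟨m, hm, hmu⟩ := hu' 1
        have : m = u := by simpa using hmu
        exact hMW (this ▸ hm)
      apply hcore u huW
      intro t
      obtain ⟨m, hm, hmu⟩ := hu' t⁻¹
      have h1 : t * u * t⁻¹ = m := by
        rw [← hmu]
        simp [MulAut.conj_apply, mul_assoc]
      rw [h1]; exact hm
    · intro u hu
      rw [hK, Subgroup.mem_iInf]
      intro t
      refine ⟨t⁻¹ * u * t, hPM ?_, ?_⟩
      · have := hPn.conj_mem u hu t⁻¹
        simpa using this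
      · simp [MulAut.conj_apply, mul_assoc]
  have h1 : P.relIndex W ≤ 256 := by
    rw [← hKP]
    calc K.relIndex W ≤ 2 ^ W.index := hcoreidx
      _ ≤ 2 ^ 8 := Nat.pow_le_pow_right (by norm_num) hidx8
      _ = 256 := by norm_num
  have h2 : Nat.card P * P.relIndex W = Nat.card W := Cfsg.Agent.Lib.H15.card_mul_relIndex hPW
  have h3 : Nat.card W * W.index = Nat.card T := W.card_mul_index
  have hP8 : Nat.card P ≤ 8 := by rw [hcardP]; exact hc
  have h4 : 16384 ≤ Nat.card P * P.relIndex W * W.index := by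
    rw [h2, h3]; norm_num at ha; exact ha
  obtain ⟨e1, e2, e3⟩ := eq_of_mul_ge hP8 h1 hidx8 h4
  have hcardT : Nat.card T = 2 ^ 14 := by
    rw [← h3, ← h2, e1, e2, e3]; norm_num
  have hk3' : k = 3 := by
    have : 2 ^ k = 2 ^ 3 := by rw [← hk, e1]; norm_num
    exact Nat.pow_right_injective (le_refl 2) this
  subst hk3'
  have hPZ : P = Subgroup.upperCentralSeries T 3 :=
    Subgroup.eq_of_le_of_card_ge hPZk (by rw [c3, e1])
  refine ⟨hcardT, e3, c1, c2, c3, hPZ, M, hPZ ▸ hPM, hMW, ?_, ?_⟩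
  · have hne1 : M.relIndex W ≠ 1 := by
      intro h
      have hWM : W ≤ M := Subgroup.relIndex_eq_one.mp h
      have hMeq : M = W := le_antisymm hMW hWM
      have hKW : W ≤ K := by
        intro u hu
        rw [hK, Subgroup.mem_iInf]
        intro t
        refine ⟨t⁻¹ * u * t, hWM ?_, ?_⟩
        · have := hWn.conj_mem u hu t⁻¹
          simpa using this
        · simp [MulAut.conj_apply, mul_assoc]
      rw [hKP] at hKW
      have : P.relIndex W = 1 := Subgroup.relIndex_eq_one.mpr hKW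
      omega
    have hpos : 0 < M.relIndex W := Cfsg.Agent.Lib.H15.relIndex_pos_of_finite M W
    omega
  · intro u hu h
    rw [← hPZ]
    exact hcore u hu h

end Cfsg.Agent.Lib.H16.RTW
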