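import Mathlib
import Cfsg.Prelude.Def_Local

set_option autoImplicit false
open Cfsg

/-! S3153 piece DECOMP (architect helper15): an element of square 1 of `P · C(P)` is `r * k`
with `r ∈ P`, `k ∈ C(P)` both of square 1, when `Z(P)` has odd order. -/

namespace Cfsg.Agent.Lib.H16.STD

/-- The set `P · C(P)` as a subgroup. -/
def prodCent {X : Type*} [Group X] (P : Subgroup X) : Subgroup X where
  carrier := {x | ∃ r ∈ P, ∃ k ∈ Subgroup.centralizer (P : Set X), x = r * k}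
  one_mem' := ⟨1, P.one_mem, 1, Subgroup.one_mem _, (mul_one 1).symm⟩
  mul_mem' := by
    rintro _ _ ⟨r, hr, k, hk, rfl⟩ ⟨r', hr', k', hk', rfl⟩
    refine ⟨r * r', P.mul_mem hr hr', k * k', Subgroup.mul_mem _ hk hk', ?_⟩
    have h : r' * k = k * r' := Subgroup.mem_centralizer_iff.mp hk r' hr'
    calc r * k * (r' * k') = r * (k * r') * k' := by simp only [mul_assoc]
      _ = r * (r' * k) * k' := by rw [h]
      _ = r * r' * (k * k') := by simp only [mul_assoc]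
  inv_mem' := by
    rintro _ ⟨r, hr, k, hk, rfl⟩
    refine ⟨r⁻¹, P.inv_mem hr, k⁻¹, Subgroup.inv_mem _ hk, ?_⟩
    have h : r⁻¹ * k⁻¹ = k⁻¹ * r⁻¹ :=
      Subgroup.mem_centralizer_iff.mp (Subgroup.inv_mem _ hk) r⁻¹ (P.inv_mem hr)
    rw [mul_inv_rev, h]

theorem sup_centralizer_le_prodCent {X : Type*} [Group X] (P : Subgroup X) :
    P ⊔ Subgroup.centralizer (P : Set X) ≤ prodCent P := by
  refine sup_le ?_ ?_
  · intro r hr
    exact ⟨r, hr, 1, Subgroup.one_mem _, (mul_one r).symm⟩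
  · intro k hk
    exact ⟨1, P.one_mem, k, hk, (one_mul k).symm⟩

/-- DECOMP: an element of square 1 of `P · C(P)` is `r * k` with `r ∈ P`, `k ∈ C(P)` of square 1,
when `Z(P)` has odd order. -/
theorem exists_involution_decomp {X : Type*} [Group X] [Finite X] (P : Subgroup X)
    (hZ : Odd (Nat.card ↥(Subgroup.center ↥P))) (u : X) (hu : u ^ 2 = 1)
    (huPK : u ∈ P ⊔ Subgroup.centralizer (P : Set X)) :
    ∃ r ∈ P, ∃ k ∈ Subgroup.centralizer (P : Set X), r ^ 2 = 1 ∧ k ^ 2 = 1 ∧ u = r * k := by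
  obtain ⟨r₀, hr₀, k₀, hk₀, rfl⟩ := sup_centralizer_le_prodCent P huPK
  -- `r₀` and `k₀` commute
  have hcomm : r₀ * k₀ = k₀ * r₀ := Subgroup.mem_centralizer_iff.mp hk₀ r₀ hr₀
  set z : X := r₀ ^ 2 with hz
  have hzP : z ∈ P := P.pow_mem hr₀ 2
  -- `r₀² k₀² = 1`
  have hprod : z * k₀ ^ 2 = 1 := by
    have h1 : (r₀ * k₀) ^ 2 = r₀ ^ 2 * k₀ ^ 2 := (Commute.mul_pow hcomm 2)
    rw [← hu, h1]
  have hk2 : k₀ ^ 2 = z⁻¹ := eq_inv_of_mul_eq_one_right hprod
  have hzC : z ∈ Subgroup.centralizer (P : Set X) := by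
    have : z = (k₀ ^ 2)⁻¹ := by rw [hk2, inv_inv]
    rw [this]
    exact Subgroup.inv_mem _ (Subgroup.pow_mem _ hk₀ 2)
  -- `z` is central in `P`, so its order divides `|Z(P)|`
  set n : ℕ := Nat.card ↥(Subgroup.center ↥P) with hn
  have hzn : z ^ n = 1 := by
    have hzc : (⟨z, hzP⟩ : ↥P) ∈ Subgroup.center ↥P := by
      rw [Subgroup.mem_center_iff]
      intro g
      apply Subtype.ext
      show (g : X) * z = z * (g : X)
      exact Subgroup.mem_centralizer_iff.mp hzC (g : X) g.2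
    have h1 : (⟨⟨z, hzP⟩, hzc⟩ : ↥(Subgroup.center ↥P)) ^ n = 1 := pow_card_eq_one'
    have h2 := congrArg (fun y : ↥(Subgroup.center ↥P) => ((y : ↥P) : X)) h1
    simpa using h2
  obtain ⟨a, ha⟩ := hZ
  -- `n = 2 a + 1`
  have hrz : r₀ * z = z * r₀ := by
    rw [hz]; exact ((Commute.refl r₀).pow_right 2).eq
  have hkz : k₀ * z = z * k₀ := (Subgroup.mem_centralizer_iff.mp hk₀ z hzP).symm
  refine ⟨r₀ * z ^ a, P.mul_mem hr₀ (P.pow_mem hzP a), (z ^ a)⁻¹ * k₀,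
    Subgroup.mul_mem _ (Subgroup.inv_mem _ (Subgroup.pow_mem _ hzC a)) hk₀, ?_, ?_, ?_⟩
  · have hc : Commute r₀ (z ^ a) := (show Commute r₀ z from hrz).pow_right a
    rw [hc.mul_pow, ← hz, ← pow_mul, ← pow_succ', mul_comm a 2, ← ha, hzn]
  · have hc : Commute ((z ^ a)⁻¹) k₀ :=
      ((show Commute k₀ z from hkz).pow_right a).inv_right.symm
    rw [hc.mul_pow, hk2, inv_pow, ← pow_mul, ← mul_inv_rev, ← pow_succ', mul_comm a 2, ← ha, hzn,
      inv_one]
  · group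

end Cfsg.Agent.Lib.H16.STD
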