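import Mathlib
import Cfsg.Prelude.Def_Local

set_option autoImplicit false
open Cfsg

/-! S3153 piece TIGHT (architect helper15): the centralizer of an involution of a tightly embedded
subgroup `K` normalizes `K`. -/

namespace Cfsg.Agent.Lib.H16.STD

/-- TIGHT: the centralizer of an involution of a tightly embedded subgroup `K` normalizes `K`. -/
theorem centralizer_le_normalizer_of_tight {X : Type*} [Group X] [Finite X] (K : Subgroup X)
    (hK : Cfsg.IsTightlyEmbedded K) (t : X) (ht : orderOf t = 2) (htK : t ∈ K) :
    Subgroup.centralizer ({t} : Set X) ≤ Subgroup.normalizer (K : Set X) := by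
  intro c hc
  by_contra hcn
  have hodd := hK.2 c hcn
  have hct : t * c = c * t := Subgroup.mem_centralizer_iff.mp hc t (Set.mem_singleton t)
  have htmem : t ∈ K ⊓ K.map (MulAut.conj c).toMonoidHom := by
    refine ⟨htK, t, htK, ?_⟩
    show MulAut.conj c t = t
    rw [MulAut.conj_apply, ← hct, mul_inv_cancel_right]
  have h2 : 2 ∣ Nat.card ↥(K ⊓ K.map (MulAut.conj c).toMonoidHom) := by
    have := Subgroup.orderOf_dvd_natCard _ htmem
    rwa [ht] at this
  exact (Nat.not_even_iff_odd.mpr hodd) (even_iff_two_dvd.mpr h2)

end Cfsg.Agent.Lib.H16.STD
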