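/-
S5663 project (Aschbacher, unitary case), module UM8.3 (helper16), part c: the hermitian form in the tensor basis
of `t ≥ 2` components is a scalar multiple of the `t`-th tensor power of ONE hermitian form.
-/
import Cfsg.Agent.Lib.H16.AschUM8Ca
import Cfsg.Agent.Lib.H16.AschUM8Cb
import Cfsg.Agent.Lib.H26.AschUM83B
import Cfsg.Agent.Lib.H25.AschUT5e

set_option autoImplicit false

namespace Cfsg.Agent.Lib.H16.Asch

open Cfsg Cfsg.Geo Cfsg.Agent.Lib.Lead.Asch Cfsg.Agent.Lib.H26.Asch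
  Cfsg.Agent.Lib.H21.Asch Cfsg.Agent.Lib.H6.Asch Cfsg.Agent.Lib.H17.Asch Cfsg.Agent.Lib.H25.Asch
open scoped MatrixGroups Matrix Kronecker

variable {F : Type*} [Field F] {n : ℕ}

theorem exists_tensorPower_form [Fintype F] {q : ℕ} (hF : Fintype.card F = q ^ 2) (hn0 : 0 < n)
    (t : ℕ) (L : Fin t → Subgroup (GL (Fin n) F)) (i0 : Fin t)
    (hGU : ∀ i, L i ≤ GU n F q) (habsL : ActsAbsolutelyIrreducibly (matrixSet (⨆ i, L i)))
    (m : ℕ) (e' : Fin n ≃ (Fin t → Fin m)) (Q : GL (Fin n) F) (ρ : L i0 →* GL (Fin m) F)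
    (hρabs : ActsAbsolutelyIrreducibly (repSet ρ))
    (hb : ∀ i (x : L i0), ∃ y ∈ L i, (y : Matrix (Fin n) (Fin n) F) =
        conjAlgHom Q (Matrix.reindexAlgEquiv F F e'.symm
          (posEmb i ((ρ x : GL (Fin m) F) : Matrix (Fin m) (Fin m) F))))
    (hc : ∀ i, ∀ y ∈ L i, ∃ x : L i0, (y : Matrix (Fin n) (Fin n) F) =
        conjAlgHom Q (Matrix.reindexAlgEquiv F F e'.symm
          (posEmb i ((ρ x : GL (Fin m) F) : Matrix (Fin m) (Fin m) F)))) :
    ∃ (σ : F →+* F) (B₀ : Matrix (Fin m) (Fin m) F), (∀ x, σ x = x ^ q) ∧ IsUnit B₀.det ∧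
      (B₀.map σ)ᵀ = B₀ ∧ (∀ s ∈ repSet ρ, sᵀ * B₀ * s.map σ = B₀) ∧
      IsUnitaryFormPow q (formOf σ B₀) ∧
      IsTensorPowerFormStructure (fun x : F => x ^ q) (hermForm n F q) (formOf σ B₀) e' Q := by
  classical
  obtain ⟨σ, hσ, hσ2⟩ := Cfsg.Agent.Lib.H4.exists_frob hF
  obtain ⟨a0, ha0⟩ := exists_pow_ne hF
  have hσne : ∃ a, σ a ≠ a := ⟨a0, by rw [hσ]; exact ha0⟩
  set Rq : Matrix (Fin t → Fin m) (Fin t → Fin m) F ≃ₐ[F] Matrix (Fin n) (Fin n) F :=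
    Matrix.reindexAlgEquiv F F e'.symm with hRq
  have hRqT : ∀ X : Matrix (Fin t → Fin m) (Fin t → Fin m) F, (Rq X)ᵀ = Rq Xᵀ := fun X => rfl
  have hRqM : ∀ X : Matrix (Fin t → Fin m) (Fin t → Fin m) F, (Rq X).map σ = Rq (X.map σ) :=
    fun X => rfl
  set G : Matrix (Fin n) (Fin n) F := gramP σ (Q : Matrix (Fin n) (Fin n) F) with hG
  have hGdet : IsUnit G.det := gramP_isUnit_det σ Q
  have hG0 : G ≠ 0 := by
    intro h0
    rw [h0] at hGdet
    haveI : Nonempty (Fin n) := ⟨⟨0, hn0⟩⟩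
    rw [Matrix.det_zero] at hGdet
    exact not_isUnit_zero hGdet
  have hQQ : ((Q⁻¹ : GL (Fin n) F) : Matrix (Fin n) (Fin n) F) * (Q : Matrix (Fin n) (Fin n) F) = 1 := by
    rw [← Units.val_mul, inv_mul_cancel, Units.val_one]
  -- invariance of `G`
  have hGfix : ∀ i (x : L i0),
      (Rq (posEmb i ((ρ x : GL (Fin m) F) : Matrix (Fin m) (Fin m) F)))ᵀ * G *
        (Rq (posEmb i ((ρ x : GL (Fin m) F) : Matrix (Fin m) (Fin m) F))).map σ = G := by
    intro i x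
    obtain ⟨y, hy, hyeq⟩ := hb i x
    have h1 := cj_fix_gramP σ hσ Q⁻¹ (hGU i hy)
    have h2 : cj Q⁻¹ y = Rq (posEmb i ((ρ x : GL (Fin m) F) : Matrix (Fin m) (Fin m) F)) := by
      rw [cj_eq, hyeq, conjAlgHom_apply, inv_inv]
      calc ((Q⁻¹ : GL (Fin n) F) : Matrix (Fin n) (Fin n) F) *
            ((Q : Matrix (Fin n) (Fin n) F) * Rq (posEmb i ((ρ x : GL (Fin m) F) : Matrix (Fin m) (Fin m) F)) *
              ((Q⁻¹ : GL (Fin n) F) : Matrix (Fin n) (Fin n) F)) * (Q : Matrix (Fin n) (Fin n) F)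
          = (((Q⁻¹ : GL (Fin n) F) : Matrix (Fin n) (Fin n) F) * (Q : Matrix (Fin n) (Fin n) F)) *
              Rq (posEmb i ((ρ x : GL (Fin m) F) : Matrix (Fin m) (Fin m) F)) *
              (((Q⁻¹ : GL (Fin n) F) : Matrix (Fin n) (Fin n) F) * (Q : Matrix (Fin n) (Fin n) F)) := by
            simp only [mul_assoc]
        _ = _ := by rw [hQQ, one_mul, mul_one]
    rw [h2, inv_inv] at h1
    exact h1
  -- the form in the tensor coordinates
  set M : Matrix (Fin t → Fin m) (Fin t → Fin m) F := Rq.symm G with hM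
  have hRqM' : Rq M = G := by rw [hM, AlgEquiv.apply_symm_apply]
  have hM0 : M ≠ 0 := by
    intro h0
    apply hG0
    rw [← hRqM', h0, map_zero]
  have hMherm : (M.map σ)ᵀ = M := by
    apply Rq.injective
    rw [← hRqT, ← hRqM, hRqM']
    exact gramP_hermitian σ hσ2 _
  have hMinv : ∀ s ∈ repSet ρ, (posEmb i0 s)ᵀ * M * (posEmb i0 s).map σ = M := by
    rintro _ ⟨x, rfl⟩
    apply Rq.injective
    rw [map_mul, map_mul, ← hRqT, ← hRqM, hRqM']
    exact hGfix i0 x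
  obtain ⟨B₀, hB0, hBherm, hBfix⟩ := exists_herm_block σ hσ2 hσne i0 (repSet ρ) M hM0 hMherm hMinv
  have hunits : ∀ s ∈ repSet ρ, IsUnit s.det := by
    rintro _ ⟨x, rfl⟩
    exact (Matrix.isUnit_iff_isUnit_det _).1 (ρ x).isUnit
  have hBdet : IsUnit B₀.det := isUnit_det_of_fix σ (repSet ρ) hρabs.1 hunits B₀ hB0 hBfix
  -- the tensor power form
  set T : Matrix (Fin t → Fin m) (Fin t → Fin m) F := pureT (fun _ : Fin t => B₀) with hT
  let 𝒮 : Set (Matrix (Fin n) (Fin n) F) :=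
    {R | ∃ (i : Fin t) (x : L i0), R = Rq (posEmb i ((ρ x : GL (Fin m) F) : Matrix (Fin m) (Fin m) F))}
  have hcommutant : ∀ M' : Matrix (Fin n) (Fin n) F, (∀ s ∈ 𝒮, M' * s = s * M') →
      ∃ c : F, M' = c • (1 : Matrix (Fin n) (Fin n) F) := by
    intro M' hM'
    obtain ⟨c, hc'⟩ := habsL.2 (conjAlgHom Q M') (by
      rintro _ ⟨g, hg, rfl⟩
      refine commute_of_mem_iSup L (conjAlgHom Q M') ?_ g hg
      intro i y hy
      obtain ⟨x, hx⟩ := hc i y hy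
      rw [hx, ← map_mul, ← map_mul, hM' _ ⟨i, x, rfl⟩])
    refine ⟨c, ?_⟩
    have h1 := congrArg (conjAlgHom Q⁻¹) hc'
    rw [conjAlgHom_inv_conj, map_smul, map_one] at h1
    exact h1
  have hunits' : ∀ s ∈ 𝒮, IsUnit s.det := by
    rintro _ ⟨i, x, rfl⟩
    have h1 : Rq (posEmb i ((ρ x : GL (Fin m) F) : Matrix (Fin m) (Fin m) F)) *
        Rq (posEmb i (((ρ x)⁻¹ : GL (Fin m) F) : Matrix (Fin m) (Fin m) F)) = 1 := by
      rw [← map_mul, ← posEmb_mul, ← Units.val_mul, mul_inv_cancel, Units.val_one, posEmb_one, map_one]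
    exact Matrix.isUnit_det_of_right_inverse h1
  have hTdet : IsUnit (Rq T).det := by
    have : (Rq T).det = T.det := Matrix.det_reindexAlgEquiv F F e'.symm T
    rw [this]
    exact isUnit_det_pureT B₀ hBdet
  have hfixT : ∀ s ∈ 𝒮, sᵀ * Rq T * s.map σ = Rq T := by
    rintro _ ⟨i, x, rfl⟩
    rw [hRqT, hRqM, ← map_mul, ← map_mul]
    congr 1
    exact posEmb_fixes_pureT σ i _ B₀ (hBfix _ ⟨x, rfl⟩)
  have hfixG : ∀ s ∈ 𝒮, sᵀ * G * s.map σ = G := by
    rintro _ ⟨i, x, rfl⟩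
    exact hGfix i x
  obtain ⟨c, hcG⟩ := core σ 𝒮 hcommutant hunits' (Rq T) G hTdet hfixT hfixG
  have hc0 : c ≠ 0 := by
    intro h0
    apply hG0
    rw [hcG, h0, zero_smul]
  refine ⟨σ, B₀, hσ, hBdet, hBherm, hBfix, isUnitaryFormPow_formOf σ hσ hσ2 B₀ hBdet hBherm, c, hc0, ?_⟩
  intro x y
  rw [hermForm_mulVec σ hσ, ← hG, hcG]
  have hRqapp : ∀ j k, (Rq T) j k = T (e' j) (e' k) := fun j k => rfl
  calc (x ∘ e') ⬝ᵥ ((c • Rq T) *ᵥ fun i => σ ((y ∘ e') i))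
      = ∑ j, ∑ k, x (e' j) * (c * T (e' j) (e' k)) * σ (y (e' k)) := by
        simp only [dotProduct, Matrix.mulVec, Matrix.smul_apply, smul_eq_mul, Function.comp_apply,
          hRqapp, Finset.mul_sum, mul_assoc]
    _ = ∑ a, ∑ b, x a * (c * T a b) * σ (y b) := by
        rw [← Equiv.sum_comp e' (fun a => ∑ b, x a * (c * T a b) * σ (y b))]
        refine Finset.sum_congr rfl fun j _ => ?_
        rw [← Equiv.sum_comp e' (fun b => x (e' j) * (c * T (e' j) b) * σ (y b))]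
    _ = c * ∑ a, ∑ b, x a * (∏ i, gramMatrix (formOf σ B₀) (a i) (b i)) * (fun x : F => x ^ q) (y b) := by
        rw [Finset.mul_sum]
        refine Finset.sum_congr rfl fun a _ => ?_
        rw [Finset.mul_sum]
        refine Finset.sum_congr rfl fun b _ => ?_
        rw [gramMatrix_formOf, hT, pureT_apply, hσ]
        ring

end Cfsg.Agent.Lib.H16.Asch
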