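/-
S5663 project (Aschbacher, unitary case), module UM8.3 (helper16): at least two components => class 7 (tensor
power decomposition compatible with the hermitian form), or class 5 when the factors have dimension 2.
-/
import Cfsg.Agent.Lib.H16.AschUM8Cc
import Cfsg.Agent.Lib.H25.AschUT5p
import Cfsg.Agent.Lib.H2.AschUM83X

set_option autoImplicit false

namespace Cfsg.Agent.Lib.H16.Asch

open Cfsg Cfsg.Geo Cfsg.Agent.Lib.Lead.Asch Cfsg.Agent.Lib.H26.Asch
  Cfsg.Agent.Lib.H21.Asch Cfsg.Agent.Lib.H6.Asch Cfsg.Agent.Lib.H17.Asch Cfsg.Agent.Lib.H25.Asch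
open scoped MatrixGroups Matrix Kronecker

variable {F : Type*} [Field F] {n : ℕ}

/-- the image of a perfect subgroup under a homomorphism is perfect. -/
lemma range_perfect {G G' : Type*} [Group G] [Group G'] (A : Subgroup G) (hperf : ⁅A, A⁆ = A)
    (ρ : A →* G') : ⁅ρ.range, ρ.range⁆ = ρ.range := by
  have hc : ⁅(⊤ : Subgroup A), (⊤ : Subgroup A)⁆ = (⊤ : Subgroup A) := by
    apply Subgroup.map_injective A.subtype_injective
    rw [Subgroup.map_commutator, ← MonoidHom.range_eq_map, Subgroup.range_subtype, hperf]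
  rw [MonoidHom.range_eq_map, ← Subgroup.map_commutator (⊤ : Subgroup A) ⊤ ρ, hc]

/-- Core of UM8.3, stated with explicit hypotheses instead of the structure `Components`. -/
theorem utame_of_components_aux [Fintype F] {q : ℕ} (hF : Fintype.card F = q ^ 2) (hn : 3 ≤ n)
    (H : Subgroup (GL (Fin n) F)) (hH : H ≤ GU n F q) (hgood : Good H)
    (t : ℕ) (L : Fin t → Subgroup (GL (Fin n) F)) (ht : 2 ≤ t)
    (hle : ∀ i, L i ≤ H) (hperf : ∀ i, ⁅L i, L i⁆ = L i)
    (hcomm : ∀ i j, i ≠ j → ∀ x ∈ L i, ∀ y ∈ L j, x * y = y * x)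
    (hperm : ∀ h ∈ H, ∃ σ : Equiv.Perm (Fin t), ∀ i, (L i).map (MulAut.conj h).toMonoidHom = L (σ i))
    (htrans : ∀ i j, ∃ h ∈ H, (L i).map (MulAut.conj h).toMonoidHom = L j)
    (hns : ∀ i, ¬ L i ≤ scalars (Fin n) F) : UC7 q H ∨ UC5 q H := by
  classical
  have hn0 : 0 < n := by omega
  have ht0 : 0 < t := by omega
  set i0 : Fin t := ⟨0, ht0⟩ with hi0
  obtain ⟨m, e', Q, ρ, hm2, hρabs, hb, hc, hmem⟩ :=
    exists_tensor_data hn H hgood t L ht i0 hle hcomm hperm htrans hns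
  set Ls : Subgroup (GL (Fin n) F) := ⨆ i, L i with hLs
  have hLsH : Ls ≤ H := iSup_le hle
  have hLsN : NormalizedBy H Ls := normalizedBy_iSup H L hperm
  have hLsns : ¬ Ls ≤ scalars (Fin n) F := fun h => hns i0 ((le_iSup L i0).trans h)
  have habsL : ActsAbsolutelyIrreducibly (matrixSet Ls) :=
    (hgood.star Ls hLsH hLsN).resolve_left hLsns
  by_cases hm3 : 3 ≤ m
  · obtain ⟨σ, B₀, hσ, hBdet, hBherm, hBfix, hunit, hstruct⟩ :=
      exists_tensorPower_form hF hn0 t L i0 (fun i => (hle i).trans hH) habsL m e' Q ρ hρabs hb hc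
    by_cases h23 : q = 2 ∧ m = 3
    · exfalso
      obtain ⟨rfl, rfl⟩ := h23
      have hperfR : ⁅ρ.range, ρ.range⁆ = ρ.range := range_perfect (L i0) (hperf i0) ρ
      have hF4 : Fintype.card F = 4 := by rw [hF]; norm_num
      have hσfun : (σ : F → F) = (· ^ 2) := funext hσ
      have hbot := Cfsg.Agent.Lib.H2.Asch.bot_of_perfect_unitary_three_two hF4 ρ.range hperfR B₀ hBdet
        (by rw [← hσfun]; exact hBherm)
        (by
          rintro s ⟨x, rfl⟩
          rw [← hσfun]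
          exact hBfix _ ⟨x, rfl⟩)
      obtain ⟨c, hc'⟩ := hρabs.2 (Matrix.single 0 1 1) (by
        rintro _ ⟨x, rfl⟩
        have h1 : ρ x = 1 := by
          have h2 : ρ x ∈ ρ.range := ⟨x, rfl⟩
          rw [hbot] at h2
          exact Subgroup.mem_bot.1 h2
        show Matrix.single 0 1 1 * ((ρ x : GL (Fin 3) F) : Matrix (Fin 3) (Fin 3) F) =
          ((ρ x : GL (Fin 3) F) : Matrix (Fin 3) (Fin 3) F) * Matrix.single 0 1 1
        rw [h1, Units.val_one, mul_one, one_mul])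
      have h3 := congrFun (congrFun hc' 0) 1
      simp at h3
    · exact Or.inl ⟨m, t, e', Q, formOf σ B₀, hm3, ht, h23, hunit, hstruct, hmem⟩
  · -- factors of dimension 2: an invariant bilinear form
    right
    have hm : m = 2 := by omega
    subst hm
    set Rq : Matrix (Fin t → Fin 2) (Fin t → Fin 2) F ≃ₐ[F] Matrix (Fin n) (Fin n) F :=
      Matrix.reindexAlgEquiv F F e'.symm with hRq
    set J : Matrix (Fin t → Fin 2) (Fin t → Fin 2) F :=
      pureT (fun _ : Fin t => (!![0, 1; -1, 0] : Matrix (Fin 2) (Fin 2) F)) with hJ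
    set B : Matrix (Fin n) (Fin n) F :=
      ((Q⁻¹ : GL (Fin n) F) : Matrix (Fin n) (Fin n) F)ᵀ * Rq J *
        ((Q⁻¹ : GL (Fin n) F) : Matrix (Fin n) (Fin n) F) with hB
    have hQQ : ((Q⁻¹ : GL (Fin n) F) : Matrix (Fin n) (Fin n) F) * (Q : Matrix (Fin n) (Fin n) F) = 1 := by
      rw [← Units.val_mul, inv_mul_cancel, Units.val_one]
    have hRqT : ∀ X : Matrix (Fin t → Fin 2) (Fin t → Fin 2) F, (Rq X)ᵀ = Rq Xᵀ := by
      intro X
      rfl
    have hBne : B ≠ 0 := by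
      intro h0
      have h1 : Rq J = 0 := by
        have : (Q : Matrix (Fin n) (Fin n) F)ᵀ * B * (Q : Matrix (Fin n) (Fin n) F) = Rq J := by
          rw [hB]
          calc (Q : Matrix (Fin n) (Fin n) F)ᵀ *
                (((Q⁻¹ : GL (Fin n) F) : Matrix (Fin n) (Fin n) F)ᵀ * Rq J *
                  ((Q⁻¹ : GL (Fin n) F) : Matrix (Fin n) (Fin n) F)) * (Q : Matrix (Fin n) (Fin n) F)
              = ((Q : Matrix (Fin n) (Fin n) F)ᵀ * ((Q⁻¹ : GL (Fin n) F) : Matrix (Fin n) (Fin n) F)ᵀ) * Rq J *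
                  (((Q⁻¹ : GL (Fin n) F) : Matrix (Fin n) (Fin n) F) * (Q : Matrix (Fin n) (Fin n) F)) := by
                simp only [mul_assoc]
            _ = Rq J := by rw [← Matrix.transpose_mul, hQQ, Matrix.transpose_one, one_mul, mul_one]
        rw [← this, h0, mul_zero, zero_mul]
      have h2 : J = 0 := by
        apply Rq.injective
        rw [h1, map_zero]
      exact pureT_J_ne_zero h2
    have hfix : ∀ g ∈ matrixSet Ls, gᵀ * B * g = B := by
      rintro _ ⟨g, hg, rfl⟩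
      refine form_fixed_of_mem_iSup L B ?_ g hg
      intro i y hy
      obtain ⟨x, hx⟩ := hc i y hy
      have hdet := det_eq_one_of_perfect (L i0) (hperf i0) ρ x
      have hfixJ := posEmb_fixes_pureT_J (F := F) i _ hdet
      rw [hx, conjAlgHom_apply]
      set p := posEmb (t := t) i ((ρ x : GL (Fin 2) F) : Matrix (Fin 2) (Fin 2) F) with hp
      rw [hB, Matrix.transpose_mul, Matrix.transpose_mul, hRqT]
      calc ((Q⁻¹ : GL (Fin n) F) : Matrix (Fin n) (Fin n) F)ᵀ * (Rq pᵀ * (Q : Matrix (Fin n) (Fin n) F)ᵀ) *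
            (((Q⁻¹ : GL (Fin n) F) : Matrix (Fin n) (Fin n) F)ᵀ * Rq J *
              ((Q⁻¹ : GL (Fin n) F) : Matrix (Fin n) (Fin n) F)) *
            ((Q : Matrix (Fin n) (Fin n) F) * Rq p * ((Q⁻¹ : GL (Fin n) F) : Matrix (Fin n) (Fin n) F))
          = ((Q⁻¹ : GL (Fin n) F) : Matrix (Fin n) (Fin n) F)ᵀ * Rq pᵀ *
              ((Q : Matrix (Fin n) (Fin n) F)ᵀ * ((Q⁻¹ : GL (Fin n) F) : Matrix (Fin n) (Fin n) F)ᵀ) * Rq J *
              (((Q⁻¹ : GL (Fin n) F) : Matrix (Fin n) (Fin n) F) * (Q : Matrix (Fin n) (Fin n) F)) * Rq p *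
              ((Q⁻¹ : GL (Fin n) F) : Matrix (Fin n) (Fin n) F) := by simp only [mul_assoc]
        _ = ((Q⁻¹ : GL (Fin n) F) : Matrix (Fin n) (Fin n) F)ᵀ * (Rq pᵀ * Rq J * Rq p) *
              ((Q⁻¹ : GL (Fin n) F) : Matrix (Fin n) (Fin n) F) := by
            rw [← Matrix.transpose_mul, hQQ, Matrix.transpose_one]
            simp only [mul_one, mul_assoc]
        _ = ((Q⁻¹ : GL (Fin n) F) : Matrix (Fin n) (Fin n) F)ᵀ * Rq J *
              ((Q⁻¹ : GL (Fin n) F) : Matrix (Fin n) (Fin n) F) := by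
            rw [← map_mul, ← map_mul, hfixJ]
    exact Or.inr (uc5_of_fixes_bilin hF (by omega) H Ls hH hLsH hLsN habsL B hBne hfix)

/-- **UM8.3** (exact signature of tools/blueprints/S5663_UM8_sigs.lean). -/
theorem utame_of_components [Fintype F] {q : ℕ} (hF : Fintype.card F = q ^ 2) (hn : 3 ≤ n)
    (H : Subgroup (GL (Fin n) F)) (hH : H ≤ GU n F q) (hgood : Good H)
    (t : ℕ) (L : Fin t → Subgroup (GL (Fin n) F)) (hL : Components H t L) (ht : 2 ≤ t) :
    UC7 q H ∨ UC5 q H :=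
  utame_of_components_aux hF hn H hH hgood t L ht hL.le hL.perfect hL.comm hL.perm hL.trans
    hL.not_scal

end Cfsg.Agent.Lib.H16.Asch
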