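/-
S5663 project (Aschbacher, unitary case), module UM8 (helper16): a non-abelian minimal normal subgroup modulo
scalars gives class 5, class 7, or the residual class.  Assembly of M8.1 (helper26, linear), UM8.2 (helper26) and UM8.3.
-/
import Cfsg.Agent.Lib.H16.AschUM8C
import Cfsg.Agent.Lib.H26.AschM8A3
import Cfsg.Agent.Lib.H26.AschUM82

set_option autoImplicit false

namespace Cfsg.Agent.Lib.H16.Asch

open Cfsg Cfsg.Geo Cfsg.Agent.Lib.Lead.Asch Cfsg.Agent.Lib.H26.Asch
open scoped MatrixGroups Matrix Kronecker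

variable {F : Type*} [Field F] [Fintype F] {n q : ℕ}

/-- **UM8** (exact signature of tools/blueprints/S5663_sigs.lean). -/
theorem utame_or_residual_of_nonabelian_minimal (hF : Fintype.card F = q ^ 2) (hn : 3 ≤ n)
    (H N : Subgroup (GL (Fin n) F)) (hH : H ≤ GU n F q) (hgood : Good H)
    (hmin : MinimalModScalars H N)
    (hnab : ¬ ∀ x ∈ N, ∀ y ∈ N, x * y * x⁻¹ * y⁻¹ ∈ scalars (Fin n) F) :
    (UC5 q H ∨ UC7 q H) ∨ InUnitaryResidualClass H := by
  obtain ⟨t, L, hL⟩ := exists_components H N hmin hnab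
  by_cases ht : 2 ≤ t
  · rcases utame_of_components hF hn H hH hgood t L hL ht with h | h
    · exact Or.inl (Or.inr h)
    · exact Or.inl (Or.inl h)
  · have h1 : t = 1 := by have := hL.pos; omega
    subst h1
    rcases uresidual_of_components_one hF hn H hH hgood L hL with h | h
    · exact Or.inl (Or.inl h)
    · exact Or.inr h

end Cfsg.Agent.Lib.H16.Asch
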