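import Mathlib
import Cfsg.Prelude.Def_Transfer
import Cfsg.Agent.Lib.L0.TransferPC
import Cfsg.Agent.Lib.H5.OmegaAction

/-! A normal 2-complement criterion for abelian Sylow 2-subgroups of rank at most two with a
distinguished involution (helper16). -/

set_option autoImplicit false

universe u

namespace Cfsg.Agent.Lib.H16

/-- `⟨a⟩` is a `p`-group if `a ^ (p ^ k) = 1`. -/
theorem isPGroup_zpowers_of_pow_pow_eq_one {G : Type*} [Group G] (p k : ℕ) {a : G}
    (ha : a ^ (p ^ k) = 1) : IsPGroup p (Subgroup.zpowers a) := by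
  intro g
  obtain ⟨j, hj⟩ := Subgroup.mem_zpowers_iff.1 g.2
  refine ⟨k, ?_⟩
  apply Subtype.ext
  rw [Subgroup.coe_pow, ← hj, Subgroup.coe_one, ← zpow_natCast, ← zpow_mul, mul_comm,
    zpow_mul, zpow_natCast, ha, one_zpow]

/-- A `p`-element normalizing a Sylow `p`-subgroup lies in it. -/
theorem mem_sylow_of_pow_eq_one_of_mem_normalizer {G : Type*} [Group G] {p : ℕ} [Fact p.Prime]
    (P : Sylow p G) {u : G} {k : ℕ} (hu : u ^ (p ^ k) = 1)
    (hn : u ∈ Subgroup.normalizer ((P : Subgroup G) : Set G)) : u ∈ (P : Subgroup G) := by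
  have hu2 : IsPGroup p (Subgroup.zpowers u) := isPGroup_zpowers_of_pow_pow_eq_one p k hu
  have h6 := hu2.inf_normalizer_sylow P
  have h7 : u ∈ Subgroup.zpowers u ⊓ Subgroup.normalizer (P : Set G) :=
    ⟨Subgroup.mem_zpowers _, hn⟩
  rw [h6] at h7
  exact h7.2

/-- Conjugation by `n ^ (2 * j)` fixes `w` if conjugation by `n` twice does. -/
theorem conj_pow_two_mul_eq {H : Type*} [Group H] {n w : H} (h : n * (n * w * n⁻¹) * n⁻¹ = w)
    (j : ℕ) : n ^ (2 * j) * w * (n ^ (2 * j))⁻¹ = w := by
  induction j with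
  | zero => simp
  | succ j ih =>
    have e : n ^ (2 * (j + 1)) = n ^ (2 * j) * (n * n) := by
      rw [mul_add, pow_add, mul_one, pow_two]
    calc n ^ (2 * (j + 1)) * w * (n ^ (2 * (j + 1)))⁻¹
        = n ^ (2 * j) * (n * (n * w * n⁻¹) * n⁻¹) * (n ^ (2 * j))⁻¹ := by rw [e]; group
      _ = w := by rw [h, ih]

/-- Let `P` be an abelian Sylow 2-subgroup of the finite group `H` with a subgroup `C` of index
at most two having a unique involution `z`, and suppose `N_H(P)` fixes `z`.  Then `H` has a normal
2-complement. -/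
theorem hasNormalPComplement_two_of_abelian_sylow {H : Type u} [Group H] [Finite H]
    (P : Sylow 2 H) (h1 : ∀ x ∈ P, ∀ y ∈ P, x * y = y * x)
    (C : Subgroup H) (z : H) (hz1 : z ≠ 1)
    (h2 : ∀ w ∈ C, w * w = 1 → w = 1 ∨ w = z)
    (h3 : ∀ x ∈ P, ∀ y ∈ P, x ∉ C → y ∉ C → x * y ∈ C)
    (h4 : ∀ g ∈ Subgroup.normalizer ((P : Subgroup H) : Set H), g * z * g⁻¹ = z) :
    Cfsg.HasNormalPComplement 2 H := by
  have : Fact (Nat.Prime 2) := ⟨Nat.prime_two⟩
  apply Cfsg.Agent.Lib.L0.hasNormalPComplement_of_normalizer_le_centralizer P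
  intro g hg
  have hPC : (P : Subgroup H) ≤ Subgroup.centralizer ((P : Subgroup H) : Set H) := by
    intro x hx
    rw [Subgroup.mem_centralizer_iff]
    intro y hy
    exact h1 y hy x hx
  obtain ⟨k, r, hr, hkr⟩ := Nat.exists_eq_two_pow_mul_odd (orderOf_pos g).ne'
  -- the 2-part
  have hu : g ^ r ∈ Subgroup.centralizer ((P : Subgroup H) : Set H) := by
    apply hPC
    apply mem_sylow_of_pow_eq_one_of_mem_normalizer P (k := k) _ (Subgroup.pow_mem _ hg r)
    rw [← pow_mul, mul_comm, ← hkr, pow_orderOf_eq_one]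
  -- the odd part
  set n := g ^ (2 ^ k) with hn
  have hnN : n ∈ Subgroup.normalizer ((P : Subgroup H) : Set H) := Subgroup.pow_mem _ hg _
  have hnr : n ^ r = 1 := by rw [hn, ← pow_mul, ← hkr, pow_orderOf_eq_one]
  have hconjP : ∀ m ∈ Subgroup.normalizer ((P : Subgroup H) : Set H), ∀ w ∈ (P : Subgroup H),
      m * w * m⁻¹ ∈ (P : Subgroup H) := fun m hm w hw => (Subgroup.mem_normalizer_iff.mp hm w).mp hw
  have hΩ : ∀ w ∈ (P : Subgroup H), w * w = 1 → n * w * n⁻¹ = w := by
    intro w hwP hw2
    by_cases hwC : w ∈ C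
    · rcases h2 w hwC hw2 with rfl | rfl
      · group
      · exact h4 n hnN
    · set w' := n * w * n⁻¹ with hw'
      have hw'P : w' ∈ (P : Subgroup H) := hconjP n hnN w hwP
      have hw'2 : w' * w' = 1 := by
        calc w' * w' = n * (w * w) * n⁻¹ := by rw [hw']; group
          _ = 1 := by rw [hw2]; group
      have hback : w = n⁻¹ * w' * n := by rw [hw']; group
      have hw'C : w' ∉ C := by
        intro hc
        rcases h2 w' hc hw'2 with h | h
        · apply hwC
          rw [hback, h]
          simp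
        · apply hwC
          have h5 := h4 n⁻¹ (Subgroup.inv_mem _ hnN)
          rw [inv_inv] at h5
          rw [hback, h, h5]
          have := h2 z
          by_contra hzC
          -- z ∈ C is needed: derive from w' = z ∈ C
          rw [h] at hc
          exact hzC hc
      have hprod : w * w' ∈ C := h3 w hwP w' hw'P hwC hw'C
      have hprod2 : (w * w') * (w * w') = 1 := by
        have hc := h1 w hwP w' hw'P
        calc (w * w') * (w * w') = w * (w' * w) * w' := by group
          _ = w * (w * w') * w' := by rw [hc]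
          _ = (w * w) * (w' * w') := by group
          _ = 1 := by rw [hw2, hw'2, one_mul]
      have hwinv : w⁻¹ = w := by
        rw [inv_eq_iff_mul_eq_one]; exact hw2
      rcases h2 _ hprod hprod2 with h | h
      · -- w' = w⁻¹ = w
        have : w' = w⁻¹ := by
          rw [eq_inv_iff_mul_eq_one, ← h]
          exact (h1 w' hw'P w hwP)
        rw [this, hwinv]
      · -- w' = w * z: contradiction with odd order
        exfalso
        have hw'eq : w' = w * z := by
          have : w' = w⁻¹ * z := by rw [← h]; group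
          rw [this, hwinv]
        have hzfix : n * z * n⁻¹ = z := h4 n hnN
        have htwice : n * (n * w * n⁻¹) * n⁻¹ = w := by
          rw [← hw', hw'eq]
          calc n * (w * z) * n⁻¹ = (n * w * n⁻¹) * (n * z * n⁻¹) := by group
            _ = w * z * z := by rw [← hw', hw'eq, hzfix]
            _ = w * (z * z) := by group
            _ = w := by
              have hzz : z * z = 1 := by
                -- z = w⁻¹ w' is a product of commuting involutions
                have hz : z = w * w' := h.symm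
                rw [hz]; exact hprod2
              rw [hzz, mul_one]
        obtain ⟨j, hj⟩ := hr
        have h5 := conj_pow_two_mul_eq htwice j
        have h6 : n ^ r * w * (n ^ r)⁻¹ = n * (n ^ (2 * j) * w * (n ^ (2 * j))⁻¹) * n⁻¹ := by
          rw [hj, pow_succ']; group
        rw [h5, hnr, ← hw', hw'eq] at h6
        apply hz1
        have : w = w * z := by simpa using h6
        have h7 : w * 1 = w * z := by rw [mul_one]; exact this
        exact (mul_left_cancel h7).symm
  have hncen : n ∈ Subgroup.centralizer ((P : Subgroup H) : Set H) :=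
    Cfsg.Agent.Lib.H5.R2.mem_centralizer_of_centralizes_omega P.2 h1 hnN hr
      (by rw [hnr]; exact Subgroup.one_mem _) hΩ
  -- Bezout
  have hcop : Nat.Coprime (2 ^ k) r := (Nat.coprime_two_left.mpr hr).pow_left k
  have hb := Nat.gcd_eq_gcd_ab (2 ^ k) r
  rw [hcop] at hb
  have hg' : g = n ^ (Nat.gcdA (2 ^ k) r) * (g ^ r) ^ (Nat.gcdB (2 ^ k) r) := by
    rw [hn, ← zpow_natCast g (2 ^ k), ← zpow_natCast g r, ← zpow_mul, ← zpow_mul, ← zpow_add, ← hb]
    simp
  rw [hg']
  exact Subgroup.mul_mem _ (Subgroup.zpow_mem _ hncen _) (Subgroup.zpow_mem _ hu _)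

end Cfsg.Agent.Lib.H16
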