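/-
EO phase 2 (helper21 architect), task EO2-E3: over `F_3` the stabiliser (in the isometry group) of an orthogonal
decomposition into isometric MINUS-type planes stabilises an orthogonal frame of isometric lines.  (helper16)
Generalises helper7's Lib/H7/AschO2E3.lean (`o2e3_stab`) to frames of any size.
-/
import Cfsg.Agent.Lib.H7.AschO2E3

set_option autoImplicit false

namespace Cfsg.Agent.Lib.H16.EOP2

open Cfsg Cfsg.Geo QuadraticMap
open scoped MatrixGroups Matrix

variable {ι : Type} [Fintype ι] [DecidableEq ι] {F : Type*} [Field F]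

/-- an isometry permuting the blocks permutes the lines of an equal-norm orthogonal frame adapted to the blocks, as soon
as a vector of norm `d` in a block is a multiple of a frame vector (`hcol`). -/
theorem frame_stab {k T : ℕ} (h2 : (2 : F) ≠ 0) (Q : QuadraticForm F (ι → F)) {t : ℕ}
    (D : Fin t → Submodule F (ι → F)) (e : Fin t → Fin k → (ι → F)) (d : F) (hd : d ≠ 0)
    (hcol : ∀ c : Fin k → F, ∑ j, c j ^ 2 = 1 → ∃ j', c j' ≠ 0 ∧ ∀ j'', c j'' ≠ 0 → j'' = j')
    (heD : ∀ i j, e i j ∈ D i) (heQ : ∀ i j, Q (e i j) = d)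
    (heo : ∀ i j j', j ≠ j' → polar Q (e i j) (e i j') = 0)
    (hEo : ∀ p p' : Fin t × Fin k, p ≠ p' → polar Q (e p.1 p.2) (e p'.1 p'.2) = 0)
    (hspan : ∀ i, ∀ x ∈ D i, ∃ c : Fin k → F, x = ∑ j, c j • e i j)
    (ε : Fin T ≃ Fin t × Fin k)
    (g : GL ι F) (hgD : g ∈ decompositionStabilizer D) (hgI : g ∈ isometryGroup F (⇑Q)) :
    g ∈ decompositionStabilizer (fun K : Fin T => Submodule.span F {e (ε K).1 (ε K).2}) := by
  classical
  obtain ⟨σ, hσ⟩ := hgD
  have step1 : ∀ i j, ∃ (j' : Fin k) (c : F), c ≠ 0 ∧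
      (g : Matrix ι ι F) *ᵥ e i j = c • e (σ i) j' := by
    intro i j
    have hmem : (g : Matrix ι ι F) *ᵥ e i j ∈ D (σ i) := by
      rw [← hσ i]
      exact ⟨e i j, heD i j, by rw [Matrix.toLin'_apply]⟩
    obtain ⟨c, hc⟩ := hspan (σ i) _ hmem
    have hQ : Q ((g : Matrix ι ι F) *ᵥ e i j) = d := by
      rw [(Cfsg.Agent.Lib.H29.Orth.mem_isometryGroup_iff Q g).1 hgI, heQ]
    rw [hc, Cfsg.Agent.Lib.H29.Orth.Q_sum_orth Q (e (σ i)) (heo (σ i)) c] at hQ
    have hsum : ∑ j, c j ^ 2 = 1 := by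
      have h1 : (∑ j, c j ^ 2) * d = d := by
        rw [Finset.sum_mul]
        calc ∑ j, c j ^ 2 * d = ∑ j, c j * c j * Q (e (σ i) j) :=
              Finset.sum_congr rfl (fun j _ => by rw [heQ, pow_two])
          _ = d := hQ
      have h2' : (∑ j, c j ^ 2) * d = 1 * d := by rw [h1, one_mul]
      exact mul_right_cancel₀ hd h2'
    obtain ⟨j', hj', huniq⟩ := hcol c hsum
    refine ⟨j', c j', hj', ?_⟩
    rw [hc]
    apply Finset.sum_eq_single j'
    · intro j'' _ hne
      have : c j'' = 0 := by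
        by_contra hc0
        exact hne (huniq j'' hc0)
      rw [this, zero_smul]
    · intro h
      exact absurd (Finset.mem_univ _) h
  choose J C hC0 hgE using step1
  let E : Fin t × Fin k → (ι → F) := fun p => e p.1 p.2
  let ρ : Fin t × Fin k → Fin t × Fin k := fun p => (σ p.1, J p.1 p.2)
  have hgE' : ∀ p, (g : Matrix ι ι F) *ᵥ E p = C p.1 p.2 • E (ρ p) := fun p => hgE p.1 p.2
  have hpol : ∀ p, polar Q (E p) (E p) = 2 * d := by
    intro p
    rw [Cfsg.Agent.Lib.H29.Orth.polar_self', heQ]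
  have hinj : Function.Injective ρ := by
    intro p p' hpp
    by_contra hne
    have h1 : (g : Matrix ι ι F) *ᵥ (C p'.1 p'.2 • E p - C p.1 p.2 • E p') = 0 := by
      rw [Matrix.mulVec_sub, Matrix.mulVec_smul, Matrix.mulVec_smul, hgE' p, hgE' p', hpp, smul_smul,
        smul_smul, mul_comm, sub_self]
    have h3 : C p'.1 p'.2 • E p - C p.1 p.2 • E p' = 0 := by
      have := congrArg (fun v => ((g⁻¹ : GL ι F) : Matrix ι ι F) *ᵥ v) h1
      simp only [Cfsg.Agent.Lib.H29.Orth.gl_inv_mulVec, Matrix.mulVec_zero] at this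
      exact this
    have h4 := congrArg (fun v => polar Q (E p) v) h3
    have hE0' : polar Q (E p) (E p') = 0 := hEo p p' hne
    simp only [polar_sub_right, polar_smul_right, polar_zero_right, hpol, hE0', smul_eq_mul,
      mul_zero, sub_zero] at h4
    rcases mul_eq_zero.1 h4 with h | h
    · exact hC0 p'.1 p'.2 h
    · exact mul_ne_zero h2 hd h
  let ρe : Equiv.Perm (Fin t × Fin k) := Equiv.ofBijective ρ (Finite.injective_iff_bijective.1 hinj)
  refine ⟨(ε.trans (ρe.trans ε.symm) : Equiv.Perm (Fin T)), ?_⟩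
  intro K
  have hk : ε ((ε.trans (ρe.trans ε.symm) : Equiv.Perm (Fin T)) K) = ρ (ε K) := by
    simp [ρe]
  beta_reduce
  rw [hk, Submodule.map_span, Set.image_singleton, Matrix.toLin'_apply]
  have := hgE' (ε K)
  show Submodule.span F {(g : Matrix ι ι F) *ᵥ E (ε K)} = Submodule.span F {E (ρ (ε K))}
  rw [this]
  exact Submodule.span_singleton_smul_eq (IsUnit.mk0 _ (hC0 _ _)) _

/-- two squares with sum one over `F_3`: exactly one of them is not zero. -/
theorem o22_col [Fintype F] (hq : Fintype.card F = 3) (c : Fin 2 → F) (hc : ∑ j, c j ^ 2 = 1) :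
    ∃ j', c j' ≠ 0 ∧ ∀ j'', c j'' ≠ 0 → j'' = j' := by
  have h2 := Cfsg.Agent.Lib.H29.Orth.f3_two_ne (F := F) hq
  rw [Fin.sum_univ_two] at hc
  have hsq : ∀ x : F, x ≠ 0 → x ^ 2 = 1 := by
    intro x hx
    rcases Cfsg.Agent.Lib.H29.Orth.f3_cases hq x with h | h | h
    · exact absurd h hx
    · rw [h]; ring
    · rw [h]; ring
  by_cases h0 : c 0 = 0
  · by_cases h1 : c 1 = 0
    · rw [h0, h1] at hc
      norm_num at hc
    · refine ⟨1, h1, fun j hj => ?_⟩
      fin_cases j
      · exact absurd h0 hj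
      · rfl
  · by_cases h1 : c 1 = 0
    · refine ⟨0, h0, fun j hj => ?_⟩
      fin_cases j
      · rfl
      · exact absurd h1 hj
    · rw [hsq _ h0, hsq _ h1] at hc
      exfalso
      apply h2
      have : (1 : F) = 0 := by linear_combination hc
      exact absurd this one_ne_zero

/-- the generic statement (any finite index type): index the lines by any `Fin T ≃ Fin t × Fin 2`. -/
theorem minus_planes_gen [Fintype F] (hq : Fintype.card F = 3) (Q : QuadraticForm F (ι → F)) {t T : ℕ}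
    (D : Fin t → Submodule F (ι → F)) (hD : IsOrthogonalMDecomposition (⇑Q) 2 D)
    (hminus : ∀ i, ¬ IsPlusTypeOn (⇑Q) (D i)) (ε : Fin T ≃ Fin t × Fin 2) :
    ∃ D' : Fin T → Submodule F (ι → F), IsOrthogonalMDecomposition (⇑Q) 1 D' ∧
      decompositionStabilizer D ⊓ isometryGroup F (⇑Q) ≤ decompositionStabilizer D' := by
  classical
  have h2 := Cfsg.Agent.Lib.H29.Orth.f3_two_ne (F := F) hq
  have hdec := hD.decomp.decomp
  have ht2 := hdec.two_le
  let i0 : Fin t := ⟨0, by omega⟩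
  obtain ⟨b, hbD, hbo, hbQ⟩ := Cfsg.Agent.Lib.H29.Orth.exists_orth_basis Q h2 (D i0)
    (hdec.finrank_eq i0) (hD.decomp.nondegenerate i0)
  have hbeq := Cfsg.Agent.Lib.H29.Orth.equalize_two hq Q (D i0) (hdec.finrank_eq i0) (hminus i0) b hbD
    hbo hbQ
  set d := Q (b 0) with hd_def
  have hd : d ≠ 0 := hbQ 0
  have hall : ∀ i, ∃ bi : Fin 2 → (ι → F), (∀ j, bi j ∈ D i) ∧
      (∀ j j', j ≠ j' → polar Q (bi j) (bi j') = 0) ∧ ∀ j, Q (bi j) = d :=
    fun i => Cfsg.Agent.Lib.H29.Orth.transport_frame Q (D i0) (D i) (hD.isometric i0 i) b hbD hbo d hbeq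
  choose e heD heo heQ using hall
  have hspan : ∀ i, ∀ x ∈ D i, ∃ c : Fin 2 → F, x = ∑ j, c j • e i j := fun i =>
    Cfsg.Agent.Lib.H29.Orth.span_of_orth Q h2 (D i) (hdec.finrank_eq i) (e i) (heD i) (heo i)
      (fun j => by rw [heQ]; exact hd)
  have hEo : ∀ p p' : Fin t × Fin 2, p ≠ p' → polar Q (e p.1 p.2) (e p'.1 p'.2) = 0 := by
    rintro ⟨i, j⟩ ⟨i', j'⟩ hne
    by_cases hi : i = i'
    · subst hi
      exact heo i j j' (fun h => hne (by rw [h]))
    · exact hD.decomp.orthogonal i i' hi _ (heD i j) _ (heD i' j')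
  have hcard : Fintype.card ι = t * 2 :=
    Cfsg.Agent.Lib.H29.Orth.card_eq_of_decomp D hdec.indep hdec.iSup_eq_top hdec.finrank_eq
  have hT : T = t * 2 := by
    have := Fintype.card_congr ε
    simpa using this
  refine ⟨fun K : Fin T => Submodule.span F {e (ε K).1 (ε K).2}, ?_, ?_⟩
  · apply Cfsg.Agent.Lib.H7.OP2.o2e3_lines Q h2 (by omega) (by omega)
      (fun K : Fin T => e (ε K).1 (ε K).2) d hd
    · intro K
      exact heQ _ _
    · intro K K' hne
      apply hEo
      intro h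
      exact hne (ε.injective h)
  · rintro g ⟨hgD, hgI⟩
    exact frame_stab h2 Q D e d hd (o22_col hq) heD heQ heo hEo hspan ε g hgD hgI

/-- **EO2-E3** (exact signature of tools/blueprints/EO2_sigs.lean). -/
theorem exists_lines_of_minus_planes {F : Type*} [Field F] [Fintype F] {n : ℕ} (hq : Fintype.card F = 3)
    (Q : (Fin n → F) → F) (hQ : IsNondegenerateQuadraticForm Q)
    {t : ℕ} (D : Fin t → Submodule F (Fin n → F)) (hD : IsOrthogonalMDecomposition Q 2 D)
    (hminus : ∀ i, ¬ IsPlusTypeOn Q (D i)) :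
    ∃ D' : Fin n → Submodule F (Fin n → F), IsOrthogonalMDecomposition Q 1 D' ∧
      decompositionStabilizer D ⊓ isometryGroup F Q ≤ decompositionStabilizer D' := by
  have hdec := hD.decomp.decomp
  have hcard : Fintype.card (Fin n) = t * 2 :=
    Cfsg.Agent.Lib.H29.Orth.card_eq_of_decomp D hdec.indep hdec.iSup_eq_top hdec.finrank_eq
  rw [Fintype.card_fin] at hcard
  exact minus_planes_gen hq (Cfsg.Agent.Lib.H29.Orth.toQF Q hQ) D hD hminus
    ((finCongr hcard).trans finProdFinEquiv.symm)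

end Cfsg.Agent.Lib.H16.EOP2
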