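/-
EO phase 2 (helper21 architect), task EO2-E5: `q = 3`, symmetric ⊗ symmetric with FIRST factor of dimension 3:
the tensor stabiliser (inside the isometry group) stabilises an orthogonal decomposition into three isometric
blocks `w_i ⊗ F^{n₂}` of the type of `f₂`.  (helper16)
Adaptation of helper25's Lib/H25/AschSP2E2d (`c4_three_q3_aux`) with the frame in the first factor and explicit blocks.
-/
import Cfsg.Agent.Lib.H25.AschSP2E2d
import Cfsg.Agent.Lib.H29.OrthFrame

set_option autoImplicit false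

namespace Cfsg.Agent.Lib.H16.EOP2

open Cfsg Cfsg.Geo Cfsg.Agent.Lib.H25.AschSP2 Cfsg.Agent.Lib.H7.Asch
open scoped MatrixGroups Matrix Kronecker

variable {F : Type*} [Field F] {ι : Type} [Fintype ι] [DecidableEq ι] {n₁ n₂ : ℕ}

/-- the frame map of helper25 for the swapped bijection is `v ↦ P ((w_i ⊗ v) ∘ e)`. -/
theorem frameL_swap_apply (e : ι ≃ Fin n₁ × Fin n₂) (P : GL ι F) (P₁ : Matrix (Fin n₁) (Fin n₁) F)
    (i : Fin n₁) (v : Fin n₂ → F) :
    frameL (e.trans (Equiv.prodComm (Fin n₁) (Fin n₂))) P P₁ i v = PhiL e P (pt (wcol P₁ i) v) := by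
  rw [frameL_apply, PhiL_apply, PhiL_apply]
  congr 1
  funext k
  simp only [Function.comp_apply, pt_apply, Equiv.trans_apply, Equiv.prodComm_apply, Prod.fst_swap,
    Prod.snd_swap]
  ring

variable [Fintype F]

/-- **EO2-E5**, any finite index type. -/
theorem blocks_of_tensor_three_gen (hq : Fintype.card F = 3) (Q : (ι → F) → F)
    (hQ : IsNondegenerateQuadraticForm Q)
    (n₂ : ℕ) (hn₂ : 0 < n₂) (e : ι ≃ Fin 3 × Fin n₂) (P : GL ι F)
    (f₁ : (Fin 3 → F) → (Fin 3 → F) → F) (f₂ : (Fin n₂ → F) → (Fin n₂ → F) → F)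
    (h₁ : IsSymmetricForm f₁) (h₂ : IsSymmetricForm f₂)
    (hT : IsTensorFormStructure id (QuadraticMap.polar Q) f₁ f₂ e P) :
    ∃ D : Fin 3 → Submodule F (ι → F), IsOrthogonalMDecomposition Q n₂ D ∧
      (∀ i, IsPlusTypeOn Q (D i) ↔ IsPlusTypeOn (fun v : Fin n₂ → F => f₂ v v) ⊤) ∧
      tensorProductSubgroup 3 n₂ e P ⊓ isometryGroup F Q ≤ decompositionStabilizer D := by
  classical
  obtain ⟨c, hc0, hform⟩ := hT
  have h2 : (2 : F) ≠ 0 := Cfsg.Agent.Lib.H29.Orth.f3_two_ne hq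
  set QF := Cfsg.Agent.Lib.H29.Orth.toQF Q hQ with hQF
  set G₁ : Matrix (Fin 3) (Fin 3) F := gramMatrix f₁ with hG₁
  set G₂ : Matrix (Fin n₂) (Fin n₂) F := gramMatrix f₂ with hG₂
  have hf₂G : ∀ x y, f₂ x y = x ⬝ᵥ (G₂ *ᵥ y) := bilin_eq_gram f₂ h₂.bilinear
  obtain ⟨P₁, ε, hε0, hframe⟩ := exists_frame_three hq f₁ h₁
  rw [← hG₁] at hframe
  set P₁m : Matrix (Fin 3) (Fin 3) F := (P₁ : Matrix (Fin 3) (Fin 3) F) with hP₁m
  have hWW : ∀ i j, wcol P₁m i ⬝ᵥ (G₁ *ᵥ wcol P₁m j) = if i = j then ε else 0 := by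
    intro i j
    rw [wcol_dot, hframe, Matrix.smul_apply, Matrix.one_apply, smul_eq_mul]
    split_ifs <;> simp
  set e' : ι ≃ Fin n₂ × Fin 3 := e.trans (Equiv.prodComm (Fin 3) (Fin n₂)) with he'
  set L : Fin 3 → (Fin n₂ → F) →ₗ[F] (ι → F) := fun i => frameL e' P P₁m i with hL
  have hLa : ∀ i v, L i v = PhiL e P (pt (wcol P₁m i) v) := fun i v => frameL_swap_apply e P P₁m i v
  have hLL : ∀ i j x y, QuadraticMap.polar Q (L i x) (L j y) =
      c * (if i = j then ε else 0) * f₂ x y := by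
    intro i j x y
    rw [hLa, hLa, PhiL_apply, PhiL_apply, hform, formOfGram_kron_pt, ← hf₂G, hWW]
    ring
  have hpself : ∀ a : ι → F, QuadraticMap.polar Q a a = 2 * Q a :=
    fun a => Cfsg.Agent.Lib.H29.Orth.polar_self' QF a
  have hQL : ∀ i x, Q (L i x) = c * ε * f₂ x x / 2 := by
    intro i x
    have h1 := hLL i i x x
    rw [if_pos rfl, hpself] at h1
    field_simp
    linear_combination h1
  have hinj : ∀ i, Function.Injective (L i) := by
    intro i
    rw [← LinearMap.ker_eq_bot, LinearMap.ker_eq_bot']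
    intro x hx
    by_contra hx0
    obtain ⟨⟨x', hx'⟩, -⟩ := h₂.nondegenerate x hx0
    apply hx'
    have h1 := hLL i i x' x
    rw [hx, if_pos rfl] at h1
    have h3 : QuadraticMap.polar Q (L i x') 0 = 0 := QuadraticMap.polar_zero_right QF (L i x')
    rw [h3] at h1
    rcases mul_eq_zero.1 h1.symm with h | h
    · exact absurd h (mul_ne_zero hc0 hε0)
    · exact h
  have hdec : IsMDecomposition n₂ (fun j => LinearMap.range (L j)) :=
    isMDecomposition_frame e' P P₁ (by norm_num : 2 ≤ 3) hn₂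
  refine ⟨fun j => LinearMap.range (L j), ⟨⟨hdec, ?_, ?_⟩, ?_⟩, ?_, ?_⟩
  · -- non-degenerate
    rintro j _ ⟨x, rfl⟩ hx0
    have hx : x ≠ 0 := by
      rintro rfl
      exact hx0 (map_zero _)
    obtain ⟨⟨x', hx'⟩, ⟨x'', hx''⟩⟩ := h₂.nondegenerate x hx
    refine ⟨⟨L j x', ⟨x', rfl⟩, ?_⟩, ⟨L j x'', ⟨x'', rfl⟩, ?_⟩⟩
    · rw [hLL, if_pos rfl]
      exact mul_ne_zero (mul_ne_zero hc0 hε0) hx'
    · rw [hLL, if_pos rfl]
      exact mul_ne_zero (mul_ne_zero hc0 hε0) hx''
  · -- orthogonal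
    rintro i j hij _ ⟨x, rfl⟩ _ ⟨y, rfl⟩
    rw [hLL, if_neg hij, mul_zero, zero_mul]
  · -- isometric
    intro i j
    refine ⟨(LinearEquiv.ofInjective (L i) (hinj i)).symm.trans (LinearEquiv.ofInjective (L j) (hinj j)),
      fun w => ?_⟩
    obtain ⟨x, hx⟩ := w.2
    have hw : w = LinearEquiv.ofInjective (L i) (hinj i) x := Subtype.ext hx.symm
    rw [LinearEquiv.trans_apply, hw, LinearEquiv.symm_apply_apply, LinearEquiv.ofInjective_apply,
      LinearEquiv.ofInjective_apply, hQL, hQL]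
  · -- the type
    intro i
    have hfr : Module.finrank F (LinearMap.range (L i)) = n₂ := hdec.finrank_eq i
    constructor
    · rintro ⟨U, hUD, hUs, hUd⟩
      refine ⟨U.comap (L i), le_top, ?_, ?_⟩
      · intro v hv
        have h1 := hUs (L i v) hv
        rw [hQL] at h1
        show f₂ v v = 0
        have h3 : c * ε * f₂ v v = 0 := by
          field_simp at h1
          rw [h1, mul_zero]
        rcases mul_eq_zero.1 h3 with h | h
        · exact absurd h (mul_ne_zero hc0 hε0)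
        · exact h
      · have hmap : (U.comap (L i)).map (L i) = U := Submodule.map_comap_eq_of_le hUD
        have h4 := (Submodule.equivMapOfInjective (L i) (hinj i) (U.comap (L i))).finrank_eq
        rw [hmap] at h4
        rw [h4, hUd, hfr, finrank_top, Module.finrank_fin_fun]
    · rintro ⟨U₂, -, hUs, hUd⟩
      refine ⟨U₂.map (L i), ?_, ?_, ?_⟩
      · rintro _ ⟨v, -, rfl⟩
        exact ⟨v, rfl⟩
      · rintro _ ⟨v, hv, rfl⟩
        rw [hQL]
        have : f₂ v v = 0 := hUs v hv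
        rw [this, mul_zero, zero_div]
      · have h4 := (Submodule.equivMapOfInjective (L i) (hinj i) U₂).finrank_eq
        rw [← h4, hUd, hfr, finrank_top, Module.finrank_fin_fun]
  · -- the stabiliser
    rintro g ⟨hg, hgI⟩
    have hgf : ∀ u v, QuadraticMap.polar Q ((g : Matrix ι ι F) *ᵥ u) ((g : Matrix ι ι F) *ᵥ v) =
        QuadraticMap.polar Q u v := fun u v => Cfsg.Agent.Lib.H29.Orth.polar_isometry QF hgI u v
    obtain ⟨a, b, hab⟩ := exists_kron_of_mem_tensorProductSubgroup e P g hg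
    set am : Matrix (Fin 3) (Fin 3) F := (a : Matrix (Fin 3) (Fin 3) F) with ham
    set bm : Matrix (Fin n₂) (Fin n₂) F := (b : Matrix (Fin n₂) (Fin n₂) F) with hbm
    have hkron : ∀ y y', formOfGram id (G₁ ⊗ₖ G₂) ((am ⊗ₖ bm) *ᵥ y) ((am ⊗ₖ bm) *ᵥ y') =
        formOfGram id (G₁ ⊗ₖ G₂) y y' := by
      intro y y'
      have h1 := hgf (PhiL e P y) (PhiL e P y')
      rw [hab, hab, PhiL_apply, PhiL_apply, hform, PhiL_apply, PhiL_apply, hform] at h1
      exact mul_left_cancel₀ hc0 h1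
    have hentry : ∀ u v p q, (amᵀ * G₁ * am) u v * (bmᵀ * G₂ * bm) p q = G₁ u v * G₂ p q := by
      intro u v p q
      have h1 := hkron (pt (Pi.single u 1) (Pi.single p 1)) (pt (Pi.single v 1) (Pi.single q 1))
      rw [kron_mulVec_pt, kron_mulVec_pt, formOfGram_kron_pt, formOfGram_kron_pt, mulVec_single_dot,
        mulVec_single_dot, single_dot_single, single_dot_single] at h1
      exact h1
    -- `G₂ ≠ 0`, `G₁ ≠ 0`
    obtain ⟨p, q, hpq⟩ : ∃ p q, G₂ p q ≠ 0 := by
      by_contra hcon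
      push Not at hcon
      have hG0 : G₂ = 0 := Matrix.ext hcon
      set x0 : Fin n₂ → F := Pi.single ⟨0, hn₂⟩ 1 with hx0
      have hx0ne : x0 ≠ 0 := by
        intro h0
        have := congrFun h0 ⟨0, hn₂⟩
        simp [hx0] at this
      obtain ⟨⟨x', hx'⟩, -⟩ := h₂.nondegenerate x0 hx0ne
      apply hx'
      rw [hf₂G, hG0, Matrix.zero_mulVec, dotProduct_zero]
    have hG₁0 : ∃ u v, G₁ u v ≠ 0 := by
      by_contra hcon
      push Not at hcon
      have hG0 : G₁ = 0 := Matrix.ext hcon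
      rw [hG0, Matrix.mul_zero, Matrix.zero_mul] at hframe
      have := congrFun (congrFun hframe 0) 0
      simp at this
      exact hε0 this.symm
    set β : F := (bmᵀ * G₂ * bm) p q with hβ
    have hβ0 : β ≠ 0 := by
      intro h0
      obtain ⟨u, v, huv⟩ := hG₁0
      have := hentry u v p q
      rw [← hβ, h0, mul_zero] at this
      exact mul_ne_zero huv hpq this.symm
    set lam : F := G₂ p q / β with hlam
    have ha2 : amᵀ * G₁ * am = lam • G₁ := by
      ext u v
      rw [Matrix.smul_apply, smul_eq_mul, hlam]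
      have := hentry u v p q
      rw [← hβ] at this
      field_simp
      linear_combination this
    -- the matrix of `a` in the frame
    set a' : GL (Fin 3) F := P₁⁻¹ * a * P₁ with ha'
    have hPa : P₁m * (a' : Matrix (Fin 3) (Fin 3) F) = am * P₁m := by
      rw [ha', hP₁m, ham, ← Units.val_mul, ← Units.val_mul]
      congr 1
      group
    have ha'2 : (a' : Matrix (Fin 3) (Fin 3) F)ᵀ * (a' : Matrix (Fin 3) (Fin 3) F) =
        lam • (1 : Matrix (Fin 3) (Fin 3) F) := by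
      have h1 : ε • ((a' : Matrix (Fin 3) (Fin 3) F)ᵀ * (a' : Matrix (Fin 3) (Fin 3) F)) =
          ε • (lam • (1 : Matrix (Fin 3) (Fin 3) F)) := by
        calc ε • ((a' : Matrix (Fin 3) (Fin 3) F)ᵀ * (a' : Matrix (Fin 3) (Fin 3) F))
            = (a' : Matrix (Fin 3) (Fin 3) F)ᵀ * (ε • (1 : Matrix (Fin 3) (Fin 3) F)) *
                (a' : Matrix (Fin 3) (Fin 3) F) := by
              rw [Matrix.mul_smul, Matrix.mul_one, Matrix.smul_mul]
          _ = (P₁m * (a' : Matrix (Fin 3) (Fin 3) F))ᵀ * G₁ * (P₁m * (a' : Matrix (Fin 3) (Fin 3) F)) := by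
              rw [← hframe, Matrix.transpose_mul]
              simp only [Matrix.mul_assoc]
          _ = P₁mᵀ * (amᵀ * G₁ * am) * P₁m := by
              rw [hPa, Matrix.transpose_mul]
              simp only [Matrix.mul_assoc]
          _ = ε • (lam • (1 : Matrix (Fin 3) (Fin 3) F)) := by
              rw [ha2, Matrix.mul_smul, Matrix.smul_mul, hframe, smul_comm]
      exact smul_right_injective _ hε0 h1
    obtain ⟨-, σ, hσ⟩ := monomial_of_similarity_three hq a' lam ha'2
    have haW : ∀ j, am *ᵥ wcol P₁m j = (a' : Matrix (Fin 3) (Fin 3) F) (σ j) j • wcol P₁m (σ j) := by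
      intro j
      funext i
      have h1 : (am *ᵥ wcol P₁m j) i = (am * P₁m) i j := by
        simp only [Matrix.mulVec, dotProduct, wcol, Matrix.mul_apply]
      rw [h1, ← hPa, Matrix.mul_apply, Finset.sum_eq_single (σ j)]
      · simp only [Pi.smul_apply, wcol, smul_eq_mul]
        ring
      · intro k _ hk
        have : (a' : Matrix (Fin 3) (Fin 3) F) k j = 0 := by
          by_contra hne
          exact hk ((hσ k j).1 hne)
        rw [this, mul_zero]
      · intro h
        exact absurd (Finset.mem_univ _) h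
    refine ⟨σ, fun j => ?_⟩
    have hginj : Function.Injective (Matrix.toLin' (g : Matrix ι ι F)) := by
      intro x y hxy
      rw [Matrix.toLin'_apply, Matrix.toLin'_apply] at hxy
      have := congrArg (fun v => ((g⁻¹ : GL ι F) : Matrix ι ι F) *ᵥ v) hxy
      simpa [Matrix.mulVec_mulVec, ← Units.val_mul] using this
    apply Submodule.eq_of_le_of_finrank_eq
    · rintro _ ⟨_, ⟨x, rfl⟩, rfl⟩
      refine ⟨(a' : Matrix (Fin 3) (Fin 3) F) (σ j) j • (bm *ᵥ x), ?_⟩
      rw [Matrix.toLin'_apply, hLa, hLa, hab, kron_mulVec_pt, haW, pt_smul_left, ← pt_smul_right]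
    · rw [← (Submodule.equivMapOfInjective _ hginj _).finrank_eq]
      exact (hdec.finrank_eq j).trans (hdec.finrank_eq (σ j)).symm

/-- **EO2-E5** (exact signature of tools/blueprints/EO2_sigs.lean). -/
theorem exists_blocks_of_tensor_three {n : ℕ} (hq : Fintype.card F = 3) (Q : (Fin n → F) → F)
    (hQ : IsNondegenerateQuadraticForm Q)
    (n₂ : ℕ) (hn₂ : 0 < n₂) (e : Fin n ≃ Fin 3 × Fin n₂) (P : GL (Fin n) F)
    (f₁ : (Fin 3 → F) → (Fin 3 → F) → F) (f₂ : (Fin n₂ → F) → (Fin n₂ → F) → F)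
    (h₁ : IsSymmetricForm f₁) (h₂ : IsSymmetricForm f₂)
    (hT : IsTensorFormStructure id (QuadraticMap.polar Q) f₁ f₂ e P) :
    ∃ D : Fin 3 → Submodule F (Fin n → F), IsOrthogonalMDecomposition Q n₂ D ∧
      (∀ i, IsPlusTypeOn Q (D i) ↔ IsPlusTypeOn (fun v : Fin n₂ → F => f₂ v v) ⊤) ∧
      tensorProductSubgroup 3 n₂ e P ⊓ isometryGroup F Q ≤ decompositionStabilizer D :=
  blocks_of_tensor_three_gen hq Q hQ n₂ hn₂ e P f₁ f₂ h₁ h₂ hT

end Cfsg.Agent.Lib.H16.EOP2
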