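/-
S5663 project (Aschbacher, unitary case), mini-project U9, task U9-2 (transport part, stub free):
`U3Data` is carried along an isometry `T` from `f₁` to `f₂`.  (helper16)
-/
import Cfsg.Agent.Lib.Lead.AschU9Defs
import Cfsg.Agent.Lib.H22.AschUM4E
import Cfsg.Agent.Lib.H20.AschUT4

set_option autoImplicit false

namespace Cfsg.Agent.Lib.H16.Asch

open Cfsg Cfsg.Geo Cfsg.Agent.Lib.Lead.Asch
open scoped MatrixGroups Matrix Kronecker

variable {F : Type*} [Field F]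

/-- if `T` carries `f₁` to `f₂` and `a` is an isometry of `f₁`, then `T a T⁻¹` is an isometry of `f₂`. -/
theorem isom_conj_of_isom {m : ℕ} {f₁ f₂ : (Fin m → F) → (Fin m → F) → F} (T : GL (Fin m) F)
    (hT : ∀ x y : Fin m → F,
      f₂ ((T : Matrix (Fin m) (Fin m) F) *ᵥ x) ((T : Matrix (Fin m) (Fin m) F) *ᵥ y) = f₁ x y)
    (a : GL (Fin m) F)
    (ha : ∀ x y : Fin m → F,
      f₁ ((a : Matrix (Fin m) (Fin m) F) *ᵥ x) ((a : Matrix (Fin m) (Fin m) F) *ᵥ y) = f₁ x y)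
    (x y : Fin m → F) :
    f₂ (((T * a * T⁻¹ : GL (Fin m) F) : Matrix (Fin m) (Fin m) F) *ᵥ x)
      (((T * a * T⁻¹ : GL (Fin m) F) : Matrix (Fin m) (Fin m) F) *ᵥ y) = f₂ x y := by
  have key : ∀ z : Fin m → F,
      ((T * a * T⁻¹ : GL (Fin m) F) : Matrix (Fin m) (Fin m) F) *ᵥ z =
        (T : Matrix (Fin m) (Fin m) F) *ᵥ ((a : Matrix (Fin m) (Fin m) F) *ᵥ
          (((T⁻¹ : GL (Fin m) F) : Matrix (Fin m) (Fin m) F) *ᵥ z)) := by
    intro z
    rw [Units.val_mul, Units.val_mul, Matrix.mulVec_mulVec, Matrix.mulVec_mulVec]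
  have hz : ∀ z : Fin m → F,
      (T : Matrix (Fin m) (Fin m) F) *ᵥ (((T⁻¹ : GL (Fin m) F) : Matrix (Fin m) (Fin m) F) *ᵥ z) = z := by
    intro z
    rw [Matrix.mulVec_mulVec, ← Units.val_mul, mul_inv_cancel, Units.val_one, Matrix.one_mulVec]
  rw [key, key, hT, ha, ← hT, hz, hz]

/-- converse direction: if `a` is an isometry of `f₂`, then `T⁻¹ a T` is an isometry of `f₁`. -/
theorem isom_conj_inv_of_isom {m : ℕ} {f₁ f₂ : (Fin m → F) → (Fin m → F) → F} (T : GL (Fin m) F)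
    (hT : ∀ x y : Fin m → F,
      f₂ ((T : Matrix (Fin m) (Fin m) F) *ᵥ x) ((T : Matrix (Fin m) (Fin m) F) *ᵥ y) = f₁ x y)
    (a : GL (Fin m) F)
    (ha : ∀ x y : Fin m → F,
      f₂ ((a : Matrix (Fin m) (Fin m) F) *ᵥ x) ((a : Matrix (Fin m) (Fin m) F) *ᵥ y) = f₂ x y)
    (x y : Fin m → F) :
    f₁ (((T⁻¹ * a * T : GL (Fin m) F) : Matrix (Fin m) (Fin m) F) *ᵥ x)
      (((T⁻¹ * a * T : GL (Fin m) F) : Matrix (Fin m) (Fin m) F) *ᵥ y) = f₁ x y := by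
  have key : ∀ z : Fin m → F,
      (T : Matrix (Fin m) (Fin m) F) *ᵥ
        (((T⁻¹ * a * T : GL (Fin m) F) : Matrix (Fin m) (Fin m) F) *ᵥ z) =
        (a : Matrix (Fin m) (Fin m) F) *ᵥ ((T : Matrix (Fin m) (Fin m) F) *ᵥ z) := by
    intro z
    rw [Matrix.mulVec_mulVec, Matrix.mulVec_mulVec, ← Units.val_mul, ← Units.val_mul]
    congr 2
    group
  rw [← hT, key, key, ha, hT]

/-- **U9-2, transport**: `U3Data` is carried along an isometry. -/
theorem u3Data_transport {f₁ f₂ : (Fin 3 → F) → (Fin 3 → F) → F}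
    {R₁ : Subgroup (GL (Fin 3) F)} {u : GL (Fin 3) F} (T : GL (Fin 3) F)
    (hT : ∀ x y : Fin 3 → F,
      f₂ ((T : Matrix (Fin 3) (Fin 3) F) *ᵥ x) ((T : Matrix (Fin 3) (Fin 3) F) *ᵥ y) = f₁ x y)
    (h : U3Data f₁ R₁ u) :
    U3Data f₂ (R₁.map (MulAut.conj T).toMonoidHom) (T * u * T⁻¹) := by
  have hmem : ∀ r ∈ R₁, T * r * T⁻¹ ∈ R₁.map (MulAut.conj T).toMonoidHom := by
    intro r hr
    exact ⟨r, hr, by simp [MulAut.conj_apply]⟩
  have hmem' : ∀ r' ∈ R₁.map (MulAut.conj T).toMonoidHom, ∃ r ∈ R₁, r' = T * r * T⁻¹ := by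
    rintro r' ⟨r, hr, rfl⟩
    exact ⟨r, hr, by simp [MulAut.conj_apply]⟩
  have hsc : ∀ r : GL (Fin 3) F, T * r * T⁻¹ ∈ scalars (Fin 3) F → r ∈ scalars (Fin 3) F := by
    intro r hr
    have := (scalars_normal (ι := Fin 3) (F := F)).conj_mem _ hr T⁻¹
    have h2 : T⁻¹ * (T * r * T⁻¹) * T⁻¹⁻¹ = r := by group
    rwa [h2] at this
  refine ⟨?_, ?_, ?_, ?_, ?_, ?_, ?_⟩
  · -- fix
    intro r' hr' x y
    obtain ⟨r, hr, rfl⟩ := hmem' r' hr'
    exact isom_conj_of_isom T hT r (h.fix r hr) x y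
  · -- norm
    intro a ha r' hr'
    obtain ⟨r, hr, rfl⟩ := hmem' r' hr'
    have h1 := h.norm (T⁻¹ * a * T) (isom_conj_inv_of_isom T hT a ha) r hr
    have h2 := hmem _ h1
    have h3 : T * (T⁻¹ * a * T * r * (T⁻¹ * a * T)⁻¹) * T⁻¹ = a * (T * r * T⁻¹) * a⁻¹ := by group
    rwa [h3] at h2
  · -- comm
    intro r' hr' s' hs'
    obtain ⟨r, hr, rfl⟩ := hmem' r' hr'
    obtain ⟨s, hs, rfl⟩ := hmem' s' hs'
    have h1 := (scalars_normal (ι := Fin 3) (F := F)).conj_mem _ (h.comm r hr s hs) T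
    have h3 : T * (r * s * r⁻¹ * s⁻¹) * T⁻¹ =
        T * r * T⁻¹ * (T * s * T⁻¹) * (T * r * T⁻¹)⁻¹ * (T * s * T⁻¹)⁻¹ := by group
    rwa [h3] at h1
  · -- pow
    intro r' hr'
    obtain ⟨r, hr, rfl⟩ := hmem' r' hr'
    have h1 : (T * r * T⁻¹) ^ 3 = T * r ^ 3 * T⁻¹ := by
      rw [← MulAut.conj_apply, ← map_pow, MulAut.conj_apply]
    rw [h1, h.pow r hr]
    group
  · -- span
    rw [eq_top_iff]
    intro Y _
    have hY : ((T⁻¹ : GL (Fin 3) F) : Matrix (Fin 3) (Fin 3) F) * Y * (T : Matrix (Fin 3) (Fin 3) F) ∈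
        Submodule.span F (matrixSet R₁) := by rw [h.span]; trivial
    have hgen : ∀ Z ∈ Submodule.span F (matrixSet R₁),
        (T : Matrix (Fin 3) (Fin 3) F) * Z * ((T⁻¹ : GL (Fin 3) F) : Matrix (Fin 3) (Fin 3) F) ∈
          Submodule.span F (matrixSet (R₁.map (MulAut.conj T).toMonoidHom)) := by
      intro Z hZ
      induction hZ using Submodule.span_induction with
      | mem Z hZ =>
        obtain ⟨r, hr, rfl⟩ := hZ
        refine Submodule.subset_span ⟨T * r * T⁻¹, hmem r hr, ?_⟩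
        simp [Units.val_mul]
      | zero => simp
      | add Z₁ Z₂ _ _ h1 h2 =>
        rw [Matrix.mul_add, Matrix.add_mul]
        exact Submodule.add_mem _ h1 h2
      | smul c Z _ h1 =>
        rw [Matrix.mul_smul, Matrix.smul_mul]
        exact Submodule.smul_mem _ c h1
    have := hgen _ hY
    have hTT : (T : Matrix (Fin 3) (Fin 3) F) * ((T⁻¹ : GL (Fin 3) F) : Matrix (Fin 3) (Fin 3) F) = 1 := by
      rw [← Units.val_mul, mul_inv_cancel, Units.val_one]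
    have h4 : (T : Matrix (Fin 3) (Fin 3) F) *
        (((T⁻¹ : GL (Fin 3) F) : Matrix (Fin 3) (Fin 3) F) * Y * (T : Matrix (Fin 3) (Fin 3) F)) *
        ((T⁻¹ : GL (Fin 3) F) : Matrix (Fin 3) (Fin 3) F) = Y := by
      rw [Matrix.mul_assoc ((T⁻¹ : GL (Fin 3) F) : Matrix (Fin 3) (Fin 3) F), ← Matrix.mul_assoc (T : Matrix (Fin 3) (Fin 3) F),
        hTT, Matrix.one_mul, Matrix.mul_assoc, hTT, Matrix.mul_one]
    rwa [h4] at this
  · -- ufix
    exact isom_conj_of_isom T hT u h.ufix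
  · -- unc
    intro r' hr' hns
    obtain ⟨r, hr, rfl⟩ := hmem' r' hr'
    have hr0 : r ∉ scalars (Fin 3) F := by
      intro hrs
      exact hns ((scalars_normal (ι := Fin 3) (F := F)).conj_mem _ hrs T)
    have h1 := h.unc r hr hr0
    intro heq
    apply h1
    have e1 : T * u * T⁻¹ * (T * r * T⁻¹) * (T * u * T⁻¹)⁻¹ * (T * r * T⁻¹) = T * (u * r * u⁻¹ * r) * T⁻¹ := by
      group
    have e2 : T * r * T⁻¹ * (T * u * T⁻¹ * (T * r * T⁻¹) * (T * u * T⁻¹)⁻¹) = T * (r * (u * r * u⁻¹)) * T⁻¹ := by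
      group
    rw [e1, e2] at heq
    exact mul_left_cancel (mul_right_cancel heq)

/-- **U9-2** from **U9-1**: the data exist for every unitary form on `F^3`, `|F| = 4`, as soon as they exist
for the standard form. -/
theorem exists_u3Data_of_std [Fintype F]
    (hstd : ∃ (R₁ : Subgroup (GL (Fin 3) F)) (u : GL (Fin 3) F), U3Data (hermForm 3 F 2) R₁ u)
    (hF : Fintype.card F = 4) (f₁ : (Fin 3 → F) → (Fin 3 → F) → F)
    (h₁ : IsUnitaryFormPow 2 f₁) :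
    ∃ (R₁ : Subgroup (GL (Fin 3) F)) (u : GL (Fin 3) F), U3Data f₁ R₁ u := by
  obtain ⟨R₀, u₀, h₀⟩ := hstd
  have hF' : Fintype.card F = 2 ^ 2 := by rw [hF]; norm_num
  obtain ⟨T, hT⟩ := Cfsg.Agent.Lib.H22.Asch.exists_isometry_unitary hF' (hermForm 3 F 2) f₁
    (Cfsg.Agent.Lib.H20.Asch.isUnitaryFormPow_hermForm hF' 3) h₁
  exact ⟨_, _, u3Data_transport T hT h₀⟩

end Cfsg.Agent.Lib.H16.Asch
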