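/-
S5663 project (Aschbacher, unitary case), mini-project U9, task U9-3a (helper16): over the field with 4 elements a
Kronecker product preserving the tensor product of two unitary forms preserves both factors.
-/
import Cfsg.Agent.Lib.H20.AschUM4P

set_option autoImplicit false

namespace Cfsg.Agent.Lib.H16.Asch

open Cfsg Cfsg.Geo Cfsg.Agent.Lib.Lead.Asch Cfsg.Agent.Lib.H6.Asch Cfsg.Agent.Lib.H20.Asch
open scoped MatrixGroups Matrix Kronecker

variable {F : Type*} [Field F]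

lemma kronecker_transpose' {d k : ℕ} (A : Matrix (Fin d) (Fin d) F) (B : Matrix (Fin k) (Fin k) F) :
    (A ⊗ₖ B)ᵀ = Aᵀ ⊗ₖ Bᵀ := by
  ext ⟨a, i⟩ ⟨b, j⟩
  simp only [Matrix.transpose_apply, Matrix.kroneckerMap_apply]

lemma kronecker_map' (τ : F →+* F) {d k : ℕ} (A : Matrix (Fin d) (Fin d) F)
    (B : Matrix (Fin k) (Fin k) F) : (A ⊗ₖ B).map τ = A.map τ ⊗ₖ B.map τ := by
  ext ⟨a, i⟩ ⟨b, j⟩
  simp only [Matrix.map_apply, Matrix.kroneckerMap_apply, map_mul]

/-- congruence of a Kronecker product by a Kronecker product. -/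
lemma kronecker_congr (τ : F →+* F) {d k : ℕ} (a G₁ : Matrix (Fin d) (Fin d) F)
    (b G₂ : Matrix (Fin k) (Fin k) F) :
    (a ⊗ₖ b)ᵀ * (G₁ ⊗ₖ G₂) * (a ⊗ₖ b).map τ = (aᵀ * G₁ * a.map τ) ⊗ₖ (bᵀ * G₂ * b.map τ) := by
  rw [kronecker_transpose', kronecker_map', ← Matrix.mul_kronecker_mul, ← Matrix.mul_kronecker_mul]

/-- cancellation of a non-zero right Kronecker factor. -/
lemma kronecker_left_cancel {d k : ℕ} (A B : Matrix (Fin d) (Fin d) F) (C : Matrix (Fin k) (Fin k) F)
    (hC : C ≠ 0) (h : A ⊗ₖ C = B ⊗ₖ C) : A = B := by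
  obtain ⟨j, j', hj⟩ : ∃ j j', C j j' ≠ 0 := by
    by_contra hcon
    push Not at hcon
    exact hC (by ext i j; exact hcon i j)
  ext i i'
  have h1 := congrFun (congrFun h (i, j)) (i', j')
  simp only [Matrix.kroneckerMap_apply] at h1
  exact mul_right_cancel₀ hj h1

/-- cancellation of a non-zero left Kronecker factor. -/
lemma kronecker_right_cancel {d k : ℕ} (C : Matrix (Fin d) (Fin d) F) (A B : Matrix (Fin k) (Fin k) F)
    (hC : C ≠ 0) (h : C ⊗ₖ A = C ⊗ₖ B) : A = B := by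
  obtain ⟨j, j', hj⟩ : ∃ j j', C j j' ≠ 0 := by
    by_contra hcon
    push Not at hcon
    exact hC (by ext i j; exact hcon i j)
  ext i i'
  have h1 := congrFun (congrFun h (j, i)) (j', i')
  simp only [Matrix.kroneckerMap_apply] at h1
  exact mul_left_cancel₀ hj h1

variable [Fintype F]

/-- **U9-3a** (signature of tools/blueprints/S5663_U9_sigs.lean, plus the necessary `0 < d`, `0 < k` as LAST hypotheses:
for `d = 0` the hypothesis is void and the conclusion on `b` fails). -/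
theorem kron_isometry_split (hF : Fintype.card F = 4) {d k : ℕ}
    (f₁ : (Fin d → F) → (Fin d → F) → F) (f₂ : (Fin k → F) → (Fin k → F) → F)
    (h₁ : IsUnitaryFormPow 2 f₁) (h₂ : IsUnitaryFormPow 2 f₂) (a : GL (Fin d) F) (b : GL (Fin k) F)
    (hab : ∀ x y : Fin d × Fin k → F,
      formOfGram (fun c : F => c ^ 2) (gramMatrix f₁ ⊗ₖ gramMatrix f₂)
        (((a : Matrix (Fin d) (Fin d) F) ⊗ₖ (b : Matrix (Fin k) (Fin k) F)) *ᵥ x)
        (((a : Matrix (Fin d) (Fin d) F) ⊗ₖ (b : Matrix (Fin k) (Fin k) F)) *ᵥ y) =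
      formOfGram (fun c : F => c ^ 2) (gramMatrix f₁ ⊗ₖ gramMatrix f₂) x y)
    (hd : 0 < d) (hk : 0 < k) :
    (∀ x y : Fin d → F, f₁ ((a : Matrix (Fin d) (Fin d) F) *ᵥ x) ((a : Matrix (Fin d) (Fin d) F) *ᵥ y) = f₁ x y) ∧
    (∀ x y : Fin k → F, f₂ ((b : Matrix (Fin k) (Fin k) F) *ᵥ x) ((b : Matrix (Fin k) (Fin k) F) *ᵥ y) = f₂ x y) := by
  classical
  have hF' : Fintype.card F = 2 ^ 2 := by rw [hF]; norm_num
  set τ : F →+* F := ((sigmaQ hF' : F ≃+* F) : F →+* F) with hτ
  have hτapp : ∀ x, τ x = x ^ 2 := fun x => sigmaQ_apply hF' x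
  have hτ2 : ∀ x, τ (τ x) = x := fun x => sigmaQ_invol hF' x
  set G₁ := gramMatrix f₁ with hG₁
  set G₂ := gramMatrix f₂ with hG₂
  set am : Matrix (Fin d) (Fin d) F := (a : Matrix (Fin d) (Fin d) F) with ham
  set bm : Matrix (Fin k) (Fin k) F := (b : Matrix (Fin k) (Fin k) F) with hbm
  have hrep₁ : Rep τ G₁ f₁ := rep_gramMatrix hF' f₁ h₁
  have hrep₂ : Rep τ G₂ f₂ := rep_gramMatrix hF' f₂ h₂
  have hG₁det : IsUnit G₁.det := hrep₁.isUnit_det h₁.nondegenerate
  have hG₂det : IsUnit G₂.det := hrep₂.isUnit_det h₂.nondegenerate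
  haveI : Nonempty (Fin d) := ⟨⟨0, hd⟩⟩
  haveI : Nonempty (Fin k) := ⟨⟨0, hk⟩⟩
  have hG₁0 : G₁ ≠ 0 := by
    intro h0
    rw [h0, Matrix.det_zero] at hG₁det
    exact not_isUnit_zero hG₁det
  have hG₂0 : G₂ ≠ 0 := by
    intro h0
    rw [h0, Matrix.det_zero] at hG₂det
    exact not_isUnit_zero hG₂det
  -- hermitian Gram matrix
  have hG₁h : (G₁.map τ)ᵀ = G₁ := by
    ext i j
    rw [Matrix.transpose_apply, Matrix.map_apply, hτapp]
    exact (h₁.herm _ _).symm
  -- the matrix identity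
  have hcong : (am ⊗ₖ bm)ᵀ * (G₁ ⊗ₖ G₂) * (am ⊗ₖ bm).map τ = G₁ ⊗ₖ G₂ := by
    apply congr_of_isometry
    intro u v
    have := hab u v
    rw [← coe_sigmaQ hF', formOfGram_eq_formOf, formOfGram_eq_formOf] at this
    exact this
  rw [kronecker_congr] at hcong
  set A := amᵀ * G₁ * am.map τ with hA
  set B := bmᵀ * G₂ * bm.map τ with hB
  have hAh : (A.map τ)ᵀ = A := by
    rw [hA, Matrix.map_mul, Matrix.map_mul, Matrix.transpose_mul, Matrix.transpose_mul,
      ← Matrix.mul_assoc]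
    have e1 : ((am.map τ).map τ)ᵀ = amᵀ := by
      ext i j
      simp only [Matrix.transpose_apply, Matrix.map_apply, hτ2]
    have e2 : (amᵀ.map τ)ᵀ = am.map τ := by
      ext i j
      rfl
    have e3 : (G₁.map τ)ᵀ = G₁ := hG₁h
    rw [e1, e2, e3]
  obtain ⟨j, j', hj⟩ : ∃ j j', G₂ j j' ≠ 0 := by
    by_contra hcon
    push Not at hcon
    exact hG₂0 (by ext i j; exact hcon i j)
  obtain ⟨i, i', hi⟩ : ∃ i i', G₁ i i' ≠ 0 := by
    by_contra hcon
    push Not at hcon
    exact hG₁0 (by ext i j; exact hcon i j)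
  have hent : ∀ p p' r r', A p p' * B r r' = G₁ p p' * G₂ r r' := by
    intro p p' r r'
    have h1 := congrFun (congrFun hcong (p, r)) (p', r')
    simpa only [Matrix.kroneckerMap_apply] using h1
  have hBjj : B j j' ≠ 0 := by
    intro h0
    have := hent i i' j j'
    rw [h0, mul_zero] at this
    exact mul_ne_zero hi hj this.symm
  set lam : F := G₂ j j' / B j j' with hlam
  have hlam0 : lam ≠ 0 := div_ne_zero hj hBjj
  have hAl : A = lam • G₁ := by
    ext p p'
    rw [Matrix.smul_apply, smul_eq_mul, hlam]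
    have := hent p p' j j'
    field_simp
    linear_combination this
  -- `lam` is fixed by `τ`
  have hlam1 : lam = 1 := by
    have h1 : (A.map τ)ᵀ = τ lam • G₁ := by
      rw [hAl]
      ext p p'
      rw [Matrix.transpose_apply, Matrix.map_apply, Matrix.smul_apply, Matrix.smul_apply, smul_eq_mul,
        smul_eq_mul, map_mul]
      congr 1
      have := congrFun (congrFun hG₁h p) p'
      rw [Matrix.transpose_apply, Matrix.map_apply] at this
      exact this
    rw [hAh, hAl] at h1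
    have h2 := congrFun (congrFun h1 i) i'
    rw [Matrix.smul_apply, Matrix.smul_apply, smul_eq_mul, smul_eq_mul] at h2
    have h3 : lam = τ lam := mul_right_cancel₀ hi h2
    rw [hτapp] at h3
    have h4 : lam * (lam - 1) = 0 := by linear_combination -h3
    rcases mul_eq_zero.1 h4 with h | h
    · exact absurd h hlam0
    · exact sub_eq_zero.1 h
  rw [hlam1, one_smul] at hAl
  have hBl : B = G₂ := by
    rw [hAl] at hcong
    exact kronecker_right_cancel G₁ B G₂ hG₁0 hcong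
  constructor
  · intro x y
    have := hrep₁.apply_mulVec am 1 (by rw [one_smul]; exact hAl) x y
    rw [one_mul] at this
    exact this
  · intro x y
    have := hrep₂.apply_mulVec bm 1 (by rw [one_smul]; exact hBl) x y
    rw [one_mul] at this
    exact this

end Cfsg.Agent.Lib.H16.Asch
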