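/-
S5663 project (Aschbacher, unitary case), mini-project U9, task U9-3 (helper16), part b: general tools
(span and irreducibility, the homomorphisms `kronHom` and `trHom`, monotonicity of the class predicates).
-/
import Cfsg.Agent.Lib.H16.AschU93a
import Cfsg.Agent.Lib.H3.AschM7B1
import Cfsg.Agent.Lib.H16.AschM8Ca

set_option autoImplicit false

namespace Cfsg.Agent.Lib.H16.Asch

open Cfsg Cfsg.Geo Cfsg.Agent.Lib.Lead.Asch Cfsg.Agent.Lib.H6.Asch Cfsg.Agent.Lib.H20.Asch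
open scoped MatrixGroups Matrix Kronecker

variable {F : Type*} [Field F]

/-- a set of matrices spanning the full matrix algebra acts irreducibly. -/
theorem actsIrreducibly_of_span_eq_top {ι : Type} [Fintype ι] [DecidableEq ι]
    {S : Set (Matrix ι ι F)} (hS : Submodule.span F S = ⊤) : ActsIrreducibly S := by
  intro W hW
  have hall : ∀ M : Matrix ι ι F, W.map (Matrix.toLin' M) ≤ W := by
    intro M
    have hM : M ∈ Submodule.span F S := by rw [hS]; trivial
    induction hM using Submodule.span_induction with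
    | mem s hs => exact hW s hs
    | zero =>
      rintro _ ⟨w, _, rfl⟩
      simp
    | add a b _ _ ha hb =>
      rintro _ ⟨w, hw, rfl⟩
      rw [map_add, LinearMap.add_apply]
      exact W.add_mem (ha ⟨w, hw, rfl⟩) (hb ⟨w, hw, rfl⟩)
    | smul c a _ ha =>
      rintro _ ⟨w, hw, rfl⟩
      rw [map_smul, LinearMap.smul_apply]
      exact W.smul_mem c (ha ⟨w, hw, rfl⟩)
  by_cases hbot : W = ⊥
  · exact Or.inl hbot
  right
  obtain ⟨w, hw, hw0⟩ := (Submodule.ne_bot_iff W).1 hbot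
  obtain ⟨i, hi⟩ : ∃ i, w i ≠ 0 := by
    by_contra hcon
    push Not at hcon
    exact hw0 (funext hcon)
  rw [eq_top_iff]
  intro v _
  have h1 : Matrix.toLin' (Matrix.vecMulVec v (Pi.single i (w i)⁻¹)) w = v := by
    rw [Matrix.toLin'_apply, Matrix.vecMulVec_mulVec]
    have : (Pi.single i (w i)⁻¹ : ι → F) ⬝ᵥ w = 1 := by
      rw [single_dotProduct, inv_mul_cancel₀ hi]
    rw [this]
    ext j
    simp
  rw [← h1]
  exact hall _ ⟨w, hw, rfl⟩

/-- a set of matrices spanning the full matrix algebra acts absolutely irreducibly. -/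
theorem actsAbsIrr_of_span_eq_top {n : ℕ} {S : Set (Matrix (Fin n) (Fin n) F)}
    (hS : Submodule.span F S = ⊤) : ActsAbsolutelyIrreducibly S :=
  ⟨actsIrreducibly_of_span_eq_top hS, fun M hM =>
    Cfsg.Agent.Lib.H3.Asch.scalar_of_commute_span hS M hM⟩

/-- Kronecker products of two spanning sets span. -/
theorem span_kronecker_eq_top {d k : ℕ} {S : Set (Matrix (Fin d) (Fin d) F)}
    {T : Set (Matrix (Fin k) (Fin k) F)} (hS : Submodule.span F S = ⊤) (hT : Submodule.span F T = ⊤) :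
    Submodule.span F {M : Matrix (Fin d × Fin k) (Fin d × Fin k) F | ∃ s ∈ S, ∃ t ∈ T, M = s ⊗ₖ t} = ⊤ := by
  set U := Submodule.span F {M : Matrix (Fin d × Fin k) (Fin d × Fin k) F | ∃ s ∈ S, ∃ t ∈ T, M = s ⊗ₖ t}
    with hU
  have h1 : ∀ t ∈ T, ∀ Y : Matrix (Fin d) (Fin d) F, Y ⊗ₖ t ∈ U := by
    intro t ht Y
    have hY : Y ∈ Submodule.span F S := by rw [hS]; trivial
    induction hY using Submodule.span_induction with
    | mem s hs => exact Submodule.subset_span ⟨s, hs, t, ht, rfl⟩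
    | zero => rw [Matrix.zero_kronecker]; exact U.zero_mem
    | add a b _ _ ha hb => rw [Matrix.add_kronecker]; exact U.add_mem ha hb
    | smul c a _ ha => rw [Matrix.smul_kronecker]; exact U.smul_mem c ha
  have h2 : ∀ (Y : Matrix (Fin d) (Fin d) F) (Y' : Matrix (Fin k) (Fin k) F), Y ⊗ₖ Y' ∈ U := by
    intro Y Y'
    have hY' : Y' ∈ Submodule.span F T := by rw [hT]; trivial
    induction hY' using Submodule.span_induction with
    | mem t ht => exact h1 t ht Y
    | zero => rw [Matrix.kronecker_zero]; exact U.zero_mem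
    | add a b _ _ ha hb => rw [Matrix.kronecker_add]; exact U.add_mem ha hb
    | smul c a _ ha => rw [Matrix.kronecker_smul]; exact U.smul_mem c ha
  rw [eq_top_iff]
  intro M _
  rw [Matrix.matrix_eq_sum_single M]
  refine U.sum_mem fun p _ => U.sum_mem fun p' _ => ?_
  have h3 : Matrix.single p p' (M p p') =
      M p p' • ((Matrix.single p.1 p'.1 (1 : F) : Matrix (Fin d) (Fin d) F) ⊗ₖ
        (Matrix.single p.2 p'.2 (1 : F) : Matrix (Fin k) (Fin k) F)) := by
    ext ⟨a, b⟩ ⟨a', b'⟩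
    obtain ⟨p1, p2⟩ := p
    obtain ⟨q1, q2⟩ := p'
    simp only [Matrix.single_apply, Matrix.smul_apply, Matrix.kroneckerMap_apply, smul_eq_mul,
      Prod.mk.injEq]
    by_cases h1 : p1 = a <;> by_cases h2 : p2 = b <;> by_cases h3 : q1 = a' <;> by_cases h4 : q2 = b' <;>
      simp [h1, h2, h3, h4]
  rw [h3]
  exact U.smul_mem _ (h2 _ _)

/-- `(a, b) ↦ a ⊗ b` as a homomorphism. -/
noncomputable def kronHom (d k : ℕ) : GL (Fin d) F × GL (Fin k) F →* GL (Fin d × Fin k) F where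
  toFun p := kronGL p.1 p.2
  map_one' := by
    apply Units.ext
    rw [kronGL_val]
    simp
  map_mul' p p' := by
    apply Units.ext
    rw [Units.val_mul, kronGL_val, kronGL_val, kronGL_val, Prod.fst_mul, Prod.snd_mul, Units.val_mul,
      Units.val_mul, Matrix.mul_kronecker_mul]

lemma kronHom_val {d k : ℕ} (a : GL (Fin d) F) (b : GL (Fin k) F) :
    ((kronHom d k (a, b) : GL (Fin d × Fin k) F) : Matrix (Fin d × Fin k) (Fin d × Fin k) F) =
      (a : Matrix (Fin d) (Fin d) F) ⊗ₖ (b : Matrix (Fin k) (Fin k) F) := rfl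

/-- `g ↦ P⁻¹ (reindex g) P` as a homomorphism. -/
noncomputable def trHom {n : ℕ} {κ : Type} [Fintype κ] [DecidableEq κ] (e : Fin n ≃ κ) (P : GL (Fin n) F) :
    GL κ F →* GL (Fin n) F :=
  (MulAut.conj P⁻¹).toMonoidHom.comp (glReindex e.symm).toMonoidHom

lemma trHom_apply {n : ℕ} {κ : Type} [Fintype κ] [DecidableEq κ] (e : Fin n ≃ κ) (P : GL (Fin n) F)
    (g : GL κ F) : trHom e P g = P⁻¹ * glReindex e.symm g * P := by
  simp [trHom, MulAut.conj_apply]

lemma trHom_injective {n : ℕ} {κ : Type} [Fintype κ] [DecidableEq κ] (e : Fin n ≃ κ) (P : GL (Fin n) F) :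
    Function.Injective (trHom e P) := by
  intro g g' h
  rw [trHom_apply, trHom_apply] at h
  have h1 : glReindex e.symm g = glReindex e.symm g' := by
    have := congrArg (fun x => P * x * P⁻¹) h
    simpa [mul_assoc] using this
  exact (glReindex e.symm).injective h1

lemma trHom_glReindex {n : ℕ} {κ : Type} [Fintype κ] [DecidableEq κ] (e : Fin n ≃ κ) (P : GL (Fin n) F)
    (h : GL (Fin n) F) : trHom e P (glReindex e (P * h * P⁻¹)) = h := by
  rw [trHom_apply, glReindex_symm_glReindex]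
  group

/-- the action of `trHom e P g` in the coordinates `P⁻¹ (x ∘ e)`. -/
lemma trHom_mulVec {n : ℕ} {κ : Type} [Fintype κ] [DecidableEq κ] (e : Fin n ≃ κ) (P : GL (Fin n) F)
    (g : GL κ F) (x : κ → F) :
    ((trHom e P g : GL (Fin n) F) : Matrix (Fin n) (Fin n) F) *ᵥ
      (((P⁻¹ : GL (Fin n) F) : Matrix (Fin n) (Fin n) F) *ᵥ (x ∘ e)) =
      ((P⁻¹ : GL (Fin n) F) : Matrix (Fin n) (Fin n) F) *ᵥ (((g : Matrix κ κ F) *ᵥ x) ∘ e) := by
  rw [trHom_apply, Units.val_mul, Units.val_mul, Matrix.mulVec_mulVec, Matrix.mul_assoc, Matrix.mul_assoc,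
    ← Units.val_mul P, mul_inv_cancel, Units.val_one, Matrix.mul_one, ← Matrix.mulVec_mulVec,
    glReindex_symm_mulVec_comp]

/-- every vector is of the form `P⁻¹ (x ∘ e)`. -/
lemma exists_coord {n : ℕ} {κ : Type} [Fintype κ] [DecidableEq κ] (e : Fin n ≃ κ) (P : GL (Fin n) F)
    (u : Fin n → F) : ∃ x : κ → F, u = ((P⁻¹ : GL (Fin n) F) : Matrix (Fin n) (Fin n) F) *ᵥ (x ∘ e) := by
  refine ⟨((P : Matrix (Fin n) (Fin n) F) *ᵥ u) ∘ e.symm, ?_⟩
  have h1 : (((P : Matrix (Fin n) (Fin n) F) *ᵥ u) ∘ e.symm) ∘ e = (P : Matrix (Fin n) (Fin n) F) *ᵥ u := by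
    funext i
    simp
  rw [h1, Matrix.mulVec_mulVec, ← Units.val_mul, inv_mul_cancel, Units.val_one, Matrix.one_mulVec]

/-- the matrix of `trHom e P g` as the image of an algebra isomorphism. -/
lemma trHom_val {n : ℕ} {κ : Type} [Fintype κ] [DecidableEq κ] (e : Fin n ≃ κ) (P : GL (Fin n) F)
    (g : GL κ F) :
    ((trHom e P g : GL (Fin n) F) : Matrix (Fin n) (Fin n) F) =
      conjAlgHom P⁻¹ (Matrix.reindexAlgEquiv F F e.symm (g : Matrix κ κ F)) := by
  rw [trHom_apply, conjAlgHom_apply, inv_inv, Units.val_mul, Units.val_mul]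
  rfl

section mono

variable [Fintype F] {n q : ℕ}

theorem UC5.mono {H K : Subgroup (GL (Fin n) F)} (hHK : H ≤ K) (h : UC5 q K) : UC5 q H := by
  rcases h with h | h | h
  · obtain ⟨F₀, r, P, h1, h2, h3, h4, h5⟩ := h
    exact Or.inl ⟨F₀, r, P, h1, h2, h3, h4, hHK.trans h5⟩
  · obtain ⟨F₀, P, h1, h2, h3, h4⟩ := h
    exact Or.inr (Or.inl ⟨F₀, P, h1, h2, h3, hHK.trans h4⟩)
  · obtain ⟨F₀, P, ζ, h1, h2, h3, h4, h5, h6, h7⟩ := h
    exact Or.inr (Or.inr ⟨F₀, P, ζ, h1, h2, h3, h4, h5, h6, hHK.trans h7⟩)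

theorem UC6.mono {H K : Subgroup (GL (Fin n) F)} (hHK : H ≤ K) (h : UC6 q K) : UC6 q H := by
  obtain ⟨r, R, p, e, k, h1, h2, h3, h4, h5, h6, h7, h8⟩ := h
  exact ⟨r, R, p, e, k, h1, h2, h3, h4, h5, h6, h7, hHK.trans h8⟩

end mono

end Cfsg.Agent.Lib.H16.Asch
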