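/-
S5663 project (Aschbacher, unitary case), mini-project U9, task U9-3 (helper16): `q = 2`, `d = k = 3`, `n = 9`:
`H ≤ GU_3(2) ⊗ GU_3(2)` normalises `R = 3^{1+2} ⊗ 3^{1+2}`, class 6 (or 5).
-/
import Cfsg.Agent.Lib.H16.AschU93b
import Cfsg.Agent.Lib.H16.AschU92t
import Cfsg.Agent.Lib.H1.AschU9M7

set_option autoImplicit false

namespace Cfsg.Agent.Lib.H16.Asch

open Cfsg Cfsg.Geo Cfsg.Agent.Lib.Lead.Asch Cfsg.Agent.Lib.H6.Asch Cfsg.Agent.Lib.H20.Asch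
  Cfsg.Agent.Lib.H1.Asch
open scoped MatrixGroups Matrix Kronecker

variable {F : Type*} [Field F]

/-- the isometry group of a two-argument form, as a subgroup of `GL`. -/
def isoGL {κ : Type} [Fintype κ] [DecidableEq κ] (f : (κ → F) → (κ → F) → F) : Subgroup (GL κ F) :=
  Cfsg.preserving (Units.coeHom (Matrix κ κ F)) f

lemma mem_isoGL {κ : Type} [Fintype κ] [DecidableEq κ] {f : (κ → F) → (κ → F) → F} {g : GL κ F} :
    g ∈ isoGL f ↔ ∀ u v, f ((g : Matrix κ κ F) *ᵥ u) ((g : Matrix κ κ F) *ᵥ v) = f u v := Iff.rfl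

lemma mem_GU_iff' {n q : ℕ} {g : GL (Fin n) F} :
    g ∈ GU n F q ↔ ∀ u v, hermForm n F q ((g : Matrix (Fin n) (Fin n) F) *ᵥ u)
      ((g : Matrix (Fin n) (Fin n) F) *ᵥ v) = hermForm n F q u v := Iff.rfl

/-- a Kronecker product of scalar matrices, transported, is scalar. -/
lemma trHom_kron_scalar_mem {n : ℕ} (e : Fin n ≃ Fin 3 × Fin 3) (P : GL (Fin n) F)
    {z₁ z₂ : GL (Fin 3) F} (h₁ : z₁ ∈ scalars (Fin 3) F) (h₂ : z₂ ∈ scalars (Fin 3) F) :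
    trHom e P (kronHom 3 3 (z₁, z₂)) ∈ scalars (Fin n) F := by
  obtain ⟨c₁, hc₁⟩ := (mem_scalars_iff z₁).1 h₁
  obtain ⟨c₂, hc₂⟩ := (mem_scalars_iff z₂).1 h₂
  rw [mem_scalars_iff]
  refine ⟨c₁ * c₂, ?_⟩
  rw [trHom_val, kronHom_val, hc₁, hc₂, Matrix.smul_kronecker, Matrix.kronecker_smul,
    Matrix.one_kronecker_one, smul_smul, map_smul, map_one, map_smul, map_one, Units.val_mul]

variable [Fintype F] {n : ℕ}

/-- **U9-3** (signature of tools/blueprints/S5663_U9_sigs.lean plus the FIRST hypothesis `hstd` = the conclusion of U9-1,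
so that this file does not depend on U9-1). -/
theorem uc56_of_kronecker_three_three_of_std {q : ℕ}
    (hstd : ∃ (R₁ : Subgroup (GL (Fin 3) F)) (u : GL (Fin 3) F), U3Data (hermForm 3 F 2) R₁ u)
    (hF : Fintype.card F = q ^ 2) (hq : q = 2)
    (H : Subgroup (GL (Fin n) F)) (hHU : H ≤ GU n F q) (e : Fin n ≃ Fin 3 × Fin 3) (P : GL (Fin n) F)
    (f₁ f₂ : (Fin 3 → F) → (Fin 3 → F) → F) (h₁ : IsUnitaryFormPow q f₁) (h₂ : IsUnitaryFormPow q f₂)
    (hform : IsTensorFormStructure (fun x : F => x ^ q) (hermForm n F q) f₁ f₂ e P⁻¹)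
    (hH : ∀ h ∈ H, glReindex e (P * h * P⁻¹) ∈ kroneckerSubgroup 3 3 F) : UC5 q H ∨ UC6 q H := by
  classical
  subst hq
  have hF4 : Fintype.card F = 4 := by rw [hF]; norm_num
  have hn9 : n = 9 := by
    have := Fintype.card_congr e
    simpa using this
  obtain ⟨c, hc0, hc⟩ := hform
  set τ : F →+* F := ((sigmaQ hF : F ≃+* F) : F →+* F) with hτ
  set G₁ := gramMatrix f₁ with hG₁
  set G₂ := gramMatrix f₂ with hG₂
  have hΦ : ∀ x y, formOfGram (fun x : F => x ^ 2) (G₁ ⊗ₖ G₂) x y = formOf τ (G₁ ⊗ₖ G₂) x y := by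
    intro x y
    rw [← coe_sigmaQ hF, formOfGram_eq_formOf]
  obtain ⟨R₁, u₁, hD₁⟩ := exists_u3Data_of_std hstd hF4 f₁ h₁
  obtain ⟨R₂, u₂, hD₂⟩ := exists_u3Data_of_std hstd hF4 f₂ h₂
  set ψ : GL (Fin 3) F × GL (Fin 3) F →* GL (Fin n) F := (trHom e P).comp (kronHom 3 3) with hψ
  have hψapp : ∀ a b, ψ (a, b) = trHom e P (kronHom 3 3 (a, b)) := fun a b => rfl
  set R : Subgroup (GL (Fin n) F) := (R₁.prod R₂).map ψ with hR
  set K : Subgroup (GL (Fin n) F) := ((isoGL f₁).prod (isoGL f₂)).map ψ with hK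
  -- membership in `GU` in the tensor coordinates
  have hGU : ∀ g : GL (Fin 3 × Fin 3) F, trHom e P g ∈ GU n F 2 ↔
      ∀ x y, formOf τ (G₁ ⊗ₖ G₂) ((g : Matrix (Fin 3 × Fin 3) (Fin 3 × Fin 3) F) *ᵥ x)
        ((g : Matrix (Fin 3 × Fin 3) (Fin 3 × Fin 3) F) *ᵥ y) = formOf τ (G₁ ⊗ₖ G₂) x y := by
    intro g
    rw [mem_GU_iff']
    constructor
    · intro hg x y
      have h1 := hg (((P⁻¹ : GL (Fin n) F) : Matrix (Fin n) (Fin n) F) *ᵥ (x ∘ e))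
        (((P⁻¹ : GL (Fin n) F) : Matrix (Fin n) (Fin n) F) *ᵥ (y ∘ e))
      rw [trHom_mulVec, trHom_mulVec, hc, hc, hΦ, hΦ] at h1
      exact mul_left_cancel₀ hc0 h1
    · intro hg u v
      obtain ⟨x, rfl⟩ := exists_coord e P u
      obtain ⟨y, rfl⟩ := exists_coord e P v
      rw [trHom_mulVec, trHom_mulVec, hc, hc, hΦ, hΦ, hg]
  have hcong₁ : ∀ a ∈ isoGL f₁, (a : Matrix (Fin 3) (Fin 3) F)ᵀ * G₁ *
      (a : Matrix (Fin 3) (Fin 3) F).map τ = G₁ := by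
    intro a ha
    apply congr_of_isometry
    intro u v
    rw [← eq_formOf_gramMatrix hF f₁ h₁]
    exact ha u v
  have hcong₂ : ∀ b ∈ isoGL f₂, (b : Matrix (Fin 3) (Fin 3) F)ᵀ * G₂ *
      (b : Matrix (Fin 3) (Fin 3) F).map τ = G₂ := by
    intro b hb
    apply congr_of_isometry
    intro u v
    rw [← eq_formOf_gramMatrix hF f₂ h₂]
    exact hb u v
  have hKGU : K ≤ GU n F 2 := by
    rintro _ ⟨⟨a, b⟩, ⟨ha, hb⟩, rfl⟩
    rw [hψapp, hGU]
    intro x y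
    rw [kronHom_val, formOf_mulVec, kronecker_congr, hcong₁ a ha, hcong₂ b hb]
  have hR₁iso : R₁ ≤ isoGL f₁ := fun r hr => hD₁.fix r hr
  have hR₂iso : R₂ ≤ isoGL f₂ := fun r hr => hD₂.fix r hr
  have hRK : R ≤ K := Subgroup.map_mono (Subgroup.prod_mono hR₁iso hR₂iso)
  have hnorm : NormalizedBy K R := by
    rintro _ ⟨⟨a, b⟩, ⟨ha, hb⟩, rfl⟩ _ ⟨⟨r, s⟩, ⟨hr, hs⟩, rfl⟩
    refine ⟨(a * r * a⁻¹, b * s * b⁻¹), ⟨hD₁.norm a ha r hr, hD₂.norm b hb s hs⟩, ?_⟩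
    rw [← map_inv, ← map_mul, ← map_mul]
    rfl
  have hHK : H ≤ K := by
    intro h hh
    obtain ⟨a, b, hab⟩ := hH h hh
    have h1 : glReindex e (P * h * P⁻¹) = kronHom 3 3 (a, b) := Units.ext hab
    have h2 : h = ψ (a, b) := by
      rw [hψapp, ← h1, trHom_glReindex]
    have h3 : trHom e P (kronHom 3 3 (a, b)) ∈ GU n F 2 := by
      rw [← hψapp, ← h2]
      exact hHU hh
    rw [hGU] at h3
    have h4 := kron_isometry_split hF4 f₁ f₂ h₁ h₂ a b (by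
      intro x y
      rw [hΦ, hΦ]
      exact h3 x y) (by norm_num) (by norm_num)
    rw [h2]
    exact ⟨(a, b), ⟨h4.1, h4.2⟩, rfl⟩
  -- the span of `R`
  have hspan : Submodule.span F (matrixSet R) = ⊤ := by
    set T' : Set (Matrix (Fin 3 × Fin 3) (Fin 3 × Fin 3) F) :=
      {M | ∃ s ∈ matrixSet R₁, ∃ t ∈ matrixSet R₂, M = s ⊗ₖ t} with hT'
    have hT'span : Submodule.span F T' = ⊤ := span_kronecker_eq_top hD₁.span hD₂.span
    set Ψ : Matrix (Fin 3 × Fin 3) (Fin 3 × Fin 3) F →ₐ[F] Matrix (Fin n) (Fin n) F :=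
      (conjAlgHom P⁻¹).comp (Matrix.reindexAlgEquiv F F e.symm).toAlgHom with hΨ
    have hsub : Ψ '' T' ⊆ matrixSet R := by
      rintro _ ⟨_, ⟨_, ⟨r, hr, rfl⟩, _, ⟨s, hs, rfl⟩, rfl⟩, rfl⟩
      refine ⟨ψ (r, s), ⟨(r, s), ⟨hr, hs⟩, rfl⟩, ?_⟩
      show ((trHom e P (kronHom 3 3 (r, s)) : GL (Fin n) F) : Matrix (Fin n) (Fin n) F) = _
      rw [trHom_val, kronHom_val]
      rfl
    rw [eq_top_iff]
    intro M _
    set M' : Matrix (Fin 3 × Fin 3) (Fin 3 × Fin 3) F :=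
      (Matrix.reindexAlgEquiv F F e.symm).symm (conjAlgHom P M) with hM'
    have h1 : Ψ M' = M := by
      show conjAlgHom P⁻¹ ((Matrix.reindexAlgEquiv F F e.symm) M') = M
      rw [hM', AlgEquiv.apply_symm_apply, conjAlgHom_inv_conj]
    have h2 : M' ∈ Submodule.span F T' := by rw [hT'span]; trivial
    have h3 := Submodule.mem_map_of_mem (f := Ψ.toLinearMap) h2
    rw [Submodule.map_span] at h3
    rw [← h1]
    exact Submodule.span_mono hsub h3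
  have hSC : SympCore K R 3 := by
    refine ⟨Nat.prime_three, hRK, hnorm, actsAbsIrr_of_span_eq_top hspan, ?_, ?_⟩
    · rintro _ ⟨⟨r, s⟩, ⟨hr, hs⟩, rfl⟩ _ ⟨⟨r', s'⟩, ⟨hr', hs'⟩, rfl⟩
      have h1 : ψ (r, s) * ψ (r', s') * (ψ (r, s))⁻¹ * (ψ (r', s'))⁻¹ =
          ψ (r * r' * r⁻¹ * r'⁻¹, s * s' * s⁻¹ * s'⁻¹) := by
        rw [← map_inv, ← map_inv, ← map_mul, ← map_mul, ← map_mul]
        rfl
      rw [h1, hψapp]
      exact trHom_kron_scalar_mem e P (hD₁.comm r hr r' hr') (hD₂.comm s hs s' hs')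
    · rintro _ ⟨⟨r, s⟩, ⟨hr, hs⟩, rfl⟩
      have h3 : 3 * Nat.gcd 2 3 = 3 := by norm_num
      rw [h3, ← map_pow, Prod.pow_mk, hD₁.pow r hr, hD₂.pow s hs]
      exact map_one ψ
  -- abelian subgroups of `R` normalised by `K` are scalar
  have hu₁K : ψ (u₁, 1) ∈ K := ⟨(u₁, 1), ⟨hD₁.ufix, Subgroup.one_mem _⟩, rfl⟩
  have hu₂K : ψ (1, u₂) ∈ K := ⟨(1, u₂), ⟨Subgroup.one_mem _, hD₂.ufix⟩, rfl⟩
  have hchar : ∀ A : Subgroup (GL (Fin n) F), A ≤ R → NormalizedBy K A →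
      (∀ x ∈ A, ∀ y ∈ A, x * y = y * x) → A ≤ scalars (Fin n) F := by
    intro A hAR hAK hAab x hx
    obtain ⟨⟨r, s⟩, ⟨hr, hs⟩, hrs⟩ := hAR hx
    by_contra hns
    have hcases : r ∉ scalars (Fin 3) F ∨ s ∉ scalars (Fin 3) F := by
      by_contra hcon
      push Not at hcon
      apply hns
      rw [← hrs, hψapp]
      exact trHom_kron_scalar_mem e P hcon.1 hcon.2
    rcases hcases with hrn | hsn
    · have hy : ψ (u₁, 1) * x * (ψ (u₁, 1))⁻¹ ∈ A := hAK _ hu₁K x hx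
      have hy' : ψ (u₁, 1) * x * (ψ (u₁, 1))⁻¹ = ψ (u₁ * r * u₁⁻¹, s) := by
        rw [← hrs, ← map_inv, ← map_mul, ← map_mul]
        congr 1
        simp
      have hcomm := hAab x hx _ hy
      rw [hy', ← hrs, ← map_mul, ← map_mul, hψapp, hψapp] at hcomm
      have h1 := trHom_injective e P hcomm
      have h2 := congrArg (fun g : GL (Fin 3 × Fin 3) F =>
        (g : Matrix (Fin 3 × Fin 3) (Fin 3 × Fin 3) F)) h1
      simp only [kronHom_val] at h2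
      have h3 := kronecker_left_cancel _ _ _ (Units.ne_zero (s * s)) h2
      exact hD₁.unc r hr hrn (Units.ext h3).symm
    · have hy : ψ (1, u₂) * x * (ψ (1, u₂))⁻¹ ∈ A := hAK _ hu₂K x hx
      have hy' : ψ (1, u₂) * x * (ψ (1, u₂))⁻¹ = ψ (r, u₂ * s * u₂⁻¹) := by
        rw [← hrs, ← map_inv, ← map_mul, ← map_mul]
        congr 1
        simp
      have hcomm := hAab x hx _ hy
      rw [hy', ← hrs, ← map_mul, ← map_mul, hψapp, hψapp] at hcomm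
      have h1 := trHom_injective e P hcomm
      have h2 := congrArg (fun g : GL (Fin 3 × Fin 3) F =>
        (g : Matrix (Fin 3 × Fin 3) (Fin 3 × Fin 3) F)) h1
      simp only [kronHom_val] at h2
      have h3 := kronecker_right_cancel _ _ _ (Units.ne_zero (r * r)) h2
      exact hD₂.unc s hs hsn (Units.ext h3).symm
  have h9 : 3 ≤ n := by omega
  rcases utame_of_sympCore_of_char hF h9 K R hKGU 3 hSC hchar with h | h
  · exact Or.inl (UC5.mono hHK h)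
  · exact Or.inr (UC6.mono hHK h)

end Cfsg.Agent.Lib.H16.Asch
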