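import Cfsg.Agent.Lib.H16.B60Atoms
import Cfsg.Agent.Lib.H22.B60KI

/-!
# S4484, part (X1): Blichfeldt's 60-degree theorem (helper16; atoms route + helper22's key inequality)
-/

set_option autoImplicit false

namespace Cfsg.Agent.Lib.H16.B60

open Module.End Cfsg.Agent.Lib.H1.Jordan
open scoped InnerProductSpace ComplexConjugate

variable {E : Type*} [NormedAddCommGroup E] [InnerProductSpace ℂ E] [FiniteDimensional ℂ E]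
variable {G : Type*} [Group G] [Finite G]

/-- **Blichfeldt's 60-degree theorem** (vector form of the spectral hypothesis). `R` irreducible by isometries,
`ε` a unit number, `F = ker (R y - ε) ≠ ⊥, ⊤`, every eigenvalue `δ` of `R y` within 60 degrees of `ε`
(`Re (conj ε * δ) ≥ 1/2`). Then `E` is the orthogonal sum of at least two nonzero subspaces permuted by `G`. -/
theorem blichfeldt60 (R : G →* (E ≃ₗᵢ[ℂ] E))
    (hirr : ∀ W : Submodule ℂ E, (∀ g, W.map (lin (R g)) ≤ W) → W = ⊥ ∨ W = ⊤)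
    (y : G) (ε : ℂ) (hε : ‖ε‖ = 1)
    (hFbot : eigenspace (lin (R y)) ε ≠ ⊥) (hFtop : eigenspace (lin (R y)) ε ≠ ⊤)
    (hspec : ∀ (δ : ℂ) (v : E), v ≠ 0 → R y v = δ • v → 1 / 2 ≤ (conj ε * δ).re) :
    ∃ 𝓦 : Finset (Submodule ℂ E), 2 ≤ 𝓦.card ∧ (∀ W ∈ 𝓦, W ≠ ⊥) ∧
      (∀ W ∈ 𝓦, ∀ W' ∈ 𝓦, W ≠ W' → W ⟂ W') ∧ sSup (𝓦 : Set (Submodule ℂ E)) = ⊤ ∧
      ∀ g, ∀ W ∈ 𝓦, W.map (lin (R g)) ∈ 𝓦 := by
  refine blichfeldt60_core R y ε hirr hFbot hFtop ?_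
  intro g w hw
  -- spectral hypothesis for the conjugate
  have hspec' : ∀ (δ : ℂ) (v : E), v ≠ 0 → R (g * y * g⁻¹) v = δ • v → 1 / 2 ≤ (conj ε * δ).re := by
    intro δ v hv hTv
    refine hspec δ (R g⁻¹ v) ?_ ?_
    · intro h0
      apply hv
      have := (R g⁻¹).injective (h0.trans (map_zero (R g⁻¹)).symm)
      exact this
    · have e1 : g⁻¹ * (g * y * g⁻¹) * g⁻¹⁻¹ = y := by group
      have h1 := conj_apply R g⁻¹ (g * y * g⁻¹) v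
      rw [e1] at h1
      rw [h1, hTv, LinearIsometryEquiv.map_smul]
  have hk := Cfsg.Agent.Lib.H22.B60.key_ineq (R (g * y * g⁻¹)) ε hε hspec'
    (eigenspace (lin (R (g * y * g⁻¹))) ε) (fun v => mem_eigenspace_iff) w
  rw [hw] at hk
  have h2 : (conj ε * ⟪w, R (g * y * g⁻¹) w⟫_ℂ).re ≤ ‖⟪w, R (g * y * g⁻¹) w⟫_ℂ‖ := by
    calc (conj ε * ⟪w, R (g * y * g⁻¹) w⟫_ℂ).re ≤ ‖conj ε * ⟪w, R (g * y * g⁻¹) w⟫_ℂ‖ :=
          Complex.re_le_norm _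
      _ = ‖⟪w, R (g * y * g⁻¹) w⟫_ℂ‖ := by
          rw [norm_mul, RCLike.norm_conj, hε, one_mul]
  have h3 : (1 + ‖(eigenspace (lin (R (g * y * g⁻¹))) ε).starProjection w‖ ^ 2) / 2
      ≤ (conj ε * ⟪w, R (g * y * g⁻¹) w⟫_ℂ).re := by
    have : (1 : ℝ) ^ 2 = 1 := one_pow 2
    rw [this] at hk
    exact hk
  exact le_trans h3 h2

/-- the same with the spectral hypothesis in `HasEigenvalue` form. -/
theorem blichfeldt60' (R : G →* (E ≃ₗᵢ[ℂ] E))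
    (hirr : ∀ W : Submodule ℂ E, (∀ g, W.map (lin (R g)) ≤ W) → W = ⊥ ∨ W = ⊤)
    (y : G) (ε : ℂ) (hε : ‖ε‖ = 1)
    (hFbot : eigenspace (lin (R y)) ε ≠ ⊥) (hFtop : eigenspace (lin (R y)) ε ≠ ⊤)
    (hspec : ∀ μ : ℂ, HasEigenvalue (lin (R y)) μ → 1 / 2 ≤ (conj ε * μ).re) :
    ∃ 𝓦 : Finset (Submodule ℂ E), 2 ≤ 𝓦.card ∧ (∀ W ∈ 𝓦, W ≠ ⊥) ∧
      (∀ W ∈ 𝓦, ∀ W' ∈ 𝓦, W ≠ W' → W ⟂ W') ∧ sSup (𝓦 : Set (Submodule ℂ E)) = ⊤ ∧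
      ∀ g, ∀ W ∈ 𝓦, W.map (lin (R g)) ∈ 𝓦 := by
  refine blichfeldt60 R hirr y ε hε hFbot hFtop ?_
  intro δ v hv hTv
  refine hspec δ ?_
  exact hasEigenvalue_of_hasEigenvector ⟨mem_eigenspace_iff.mpr hTv, hv⟩

/-- the same with irreducibility in pointwise form (`∀ g, ∀ w ∈ W, R g w ∈ W`), as in `b60_contra`. -/
theorem blichfeldt60'' (R : G →* (E ≃ₗᵢ[ℂ] E))
    (hirr : ∀ W : Submodule ℂ E, (∀ g, ∀ w ∈ W, R g w ∈ W) → W = ⊥ ∨ W = ⊤)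
    (y : G) (ε : ℂ) (hε : ‖ε‖ = 1)
    (hFbot : ∃ v : E, v ≠ 0 ∧ R y v = ε • v) (hFtop : ∃ v : E, R y v ≠ ε • v)
    (hspec : ∀ (δ : ℂ) (v : E), v ≠ 0 → R y v = δ • v → 1 / 2 ≤ (conj ε * δ).re) :
    ∃ 𝓦 : Finset (Submodule ℂ E), 2 ≤ 𝓦.card ∧ (∀ W ∈ 𝓦, W ≠ ⊥) ∧
      (∀ W ∈ 𝓦, ∀ W' ∈ 𝓦, W ≠ W' → W ⟂ W') ∧ sSup (𝓦 : Set (Submodule ℂ E)) = ⊤ ∧
      ∀ g, ∀ W ∈ 𝓦, ∀ w ∈ W, R g w ∈ W.map (lin (R g)) ∧ W.map (lin (R g)) ∈ 𝓦 := by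
  obtain ⟨𝓦, h1, h2, h3, h4, h5⟩ := blichfeldt60 R (fun W hW => hirr W (fun g w hw =>
      hW g (apply_mem_map_lin (R g) W hw))) y ε hε
    (by
      obtain ⟨v, hv0, hv⟩ := hFbot
      intro h
      have : v ∈ eigenspace (lin (R y)) ε := mem_eigenspace_iff.mpr hv
      rw [h, Submodule.mem_bot] at this
      exact hv0 this)
    (by
      obtain ⟨v, hv⟩ := hFtop
      intro h
      have : v ∈ eigenspace (lin (R y)) ε := by rw [h]; exact Submodule.mem_top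
      exact hv (mem_eigenspace_iff.mp this))
    hspec
  exact ⟨𝓦, h1, h2, h3, h4, fun g W hW w hw => ⟨apply_mem_map_lin (R g) W hw, h5 g W hW⟩⟩

end Cfsg.Agent.Lib.H16.B60
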