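import Mathlib
import Cfsg.Agent.Lib.H16.BG11a
import Cfsg.Agent.Lib.H19.BG13e
import Cfsg.Agent.S1378

/-!
# BG Lemma 14.6 (S1433) from BG Theorem 14.4 (S1375) as a hypothesis (helper16)

* `eq_of_mul_eq_mul`: uniqueness of the decomposition of an element into commuting `π`- and
  `π'`-parts.
* `H1375`: the frozen statement S1375 as a hypothesis.
* `lemma_14_6`: the statement S1433.
-/

set_option autoImplicit false
set_option linter.style.haveILetI false
set_option linter.unusedSectionVars false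
set_option linter.unusedVariables false

open Cfsg
open Cfsg.Agent.Lib.H16.BG
open Cfsg.Agent.Lib.H7.BG7
open Cfsg.Agent.Lib.H7.BG10
open Cfsg.Agent.Lib.H20.BGS
open Cfsg.Agent.Lib.H19 (IsPiCard)

namespace Cfsg.Agent.Lib.H16.BG145

universe u
variable {G : Type u} [Group G] [Finite G]

local notation:max "cj(" g ", " X ")" => Subgroup.map (MulEquiv.toMonoidHom (MulAut.conj g)) X

/-! ### `π`-parts of elements -/

/-- commuting elements of coprime orders are powers of their product. -/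
theorem mem_zpowers_mul_of_coprime {a b : G} (hab : Commute a b)
    (hcop : (orderOf a).Coprime (orderOf b)) : a ∈ Subgroup.zpowers (a * b) := by
  have h1 : (a * b) ^ orderOf b = a ^ orderOf b := by
    rw [hab.mul_pow, pow_orderOf_eq_one, mul_one]
  obtain ⟨m, hm⟩ := exists_pow_eq_self_of_coprime (x := a) hcop.symm
  have h2 : ((a * b) ^ orderOf b) ^ m = a := by rw [h1, hm]
  have h3 : ((a * b) ^ orderOf b) ^ m ∈ Subgroup.zpowers (a * b) := by
    rw [← pow_mul]; exact Subgroup.npow_mem_zpowers (a * b) _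
  rwa [h2] at h3

theorem mem_zpowers_mul_of_coprime' {a b : G} (hab : Commute a b)
    (hcop : (orderOf a).Coprime (orderOf b)) : b ∈ Subgroup.zpowers (a * b) := by
  have := mem_zpowers_mul_of_coprime hab.symm hcop.symm
  rwa [hab.symm.eq] at this

/-- orders of a `π`-element and a `π'`-element are coprime. -/
theorem coprime_orderOf_of_pi {π : Set ℕ} {a b : G}
    (ha : ∀ p : ℕ, p.Prime → p ∣ orderOf a → p ∈ π)
    (hb : ∀ p : ℕ, p.Prime → p ∣ orderOf b → p ∉ π) : (orderOf a).Coprime (orderOf b) := by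
  apply Nat.coprime_of_dvd
  intro p hp h1 h2
  exact hb p hp h2 (ha p hp h1)

/-- uniqueness of the decomposition into commuting `π`- and `π'`-parts. -/
theorem eq_of_mul_eq_mul {π : Set ℕ} {a b a' b' : G}
    (ha : ∀ p : ℕ, p.Prime → p ∣ orderOf a → p ∈ π)
    (hb : ∀ p : ℕ, p.Prime → p ∣ orderOf b → p ∉ π)
    (ha' : ∀ p : ℕ, p.Prime → p ∣ orderOf a' → p ∈ π)
    (hb' : ∀ p : ℕ, p.Prime → p ∣ orderOf b' → p ∉ π)
    (hab : Commute a b) (hab' : Commute a' b') (h : a * b = a' * b') : a = a' ∧ b = b' := by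
  have hcop := coprime_orderOf_of_pi ha hb
  have hcop' := coprime_orderOf_of_pi ha' hb'
  have h1 : a ∈ Subgroup.zpowers (a * b) := mem_zpowers_mul_of_coprime hab hcop
  have h2 : b ∈ Subgroup.zpowers (a * b) := mem_zpowers_mul_of_coprime' hab hcop
  have h3 : a' ∈ Subgroup.zpowers (a * b) := by
    rw [h]; exact mem_zpowers_mul_of_coprime hab' hcop'
  have h4 : b' ∈ Subgroup.zpowers (a * b) := by
    rw [h]; exact mem_zpowers_mul_of_coprime' hab' hcop'
  have comm : ∀ u ∈ Subgroup.zpowers (a * b), ∀ v ∈ Subgroup.zpowers (a * b), Commute u v := by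
    intro u hu v hv
    obtain ⟨n, rfl⟩ := Subgroup.mem_zpowers_iff.1 hu
    obtain ⟨m, rfl⟩ := Subgroup.mem_zpowers_iff.1 hv
    exact (Commute.refl (a * b)).zpow_zpow n m
  have hc : a'⁻¹ * a = b' * b⁻¹ := by
    have e1 : a'⁻¹ * a = a'⁻¹ * (a * b) * b⁻¹ := by group
    rw [e1, h]; group
  have haa' : Commute a'⁻¹ a := (comm a' h3 a h1).inv_left
  have hbb' : Commute b' b⁻¹ := (comm b' h4 b h2).inv_right
  have hone : orderOf (a'⁻¹ * a) = 1 := by
    by_contra hne
    obtain ⟨p, hp, hpd⟩ := Nat.exists_prime_and_dvd hne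
    have hin : p ∈ π := by
      have h5 := hpd.trans haa'.orderOf_mul_dvd_lcm
      rw [orderOf_inv] at h5
      rcases (Nat.Prime.dvd_lcm hp).1 h5 with h6 | h6
      · exact ha' p hp h6
      · exact ha p hp h6
    have hout : p ∉ π := by
      rw [hc] at hpd
      have h5 := hpd.trans hbb'.orderOf_mul_dvd_lcm
      rw [orderOf_inv] at h5
      rcases (Nat.Prime.dvd_lcm hp).1 h5 with h6 | h6
      · exact hb' p hp h6
      · exact hb p hp h6
    exact hout hin
  have hc1 : a'⁻¹ * a = 1 := orderOf_eq_one_iff.1 hone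
  have e1 : a = a' := by
    have : a = a' * (a'⁻¹ * a) := by group
    rw [this, hc1, mul_one]
  refine ⟨e1, ?_⟩
  rw [e1] at h
  exact mul_left_cancel h

/-! ### `σ`-sets of conjugate maximal subgroups -/

/-- the prime divisors of the order of an element of `M_σ` lie in `σ(M)`. -/
theorem sigma_of_dvd_orderOf {M : Subgroup G} {x : G} (hx : x ∈ sigmaCore M) {p : ℕ}
    (hp : p.Prime) (hd : p ∣ orderOf x) : p ∈ sigma M :=
  sigmaCore_isPiCard M p hp (hd.trans (Subgroup.orderOf_dvd_natCard _ hx))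

/-- maximal subgroups with a common `σ`-prime have the same `σ`-set (from S1378). -/
theorem sigma_eq_of_inter (hG : IsMinSimpleOddOrder G) {M N : Subgroup G} (hM : IsCoatom M)
    (hN : IsCoatom N) (h : (sigma M ∩ sigma N).Nonempty) : sigma M = sigma N := by
  obtain ⟨g, hg⟩ := (Cfsg.Agent.S1378.result hG).2 M N hM hN h
  obtain ⟨g', hg'⟩ := (Cfsg.Agent.S1378.result hG).2 N M hN hM (by rwa [Set.inter_comm])
  ext p
  constructor
  · intro hp
    rw [hg]
    exact Cfsg.Agent.Lib.H19.BG13.mem_sigma_map_conj hG hp g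
  · intro hp
    rw [hg']
    exact Cfsg.Agent.Lib.H19.BG13.mem_sigma_map_conj hG hp g'

/-- the frozen statement S1375 (BG Theorem 14.4, second part) as a hypothesis. -/
def H1375 (G : Type u) [Group G] : Prop :=
  ∀ (M : Subgroup G) (hM : IsCoatom M) (x : G) (hx : x ∈ Cfsg.sigmaCore M) (hx1 : x ≠ 1) (hxM : ¬ Subgroup.centralizer ({x} : Set G) ≤ M),
    ∃ N : Subgroup G, (IsCoatom N ∧ Subgroup.centralizer ({x} : Set G) ≤ N) ∧ (∀ L : Subgroup G, IsCoatom L → Subgroup.centralizer ({x} : Set G) ≤ L → L = N) ∧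
        Cfsg.sigmaCore N = Cfsg.fittingHallOf N ∧
        Subgroup.centralizer ({x} : Set G) ≤ Subgroup.normalizer ((Cfsg.sigmaCore N ⊓ Subgroup.centralizer ({x} : Set G) : Subgroup G) : Set G) ∧
        Cfsg.IsComplIn (M ⊓ Subgroup.centralizer ({x} : Set G)) (Cfsg.sigmaCore N ⊓ Subgroup.centralizer ({x} : Set G)) (Subgroup.centralizer ({x} : Set G)) ∧
        Cfsg.IsComplIn (M ⊓ N) (Cfsg.sigmaCore N) N ∧
        ∀ K' U' : Subgroup G, Cfsg.IsSigmaDecomposition N K' U' → U' ≠ ⊥ ∧ x ∈ Cfsg.sigmaA N U' ∧ x ∉ Cfsg.sigmaCore N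

/-- the data attached to a non-identity element `r` of `R(x)`. -/
structure RData (M : Subgroup G) (x r : G) (L : Subgroup G) : Prop where
  coatom : IsCoatom L
  cent_le : Subgroup.centralizer ({x} : Set G) ≤ L
  uniq : ∀ L' : Subgroup G, IsCoatom L' → Subgroup.centralizer ({x} : Set G) ≤ L' → L' = L
  mem : r ∈ sigmaCore L
  disj : ∀ p : ℕ, p ∈ sigma L → p ∉ sigma M
  compl : IsComplIn (M ⊓ L) (sigmaCore L) L

/-- unfolding `R(x)`. -/
theorem supportR_cases (hG : IsMinSimpleOddOrder G) (h75 : H1375 G) {M : Subgroup G}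
    (hM : IsCoatom M) {x : G} (hx : x ∈ sigmaCore M) (hx1 : x ≠ 1) {r : G}
    (hr : r ∈ supportR M x) : Commute x r ∧ (r = 1 ∨ ∃ L : Subgroup G, RData M x r L) := by
  unfold supportR at hr
  split_ifs at hr with h
  · obtain ⟨hxM, hex⟩ := h
    obtain ⟨N, ⟨hN, hCN⟩, huniq, hσF, -, -, hcompl, -⟩ := h75 M hM x hx hx1 hxM
    have hch := Classical.choose_spec hex.exists
    have hLN : Classical.choose hex.exists = N := huniq _ hch.1 hch.2
    rw [hLN, ← hσF] at hr
    have hxr : Commute x r := Subgroup.mem_centralizer_iff.1 hr.2 x (Set.mem_singleton x)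
    refine ⟨hxr, Or.inr ⟨N, hN, hCN, huniq, hr.1, ?_, hcompl⟩⟩
    intro p hpN hpM
    have hσeq := sigma_eq_of_inter hG hM hN ⟨p, hpM, hpN⟩
    -- `x ∈ N_σ`
    have hxN : x ∈ N := hCN (Subgroup.mem_centralizer_iff.2 (fun z hz => by
      rw [Set.mem_singleton_iff] at hz; rw [hz]))
    have hxMM : x ∈ M := Cfsg.Agent.Lib.H20.BGS.sigmaCore_le M hx
    have hxσN : x ∈ sigmaCore N := by
      have h1 : Subgroup.zpowers x ≤ sigmaCore N := by
        apply le_sigmaCore_of hG hN (Subgroup.zpowers_le.2 hxN)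
        intro q hq hd
        rw [Nat.card_zpowers] at hd
        rw [← hσeq]
        exact sigma_of_dvd_orderOf hx hq hd
      exact h1 (Subgroup.mem_zpowers x)
    have h2 : x ∈ (M ⊓ N) ⊓ sigmaCore N := ⟨⟨hxMM, hxN⟩, hxσN⟩
    rw [hcompl.2.2.1] at h2
    exact hx1 (Subgroup.mem_bot.1 h2)
  · rw [Subgroup.mem_bot] at hr
    subst hr
    exact ⟨Commute.one_right x, Or.inl rfl⟩

/-- `x r = y` with `r ∈ R(x)^#` is impossible for `y ∈ N_σ`. -/
theorem not_mul_eq_of_rdata (hG : IsMinSimpleOddOrder G) {M N : Subgroup G} (hM : IsCoatom M)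
    (hN : IsCoatom N) {x y r : G} {L : Subgroup G} (hx : x ∈ sigmaCore M) (hx1 : x ≠ 1)
    (hy : y ∈ sigmaCore N) (d : RData M x r L) (hxr : Commute x r) (hr1 : r ≠ 1)
    (h : x * r = y) : False := by
  have hxσ : ∀ p : ℕ, p.Prime → p ∣ orderOf x → p ∈ sigma M :=
    fun p hp hd => sigma_of_dvd_orderOf hx hp hd
  have hrσ : ∀ p : ℕ, p.Prime → p ∣ orderOf r → p ∉ sigma M :=
    fun p hp hd => d.disj p (sigma_of_dvd_orderOf d.mem hp hd)
  have hcop := coprime_orderOf_of_pi hxσ hrσ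
  have h1 : x ∈ Subgroup.zpowers y := h ▸ mem_zpowers_mul_of_coprime hxr hcop
  have h2 : r ∈ Subgroup.zpowers y := h ▸ mem_zpowers_mul_of_coprime' hxr hcop
  have ho1 : orderOf x ∣ orderOf y := orderOf_dvd_of_mem_zpowers h1
  have ho2 : orderOf r ∣ orderOf y := orderOf_dvd_of_mem_zpowers h2
  have hx1' : orderOf x ≠ 1 := fun h => hx1 (orderOf_eq_one_iff.1 h)
  have hr1' : orderOf r ≠ 1 := fun h => hr1 (orderOf_eq_one_iff.1 h)
  obtain ⟨p, hp, hpd⟩ := Nat.exists_prime_and_dvd hx1'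
  obtain ⟨q, hq, hqd⟩ := Nat.exists_prime_and_dvd hr1'
  have hσeq := sigma_eq_of_inter hG hM hN
    ⟨p, hxσ p hp hpd, sigma_of_dvd_orderOf hy hp (hpd.trans ho1)⟩
  have h3 : q ∈ sigma N := sigma_of_dvd_orderOf hy hq (hqd.trans ho2)
  rw [← hσeq] at h3
  exact hrσ q hq hqd h3

/-- **BG Lemma 14.6** (the statement S1433) from BG Theorem 14.4 (S1375). -/
theorem lemma_14_6 (hG : IsMinSimpleOddOrder G) (h75 : H1375 G)
    (M N : Subgroup G) (hM : IsCoatom M) (hN : IsCoatom N) (x y : G) (hx : x ∈ Cfsg.sigmaCore M) (hy : y ∈ Cfsg.sigmaCore N)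
    (hx1 : x ≠ 1) (hy1 : y ≠ 1) (hxy : x ≠ y) :
    ∀ r ∈ Cfsg.supportR M x, ∀ s ∈ Cfsg.supportR N y, x * r ≠ y * s := by
  intro r hr s hs heq
  obtain ⟨hxr, hrc⟩ := supportR_cases hG h75 hM hx hx1 hr
  obtain ⟨hys, hsc⟩ := supportR_cases hG h75 hN hy hy1 hs
  by_cases hr1 : r = 1
  · subst hr1
    rw [mul_one] at heq
    by_cases hs1 : s = 1
    · subst hs1
      rw [mul_one] at heq
      exact hxy heq
    · rcases hsc with h | ⟨L', dL'⟩
      · exact hs1 h
      · exact not_mul_eq_of_rdata hG hN hM hy hy1 hx dL' hys hs1 heq.symm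
  by_cases hs1 : s = 1
  · subst hs1
    rw [mul_one] at heq
    rcases hrc with h | ⟨L, dL⟩
    · exact hr1 h
    · exact not_mul_eq_of_rdata hG hM hN hx hx1 hy dL hxr hr1 heq
  rcases hrc with h | ⟨L, dL⟩
  · exact hr1 h
  rcases hsc with h | ⟨L', dL'⟩
  · exact hs1 h
  have hxσ : ∀ p : ℕ, p.Prime → p ∣ orderOf x → p ∈ sigma M :=
    fun p hp hd => sigma_of_dvd_orderOf hx hp hd
  have hyσ : ∀ p : ℕ, p.Prime → p ∣ orderOf y → p ∈ sigma N :=
    fun p hp hd => sigma_of_dvd_orderOf hy hp hd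
  have hrσ : ∀ p : ℕ, p.Prime → p ∣ orderOf r → p ∈ sigma L :=
    fun p hp hd => sigma_of_dvd_orderOf dL.mem hp hd
  have hsσ : ∀ p : ℕ, p.Prime → p ∣ orderOf s → p ∈ sigma L' :=
    fun p hp hd => sigma_of_dvd_orderOf dL'.mem hp hd
  by_cases hMN : (sigma M ∩ sigma N).Nonempty
  · have hσeq := sigma_eq_of_inter hG hM hN hMN
    have := eq_of_mul_eq_mul (π := sigma M) hxσ (fun p hp hd => dL.disj p (hrσ p hp hd))
      (fun p hp hd => hσeq ▸ hyσ p hp hd)
      (fun p hp hd => hσeq ▸ dL'.disj p (hsσ p hp hd)) hxr hys heq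
    exact hxy this.1
  · have hMN' : ∀ p : ℕ, p ∈ sigma M → p ∉ sigma N := fun p h1 h2 => hMN ⟨p, h1, h2⟩
    have hcop1 := coprime_orderOf_of_pi hxσ (fun p hp hd => dL.disj p (hrσ p hp hd))
    have hcop2 := coprime_orderOf_of_pi hyσ (fun p hp hd => dL'.disj p (hsσ p hp hd))
    have ho : orderOf x * orderOf r = orderOf y * orderOf s := by
      rw [← hxr.orderOf_mul_eq_mul_orderOf_of_coprime hcop1,
        ← hys.orderOf_mul_eq_mul_orderOf_of_coprime hcop2, heq]
    have hx1' : orderOf x ≠ 1 := fun h => hx1 (orderOf_eq_one_iff.1 h)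
    have hy1' : orderOf y ≠ 1 := fun h => hy1 (orderOf_eq_one_iff.1 h)
    obtain ⟨p, hp, hpd⟩ := Nat.exists_prime_and_dvd hx1'
    obtain ⟨q, hq, hqd⟩ := Nat.exists_prime_and_dvd hy1'
    have hpM := hxσ p hp hpd
    have hqN := hyσ q hq hqd
    have hps : p ∣ orderOf s := by
      have h1 : p ∣ orderOf y * orderOf s := ho ▸ Dvd.dvd.mul_right hpd _
      rcases (Nat.Prime.dvd_mul hp).1 h1 with h2 | h2
      · exact absurd (hyσ p hp h2) (hMN' p hpM)
      · exact h2
    have hqr : q ∣ orderOf r := by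
      have h1 : q ∣ orderOf x * orderOf r := ho.symm ▸ Dvd.dvd.mul_right hqd _
      rcases (Nat.Prime.dvd_mul hq).1 h1 with h2 | h2
      · exact absurd hqN (hMN' q (hxσ q hq h2))
      · exact h2
    have hσML' := sigma_eq_of_inter hG hM dL'.coatom ⟨p, hpM, hsσ p hp hps⟩
    have hσNL := sigma_eq_of_inter hG hN dL.coatom ⟨q, hqN, hrσ q hq hqr⟩
    have heq' : x * r = s * y := heq.trans hys.eq
    have hdec := eq_of_mul_eq_mul (π := sigma M) hxσ (fun p hp hd => dL.disj p (hrσ p hp hd))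
      (fun p hp hd => hσML' ▸ hsσ p hp hd)
      (fun p hp hd h1 => hMN' p h1 (hyσ p hp hd)) hxr hys.symm heq'
    obtain ⟨hxs, hry⟩ := hdec
    -- `L ≠ L'`
    have hLL' : L ≠ L' := by
      intro h
      have : sigma N = sigma M := by rw [hσNL, hσML', h]
      exact hMN' p hpM (this ▸ hpM)
    have hCL' : ¬ Subgroup.centralizer ({x} : Set G) ≤ L' := fun h =>
      hLL' (dL.uniq L' dL'.coatom h).symm
    have hxL' : x ∈ sigmaCore L' := hxs ▸ dL'.mem
    obtain ⟨N₂, ⟨hN₂, hCN₂⟩, -, -, -, -, hcompl, -⟩ := h75 L' dL'.coatom x hxL' hx1 hCL'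
    have hN₂L : N₂ = L := dL.uniq N₂ hN₂ hCN₂
    rw [hN₂L] at hcompl
    have hyL' : y ∈ L' := dL'.cent_le (Subgroup.mem_centralizer_iff.2 (fun z hz => by
      rw [Set.mem_singleton_iff] at hz; rw [hz]))
    have hyσL : y ∈ sigmaCore L := hry ▸ dL.mem
    have hyL : y ∈ L := Cfsg.Agent.Lib.H20.BGS.sigmaCore_le L hyσL
    have h2 : y ∈ (L' ⊓ L) ⊓ sigmaCore L := ⟨⟨hyL', hyL⟩, hyσL⟩
    rw [hcompl.2.2.1] at h2
    exact hy1 (Subgroup.mem_bot.1 h2)

end Cfsg.Agent.Lib.H16.BG145
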