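import Mathlib
import Cfsg.Agent.Lib.H16.BGHyp
import Cfsg.Agent.Lib.H7.BG14b
import Cfsg.Agent.Lib.H8.BG12c

/-!
# BG Lemma 14.5 (S1432) from BG 14.2 (S1430, S1431) as hypotheses (helper16)

* `exists_coatom_sigma_of_tau2`: a nontrivial `τ₂(M)`-subgroup `E₂` of a complement `E` of `M_σ`:
  all prime divisors of `|E₂|` lie in `σ(L)` for a single maximal subgroup `L`
  (the argument inside helper8's `tau2_subgroup_abelian`).
* `H1430`, `H1431`: the frozen statements S1430, S1431 as hypotheses.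
* `lemma_14_5`: the statement S1432 from these.
-/

set_option autoImplicit false
set_option linter.style.haveILetI false
set_option linter.unusedSectionVars false
set_option linter.unusedVariables false

open Cfsg
open Cfsg.Agent.Lib.H16.BG
open Cfsg.Agent.Lib.H7.BG7
open Cfsg.Agent.Lib.H7.BG10
open Cfsg.Agent.Lib.H20.BGS
open Cfsg.Agent.Lib.H8.BG12
open Cfsg.Agent.Lib.H19 (IsPiCard)

namespace Cfsg.Agent.Lib.H16.BG145

universe u
variable {G : Type u} [Group G] [Finite G]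

/-- the prime divisors of a nontrivial `τ₂(M)`-subgroup of a complement of `M_σ` all lie in `σ(L)`
for one maximal subgroup `L`. -/
theorem exists_coatom_sigma_of_tau2 (hG : IsMinSimpleOddOrder G) {M : Subgroup G}
    (hM : IsCoatom M) {E : Subgroup G} (hE : IsComplIn E (sigmaCore M) M) {E₂ : Subgroup G}
    (hE₂ : E₂ ≤ E) (hE₂1 : E₂ ≠ ⊥)
    (hπ : ∀ q : ℕ, q.Prime → q ∣ Nat.card ↥E₂ → q ∈ tau2 M) :
    ∃ L : Subgroup G, IsCoatom L ∧ ∀ q : ℕ, q.Prime → q ∣ Nat.card ↥E₂ → q ∈ sigma L := by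
  have hU := Cfsg.Agent.Lib.H16.BGHyp.uniq3 hG
  have hC := Cfsg.Agent.Lib.H16.BGHyp.hypCent hG
  have hT := Cfsg.Agent.Lib.H16.BGHyp.hypTau2 hG
  have hN := Cfsg.Agent.Lib.H16.BGHyp.hypNorm hG
  have hNA := Cfsg.Agent.Lib.H16.BGHyp.hypNonab hG
  have hσ := (sigma_core_hall hG hU hM).1
  have hcard : Nat.card ↥E₂ ≠ 1 := fun h => hE₂1 (Subgroup.eq_bot_of_card_eq _ h)
  obtain ⟨p, hp, hpd⟩ := Nat.exists_prime_and_dvd hcard
  haveI hpf : Fact p.Prime := ⟨hp⟩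
  have hpτ := hπ p hp hpd
  by_cases hab : ∀ q : ℕ, q ∈ tau2 M → ∃ S : Sylow q G, IsMulCommutative ↥(S : Subgroup G)
  · obtain ⟨Sp, Ap, hSpE, hSpM, hApS, hAp, hApc, hSpc, hΩp⟩ := tau2_sylow_data hT hM hσ hE hpτ
    have hSptop : SylIn p Sp ⊤ := tau2_sylow_top hC hM hSpM hApS hAp hApc (hab p hpτ)
    have hApE : Ap ≤ E := hApS.trans hSpE.le
    obtain ⟨hEN, hNM⟩ := hN M hM E hE p hpτ Ap hApE hAp hApc
    have hAp1 : Ap ≠ ⊥ := elemAb_sq_ne_bot hp hApc
    obtain ⟨Ms, hMs, hNMs⟩ := exists_coatom_ge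
      (normalizer_ne_top_of_isPGroup hG (isPGroup_of_elemAb hAp) hAp1)
    have hMsne : Ms ≠ M := by
      rintro rfl
      exact hNM hNMs
    have hEMs : E ≤ Ms := hEN.trans hNMs
    have hσs := (sigma_core_hall hG hU hMs).1
    have hSp1 : Sp ≠ ⊥ := Cfsg.Agent.Lib.H16.BG.ne_bot_of_le_ne_bot hAp1 hApS
    have hpσs : p ∈ sigma Ms := by
      have hSpMs : SylIn p Sp Ms := hSptop.mono (hSpE.le.trans hEMs) le_top
      obtain ⟨P, hP⟩ := hSpMs.exists_sylow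
      refine ⟨hp, dvd_card_of_ne_bot hSpMs.isPGroup hSpMs.le hSp1, P, ?_⟩
      rw [hP]
      refine le_trans ?_ hNMs
      apply Cfsg.Agent.Lib.H16.SylComm.le_normalizer_of_conj_mem
      intro g hg a ha
      have h1 : g * a * g⁻¹ ∈ Sp := ((Subgroup.mem_normalizer_iff.1 hg) a).1 (hApS ha)
      refine (hΩp _ h1).1 ?_
      rw [conj_pow, hAp.2 a ha]
      group
    have hSpσ : Sp ≤ sigmaCore Ms := le_sigmaCore hσs (hSpE.le.trans hEMs) (fun q hq hd => by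
      rw [prime_eq_of_dvd_card_pGroup hSpM.isPGroup hq hd]
      exact hpσs)
    refine ⟨Ms, hMs, ?_⟩
    intro q hq hqd
    haveI : Fact q.Prime := ⟨hq⟩
    have hqτ := hπ q hq hqd
    by_contra hqσs
    obtain ⟨Sq, Aq, hSqE, hSqM, hAqS, hAq, hAqc, hSqc, hΩq⟩ := tau2_sylow_data hT hM hσ hE hqτ
    have hSqtop := tau2_sylow_top hC hM hSqM hAqS hAq hAqc (hab q hqτ)
    have hAqMs : Aq ≤ Ms := (hAqS.trans hSqE.le).trans hEMs
    have hqτs : q ∈ tau2 Ms := by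
      refine ⟨hq, hqσs, ?_, ?_⟩
      · have hSqMs : SylIn q Sq Ms := hSqtop.mono (hSqE.le.trans hEMs) le_top
        exact pRankLE_of_sylIn hSqMs (pRankLE_of_le hSqM.le hqτ.2.2.1)
      · refine not_pRankLE_of_elemAb hAqMs hAq ?_
        rw [hAqc]
        exact Nat.pow_lt_pow_right hq.one_lt (by norm_num)
    have h := (hT Ms hMs q hqτs Aq hAqMs hAq hAqc).2 M hM hMsne.symm
      ((hAqS.trans hSqE.le).trans hE.1)
    have h2 : Sp ≤ sigmaCore Ms ⊓ M := le_inf hSpσ hSpM.le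
    rw [h] at h2
    exact hSp1 (le_bot_iff.1 h2)
  · push Not at hab
    obtain ⟨q, hqτ, hq⟩ := hab
    haveI hqf : Fact q.Prime := ⟨hqτ.1⟩
    obtain ⟨Sq, Aq, hSqE, hSqM, hAqS, hAq, hAqc, -, -⟩ := tau2_sylow_data hT hM hσ hE hqτ
    have h19 := hNA M hM E hE q hqτ hq Aq (hAqS.trans hSqE.le) hAq hAqc
    have hAq1 : Aq ≠ ⊥ := elemAb_sq_ne_bot hqτ.1 hAqc
    obtain ⟨S, hSqS⟩ := hSqM.isPGroup.exists_le_sylow
    have hS1 : (S : Subgroup G) ≠ ⊥ :=
      Cfsg.Agent.Lib.H16.BG.ne_bot_of_le_ne_bot hAq1 (hAqS.trans hSqS)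
    obtain ⟨L, hL, hNL⟩ := exists_coatom_ge (normalizer_ne_top_of_isPGroup hG S.2 hS1)
    refine ⟨L, hL, ?_⟩
    intro d hd hdd
    have h1 : d ∈ tau2 M := hπ d hd hdd
    rw [h19, Set.mem_singleton_iff] at h1
    subst h1
    have hSL : SylIn d (S : Subgroup G) L :=
      (SylIn.of_sylow_top S).mono (Subgroup.le_normalizer.trans hNL) le_top
    exact Cfsg.Agent.Lib.H19.BG13.mem_sigma_of_sylIn hSL hS1 hNL

/-- the frozen statement S1430 (BG Lemma 14.2(a)-(c)) as a hypothesis. -/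
def H1430 (G : Type u) [Group G] : Prop :=
  ∀ (M : Subgroup G) (hM : IsCoatom M) (K : Subgroup G) (hK : Cfsg.IsPiHallOf (Cfsg.kappa M) K M) (hK1 : K ≠ ⊥),
    (∀ k ∈ K, k ≠ 1 → Cfsg.sigmaCore M ⊓ Subgroup.centralizer ({k} : Set G) = (Cfsg.sigmaCore M ⊓ Subgroup.centralizer (K : Set G))) ∧
      (∃ U : Subgroup G, IsMulCommutative U ∧ Cfsg.IsPiHallOf {q | q.Prime ∧ q ∉ Cfsg.kappa M ∧ q ∉ Cfsg.sigma M} U M ∧
        K ≤ Subgroup.normalizer (U : Set G) ∧ ∀ k ∈ K, k ≠ 1 → U ⊓ Subgroup.centralizer ({k} : Set G) = ⊥) ∧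
      ∀ X : Subgroup G, X ≤ K → (Nat.card X).Prime →
        M ⊓ Subgroup.normalizer (X : Set G) = K ⊔ (Cfsg.sigmaCore M ⊓ Subgroup.centralizer (K : Set G)) ∧ M ⊓ Subgroup.normalizer (K : Set G) = K ⊔ (Cfsg.sigmaCore M ⊓ Subgroup.centralizer (K : Set G)) ∧
        ∀ Mstar : Subgroup G, IsCoatom Mstar → Subgroup.normalizer (X : Set G) ≤ Mstar → X ≤ Cfsg.sigmaCore Mstar

/-- the frozen statement S1431 (BG Lemma 14.2(d)-(g)) as a hypothesis. -/
def H1431 (G : Type u) [Group G] : Prop :=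
  ∀ (M : Subgroup G) (hM : IsCoatom M) (K : Subgroup G) (hK : Cfsg.IsPiHallOf (Cfsg.kappa M) K M) (hK1 : K ≠ ⊥),
    (∀ g : G, g ∉ M → (Cfsg.sigmaCore M ⊓ Subgroup.centralizer (K : Set G)) ⊓ M.map (MulAut.conj g).toMonoidHom = ⊥) ∧
      (∀ g ∈ M, g ∉ K ⊔ (Cfsg.sigmaCore M ⊓ Subgroup.centralizer (K : Set G)) → K ⊓ K.map (MulAut.conj g).toMonoidHom = ⊥) ∧
      (∀ (p : ℕ), p.Prime → p ∣ Nat.card ↥(Cfsg.sigmaCore M ⊓ Subgroup.centralizer (K : Set G)) → ∀ S : Sylow p ↥(Cfsg.sigmaCore M),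
        Cfsg.InUniqueMaximal ((S : Subgroup ↥(Cfsg.sigmaCore M)).map (Cfsg.sigmaCore M).subtype) ∧
        (S : Subgroup ↥(Cfsg.sigmaCore M)).map (Cfsg.sigmaCore M).subtype ≤ M ∧
        ¬ (S : Subgroup ↥(Cfsg.sigmaCore M)).map (Cfsg.sigmaCore M).subtype ≤ (Cfsg.sigmaCore M ⊓ Subgroup.centralizer (K : Set G))) ∧
      ∀ Y : Subgroup G, (∀ p : ℕ, p.Prime → p ∣ Nat.card Y → p ∈ Cfsg.sigma M) → Y ⊓ (Cfsg.sigmaCore M ⊓ Subgroup.centralizer (K : Set G)) ≠ ⊥ → Y ≤ Cfsg.sigmaCore M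

/-- an element of prime order `p` in `⟨x'⟩` for a prime divisor `p` of the order of `x'`. -/
theorem exists_pow_orderOf_eq {x' : G} {p : ℕ} (hp : p.Prime) (hd : p ∣ orderOf x') :
    ∃ y ∈ Subgroup.zpowers x', orderOf y = p := by
  obtain ⟨m, hm⟩ := hd
  refine ⟨x' ^ m, Subgroup.npow_mem_zpowers x' m, ?_⟩
  have h0 : orderOf x' ≠ 0 := (orderOf_pos x').ne'
  have hm0 : m ≠ 0 := by
    rintro rfl
    rw [mul_zero] at hm
    exact h0 hm
  have := orderOf_pow_of_dvd (x := x') hm0 ⟨p, by rw [hm, mul_comm]⟩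
  rw [this, hm, Nat.mul_div_cancel _ (Nat.pos_of_ne_zero hm0)]

/-- **BG Lemma 14.5** (the statement S1432) from BG Lemma 14.2 (S1430, S1431). -/
theorem lemma_14_5 (hG : IsMinSimpleOddOrder G) (h30 : H1430 G) (h31 : H1431 G)
    (M : Subgroup G) (hM : IsCoatom M) (x : G) (hx : x ∈ Cfsg.sigmaCore M) (hx1 : x ≠ 1) (x' : G) (hx' : x' ∈ M ⊓ Subgroup.centralizer ({x} : Set G)) (hx'1 : x' ≠ 1)
    (hσ : ∀ p : ℕ, p.Prime → p ∣ orderOf x' → p ∉ Cfsg.sigma M) :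
    ((∀ p : ℕ, p.Prime → p ∣ orderOf x' → p ∈ Cfsg.kappa M) ∧ Subgroup.centralizer ({x} : Set G) ≤ M) ∨
      ((∀ p : ℕ, p.Prime → p ∣ orderOf x' → p ∈ Cfsg.tau2 M) ∧
        (∃ L : Subgroup G, IsCoatom L ∧ ∀ p : ℕ, p.Prime → p ∣ orderOf x' → p ∈ Cfsg.sigma L) ∧
        (Subgroup.centralizer ({x'} : Set G) ≤ M ∧ ∀ L : Subgroup G, IsCoatom L → Subgroup.centralizer ({x'} : Set G) ≤ L → L = M)) := by
  have hU := Cfsg.Agent.Lib.H16.BGHyp.uniq3 hG
  have hC := Cfsg.Agent.Lib.H16.BGHyp.hypCent hG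
  have h17 := Cfsg.Agent.Lib.H16.BGHyp.hyp1417 hG
  haveI : Group.IsSolvable ↥M := solvable_of_coatom hG hM
  have hσM : sigmaCore M ≤ M := Cfsg.Agent.Lib.H20.BGS.sigmaCore_le M
  have hx'M : x' ∈ M := hx'.1
  have hx'x : x' * x = x * x' := by
    have := Subgroup.mem_centralizer_iff.1 hx'.2 x (Set.mem_singleton x)
    exact this.symm
  have hXM : Subgroup.zpowers x' ≤ M := Subgroup.zpowers_le.2 hx'M
  have hXx : ∀ y ∈ Subgroup.zpowers x', y * x = x * y := by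
    intro y hy
    obtain ⟨n, rfl⟩ := Subgroup.mem_zpowers_iff.1 hy
    exact (Commute.zpow_left (show Commute x' x from hx'x) n).eq
  have hX1 : Subgroup.zpowers x' ≠ ⊥ := by
    intro h
    exact hx'1 (Subgroup.zpowers_eq_bot.1 h)
  by_cases hκ : ∃ p : ℕ, p.Prime ∧ p ∣ orderOf x' ∧ p ∈ kappa M
  · -- first alternative
    left
    obtain ⟨p, hp, hpd, hpκ⟩ := hκ
    obtain ⟨y, hyX, hyo⟩ := exists_pow_orderOf_eq hp hpd
    have hy1 : y ≠ 1 := by
      rintro rfl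
      rw [orderOf_one] at hyo
      exact hp.one_lt.ne hyo
    have hYM : Subgroup.zpowers y ≤ M := (Subgroup.zpowers_le.2 hyX).trans hXM
    have hYπ : IsPiCard (kappa M) (Nat.card ↥(Subgroup.zpowers y)) := by
      intro q hq hd
      rw [Nat.card_zpowers, hyo] at hd
      rw [(Nat.prime_dvd_prime_iff_eq hq hp).1 hd]
      exact hpκ
    obtain ⟨K, hK, hYK⟩ := Cfsg.Agent.Lib.H19.exists_isPiHallOf_ge hYM hYπ
    have hyK : y ∈ K := hYK (Subgroup.mem_zpowers y)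
    have hK1 : K ≠ ⊥ := by
      rintro rfl
      exact hy1 (Subgroup.mem_bot.1 hyK)
    obtain ⟨hc1, -, hc3⟩ := h30 M hM K hK hK1
    obtain ⟨hd1, -, -, -⟩ := h31 M hM K hK hK1
    have hxKs : x ∈ sigmaCore M ⊓ Subgroup.centralizer (K : Set G) := by
      rw [← hc1 y hyK hy1]
      refine Subgroup.mem_inf.2 ⟨hx, ?_⟩
      rw [Subgroup.mem_centralizer_iff]
      intro z hz
      rw [Set.mem_singleton_iff] at hz
      rw [hz]
      exact hXx y hyX
    refine ⟨?_, ?_⟩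
    · -- all prime divisors lie in `κ(M)`
      intro q hq hqd
      by_contra hqκ
      obtain ⟨z, hzX, hzo⟩ := exists_pow_orderOf_eq hq hqd
      have hYc : (Nat.card ↥(Subgroup.zpowers y)).Prime := by
        rw [Nat.card_zpowers, hyo]; exact hp
      have h3 := (hc3 (Subgroup.zpowers y) hYK hYc).1
      have hzy : z * y = y * z := by
        obtain ⟨n, rfl⟩ := Subgroup.mem_zpowers_iff.1 hzX
        obtain ⟨m, rfl⟩ := Subgroup.mem_zpowers_iff.1 hyX
        exact ((Commute.refl x').zpow_zpow n m).eq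
      have hzN : z ∈ M ⊓ Subgroup.normalizer ((Subgroup.zpowers y : Subgroup G) : Set G) := by
        refine Subgroup.mem_inf.2 ⟨hXM hzX, ?_⟩
        apply Subgroup.centralizer_le_normalizer
        rw [Cfsg.Agent.Lib.H16.BG.centralizer_zpowers_eq, Subgroup.mem_centralizer_iff]
        intro w hw
        rw [Set.mem_singleton_iff] at hw
        rw [hw]
        exact hzy.symm
      rw [h3] at hzN
      have hKs : sigmaCore M ⊓ Subgroup.centralizer (K : Set G) ≤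
          Subgroup.normalizer (K : Set G) :=
        inf_le_right.trans (Subgroup.centralizer_le_normalizer _)
      have h4 := Cfsg.Agent.Lib.H19.card_sup_dvd_mul_of_le_normalizer hKs
      rw [sup_comm] at h4
      have h5 : q ∣ Nat.card ↥(K ⊔ (sigmaCore M ⊓ Subgroup.centralizer (K : Set G)) : Subgroup G) := by
        rw [← hzo]
        exact Subgroup.orderOf_dvd_natCard _ hzN
      rcases (Nat.Prime.dvd_mul hq).1 (h5.trans h4) with h6 | h6
      · exact hσ q hq hqd (sigmaCore_isPiCard M q hq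
          (h6.trans (Subgroup.card_dvd_of_le inf_le_left)))
      · exact hqκ (hK.2.1 q hq h6)
    · -- `C_G(x) ≤ M`
      intro g hg
      by_contra hgM
      have h1 := hd1 g hgM
      have h2 : x ∈ M.map (MulAut.conj g).toMonoidHom := by
        refine ⟨x, hσM hx, ?_⟩
        have := Subgroup.mem_centralizer_iff.1 hg x (Set.mem_singleton x)
        show g * x * g⁻¹ = x
        rw [← this]; group
      have h3 : x ∈ (sigmaCore M ⊓ Subgroup.centralizer (K : Set G)) ⊓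
          M.map (MulAut.conj g).toMonoidHom := ⟨hxKs, h2⟩
      rw [h1] at h3
      exact hx1 (Subgroup.mem_bot.1 h3)
  · -- second alternative
    right
    push Not at hκ
    have hXπ : ∀ r : ℕ, r.Prime → r ∣ Nat.card ↥(Subgroup.zpowers x') →
        r ∉ sigma M ∧ r ∉ kappa M := by
      intro r hr hd
      rw [Nat.card_zpowers] at hd
      exact ⟨hσ r hr hd, hκ r hr hd⟩
    have hXc : sigmaCore M ⊓
        Subgroup.centralizer ((Subgroup.zpowers x' : Subgroup G) : Set G) ≠ ⊥ := by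
      intro h
      have h1 : x ∈ sigmaCore M ⊓
          Subgroup.centralizer ((Subgroup.zpowers x' : Subgroup G) : Set G) := by
        refine Subgroup.mem_inf.2 ⟨hx, ?_⟩
        rw [Cfsg.Agent.Lib.H16.BG.centralizer_zpowers_eq, Subgroup.mem_centralizer_iff]
        intro w hw
        rw [Set.mem_singleton_iff] at hw
        rw [hw]
        exact hx'x
      rw [h] at h1
      exact hx1 (Subgroup.mem_bot.1 h1)
    obtain ⟨-, hτ, hCM, huniq⟩ :=
      Cfsg.Agent.Lib.H7.BG14.nonregular_structure hG hC h17 hM hXM hX1 hXπ hXc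
    rw [Cfsg.Agent.Lib.H16.BG.centralizer_zpowers_eq] at hCM huniq
    obtain ⟨E, hE, hXE⟩ := Cfsg.Agent.Lib.H19.BG13.exists_compl_ge hG hM hXM
      (fun q hq hd => (hXπ q hq hd).1)
    obtain ⟨L, hL, hLσ⟩ := exists_coatom_sigma_of_tau2 hG hM hE hXE hX1 hτ
    exact ⟨fun p hp hd => hτ p hp (by rw [Nat.card_zpowers]; exact hd),
      ⟨L, hL, fun p hp hd => hLσ p hp (by rw [Nat.card_zpowers]; exact hd)⟩, hCM, huniq⟩

end Cfsg.Agent.Lib.H16.BG145
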