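import Mathlib
import Cfsg.Agent.Lib.H16.BG145b
import Cfsg.Agent.Lib.H7.TypeP
import Cfsg.Agent.S1375
import Cfsg.Agent.S1425
import Cfsg.Agent.S1432

/-!
# The covering of `G^#` by the sets `x R(x)` and `Ẑ`-type elements (helper16)

* `exists_pi_decomp_elt`: `π`-decomposition of an element.
* `mem_supportR_of`: membership in `R(x)`.
* `cover`: every `g ≠ 1` is `x r` with `x ∈ M_σ^#`, `r ∈ R_M(x)` for some maximal `M`, or
  `g = x x'` with `x ∈ M_σ^#`, `C_G(x) ≤ M` and `x' ∈ C_M(x)^#` a `κ(M)`-element.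
-/

set_option autoImplicit false
set_option linter.style.haveILetI false
set_option linter.unusedSectionVars false
set_option linter.unusedVariables false

open Cfsg
open Cfsg.Agent.Lib.H16.BG
open Cfsg.Agent.Lib.H7.BG7
open Cfsg.Agent.Lib.H7.BG10
open Cfsg.Agent.Lib.H20.BGS
open Cfsg.Agent.Lib.H19 (IsPiCard)

namespace Cfsg.Agent.Lib.H16.BGCov

open Cfsg.Agent.Lib.H16.BG145

universe u
variable {G : Type u} [Group G] [Finite G]

local notation:max "cj(" g ", " X ")" => Subgroup.map (MulEquiv.toMonoidHom (MulAut.conj g)) X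

/-- `π`-decomposition of an element. -/
theorem exists_pi_decomp_elt (π : Set ℕ) (g : G) :
    ∃ a b : G, a ∈ Subgroup.zpowers g ∧ b ∈ Subgroup.zpowers g ∧ g = a * b ∧
      (∀ p : ℕ, p.Prime → p ∣ orderOf a → p ∈ π) ∧
      (∀ p : ℕ, p.Prime → p ∣ orderOf b → p ∉ π) := by
  have hn : orderOf g ≠ 0 := (orderOf_pos g).ne'
  obtain ⟨m, k, hmk, hm, hk⟩ := Cfsg.Agent.Lib.H19.exists_pi_decomp π (orderOf g) hn
  have hcop : m.Coprime k := Cfsg.Agent.Lib.H19.coprime_of_isPiCard hm hk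
  have hb : (m : ℤ) * Int.gcdA m k + (k : ℤ) * Int.gcdB m k = 1 := by
    have h1 := Int.gcd_eq_gcd_ab (m : ℤ) (k : ℤ)
    have h2 : Int.gcd (m : ℤ) (k : ℤ) = 1 := by
      rw [Int.gcd_natCast_natCast]; exact hcop
    rw [h2] at h1
    exact_mod_cast h1.symm
  refine ⟨g ^ ((k : ℤ) * Int.gcdB m k), g ^ ((m : ℤ) * Int.gcdA m k),
    Subgroup.zpow_mem_zpowers g _, Subgroup.zpow_mem_zpowers g _, ?_, ?_, ?_⟩
  · rw [← zpow_add, add_comm, hb, zpow_one]
  · have ha : (g ^ ((k : ℤ) * Int.gcdB m k)) ^ m = 1 := by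
      rw [← zpow_natCast, ← zpow_mul]
      have : (k : ℤ) * Int.gcdB m k * (m : ℤ) = (orderOf g : ℤ) * Int.gcdB m k := by
        rw [hmk]; push_cast; ring
      rw [this, zpow_mul, zpow_natCast, pow_orderOf_eq_one, one_zpow]
    intro p hp hd
    exact hm p hp (hd.trans (orderOf_dvd_of_pow_eq_one ha))
  · have ha : (g ^ ((m : ℤ) * Int.gcdA m k)) ^ k = 1 := by
      rw [← zpow_natCast, ← zpow_mul]
      have : (m : ℤ) * Int.gcdA m k * (k : ℤ) = (orderOf g : ℤ) * Int.gcdA m k := by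
        rw [hmk]; push_cast; ring
      rw [this, zpow_mul, zpow_natCast, pow_orderOf_eq_one, one_zpow]
    intro p hp hd
    exact hk p hp (hd.trans (orderOf_dvd_of_pow_eq_one ha))

theorem h1375 (hG : IsMinSimpleOddOrder G) : H1375 G :=
  fun M hM x hx hx1 hxM => Cfsg.Agent.S1375.result hG M hM x hx hx1 hxM

/-- membership in `R(x)`. -/
theorem mem_supportR_of (hG : IsMinSimpleOddOrder G) {M : Subgroup G} (hM : IsCoatom M) {x : G}
    (hx : x ∈ sigmaCore M) (hx1 : x ≠ 1) (hxM : ¬ Subgroup.centralizer ({x} : Set G) ≤ M)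
    {N : Subgroup G} (hN : IsCoatom N) (hCN : Subgroup.centralizer ({x} : Set G) ≤ N) {r : G}
    (hr : r ∈ sigmaCore N) (hrx : r ∈ Subgroup.centralizer ({x} : Set G)) :
    r ∈ supportR M x := by
  obtain ⟨N', ⟨hN', hCN'⟩, huniq, hσF, -⟩ := h1375 hG M hM x hx hx1 hxM
  have hNN' : N = N' := huniq N hN hCN
  subst hNN'
  have hex : ∃! L : Subgroup G, IsCoatom L ∧ Subgroup.centralizer ({x} : Set G) ≤ L :=
    ⟨N, ⟨hN, hCN⟩, fun L hL => huniq L hL.1 hL.2⟩
  unfold supportR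
  split_ifs with h
  · have hch := Classical.choose_spec h.2.exists
    have e : Classical.choose h.2.exists = N := huniq _ hch.1 hch.2
    rw [e, ← hσF]
    exact ⟨hr, hrx⟩
  · exact absurd ⟨hxM, hex⟩ h

/-- relative index of a complement. -/
theorem relIndex_eq_card_of_isComplIn {A B H : Subgroup G} (h : IsComplIn A B H) :
    A.relIndex H = Nat.card B := by
  have h1 := Cfsg.Agent.Lib.H19.card_mul_relIndex h.1
  have h2 := Cfsg.Agent.Lib.H7.isComplIn_card_mul h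
  rw [← h2] at h1
  exact Nat.eq_of_mul_eq_mul_left Nat.card_pos h1

theorem mem_centralizer_singleton_self (x : G) : x ∈ Subgroup.centralizer ({x} : Set G) :=
  Subgroup.mem_centralizer_iff.2 (fun z hz => by rw [Set.mem_singleton_iff] at hz; rw [hz])

theorem mem_centralizer_singleton_of_commute {x y : G} (h : Commute x y) :
    y ∈ Subgroup.centralizer ({x} : Set G) :=
  Subgroup.mem_centralizer_iff.2 (fun z hz => by
    rw [Set.mem_singleton_iff] at hz; rw [hz]; exact h.eq)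

/-- moving a maximal subgroup so that a given `σ`-element lies in its `σ`-core. -/
theorem exists_coatom_mem_sigmaCore (hG : IsMinSimpleOddOrder G) {L : Subgroup G}
    (hL : IsCoatom L) {b : G} (hb1 : b ≠ 1)
    (hbσ : ∀ p : ℕ, p.Prime → p ∣ orderOf b → p ∈ sigma L) :
    ∃ L₁ : Subgroup G, IsCoatom L₁ ∧ sigma L₁ = sigma L ∧ b ∈ sigmaCore L₁ := by
  have hZ1 : Subgroup.zpowers b ≠ ⊥ := fun h => hb1 (Subgroup.zpowers_eq_bot.1 h)
  obtain ⟨h, hh⟩ := Cfsg.Agent.S1425.result hG L hL (Subgroup.zpowers b) hZ1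
    (fun p hp hd => hbσ p hp (by rwa [Nat.card_zpowers] at hd))
  refine ⟨cj(h⁻¹, L), isCoatom_map_conj hL h⁻¹, sigma_cj h⁻¹ L, ?_⟩
  rw [sigmaCore_cj hG hL, mem_cj_iff, inv_inv]
  apply hh
  exact ⟨b, Subgroup.mem_zpowers b, rfl⟩

/-- the `τ₂`-alternative of BG 14.5 swaps the roles: `x b ∈ b R_L(b)`. -/
theorem swap (hG : IsMinSimpleOddOrder G) {M : Subgroup G} (hM : IsCoatom M) {x : G}
    (hx : x ∈ sigmaCore M) {b : G} (hb1 : b ≠ 1) (hcomm : Commute x b)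
    (hbσ : ∀ p : ℕ, p.Prime → p ∣ orderOf b → p ∉ sigma M) {L : Subgroup G} (hL : IsCoatom L)
    (hLσ : ∀ p : ℕ, p.Prime → p ∣ orderOf b → p ∈ sigma L)
    (hCb : Subgroup.centralizer ({b} : Set G) ≤ M)
    (huniq : ∀ L' : Subgroup G, IsCoatom L' → Subgroup.centralizer ({b} : Set G) ≤ L' → L' = M) :
    ∃ L₁ : Subgroup G, IsCoatom L₁ ∧ ∃ y ∈ sigmaCore L₁, y ≠ 1 ∧ ∃ r ∈ supportR L₁ y,
      x * b = y * r := by
  obtain ⟨L₁, hL₁, -, hbL₁⟩ := exists_coatom_mem_sigmaCore hG hL hb1 hLσ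
  have hne : L₁ ≠ M := by
    rintro rfl
    have ho : orderOf b ≠ 1 := fun h => hb1 (orderOf_eq_one_iff.1 h)
    obtain ⟨q, hq, hqd⟩ := Nat.exists_prime_and_dvd ho
    exact hbσ q hq hqd (sigma_of_dvd_orderOf hbL₁ hq hqd)
  have hCL₁ : ¬ Subgroup.centralizer ({b} : Set G) ≤ L₁ := fun h => hne (huniq L₁ hL₁ h)
  refine ⟨L₁, hL₁, b, hbL₁, hb1, x, ?_, hcomm.eq⟩
  exact mem_supportR_of hG hL₁ hbL₁ hb1 hCL₁ hM hCb hx
    (mem_centralizer_singleton_of_commute hcomm.symm)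

end Cfsg.Agent.Lib.H16.BGCov
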