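import Mathlib
import Cfsg.Agent.Lib.H16.BGCovA
import Cfsg.Agent.Lib.H7.CentComp

/-!
# The covering theorem (helper16)

`cover`: every `g ≠ 1` is `x r` with `x ∈ M_σ^#`, `r ∈ R_M(x)` for some maximal `M`, or
`g = x x'` with `x ∈ M_σ^#`, `C_G(x) ≤ M` and `x' ∈ C_M(x)^#` a `κ(M)`-element.
-/

set_option autoImplicit false
set_option linter.style.haveILetI false
set_option linter.unusedSectionVars false
set_option linter.unusedVariables false

open Cfsg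
open Cfsg.Agent.Lib.H16.BG
open Cfsg.Agent.Lib.H7.BG7
open Cfsg.Agent.Lib.H7.BG10
open Cfsg.Agent.Lib.H20.BGS
open Cfsg.Agent.Lib.H19 (IsPiCard)
open scoped Pointwise

namespace Cfsg.Agent.Lib.H16.BGCov

open Cfsg.Agent.Lib.H16.BG145

universe u
variable {G : Type u} [Group G] [Finite G]

local notation:max "cj(" g ", " X ")" => Subgroup.map (MulEquiv.toMonoidHom (MulAut.conj g)) X

/-- the first alternative of the covering theorem. -/
def InTilde (g : G) : Prop :=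
  ∃ M : Subgroup G, IsCoatom M ∧ ∃ x ∈ sigmaCore M, x ≠ 1 ∧ ∃ r ∈ supportR M x, g = x * r

/-- the second alternative of the covering theorem. -/
def InZhat (g : G) : Prop :=
  ∃ M : Subgroup G, IsCoatom M ∧ ∃ x ∈ sigmaCore M, x ≠ 1 ∧
    Subgroup.centralizer ({x} : Set G) ≤ M ∧ ∃ x' ∈ M, x' ≠ 1 ∧ x * x' = x' * x ∧
      (∀ p : ℕ, p.Prime → p ∣ orderOf x' → p ∈ kappa M) ∧ g = x * x'

/-- case `C_G(x) ≰ M` of the covering theorem. -/
theorem cover_of_not_le (hG : IsMinSimpleOddOrder G) {M : Subgroup G} (hM : IsCoatom M) {x : G}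
    (hx : x ∈ sigmaCore M) (hx1 : x ≠ 1) (hCM : ¬ Subgroup.centralizer ({x} : Set G) ≤ M)
    {x' : G} (hcomm : Commute x x')
    (hx'σ : ∀ p : ℕ, p.Prime → p ∣ orderOf x' → p ∉ sigma M) : InTilde (x * x') := by
  obtain ⟨N, ⟨hN, hCN⟩, huniqN, hσF, -, hcomplC, hcomplN, -⟩ := h1375 hG M hM x hx hx1 hCM
  set C : Subgroup G := Subgroup.centralizer ({x} : Set G) with hC
  obtain ⟨a, b, haZ, hbZ, hx'ab, haσ, hbσ⟩ := exists_pi_decomp_elt (sigma N) x'
  have hx'C : x' ∈ C := mem_centralizer_singleton_of_commute hcomm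
  have hZC : Subgroup.zpowers x' ≤ C := Subgroup.zpowers_le.2 hx'C
  have haC : a ∈ C := hZC haZ
  have hbC : b ∈ C := hZC hbZ
  have hab : Commute a b := by
    obtain ⟨n, rfl⟩ := Subgroup.mem_zpowers_iff.1 haZ
    obtain ⟨m, rfl⟩ := Subgroup.mem_zpowers_iff.1 hbZ
    exact (Commute.refl x').zpow_zpow n m
  have haN : a ∈ sigmaCore N := by
    have h1 : Subgroup.zpowers a ≤ sigmaCore N := by
      apply le_sigmaCore_of hG hN (Subgroup.zpowers_le.2 (hCN haC))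
      intro q hq hd
      rw [Nat.card_zpowers] at hd
      exact haσ q hq hd
    exact h1 (Subgroup.mem_zpowers a)
  by_cases hb1 : b = 1
  · refine ⟨M, hM, x, hx, hx1, a, mem_supportR_of hG hM hx hx1 hCM hN hCN haN haC, ?_⟩
    rw [hx'ab, hb1, mul_one]
  -- the Hall property of `C_M(x)` in `C_G(x)`
  haveI : Group.IsSolvable ↥C := solvable_of_le_ne_top hG hN.1 hCN
  have hHall : IsPiHallOf (sigma N)ᶜ (M ⊓ C) C := by
    refine ⟨inf_le_right, ?_, ?_⟩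
    · intro p hp hd hpσ
      have h1 : p ∣ Nat.card ↥(M ⊓ N : Subgroup G) :=
        hd.trans (Subgroup.card_dvd_of_le (inf_le_inf_left M hCN))
      have h2 := (sigmaCore_hallOf hG hN).2.2 p hp hpσ
      have h3 : (sigmaCore N).relIndex N = Nat.card ↥(M ⊓ N : Subgroup G) := by
        have e1 := Cfsg.Agent.Lib.H19.card_mul_relIndex
          (Cfsg.Agent.Lib.H20.BGS.sigmaCore_le N)
        have e2 := Cfsg.Agent.Lib.H7.isComplIn_card_mul hcomplN
        rw [← e2, mul_comm (Nat.card ↥(M ⊓ N : Subgroup G))] at e1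
        exact Nat.eq_of_mul_eq_mul_left Nat.card_pos e1
      rw [h3] at h2
      exact h2 h1
    · intro p hp hpσ hd
      rw [relIndex_eq_card_of_isComplIn hcomplC] at hd
      exact hpσ (sigmaCore_isPiCard N p hp (hd.trans (Subgroup.card_dvd_of_le inf_le_left)))
  have hZb : Subgroup.zpowers b ≤ C := Subgroup.zpowers_le.2 hbC
  have hZbπ : IsPiCard (sigma N)ᶜ (Nat.card ↥(Subgroup.zpowers b)) := by
    intro p hp hd
    rw [Nat.card_zpowers] at hd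
    exact hbσ p hp hd
  obtain ⟨H', hH', hbH'⟩ := Cfsg.Agent.Lib.H19.exists_isPiHallOf_ge hZb hZbπ
  obtain ⟨c, hcC, hcH'⟩ := Cfsg.Agent.Lib.H19.isPiHallOf_exists_conj hHall hH'
  have hbc : c⁻¹ * b * c ∈ M ⊓ C := by
    have h1 : b ∈ MulAut.conj c • (M ⊓ C) := by
      rw [hcH']; exact hbH' (Subgroup.mem_zpowers b)
    rw [Subgroup.mem_pointwise_smul_iff_inv_smul_mem] at h1
    simpa [MulAut.smul_def, MulAut.conj_inv_apply] using h1
  have hcx : c * x = x * c := by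
    have := Subgroup.mem_centralizer_iff.1 hcC x (Set.mem_singleton x)
    exact this.symm
  -- the conjugate `M₂ = cMc⁻¹`
  set M₂ : Subgroup G := cj(c, M) with hM₂
  have hM₂c : IsCoatom M₂ := isCoatom_map_conj hM c
  have hσM₂ : sigma M₂ = sigma M := sigma_cj c M
  have hxM₂ : x ∈ sigmaCore M₂ := by
    rw [hM₂, sigmaCore_cj hG hM, mem_cj_iff]
    have : c⁻¹ * x * c = x := by
      calc c⁻¹ * x * c = c⁻¹ * (x * c) := by group
        _ = c⁻¹ * (c * x) := by rw [hcx]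
        _ = x := by group
    rw [this]; exact hx
  have hbM₂ : b ∈ M₂ := by
    rw [hM₂, mem_cj_iff]; exact hbc.1
  have hCM₂ : ¬ C ≤ M₂ := by
    intro h
    apply hCM
    intro z hz
    have h1 : c * z * c⁻¹ ∈ C := C.mul_mem (C.mul_mem hcC hz) (C.inv_mem hcC)
    have h2 := h h1
    rw [hM₂, mem_cj_iff] at h2
    have : c⁻¹ * (c * z * c⁻¹) * c = z := by group
    rwa [this] at h2
  have hbσM₂ : ∀ p : ℕ, p.Prime → p ∣ orderOf b → p ∉ sigma M₂ := by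
    intro p hp hd
    rw [hσM₂]
    exact hx'σ p hp (hd.trans (orderOf_dvd_of_mem_zpowers hbZ))
  have hxb : Commute x b := by
    have := Subgroup.mem_centralizer_iff.1 hbC x (Set.mem_singleton x)
    exact this
  rcases Cfsg.Agent.S1432.result hG M₂ hM₂c x hxM₂ hx1 b ⟨hbM₂, hbC⟩ hb1 hbσM₂ with
    ⟨-, hle⟩ | ⟨-, ⟨L, hL, hLσ⟩, hCb, huniq⟩
  · exact absurd hle hCM₂
  -- `a = 1`
  have haM₂ : a ∈ M₂ := hCb (mem_centralizer_singleton_of_commute hab.symm)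
  obtain ⟨N₂, ⟨hN₂, hCN₂⟩, -, -, -, -, hcomplN₂, -⟩ := h1375 hG M₂ hM₂c x hxM₂ hx1 hCM₂
  have hN₂N : N₂ = N := huniqN N₂ hN₂ hCN₂
  rw [hN₂N] at hcomplN₂
  have ha1 : a = 1 := by
    have h2 : a ∈ (M₂ ⊓ N) ⊓ sigmaCore N :=
      ⟨⟨haM₂, Cfsg.Agent.Lib.H20.BGS.sigmaCore_le N haN⟩, haN⟩
    rw [hcomplN₂.2.2.1] at h2
    exact Subgroup.mem_bot.1 h2
  have hx'b : x' = b := by rw [hx'ab, ha1, one_mul]
  rw [hx'b]
  obtain ⟨L₁, hL₁, y, hy, hy1, r, hr, hxy⟩ :=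
    swap hG hM₂c hxM₂ hb1 hxb hbσM₂ hL hLσ hCb huniq
  exact ⟨L₁, hL₁, y, hy, hy1, r, hr, hxy⟩

/-- **the covering theorem**. -/
theorem cover (hG : IsMinSimpleOddOrder G) (g : G) (hg : g ≠ 1) : InTilde g ∨ InZhat g := by
  have hg1 : orderOf g ≠ 1 := fun h => hg (orderOf_eq_one_iff.1 h)
  obtain ⟨p, hp, hpd⟩ := Nat.exists_prime_and_dvd hg1
  have hpG : p ∣ Nat.card G := hpd.trans (orderOf_dvd_natCard g)
  obtain ⟨M₀, hM₀, hpM₀⟩ := (Cfsg.Agent.S1378.result hG).1 p hp hpG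
  obtain ⟨x, x', hxZ, hx'Z, hgxx', hxσ, hx'σ⟩ := exists_pi_decomp_elt (sigma M₀) g
  have hx1 : x ≠ 1 := by
    rintro rfl
    rw [one_mul] at hgxx'
    exact hx'σ p hp (hgxx' ▸ hpd) hpM₀
  obtain ⟨M, hM, hσM, hx⟩ := exists_coatom_mem_sigmaCore hG hM₀ hx1 hxσ
  have hcomm : Commute x x' := by
    obtain ⟨n, rfl⟩ := Subgroup.mem_zpowers_iff.1 hxZ
    obtain ⟨m, rfl⟩ := Subgroup.mem_zpowers_iff.1 hx'Z
    exact (Commute.refl g).zpow_zpow n m
  have hx'σM : ∀ p : ℕ, p.Prime → p ∣ orderOf x' → p ∉ sigma M := by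
    intro q hq hd
    rw [hσM]
    exact hx'σ q hq hd
  rw [hgxx']
  by_cases hx'1 : x' = 1
  · left
    exact ⟨M, hM, x, hx, hx1, 1, Subgroup.one_mem _, by rw [hx'1]⟩
  by_cases hCM : Subgroup.centralizer ({x} : Set G) ≤ M
  · have hx'C : x' ∈ Subgroup.centralizer ({x} : Set G) :=
      mem_centralizer_singleton_of_commute hcomm
    have hx'M : x' ∈ M := hCM hx'C
    rcases Cfsg.Agent.S1432.result hG M hM x hx hx1 x' ⟨hx'M, hx'C⟩ hx'1 hx'σM with
      ⟨hκ, -⟩ | ⟨-, ⟨L, hL, hLσ⟩, hCx', huniq⟩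
    · right
      exact ⟨M, hM, x, hx, hx1, hCM, x', hx'M, hx'1, hcomm.eq, hκ, rfl⟩
    · left
      obtain ⟨L₁, hL₁, y, hy, hy1, r, hr, hxy⟩ :=
        swap hG hM hx hx'1 hcomm hx'σM hL hLσ hCx' huniq
      exact ⟨L₁, hL₁, y, hy, hy1, r, hr, hxy⟩
  · left
    exact cover_of_not_le hG hM hx hx1 hCM hcomm hx'σM

end Cfsg.Agent.Lib.H16.BGCov
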