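import Mathlib
import Cfsg.Agent.Lib.H16.BGCovB
import Cfsg.Agent.S1433

/-!
# The sets `M̃` (helper16)

* `conj_mem_supportR`: `R(x)` is compatible with conjugation.
* `tilde_disjoint`: `M̃ ∩ Ñ = ∅` for non-conjugate maximal subgroups `M`, `N`.
* `mem_tilde_of_kappa_empty`: if all `κ(M)` are empty, the sets `M̃` cover `G^#`.
-/

set_option autoImplicit false
set_option linter.style.haveILetI false
set_option linter.unusedSectionVars false
set_option linter.unusedVariables false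

open Cfsg
open Cfsg.Agent.Lib.H16.BG
open Cfsg.Agent.Lib.H7.BG7
open Cfsg.Agent.Lib.H7.BG10
open Cfsg.Agent.Lib.H20.BGS
open Cfsg.Agent.Lib.H19 (IsPiCard)
open scoped Pointwise

namespace Cfsg.Agent.Lib.H16.BGCov

open Cfsg.Agent.Lib.H16.BG145

universe u
variable {G : Type u} [Group G] [Finite G]

local notation:max "cj(" g ", " X ")" => Subgroup.map (MulEquiv.toMonoidHom (MulAut.conj g)) X

theorem centralizer_conj_le {x t : G} {L : Subgroup G}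
    (h : Subgroup.centralizer ({x} : Set G) ≤ L) :
    Subgroup.centralizer ({t * x * t⁻¹} : Set G) ≤ cj(t, L) := by
  rw [← Cfsg.Agent.Lib.H7.centralizer_singleton_map_conj]
  exact cj_mono t h

theorem centralizer_le_of_conj_le {x t : G} {L : Subgroup G}
    (h : Subgroup.centralizer ({t * x * t⁻¹} : Set G) ≤ cj(t, L)) :
    Subgroup.centralizer ({x} : Set G) ≤ L := by
  have h1 := centralizer_conj_le (t := t⁻¹) h
  rw [Cfsg.Agent.Lib.H16.BG.cj_inv_cj] at h1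
  have e : t⁻¹ * (t * x * t⁻¹) * t⁻¹⁻¹ = x := by group
  rwa [e] at h1

theorem conj_mem_sigmaCore (hG : IsMinSimpleOddOrder G) {M : Subgroup G} (hM : IsCoatom M)
    {x : G} (hx : x ∈ sigmaCore M) (t : G) : t * x * t⁻¹ ∈ sigmaCore cj(t, M) := by
  rw [sigmaCore_cj hG hM]
  exact Cfsg.Agent.Lib.H16.BG.conj_mem_cj hx

/-- `R(x)` is compatible with conjugation. -/
theorem conj_mem_supportR (hG : IsMinSimpleOddOrder G) {M : Subgroup G} (hM : IsCoatom M)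
    {x : G} (hx : x ∈ sigmaCore M) (hx1 : x ≠ 1) {r : G} (hr : r ∈ supportR M x) (t : G) :
    t * r * t⁻¹ ∈ supportR cj(t, M) (t * x * t⁻¹) := by
  obtain ⟨hxr, hrc⟩ := supportR_cases hG (h1375 hG) hM hx hx1 hr
  rcases hrc with rfl | ⟨L, dL⟩
  · have : t * 1 * t⁻¹ = 1 := by group
    rw [this]; exact Subgroup.one_mem _
  · have hM' : IsCoatom cj(t, M) := isCoatom_map_conj hM t
    have hx' : t * x * t⁻¹ ∈ sigmaCore cj(t, M) := conj_mem_sigmaCore hG hM hx t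
    have hx'1 : t * x * t⁻¹ ≠ 1 := by
      intro h
      apply hx1
      have : x = t⁻¹ * (t * x * t⁻¹) * t := by group
      rw [this, h]; group
    have hCM : ¬ Subgroup.centralizer ({x} : Set G) ≤ M := by
      intro h
      have hML : M = L := dL.uniq M hM h
      obtain ⟨q, hq, hqd⟩ := Nat.exists_prime_and_dvd
        (fun h => hx1 (orderOf_eq_one_iff.1 h) : orderOf x ≠ 1)
      have hqM := sigma_of_dvd_orderOf hx hq hqd
      exact dL.disj q (hML ▸ hqM) hqM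
    have hCM' : ¬ Subgroup.centralizer ({t * x * t⁻¹} : Set G) ≤ cj(t, M) :=
      fun h => hCM (centralizer_le_of_conj_le h)
    have hL' : IsCoatom cj(t, L) := isCoatom_map_conj dL.coatom t
    have hCL' : Subgroup.centralizer ({t * x * t⁻¹} : Set G) ≤ cj(t, L) :=
      centralizer_conj_le dL.cent_le
    have hr' : t * r * t⁻¹ ∈ sigmaCore cj(t, L) := conj_mem_sigmaCore hG dL.coatom dL.mem t
    have hrx' : t * r * t⁻¹ ∈ Subgroup.centralizer ({t * x * t⁻¹} : Set G) := by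
      apply mem_centralizer_singleton_of_commute
      show (t * x * t⁻¹) * (t * r * t⁻¹) = (t * r * t⁻¹) * (t * x * t⁻¹)
      calc (t * x * t⁻¹) * (t * r * t⁻¹) = t * (x * r) * t⁻¹ := by group
        _ = t * (r * x) * t⁻¹ := by rw [hxr.eq]
        _ = (t * r * t⁻¹) * (t * x * t⁻¹) := by group
    exact mem_supportR_of hG hM' hx' hx'1 hCM' hL' hCL' hr' hrx'

/-- `M̃ ∩ Ñ = ∅` for non-conjugate maximal subgroups. -/
theorem tilde_disjoint (hG : IsMinSimpleOddOrder G) (M N : Subgroup G) (hM : IsCoatom M)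
    (hN : IsCoatom N) (hnc : ∀ g : G, N ≠ M.map (MulAut.conj g).toMonoidHom) :
    Cfsg.tildeOf M ((Cfsg.sigmaCore M : Set G) \ {1}) ∩
      Cfsg.tildeOf N ((Cfsg.sigmaCore N : Set G) \ {1}) = ∅ := by
  rw [Set.eq_empty_iff_forall_notMem]
  rintro w ⟨⟨a₁, ⟨ha₁, ha₁1⟩, r₁, hr₁, y₁, hw₁⟩, ⟨a₂, ⟨ha₂, ha₂1⟩, r₂, hr₂, y₂, hw₂⟩⟩
  have ha₁1' : a₁ ≠ 1 := fun h => ha₁1 (Set.mem_singleton_iff.2 h)
  have ha₂1' : a₂ ≠ 1 := fun h => ha₂1 (Set.mem_singleton_iff.2 h)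
  set t : G := y₂⁻¹ * y₁ with ht
  have hM' : IsCoatom cj(t, M) := isCoatom_map_conj hM t
  have hx : t * a₁ * t⁻¹ ∈ sigmaCore cj(t, M) := conj_mem_sigmaCore hG hM ha₁ t
  have hx1 : t * a₁ * t⁻¹ ≠ 1 := by
    intro h
    apply ha₁1'
    have : a₁ = t⁻¹ * (t * a₁ * t⁻¹) * t := by group
    rw [this, h]; group
  have hr : t * r₁ * t⁻¹ ∈ supportR cj(t, M) (t * a₁ * t⁻¹) :=
    conj_mem_supportR hG hM ha₁ ha₁1' hr₁ t
  have heq : (t * a₁ * t⁻¹) * (t * r₁ * t⁻¹) = a₂ * r₂ := by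
    have h1 : y₁ * (a₁ * r₁) * y₁⁻¹ = y₂ * (a₂ * r₂) * y₂⁻¹ := hw₁.symm.trans hw₂
    calc (t * a₁ * t⁻¹) * (t * r₁ * t⁻¹) = y₂⁻¹ * (y₁ * (a₁ * r₁) * y₁⁻¹) * y₂ := by
          rw [ht]; group
      _ = y₂⁻¹ * (y₂ * (a₂ * r₂) * y₂⁻¹) * y₂ := by rw [h1]
      _ = a₂ * r₂ := by group
  by_cases hxa : t * a₁ * t⁻¹ = a₂
  · -- a common `σ`-prime
    obtain ⟨q, hq, hqd⟩ := Nat.exists_prime_and_dvd
      (fun h => ha₂1' (orderOf_eq_one_iff.1 h) : orderOf a₂ ≠ 1)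
    have hqN := sigma_of_dvd_orderOf ha₂ hq hqd
    have hqM' : q ∈ sigma cj(t, M) := sigma_of_dvd_orderOf hx hq (hxa ▸ hqd)
    rw [sigma_cj] at hqM'
    obtain ⟨g, hg⟩ := (Cfsg.Agent.S1378.result hG).2 M N hM hN ⟨q, hqM', hqN⟩
    exact hnc g hg
  · exact Cfsg.Agent.S1433.result hG cj(t, M) N hM' hN (t * a₁ * t⁻¹) a₂ hx ha₂ hx1 ha₂1' hxa
      (t * r₁ * t⁻¹) hr r₂ hr₂ heq

theorem inTilde_mem_tildeOf {g : G} (h : InTilde g) :
    ∃ M : Subgroup G, IsCoatom M ∧ g ∈ Cfsg.tildeOf M ((Cfsg.sigmaCore M : Set G) \ {1}) := by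
  obtain ⟨M, hM, x, hx, hx1, r, hr, hg⟩ := h
  refine ⟨M, hM, x, ⟨hx, fun h => hx1 (Set.mem_singleton_iff.1 h)⟩, r, hr, 1, ?_⟩
  rw [hg]; group

/-- if all `κ(M)` are empty, the sets `M̃` cover `G^#`. -/
theorem mem_tilde_of_kappa_empty (hG : IsMinSimpleOddOrder G)
    (hκ : ∀ M : Subgroup G, IsCoatom M → Cfsg.kappa M = ∅) (g : G) (hg : g ≠ 1) :
    ∃ M : Subgroup G, IsCoatom M ∧ g ∈ Cfsg.tildeOf M ((Cfsg.sigmaCore M : Set G) \ {1}) := by
  rcases cover hG g hg with h | h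
  · exact inTilde_mem_tildeOf h
  · obtain ⟨M, hM, x, hx, hx1, -, x', hx'M, hx'1, -, hκ', -⟩ := h
    exfalso
    obtain ⟨q, hq, hqd⟩ := Nat.exists_prime_and_dvd
      (fun h => hx'1 (orderOf_eq_one_iff.1 h) : orderOf x' ≠ 1)
    have := hκ' q hq hqd
    rw [hκ M hM] at this
    exact this

end Cfsg.Agent.Lib.H16.BGCov
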