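import Mathlib
import Cfsg.Agent.Lib.H16.BGCovC
import Cfsg.Agent.Lib.H7.BG13t
import Cfsg.Agent.Lib.H21.SecRank2E

/-!
# `κ` is invariant under conjugation (helper16)
-/

set_option autoImplicit false
set_option linter.style.haveILetI false
set_option linter.unusedSectionVars false
set_option linter.unusedVariables false

open Cfsg
open Cfsg.Agent.Lib.H16.BG
open Cfsg.Agent.Lib.H7.BG7
open Cfsg.Agent.Lib.H7.BG10
open Cfsg.Agent.Lib.H20.BGS
open Cfsg.Agent.Lib.H19 (IsPiCard)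
open scoped Pointwise

namespace Cfsg.Agent.Lib.H16.BGCov

open Cfsg.Agent.Lib.H16.BG145

universe u
variable {G : Type u} [Group G] [Finite G]

local notation:max "cj(" g ", " X ")" => Subgroup.map (MulEquiv.toMonoidHom (MulAut.conj g)) X

/-- the data extracted from `p ∈ κ(M)`. -/
theorem kappa_data {M : Subgroup G} {p : ℕ} (hp : p ∈ kappa M) :
    p.Prime ∧ p ∉ sigma M ∧ PRankLE p 1 ↥M ∧ ∃ X : Subgroup G, X ≤ M ∧ Nat.card X = p ∧
      sigmaCore M ⊓ Subgroup.centralizer (X : Set G) ≠ ⊥ := by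
  obtain ⟨hpp, hpd, hpσ, hall⟩ := hp
  haveI : Fact p.Prime := ⟨hpp⟩
  let S : Sylow p ↥M := default
  obtain ⟨hSc, x, hxS, hx1, y, hy, hy1, hxy⟩ := hall S
  have hS' : SylIn p ((S : Subgroup ↥M).map M.subtype) M := SylIn.of_sylow S
  haveI : IsCyclic ↥((S : Subgroup ↥M).map M.subtype) := by
    haveI := hSc
    exact isCyclic_of_surjective
      ((S : Subgroup ↥M).equivMapOfInjective _ M.subtype_injective).toMonoidHom
      ((S : Subgroup ↥M).equivMapOfInjective _ M.subtype_injective).surjective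
  have hr : PRankLE p 1 ↥M :=
    pRankLE_of_sylIn hS' (Cfsg.Agent.Lib.H7.BG13.pRankLE_one_of_isCyclic hpp)
  refine ⟨hpp, hpσ, hr, ?_⟩
  -- an element of order `p` in `⟨x⟩`
  have hxp : IsPGroup p ↥(Subgroup.zpowers (x : G)) := by
    have h1 : Subgroup.zpowers (x : G) ≤ (S : Subgroup ↥M).map M.subtype :=
      Subgroup.zpowers_le.2 ⟨x, hxS, rfl⟩
    exact hS'.isPGroup.to_le h1
  have hx1' : (x : G) ≠ 1 := fun h => hx1 (Subtype.ext h)
  have hZ1 : Subgroup.zpowers (x : G) ≠ ⊥ := fun h => hx1' (Subgroup.zpowers_eq_bot.1 h)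
  have hpdx : p ∣ orderOf (x : G) := by
    rw [← Nat.card_zpowers]
    exact dvd_card_of_ne_bot hxp le_rfl hZ1
  obtain ⟨w, hwZ, hwo⟩ := exists_pow_orderOf_eq hpp hpdx
  refine ⟨Subgroup.zpowers w, Subgroup.zpowers_le.2 ((Subgroup.zpowers_le.2 x.2) hwZ), ?_, ?_⟩
  · rw [Nat.card_zpowers, hwo]
  · intro h
    have h1 : y ∈ sigmaCore M ⊓ Subgroup.centralizer ((Subgroup.zpowers w : Subgroup G) : Set G) := by
      refine Subgroup.mem_inf.2 ⟨hy, ?_⟩
      rw [Cfsg.Agent.Lib.H16.BG.centralizer_zpowers_eq, Subgroup.mem_centralizer_iff]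
      intro v hv
      rw [Set.mem_singleton_iff] at hv
      rw [hv]
      obtain ⟨n, rfl⟩ := Subgroup.mem_zpowers_iff.1 hwZ
      exact (Commute.zpow_left (show Commute (x : G) y from hxy) n).eq
    rw [h] at h1
    exact hy1 (Subgroup.mem_bot.1 h1)

theorem kappa_subset_cj (hG : IsMinSimpleOddOrder G) {M : Subgroup G} (hM : IsCoatom M) (g : G) :
    kappa M ⊆ kappa cj(g, M) := by
  intro p hp
  obtain ⟨hpp, hpσ, hr, X, hXM, hXc, hne⟩ := kappa_data hp
  haveI : Fact p.Prime := ⟨hpp⟩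
  have hM' : IsCoatom cj(g, M) := isCoatom_map_conj hM g
  apply Cfsg.Agent.Lib.H7.BG13t.mem_kappa_of_centralizer_ne_bot hG hM' (X := cj(g, X))
  · rw [sigma_cj]; exact hpσ
  · exact Cfsg.Agent.Lib.H21.SecRank2.pRankLE_of_mulEquiv
      (M.equivMapOfInjective _ (MulAut.conj g).injective) hr
  · exact Cfsg.Agent.Lib.H16.BG.cj_mono g hXM
  · rw [card_cj]; exact hXc
  · rw [sigmaCore_cj hG hM, centralizer_cj, ← cj_inf, Ne, cj_eq_bot_iff]
    exact hne

/-- `κ` is invariant under conjugation. -/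
theorem kappa_cj (hG : IsMinSimpleOddOrder G) {M : Subgroup G} (hM : IsCoatom M) (g : G) :
    kappa cj(g, M) = kappa M := by
  apply Set.Subset.antisymm
  · have := kappa_subset_cj hG (isCoatom_map_conj hM g) g⁻¹
    rwa [Cfsg.Agent.Lib.H16.BG.cj_inv_cj] at this
  · exact kappa_subset_cj hG hM g

end Cfsg.Agent.Lib.H16.BGCov
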