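import Mathlib
import Cfsg.Agent.Lib.H16.BGCovD
import Cfsg.Agent.Lib.H7.BG147a

/-!
# The covering of `G^#` by the sets `M̃` and the conjugates of `Ẑ` (helper16)

`thm_1379`: the statement S1379 from BG Theorem 14.7 in the form of the frozen statements
S1366, S1367, S1369 (as hypotheses `H1366`, `H1367`, `H1369`).
-/

set_option autoImplicit false
set_option linter.style.haveILetI false
set_option linter.unusedSectionVars false
set_option linter.unusedVariables false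

open Cfsg
open Cfsg.Agent.Lib.H16.BG
open Cfsg.Agent.Lib.H7.BG7
open Cfsg.Agent.Lib.H7.BG10
open Cfsg.Agent.Lib.H20.BGS
open Cfsg.Agent.Lib.H19 (IsPiCard)
open scoped Pointwise

namespace Cfsg.Agent.Lib.H16.BGCov

open Cfsg.Agent.Lib.H16.BG145
open Cfsg.Agent.Lib.H7.BG147

universe u
variable {G : Type u} [Group G] [Finite G]

local notation:max "cj(" g ", " X ")" => Subgroup.map (MulEquiv.toMonoidHom (MulAut.conj g)) X

/-- the frozen statement S1366 as a hypothesis. -/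
def H1366 (G : Type u) [Group G] : Prop :=
  ∀ (M : Subgroup G) (hM : IsCoatom M) (K U : Subgroup G) (hKU : Cfsg.IsSigmaDecomposition M K U) (hK1 : K ≠ ⊥),
    ∃! Mstar : Subgroup G, IsCoatom Mstar ∧ K = Cfsg.sigmaCore Mstar ⊓ Subgroup.centralizer ((Cfsg.sigmaCore M ⊓ Subgroup.centralizer (K : Set G)) : Set G) ∧
        Cfsg.IsPiHallOf (Cfsg.kappa Mstar) (Cfsg.sigmaCore M ⊓ Subgroup.centralizer (K : Set G)) Mstar

/-- the frozen statement S1367 as a hypothesis. -/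
def H1367 (G : Type u) [Group G] : Prop :=
  ∀ (M : Subgroup G) (hM : IsCoatom M) (K U : Subgroup G) (hKU : Cfsg.IsSigmaDecomposition M K U) (hK1 : K ≠ ⊥) (Mstar : Subgroup G) (hMstar : IsCoatom Mstar)
    (hKst : K = Cfsg.sigmaCore Mstar ⊓ Subgroup.centralizer ((Cfsg.sigmaCore M ⊓ Subgroup.centralizer (K : Set G)) : Set G))
    (hKstH : Cfsg.IsPiHallOf (Cfsg.kappa Mstar) (Cfsg.sigmaCore M ⊓ Subgroup.centralizer (K : Set G)) Mstar),
    (∀ X : Subgroup G, X ≤ (Cfsg.sigmaCore M ⊓ Subgroup.centralizer (K : Set G)) → (Nat.card X).Prime →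
        Subgroup.centralizer (X : Set G) ≤ M ∧ ∀ L : Subgroup G, IsCoatom L → Subgroup.centralizer (X : Set G) ≤ L → L = M) ∧
      (∀ Y : Subgroup G, Y ≤ K → (Nat.card Y).Prime →
        Subgroup.centralizer (Y : Set G) ≤ Mstar ∧ ∀ L : Subgroup G, IsCoatom L → Subgroup.centralizer (Y : Set G) ≤ L → L = Mstar)

/-- the frozen statement S1369 as a hypothesis. -/
def H1369 (G : Type u) [Group G] : Prop :=
  ∀ (M : Subgroup G) (hM : IsCoatom M) (K U : Subgroup G) (hKU : Cfsg.IsSigmaDecomposition M K U) (hK1 : K ≠ ⊥) (Mstar : Subgroup G) (hMstar : IsCoatom Mstar)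
    (hKst : K = Cfsg.sigmaCore Mstar ⊓ Subgroup.centralizer ((Cfsg.sigmaCore M ⊓ Subgroup.centralizer (K : Set G)) : Set G))
    (hKstH : Cfsg.IsPiHallOf (Cfsg.kappa Mstar) (Cfsg.sigmaCore M ⊓ Subgroup.centralizer (K : Set G)) Mstar),
    (U ≠ ⊥ ∨ ∀ Ustar : Subgroup G, Cfsg.IsSigmaDecomposition Mstar (Cfsg.sigmaCore M ⊓ Subgroup.centralizer (K : Set G)) Ustar → Ustar ≠ ⊥) ∧
      ∀ H : Subgroup G, IsCoatom H → (Cfsg.kappa H).Nonempty →
        ∃ g : G, H = M.map (MulAut.conj g).toMonoidHom ∨ H = Mstar.map (MulAut.conj g).toMonoidHom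

/-- moving a `κ(M)`-element into a given Hall `κ(M)`-subgroup. -/
theorem exists_conj_mem_hall (hG : IsMinSimpleOddOrder G) {M K : Subgroup G} (hM : IsCoatom M)
    (hK : IsPiHallOf (kappa M) K M) {x x' : G} (hx : x ∈ sigmaCore M) (hx1 : x ≠ 1)
    (hx'M : x' ∈ M) (hx'1 : x' ≠ 1) (hcomm : x * x' = x' * x)
    (hκ : ∀ p : ℕ, p.Prime → p ∣ orderOf x' → p ∈ kappa M) :
    ∃ m ∈ M, m * x' * m⁻¹ ∈ K ∧ m * x' * m⁻¹ ≠ 1 ∧
      m * x * m⁻¹ ∈ sigmaCore M ⊓ Subgroup.centralizer (K : Set G) ∧ m * x * m⁻¹ ≠ 1 := by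
  haveI : Group.IsSolvable ↥M := solvable_of_coatom hG hM
  have hZM : Subgroup.zpowers x' ≤ M := Subgroup.zpowers_le.2 hx'M
  have hZπ : IsPiCard (kappa M) (Nat.card ↥(Subgroup.zpowers x')) := by
    intro p hp hd
    rw [Nat.card_zpowers] at hd
    exact hκ p hp hd
  obtain ⟨H', hH', hZH'⟩ := Cfsg.Agent.Lib.H19.exists_isPiHallOf_ge hZM hZπ
  obtain ⟨m, hmM, hmH'⟩ := Cfsg.Agent.Lib.H19.isPiHallOf_exists_conj hH' hK
  have hk : m * x' * m⁻¹ ∈ K := by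
    rw [← hmH']
    exact Subgroup.smul_mem_pointwise_smul x' (MulAut.conj m) H' (hZH' (Subgroup.mem_zpowers x'))
  have hk1 : m * x' * m⁻¹ ≠ 1 := by
    intro h
    apply hx'1
    have : x' = m⁻¹ * (m * x' * m⁻¹) * m := by group
    rw [this, h]; group
  have hs1 : m * x * m⁻¹ ≠ 1 := by
    intro h
    apply hx1
    have : x = m⁻¹ * (m * x * m⁻¹) * m := by group
    rw [this, h]; group
  have hK1 : K ≠ ⊥ := by
    rintro rfl
    exact hk1 (Subgroup.mem_bot.1 hk)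
  have hsσ : m * x * m⁻¹ ∈ sigmaCore M :=
    (Subgroup.mem_normalizer_iff.1 (Cfsg.Agent.Lib.H20.BGS.le_normalizer_sigmaCore M hmM) x).1 hx
  refine ⟨m, hmM, hk, hk1, ?_, hs1⟩
  rw [← (Cfsg.Agent.S1430.result hG M hM K hK hK1).1 (m * x' * m⁻¹) hk hk1]
  refine Subgroup.mem_inf.2 ⟨hsσ, ?_⟩
  apply mem_centralizer_singleton_of_commute
  show (m * x' * m⁻¹) * (m * x * m⁻¹) = (m * x * m⁻¹) * (m * x' * m⁻¹)
  calc (m * x' * m⁻¹) * (m * x * m⁻¹) = m * (x' * x) * m⁻¹ := by group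
    _ = m * (x * x') * m⁻¹ := by rw [hcomm]
    _ = (m * x * m⁻¹) * (m * x' * m⁻¹) := by group

/-- a `Ẑ`-type element of a conjugate of `M₁` is conjugate to an element `s k` with `k ∈ K₁^#`,
`s ∈ C_{(M₁)_σ}(K₁)^#`. -/
theorem exists_conj_eq_mul (hG : IsMinSimpleOddOrder G) {M₁ K₁ : Subgroup G} (hM₁ : IsCoatom M₁)
    (hK₁ : IsPiHallOf (kappa M₁) K₁ M₁) (h : G) {x x' : G} (hx : x ∈ sigmaCore cj(h, M₁))
    (hx1 : x ≠ 1) (hx'M : x' ∈ cj(h, M₁)) (hx'1 : x' ≠ 1) (hcomm : x * x' = x' * x)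
    (hκ : ∀ p : ℕ, p.Prime → p ∣ orderOf x' → p ∈ kappa cj(h, M₁)) :
    ∃ y : G, ∃ k ∈ K₁, ∃ s ∈ sigmaCore M₁ ⊓ Subgroup.centralizer (K₁ : Set G), k ≠ 1 ∧ s ≠ 1 ∧
      x * x' = y * (s * k) * y⁻¹ := by
  rw [sigmaCore_cj hG hM₁, mem_cj_iff] at hx
  rw [mem_cj_iff] at hx'M
  rw [kappa_cj hG hM₁] at hκ
  have hx1' : h⁻¹ * x * h ≠ 1 := by
    intro e
    apply hx1
    have : x = h * (h⁻¹ * x * h) * h⁻¹ := by group
    rw [this, e]; group
  have hx'1' : h⁻¹ * x' * h ≠ 1 := by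
    intro e
    apply hx'1
    have : x' = h * (h⁻¹ * x' * h) * h⁻¹ := by group
    rw [this, e]; group
  have hcomm' : (h⁻¹ * x * h) * (h⁻¹ * x' * h) = (h⁻¹ * x' * h) * (h⁻¹ * x * h) := by
    calc (h⁻¹ * x * h) * (h⁻¹ * x' * h) = h⁻¹ * (x * x') * h := by group
      _ = h⁻¹ * (x' * x) * h := by rw [hcomm]
      _ = (h⁻¹ * x' * h) * (h⁻¹ * x * h) := by group
  have hκ' : ∀ p : ℕ, p.Prime → p ∣ orderOf (h⁻¹ * x' * h) → p ∈ kappa M₁ := by
    intro p hp hd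
    apply hκ p hp
    have e : orderOf (h⁻¹ * x' * h) = orderOf x' := by
      have := (MulAut.conj h⁻¹).orderOf_eq x'
      simpa [MulAut.conj_apply] using this
    rwa [e] at hd
  obtain ⟨m, hmM, hk, hk1, hs, hs1⟩ :=
    exists_conj_mem_hall hG hM₁ hK₁ hx hx1' hx'M hx'1' hcomm' hκ'
  refine ⟨h * m⁻¹, _, hk, _, hs, hk1, hs1, ?_⟩
  group

end Cfsg.Agent.Lib.H16.BGCov
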