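import Mathlib
import Cfsg.Agent.Lib.H16.BGCovE

/-!
# The statement S1379 from BG Theorem 14.7 (helper16)
-/

set_option autoImplicit false
set_option linter.style.haveILetI false
set_option linter.unusedSectionVars false
set_option linter.unusedVariables false

open Cfsg
open Cfsg.Agent.Lib.H16.BG
open Cfsg.Agent.Lib.H7.BG7
open Cfsg.Agent.Lib.H7.BG10
open Cfsg.Agent.Lib.H20.BGS
open Cfsg.Agent.Lib.H19 (IsPiCard)
open scoped Pointwise

namespace Cfsg.Agent.Lib.H16.BGCov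

open Cfsg.Agent.Lib.H16.BG145
open Cfsg.Agent.Lib.H7.BG147

universe u
variable {G : Type u} [Group G] [Finite G]

local notation:max "cj(" g ", " X ")" => Subgroup.map (MulEquiv.toMonoidHom (MulAut.conj g)) X

/-- the `P`-type covering: every `g ≠ 1` lies in some `Ñ` or in a conjugate of `Ẑ`. -/
theorem cover_P (hG : IsMinSimpleOddOrder G) (h66 : H1366 G) (h69 : H1369 G) {M K U : Subgroup G}
    (hM : IsCoatom M) (hKU : IsSigmaDecomposition M K U) (hK1 : K ≠ ⊥) (g : G) (hg : g ≠ 1) :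
    (∃ N : Subgroup G, IsCoatom N ∧ g ∈ Cfsg.tildeOf N ((Cfsg.sigmaCore N : Set G) \ {1})) ∨
      ∃ y : G, ∃ z ∈ zhat M K, g = y * z * y⁻¹ := by
  rcases cover hG g hg with h | h
  · exact Or.inl (inTilde_mem_tildeOf h)
  · right
    obtain ⟨M₁, hM₁, x, hx, hx1, -, x', hx'M, hx'1, hcomm, hκ, hgxx'⟩ := h
    obtain ⟨Mstar, ⟨hMs, hKst, hKstH⟩, -⟩ := h66 M hM K U hKU hK1
    have hκne : (kappa M₁).Nonempty := by
      obtain ⟨q, hq, hqd⟩ := Nat.exists_prime_and_dvd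
        (fun h => hx'1 (orderOf_eq_one_iff.1 h) : orderOf x' ≠ 1)
      exact ⟨q, hκ q hq hqd⟩
    obtain ⟨h, hh | hh⟩ := (h69 M hM K U hKU hK1 Mstar hMs hKst hKstH).2 M₁ hM₁ hκne
    · subst hh
      obtain ⟨y, k, hk, s, hs, hk1, hs1, he⟩ :=
        exists_conj_eq_mul hG hM hKU.hall h hx hx1 hx'M hx'1 hcomm hκ
      refine ⟨y, s * k, ?_, by rw [hgxx', he]⟩
      rw [← commute_of_mem hk hs]
      exact mul_mem_zhat hKU.hall hk hs hk1 hs1
    · subst hh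
      obtain ⟨y, k', hk', s', hs', hk'1, hs'1, he⟩ :=
        exists_conj_eq_mul hG hMs hKstH h hx hx1 hx'M hx'1 hcomm hκ
      have hs'K : s' ∈ K := by rw [hKst]; exact hs'
      exact ⟨y, s' * k', mul_mem_zhat hKU.hall hs'K hk' hs'1 hk'1, by rw [hgxx', he]⟩

/-- auxiliary: an element `u v` (`u ∈ P_σ`, `v ≠ 1` a `σ(P)'`-element, `C_G(u) ≤ P`) is not of the
form `a r` with `a ∈ N_σ^#`, `r ∈ R_N(a)` when `σ(N) = σ(P)`. -/
theorem not_mul_eq_of_sigma_eq (hG : IsMinSimpleOddOrder G) {N P : Subgroup G} (hN : IsCoatom N)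
    (hP : IsCoatom P) {a r u v : G} (ha : a ∈ sigmaCore N) (ha1 : a ≠ 1)
    (hr : r ∈ supportR N a) (hu : u ∈ sigmaCore P)
    (hvσ : ∀ p : ℕ, p.Prime → p ∣ orderOf v → p ∉ sigma P) (hv1 : v ≠ 1) (huv : Commute u v)
    (hCu : Subgroup.centralizer ({u} : Set G) ≤ P) (hσ : sigma N = sigma P)
    (heq : a * r = u * v) : False := by
  obtain ⟨har, hrc⟩ := supportR_cases hG (h1375 hG) hN ha ha1 hr
  have haσ : ∀ p : ℕ, p.Prime → p ∣ orderOf a → p ∈ sigma P :=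
    fun p hp hd => hσ ▸ sigma_of_dvd_orderOf ha hp hd
  have huσ : ∀ p : ℕ, p.Prime → p ∣ orderOf u → p ∈ sigma P :=
    fun p hp hd => sigma_of_dvd_orderOf hu hp hd
  have hrσ : ∀ p : ℕ, p.Prime → p ∣ orderOf r → p ∉ sigma P := by
    intro p hp hd
    rcases hrc with rfl | ⟨L, dL⟩
    · rw [orderOf_one] at hd
      exact absurd (Nat.dvd_one.1 hd) hp.one_lt.ne'
    · rw [← hσ]
      exact dL.disj p (sigma_of_dvd_orderOf dL.mem hp hd)
  obtain ⟨hau, hrv⟩ := eq_of_mul_eq_mul (π := sigma P) haσ hrσ huσ hvσ har huv heq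
  rcases hrc with h | ⟨L, dL⟩
  · exact hv1 (hrv ▸ h)
  · have hPL : P = L := dL.uniq P hP (hau ▸ hCu)
    obtain ⟨p, hp, hpd⟩ := Nat.exists_prime_and_dvd
      (fun h => ha1 (orderOf_eq_one_iff.1 h) : orderOf a ≠ 1)
    have h1 : p ∈ sigma N := sigma_of_dvd_orderOf ha hp hpd
    have h2 : p ∈ sigma L := by rw [← hPL, ← hσ]; exact h1
    exact dL.disj p h2 h1

/-- `C_G(s) ≤ C_G(X)` for a subgroup `X` of `⟨s⟩`. -/
theorem centralizer_singleton_le_of_le_zpowers {s : G} {X : Subgroup G}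
    (h : X ≤ Subgroup.zpowers s) :
    Subgroup.centralizer ({s} : Set G) ≤ Subgroup.centralizer (X : Set G) := by
  rw [← Cfsg.Agent.Lib.H16.BG.centralizer_zpowers_eq]
  exact Subgroup.centralizer_le h

/-- no conjugate of an element of `Ẑ` lies in any `Ñ`. -/
theorem zhat_not_mem_tilde (hG : IsMinSimpleOddOrder G) (h66 : H1366 G) (h67 : H1367 G)
    {M K U : Subgroup G} (hM : IsCoatom M) (hKU : IsSigmaDecomposition M K U) (hK1 : K ≠ ⊥)
    (N : Subgroup G) (hN : IsCoatom N) (y z : G) (hz : z ∈ zhat M K) :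
    y * z * y⁻¹ ∉ Cfsg.tildeOf N ((Cfsg.sigmaCore N : Set G) \ {1}) := by
  rintro ⟨a, ⟨ha, ha1⟩, r, hr, y', hw⟩
  have ha1' : a ≠ 1 := fun h => ha1 (Set.mem_singleton_iff.2 h)
  have hK := hKU.hall
  obtain ⟨Mstar, ⟨hMs, hKst, hKstH⟩, -⟩ := h66 M hM K U hKU hK1
  obtain ⟨h67a, h67b⟩ := h67 M hM K U hKU hK1 Mstar hMs hKst hKstH
  obtain ⟨k, hk, s, hs, hk1, hs1, hzks⟩ := exists_mul_of_mem_zhat hz
  set t : G := y⁻¹ * y' with ht
  have hN' : IsCoatom cj(t, N) := isCoatom_map_conj hN t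
  have ha' : t * a * t⁻¹ ∈ sigmaCore cj(t, N) := conj_mem_sigmaCore hG hN ha t
  have ha'1 : t * a * t⁻¹ ≠ 1 := by
    intro h
    apply ha1'
    have : a = t⁻¹ * (t * a * t⁻¹) * t := by group
    rw [this, h]; group
  have hr' : t * r * t⁻¹ ∈ supportR cj(t, N) (t * a * t⁻¹) :=
    conj_mem_supportR hG hN ha ha1' hr t
  have heq : (t * a * t⁻¹) * (t * r * t⁻¹) = k * s := by
    rw [← hzks]
    calc (t * a * t⁻¹) * (t * r * t⁻¹) = y⁻¹ * (y' * (a * r) * y'⁻¹) * y := by rw [ht]; group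
      _ = y⁻¹ * (y * z * y⁻¹) * y := by rw [hw]
      _ = z := by group
  have hks : Commute k s := commute_of_mem hk hs
  have hcop : (orderOf k).Coprime (orderOf s) :=
    Nat.Coprime.coprime_dvd_left (Subgroup.orderOf_dvd_natCard _ hk)
      (Nat.Coprime.coprime_dvd_right (Subgroup.orderOf_dvd_natCard _ hs) (card_coprime hK))
  obtain ⟨har', -⟩ := supportR_cases hG (h1375 hG) hN' ha' ha'1 hr'
  obtain ⟨q, hq, hqd⟩ := Nat.exists_prime_and_dvd
    (fun h => ha'1 (orderOf_eq_one_iff.1 h) : orderOf (t * a * t⁻¹) ≠ 1)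
  have hqN' : q ∈ sigma cj(t, N) := sigma_of_dvd_orderOf ha' hq hqd
  have hqz : q ∣ orderOf (k * s) := by
    rw [← heq]
    exact hqd.trans (orderOf_dvd_of_mem_zpowers
      (show t * a * t⁻¹ ∈ Subgroup.zpowers ((t * a * t⁻¹) * (t * r * t⁻¹)) from by
        obtain ⟨-, hrc⟩ := supportR_cases hG (h1375 hG) hN' ha' ha'1 hr'
        apply mem_zpowers_mul_of_coprime har'
        apply coprime_orderOf_of_pi (π := sigma cj(t, N))
          (fun p hp hd => sigma_of_dvd_orderOf ha' hp hd)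
        intro p hp hd
        rcases hrc with h | ⟨L, dL⟩
        · rw [h, orderOf_one] at hd
          exact absurd (Nat.dvd_one.1 hd) hp.one_lt.ne'
        · exact dL.disj p (sigma_of_dvd_orderOf dL.mem hp hd)))
  rw [hks.orderOf_mul_eq_mul_orderOf_of_coprime hcop] at hqz
  have hkσ : k ∈ sigmaCore Mstar := by
    have : k ∈ sigmaCore Mstar ⊓ Subgroup.centralizer
        ((sigmaCore M ⊓ Subgroup.centralizer (K : Set G) : Subgroup G) : Set G) := hKst ▸ hk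
    exact this.1
  rcases (Nat.Prime.dvd_mul hq).1 hqz with hqk | hqs
  · -- `σ(N') = σ(M*)`
    have hσ := sigma_eq_of_inter hG hN' hMs ⟨q, hqN', sigma_of_dvd_orderOf hkσ hq hqk⟩
    obtain ⟨w, hwZ, hwo⟩ := exists_pow_orderOf_eq hq hqk
    have hYK : Subgroup.zpowers w ≤ K := (Subgroup.zpowers_le.2 hwZ).trans (Subgroup.zpowers_le.2 hk)
    have hYc : (Nat.card ↥(Subgroup.zpowers w)).Prime := by rw [Nat.card_zpowers, hwo]; exact hq
    have hCk : Subgroup.centralizer ({k} : Set G) ≤ Mstar :=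
      (centralizer_singleton_le_of_le_zpowers (Subgroup.zpowers_le.2 hwZ)).trans
        (h67b _ hYK hYc).1
    refine not_mul_eq_of_sigma_eq hG hN' hMs ha' ha'1 hr' hkσ ?_ hs1 hks hCk hσ heq
    intro p hp hd hpσ
    have h1 : p ∈ kappa Mstar :=
      hKstH.2.1 p hp (hd.trans (Subgroup.orderOf_dvd_natCard _ hs))
    exact h1.2.2.1 hpσ
  · -- `σ(N') = σ(M)`
    have hσ := sigma_eq_of_inter hG hN' hM ⟨q, hqN', sigma_of_dvd_orderOf hs.1 hq hqs⟩
    obtain ⟨w, hwZ, hwo⟩ := exists_pow_orderOf_eq hq hqs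
    have hXK : Subgroup.zpowers w ≤ sigmaCore M ⊓ Subgroup.centralizer (K : Set G) :=
      (Subgroup.zpowers_le.2 hwZ).trans (Subgroup.zpowers_le.2 hs)
    have hXc : (Nat.card ↥(Subgroup.zpowers w)).Prime := by rw [Nat.card_zpowers, hwo]; exact hq
    have hCs : Subgroup.centralizer ({s} : Set G) ≤ M :=
      (centralizer_singleton_le_of_le_zpowers (Subgroup.zpowers_le.2 hwZ)).trans
        (h67a _ hXK hXc).1
    refine not_mul_eq_of_sigma_eq hG hN' hM ha' ha'1 hr' hs.1 ?_ hk1 hks.symm hCs hσ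
      (heq.trans hks.eq)
    intro p hp hd hpσ
    have h1 : p ∈ kappa M := hK.2.1 p hp (hd.trans (Subgroup.orderOf_dvd_natCard _ hk))
    exact h1.2.2.1 hpσ

/-- **the statement S1379** from BG Theorem 14.7 (S1366, S1367, S1369). -/
theorem thm_1379 (hG : IsMinSimpleOddOrder G) (h66 : H1366 G) (h67 : H1367 G) (h69 : H1369 G) :
    (∀ M N : Subgroup G, IsCoatom M → IsCoatom N → (∀ g : G, N ≠ M.map (MulAut.conj g).toMonoidHom) → Cfsg.tildeOf M ((Cfsg.sigmaCore M : Set G) \ {1}) ∩ Cfsg.tildeOf N ((Cfsg.sigmaCore N : Set G) \ {1}) = ∅) ∧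
      ((∀ M : Subgroup G, IsCoatom M → Cfsg.kappa M = ∅) →
        ∀ g : G, g ≠ 1 → ∃ M : Subgroup G, IsCoatom M ∧ g ∈ Cfsg.tildeOf M ((Cfsg.sigmaCore M : Set G) \ {1})) ∧
      ∀ (M K U : Subgroup G), IsCoatom M → Cfsg.IsSigmaDecomposition M K U → K ≠ ⊥ →
        (∀ g : G, g ≠ 1 → (∃ N : Subgroup G, IsCoatom N ∧ g ∈ Cfsg.tildeOf N ((Cfsg.sigmaCore N : Set G) \ {1})) ∨
            ∃ y : G, ∃ z ∈ ((↑(K ⊔ (Cfsg.sigmaCore M ⊓ Subgroup.centralizer (K : Set G))) : Set G) \ ((K : Set G) ∪ ↑(Cfsg.sigmaCore M ⊓ Subgroup.centralizer (K : Set G)))), g = y * z * y⁻¹) ∧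
        ∀ N : Subgroup G, IsCoatom N → ∀ y : G, ∀ z ∈ ((↑(K ⊔ (Cfsg.sigmaCore M ⊓ Subgroup.centralizer (K : Set G))) : Set G) \ ((K : Set G) ∪ ↑(Cfsg.sigmaCore M ⊓ Subgroup.centralizer (K : Set G)))), y * z * y⁻¹ ∉ Cfsg.tildeOf N ((Cfsg.sigmaCore N : Set G) \ {1}) := by
  refine ⟨fun M N hM hN hnc => tilde_disjoint hG M N hM hN hnc,
    fun hκ g hg => mem_tilde_of_kappa_empty hG hκ g hg, ?_⟩
  intro M K U hM hKU hK1
  exact ⟨fun g hg => cover_P hG h66 h69 hM hKU hK1 g hg,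
    fun N hN y z hz => zhat_not_mem_tilde hG h66 h67 hM hKU hK1 N hN y z hz⟩

end Cfsg.Agent.Lib.H16.BGCov
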