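import Mathlib
import Cfsg.Agent.Lib.H16.BGCovF
import Cfsg.Agent.Lib.H7.BG147f
import Cfsg.Agent.S1352
import Cfsg.Agent.S1365
import Cfsg.Agent.S1367
import Cfsg.Agent.S1377

/-!
# BG Theorem 14.7(f) (helper16): the statement S1369

Black boxes (frozen shapes): `H1351` (Hall `κ`-subgroups exist and are cyclic), `H1366`
(existence of `M*`).  Everything else is landed.
-/

set_option autoImplicit false
set_option linter.style.haveILetI false
set_option linter.unusedSectionVars false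
set_option linter.unusedVariables false

open Cfsg
open Cfsg.Agent.Lib.H16.BG
open Cfsg.Agent.Lib.H7.BG7
open Cfsg.Agent.Lib.H7.BG10
open Cfsg.Agent.Lib.H20.BGS
open Cfsg.Agent.Lib.H19 (IsPiCard)
open scoped Pointwise

namespace Cfsg.Agent.Lib.H16.BG147f

open Cfsg.Agent.Lib.H16.BG145
open Cfsg.Agent.Lib.H16.BGCov
open Cfsg.Agent.Lib.H7.BG147

universe u
variable {G : Type u} [Group G] [Finite G]

local notation:max "cj(" g ", " X ")" => Subgroup.map (MulEquiv.toMonoidHom (MulAut.conj g)) X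

/-- the frozen statement S1351 as a hypothesis. -/
def H1351 (G : Type u) [Group G] : Prop :=
  ∀ (M : Subgroup G) (hM : IsCoatom M),
    (∃ K : Subgroup G, Cfsg.IsPiHallOf (Cfsg.kappa M) K M) ∧
      ∀ K : Subgroup G, Cfsg.IsPiHallOf (Cfsg.kappa M) K M → IsCyclic K

/-- an element of `A ⊔ B` (`A`, `B` commuting elementwise) of order coprime to `|B|` lies in `A`. -/
theorem mem_left_of_coprime {A B : Subgroup G} (hcomm : ∀ a ∈ A, ∀ b ∈ B, a * b = b * a)
    {w : G} (hw : w ∈ A ⊔ B) (hcop : (orderOf w).Coprime (Nat.card ↥B)) : w ∈ A := by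
  have hB : B ≤ Subgroup.normalizer (A : Set G) := by
    intro b hb
    apply Subgroup.centralizer_le_normalizer
    rw [Subgroup.mem_centralizer_iff]
    intro a ha
    exact hcomm a ha b hb
  obtain ⟨a, ha, b, hb, rfl⟩ := Cfsg.Agent.Lib.H1.mem_sup_of_le_normalizer hB hw
  have hab : Commute a b := hcomm a ha b hb
  have h1 : (a * b) ^ Nat.card ↥B = a ^ Nat.card ↥B := by
    rw [hab.mul_pow]
    have : b ^ Nat.card ↥B = 1 := by
      have := pow_card_eq_one' (G := ↥B) (x := ⟨b, hb⟩)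
      exact congrArg Subtype.val this
    rw [this, mul_one]
  obtain ⟨m, hm⟩ := exists_pow_eq_self_of_coprime hcop.symm
  rw [← hm, h1]
  exact A.pow_mem (A.pow_mem ha _) _

/-- `1 ∉ M̃`. -/
theorem one_not_mem_tilde (hG : IsMinSimpleOddOrder G) {M : Subgroup G} (hM : IsCoatom M) :
    (1 : G) ∉ Cfsg.tildeOf M ((Cfsg.sigmaCore M : Set G) \ {1}) := by
  rintro ⟨a, ⟨ha, ha1⟩, r, hr, y, hw⟩
  have ha1' : a ≠ 1 := fun h => ha1 (Set.mem_singleton_iff.2 h)
  obtain ⟨har, hrc⟩ := supportR_cases hG (h1375 hG) hM ha ha1' hr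
  have har1 : a * r = 1 := by
    have : a * r = y⁻¹ * (y * (a * r) * y⁻¹) * y := by group
    rw [this, ← hw]; group
  have hmem : a ∈ Subgroup.zpowers (a * r) := by
    apply mem_zpowers_mul_of_coprime har
    apply coprime_orderOf_of_pi (π := sigma M)
      (fun p hp hd => sigma_of_dvd_orderOf ha hp hd)
    intro p hp hd
    rcases hrc with h | ⟨L, dL⟩
    · rw [h, orderOf_one] at hd
      exact absurd (Nat.dvd_one.1 hd) hp.one_lt.ne'
    · exact dL.disj p (sigma_of_dvd_orderOf dL.mem hp hd)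
  rw [har1, Subgroup.zpowers_one_eq_bot, Subgroup.mem_bot] at hmem
  exact ha1' hmem

/-- the numerical data of a maximal subgroup of type `P₁`. -/
theorem side_count (hG : IsMinSimpleOddOrder G) {M K : Subgroup G} (hM : IsCoatom M)
    (hKU : IsSigmaDecomposition M K ⊥) (hK1 : K ≠ ⊥) :
    ∃ c : ℕ, 3 ≤ c ∧
      Nat.card ↥(sigmaCore M) =
        Nat.card ↥(sigmaCore M ⊓ Subgroup.centralizer (K : Set G)) * c ∧
      Nat.card G = Nat.card ↥K * Nat.card ↥(sigmaCore M) * M.index := by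
  obtain ⟨h65a, h65b⟩ := Cfsg.Agent.S1365.result hG M hM K ⊥ hKU hK1
  rw [bot_sup_eq] at h65a
  rw [h65a] at h65b
  have hKs1 := star_ne_bot hG hM hKU.hall hK1
  have hσ1 : sigmaCore M ≠ ⊥ := by
    intro h
    apply hKs1
    rw [h, bot_inf_eq]
  have hsol : Group.IsSolvable ↥(sigmaCore M) :=
    solvable_of_le_ne_top hG hM.1 (Cfsg.Agent.Lib.H20.BGS.sigmaCore_le M)
  have hne : sigmaCore M ⊓ Subgroup.centralizer (K : Set G) ≠ sigmaCore M := by
    intro h
    rw [h] at h65b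
    exact Cfsg.Agent.Lib.H1.commutator_ne_self_of_isSolvable hsol hσ1
      (le_antisymm (Subgroup.commutator_le_self _) h65b)
  have hdvd : Nat.card ↥(sigmaCore M ⊓ Subgroup.centralizer (K : Set G)) ∣
      Nat.card ↥(sigmaCore M) := Subgroup.card_dvd_of_le inf_le_left
  obtain ⟨c, hc⟩ := hdvd
  have hodd : Odd (Nat.card ↥(sigmaCore M)) :=
    Odd.of_dvd_nat hG.1 (Subgroup.card_subgroup_dvd_card _)
  have hpos : 0 < Nat.card ↥(sigmaCore M) := Nat.card_pos
  have hc1 : c ≠ 1 := by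
    rintro rfl
    rw [mul_one] at hc
    exact hne (Subgroup.eq_of_le_of_card_ge inf_le_left hc.le)
  have hcodd : Odd c := by
    rw [hc] at hodd
    exact (Nat.odd_mul.1 hodd).2
  have hc3 : 3 ≤ c := by
    obtain ⟨j, hj⟩ := hcodd
    omega
  refine ⟨c, hc3, hc, ?_⟩
  have hcompl := Cfsg.Agent.Lib.H20.BGZ.isComplIn_sup hG hM hKU
  rw [sup_bot_eq] at hcompl
  have h1 := Cfsg.Agent.Lib.H7.isComplIn_card_mul hcompl
  rw [h1]
  exact (Subgroup.card_mul_index M).symm

end Cfsg.Agent.Lib.H16.BG147f
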