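import Mathlib
import Cfsg.Agent.Lib.H16.BG147fa

/-!
# BG Theorem 14.7(f) (helper16): not both `M`, `M*` of type `P₁`; two classes
-/

set_option autoImplicit false
set_option linter.style.haveILetI false
set_option linter.unusedSectionVars false
set_option linter.unusedVariables false

open Cfsg
open Cfsg.Agent.Lib.H16.BG
open Cfsg.Agent.Lib.H7.BG7
open Cfsg.Agent.Lib.H7.BG10
open Cfsg.Agent.Lib.H20.BGS
open Cfsg.Agent.Lib.H19 (IsPiCard)
open scoped Pointwise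

namespace Cfsg.Agent.Lib.H16.BG147f

open Cfsg.Agent.Lib.H16.BG145
open Cfsg.Agent.Lib.H16.BGCov
open Cfsg.Agent.Lib.H7.BG147

universe u
variable {G : Type u} [Group G] [Finite G]

local notation:max "cj(" g ", " X ")" => Subgroup.map (MulEquiv.toMonoidHom (MulAut.conj g)) X

/-- the frozen statement S1367 (landed) in the shape `H1367`. -/
theorem h1367 (hG : IsMinSimpleOddOrder G) : H1367 G :=
  fun M hM K U hKU hK1 Mstar hMstar hKst hKstH =>
    Cfsg.Agent.S1367.result hG M hM K U hKU hK1 Mstar hMstar hKst hKstH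

/-- the arithmetic core of the count. -/
theorem count_arith {k s m m' i i' g a b c c₁ c₂ : ℕ} (hk : 3 ≤ k) (hs : 3 ≤ s)
    (hc₁ : 3 ≤ c₁) (hc₂ : 3 ≤ c₂) (hm₁ : m = s * c₁) (hm₂ : m' = k * c₂)
    (hg₁ : g = k * m * i) (hg₂ : g = s * m' * i')
    (ha : k * s * a = (k * s - k - s + 1) * g)
    (hb : b = (m - 1) * i) (hc : c = (m' - 1) * i')
    (hsum : a + b + c + 1 ≤ g) : False := by
  have hks : k + s ≤ k * s := by nlinarith
  obtain ⟨T, hT⟩ : ∃ T, T = k * s - k - s + 1 := ⟨_, rfl⟩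
  have hT' : T + k + s = k * s + 1 := by omega
  rw [← hT] at ha
  have hkspos : 0 < k * s := by positivity
  set n := c₁ * i with hn
  have hgn : g = k * s * n := by rw [hg₁, hm₁, hn]; ring
  have hn2 : n = c₂ * i' := by
    have : k * s * n = k * s * (c₂ * i') := by rw [← hgn, hg₂, hm₂]; ring
    exact Nat.eq_of_mul_eq_mul_left hkspos this
  have haT : a = T * n := by
    have : k * s * a = k * s * (T * n) := by rw [ha, hgn]; ring
    exact Nat.eq_of_mul_eq_mul_left hkspos this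
  have hmpos : 0 < m := by rw [hm₁]; positivity
  have hm'pos : 0 < m' := by rw [hm₂]; positivity
  have hb' : b + i = s * n := by
    obtain ⟨m0, rfl⟩ : ∃ m0, m = m0 + 1 := ⟨m - 1, by omega⟩
    rw [hb, hn, Nat.add_sub_cancel]
    have : (m0 + 1) * i = s * (c₁ * i) := by rw [hm₁]; ring
    rw [← this]; ring
  have hc' : c + i' = k * n := by
    obtain ⟨m0, rfl⟩ : ∃ m0, m' = m0 + 1 := ⟨m' - 1, by omega⟩
    rw [hc, hn2, Nat.add_sub_cancel]
    have : (m0 + 1) * i' = k * (c₂ * i') := by rw [hm₂]; ring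
    rw [← this]; ring
  have hTn : T * n + k * n + s * n = k * s * n + n := by
    have h : (T + k + s) * n = (k * s + 1) * n := by rw [hT']
    linarith [h, add_mul (T + k) s n, add_mul T k n, add_mul (k * s) 1 n]
  have h3i : 3 * i ≤ n := by rw [hn]; exact Nat.mul_le_mul_right _ hc₁
  have h3i' : 3 * i' ≤ n := by rw [hn2]; exact Nat.mul_le_mul_right _ hc₂
  rw [haT, hgn] at hsum
  omega

/-- **BG 14.7(f), first half**: `M` and `M*` are not both of type `P₁`. -/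
theorem not_both_P1 (hG : IsMinSimpleOddOrder G) (h66 : H1366 G) {M K U : Subgroup G}
    (hM : IsCoatom M) (hKU : IsSigmaDecomposition M K U) (hK1 : K ≠ ⊥) {Mstar : Subgroup G}
    (hMs : IsCoatom Mstar)
    (hKst : K = sigmaCore Mstar ⊓ Subgroup.centralizer
      ((sigmaCore M ⊓ Subgroup.centralizer (K : Set G) : Subgroup G) : Set G))
    (hKstH : IsPiHallOf (kappa Mstar) (sigmaCore M ⊓ Subgroup.centralizer (K : Set G)) Mstar) :
    U ≠ ⊥ ∨ ∀ Ustar : Subgroup G, IsSigmaDecomposition Mstar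
      (sigmaCore M ⊓ Subgroup.centralizer (K : Set G)) Ustar → Ustar ≠ ⊥ := by
  by_contra hcon
  push_neg at hcon
  obtain ⟨hU, Ustar, hKUs, hUs⟩ := hcon
  subst hU
  subst hUs
  have c : Pair M K Mstar := ⟨hG, hM, hKU.hall, hK1, hMs, hKst, hKstH⟩
  have hKs1 := c.star_ne
  obtain ⟨c₁, hc₁, hm₁, hg₁⟩ := side_count hG hM hKU hK1
  obtain ⟨c₂, hc₂, hm₂, hg₂⟩ := side_count hG hMs hKUs hKs1
  rw [← hKst] at hm₂
  have hcnt := (count_zhat hG hM hKU.hall hK1).1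
  have hB := Cfsg.Agent.S1377.result hG M hM
  have hC := Cfsg.Agent.S1377.result hG Mstar hMs
  have h67 := h1367 hG
  have hAB : Disjoint (conjUnion (zhat M K))
      (Cfsg.tildeOf M ((Cfsg.sigmaCore M : Set G) \ {1})) := by
    rw [Set.disjoint_left]
    rintro w ⟨y, z, hz, rfl⟩ hw
    exact zhat_not_mem_tilde hG h66 h67 hM hKU hK1 M hM y z hz hw
  have hAC : Disjoint (conjUnion (zhat M K))
      (Cfsg.tildeOf Mstar ((Cfsg.sigmaCore Mstar : Set G) \ {1})) := by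
    rw [Set.disjoint_left]
    rintro w ⟨y, z, hz, rfl⟩ hw
    exact zhat_not_mem_tilde hG h66 h67 hM hKU hK1 Mstar hMs y z hz hw
  have hBC : Disjoint (Cfsg.tildeOf M ((Cfsg.sigmaCore M : Set G) \ {1}))
      (Cfsg.tildeOf Mstar ((Cfsg.sigmaCore Mstar : Set G) \ {1})) := by
    rw [Set.disjoint_iff_inter_eq_empty]
    exact tilde_disjoint hG M Mstar hM hMs (fun g => c.not_conj g)
  have h1A : (1 : G) ∉ conjUnion (zhat M K) := by
    rintro ⟨y, z, hz, h⟩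
    have hz1 : z = 1 := by
      have : z = y⁻¹ * (y * z * y⁻¹) * y := by group
      rw [this, ← h]; group
    exact hz.2 (Or.inl (by rw [hz1]; exact K.one_mem))
  have h1B := one_not_mem_tilde hG hM
  have h1C := one_not_mem_tilde hG hMs
  have hsum : (conjUnion (zhat M K)).ncard +
      (Cfsg.tildeOf M ((Cfsg.sigmaCore M : Set G) \ {1})).ncard +
      (Cfsg.tildeOf Mstar ((Cfsg.sigmaCore Mstar : Set G) \ {1})).ncard + 1 ≤ Nat.card G := by
    have hfin : ∀ S : Set G, S.Finite := fun S => Set.toFinite S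
    have e1 := Set.ncard_union_eq hAB (hfin _) (hfin _)
    have e2 := Set.ncard_union_eq (Set.disjoint_union_left.2 ⟨hAC, hBC⟩) (hfin _) (hfin _)
    have h1 : (1 : G) ∉ conjUnion (zhat M K) ∪
        Cfsg.tildeOf M ((Cfsg.sigmaCore M : Set G) \ {1}) ∪
        Cfsg.tildeOf Mstar ((Cfsg.sigmaCore Mstar : Set G) \ {1}) := by
      rintro ((h | h) | h)
      · exact h1A h
      · exact h1B h
      · exact h1C h
    have e3 := Set.ncard_insert_of_notMem h1 (hfin _)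
    have e4 : (insert (1 : G) (conjUnion (zhat M K) ∪
        Cfsg.tildeOf M ((Cfsg.sigmaCore M : Set G) \ {1}) ∪
        Cfsg.tildeOf Mstar ((Cfsg.sigmaCore Mstar : Set G) \ {1}))).ncard ≤ Nat.card G := by
      rw [← Set.ncard_univ]
      exact Set.ncard_le_ncard (Set.subset_univ _) (hfin _)
    omega
  obtain ⟨hk3, -⟩ := three_le_card hG hK1
  obtain ⟨hs3, -⟩ := three_le_card hG hKs1
  exact count_arith hk3 hs3 hc₁ hc₂ hm₁ hm₂ hg₁ hg₂ hcnt hB hC hsum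

/-- **BG 14.7(f), second half**: every maximal subgroup `H` with `κ(H) ≠ ∅` is conjugate to `M` or
to `M*`. -/
theorem two_classes (hG : IsMinSimpleOddOrder G) (h51 : H1351 G) (h66 : H1366 G)
    {M K U : Subgroup G} (hM : IsCoatom M) (hKU : IsSigmaDecomposition M K U) (hK1 : K ≠ ⊥)
    {Mstar : Subgroup G} (hMs : IsCoatom Mstar)
    (hKst : K = sigmaCore Mstar ⊓ Subgroup.centralizer
      ((sigmaCore M ⊓ Subgroup.centralizer (K : Set G) : Subgroup G) : Set G))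
    (hKstH : IsPiHallOf (kappa Mstar) (sigmaCore M ⊓ Subgroup.centralizer (K : Set G)) Mstar)
    (H : Subgroup G) (hH : IsCoatom H) (hκ : (kappa H).Nonempty) :
    ∃ g : G, H = cj(g, M) ∨ H = cj(g, Mstar) := by
  obtain ⟨⟨KH, hKH⟩, hcyc⟩ := h51 H hH
  have hKHc := hcyc KH hKH
  have hKH1 : KH ≠ ⊥ := by
    obtain ⟨p, hp⟩ := hκ
    intro h
    have h1 : KH.relIndex H = Nat.card ↥H := by rw [h, Subgroup.relIndex_bot_left]
    exact hKH.2.2 p hp.1 hp (h1 ▸ hp.2.1)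
  obtain ⟨UH, hKUH⟩ := (Cfsg.Agent.S1352.result hG H hH KH hKHc hKH).1
  obtain ⟨Hstar, ⟨hHs, hKHst, hKHstH⟩, -⟩ := h66 H hH KH UH hKUH hKH1
  have hKsc : IsCyclic ↥(sigmaCore M ⊓ Subgroup.centralizer (K : Set G)) :=
    (h51 Mstar hMs).2 _ hKstH
  have hKHsc : IsCyclic ↥(sigmaCore H ⊓ Subgroup.centralizer (KH : Set G)) :=
    (h51 Hstar hHs).2 _ hKHstH
  have c1 := (count_zhat hG hM hKU.hall hK1).2
  have c2 := (count_zhat hG hH hKH hKH1).2
  obtain ⟨a, ha1, ha2⟩ : ∃ a, a ∈ conjUnion (zhat M K) ∧ a ∈ conjUnion (zhat H KH) := by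
    by_contra hcon
    push_neg at hcon
    have hdisj : Disjoint (conjUnion (zhat M K)) (conjUnion (zhat H KH)) :=
      Set.disjoint_left.2 hcon
    have e1 := Set.ncard_union_eq hdisj (Set.toFinite _) (Set.toFinite _)
    have hle : (conjUnion (zhat M K) ∪ conjUnion (zhat H KH)).ncard ≤ Nat.card G := by
      rw [← Set.ncard_univ]
      exact Set.ncard_le_ncard (Set.subset_univ _) (Set.toFinite _)
    omega
  obtain ⟨g₁, z₁, hz₁, e₁⟩ := ha1
  obtain ⟨g₂, z₂, hz₂, e₂⟩ := ha2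
  obtain ⟨x₁, hx₁, y₁, hy₁, hx₁1, hy₁1, rfl⟩ := exists_mul_of_mem_zhat hz₁
  obtain ⟨x₂, hx₂, y₂, hy₂, hx₂1, hy₂1, rfl⟩ := exists_mul_of_mem_zhat hz₂
  have cM : Pair M K Mstar := ⟨hG, hM, hKU.hall, hK1, hMs, hKst, hKstH⟩
  have cH : Pair H KH Hstar := ⟨hG, hH, hKH, hKH1, hHs, hKHst, hKHstH⟩
  have hC1 := cM.centralizer_mul_eq hKU.cyclic hKsc hx₁ hx₁1 hy₁ hy₁1
  have hC2 := cH.centralizer_mul_eq hKHc hKHsc hx₂ hx₂1 hy₂ hy₂1
  obtain ⟨t, ht⟩ : ∃ t : G, t = g₁⁻¹ * g₂ := ⟨_, rfl⟩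
  have hconj : x₁ * y₁ = t * (x₂ * y₂) * t⁻¹ := by
    have h : g₁ * (x₁ * y₁) * g₁⁻¹ = g₂ * (x₂ * y₂) * g₂⁻¹ := e₁.symm.trans e₂
    calc x₁ * y₁ = g₁⁻¹ * (g₁ * (x₁ * y₁) * g₁⁻¹) * g₁ := by group
      _ = g₁⁻¹ * (g₂ * (x₂ * y₂) * g₂⁻¹) * g₁ := by rw [h]
      _ = t * (x₂ * y₂) * t⁻¹ := by rw [ht]; group
  -- a subgroup of prime order of `⟨y₂⟩ ≤ K_H*`
  obtain ⟨q, hq, hqd⟩ := Nat.exists_prime_and_dvd
    (fun h => hy₂1 (orderOf_eq_one_iff.1 h) : orderOf y₂ ≠ 1)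
  obtain ⟨w, hwZ, hwo⟩ := exists_pow_orderOf_eq hq hqd
  have hwKs : w ∈ sigmaCore H ⊓ Subgroup.centralizer (KH : Set G) :=
    (Subgroup.zpowers_le.2 hy₂) hwZ
  have hXle : Subgroup.zpowers w ≤ sigmaCore H ⊓ Subgroup.centralizer (KH : Set G) :=
    Subgroup.zpowers_le.2 hwKs
  have hXc : (Nat.card ↥(Subgroup.zpowers w)).Prime := by rw [Nat.card_zpowers, hwo]; exact hq
  obtain ⟨hXH, hXuniq⟩ := ((h1367 hG) H hH KH UH hKUH hKH1 Hstar hHs hKHst hKHstH).1 _ hXle hXc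
  rw [Cfsg.Agent.Lib.H16.BG.centralizer_zpowers_eq] at hXH hXuniq
  -- the conjugate `w₀ = t w t⁻¹ ∈ Z`
  have hw₀Z : t * w * t⁻¹ ∈ K ⊔ (sigmaCore M ⊓ Subgroup.centralizer (K : Set G)) := by
    rw [← hC1, hconj, ← Cfsg.Agent.Lib.H7.centralizer_singleton_map_conj]
    apply Cfsg.Agent.Lib.H16.BG.conj_mem_cj
    rw [hC2]
    exact (le_sup_right : _ ≤ KH ⊔ _) hwKs
  have hw₀o : orderOf (t * w * t⁻¹) = q := by
    rw [← hwo]
    exact orderOf_injective (MulAut.conj t).toMonoidHom (MulAut.conj t).injective w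
  have hcop := card_coprime hKU.hall (M := M)
  have hcomm : ∀ a ∈ K, ∀ b ∈ sigmaCore M ⊓ Subgroup.centralizer (K : Set G), a * b = b * a :=
    fun a ha b hb => commute_of_mem ha hb
  have hY₀c : (Nat.card ↥(Subgroup.zpowers (t * w * t⁻¹))).Prime := by
    rw [Nat.card_zpowers, hw₀o]; exact hq
  have hfin : ∀ L : Subgroup G, IsCoatom L →
      Subgroup.centralizer ({t * w * t⁻¹} : Set G) ≤ L →
      (∀ L' : Subgroup G, IsCoatom L' → Subgroup.centralizer ({t * w * t⁻¹} : Set G) ≤ L' →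
        L' = L) → H = cj(t⁻¹, L) := by
    intro L hL hle huniq
    have h1 : cj(t, H) = L :=
      huniq _ (isCoatom_map_conj hH t) (centralizer_conj_le hXH)
    rw [← h1, Cfsg.Agent.Lib.H16.BG.cj_inv_cj]
  by_cases hqK : q ∣ Nat.card ↥K
  · -- `w₀ ∈ K`
    have hcop' : (orderOf (t * w * t⁻¹)).Coprime
        (Nat.card ↥(sigmaCore M ⊓ Subgroup.centralizer (K : Set G))) := by
      rw [hw₀o]
      refine (Nat.Prime.coprime_iff_not_dvd hq).2 (fun h => ?_)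
      exact hq.one_lt.ne' (Nat.dvd_one.1 (hcop ▸ Nat.dvd_gcd hqK h))
    have hw₀K : t * w * t⁻¹ ∈ K := mem_left_of_coprime hcomm hw₀Z hcop'
    obtain ⟨h1, h2⟩ := ((h1367 hG) M hM K U hKU hK1 Mstar hMs hKst hKstH).2 _
      (Subgroup.zpowers_le.2 hw₀K) hY₀c
    rw [Cfsg.Agent.Lib.H16.BG.centralizer_zpowers_eq] at h1 h2
    exact ⟨t⁻¹, Or.inr (hfin Mstar hMs h1 h2)⟩
  · -- `w₀ ∈ K*`
    have hcop' : (orderOf (t * w * t⁻¹)).Coprime (Nat.card ↥K) := by
      rw [hw₀o]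
      exact (Nat.Prime.coprime_iff_not_dvd hq).2 hqK
    have hw₀Z' : t * w * t⁻¹ ∈ (sigmaCore M ⊓ Subgroup.centralizer (K : Set G)) ⊔ K := by
      rw [sup_comm]; exact hw₀Z
    have hw₀Ks : t * w * t⁻¹ ∈ sigmaCore M ⊓ Subgroup.centralizer (K : Set G) :=
      mem_left_of_coprime (fun a ha b hb => (hcomm b hb a ha).symm) hw₀Z' hcop'
    obtain ⟨h1, h2⟩ := ((h1367 hG) M hM K U hKU hK1 Mstar hMs hKst hKstH).1 _
      (Subgroup.zpowers_le.2 hw₀Ks) hY₀c
    rw [Cfsg.Agent.Lib.H16.BG.centralizer_zpowers_eq] at h1 h2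
    exact ⟨t⁻¹, Or.inl (hfin M hM h1 h2)⟩

/-- **the statement S1369** (BG Theorem 14.7(f)) from S1351 and S1366. -/
theorem thm_1369 (hG : IsMinSimpleOddOrder G) (h51 : H1351 G) (h66 : H1366 G) : H1369 G := by
  intro M hM K U hKU hK1 Mstar hMs hKst hKstH
  exact ⟨not_both_P1 hG h66 hM hKU hK1 hMs hKst hKstH,
    fun H hH hκ => two_classes hG h51 h66 hM hKU hK1 hMs hKst hKstH H hH hκ⟩

end Cfsg.Agent.Lib.H16.BG147f
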