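import Mathlib
import Cfsg.Agent.Lib.H16.BG147fb
import Cfsg.Agent.Lib.H7.BG147l
import Cfsg.Agent.Lib.H10.BG144d
import Cfsg.Agent.Lib.H16.BG11g
import Cfsg.Agent.Lib.H20.BGY1
import Cfsg.Agent.S1431
import Cfsg.Agent.S1433
import Cfsg.Agent.S1375
import Cfsg.Agent.S1377

/-!
# The statement S1364 from S1366 (existence of `M*`) and S1437 (helper16)
-/

set_option autoImplicit false
set_option linter.style.haveILetI false
set_option linter.unusedSectionVars false
set_option linter.unusedVariables false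

open Cfsg
open Cfsg.Agent.Lib.H16.BG
open Cfsg.Agent.Lib.H7.BG7
open Cfsg.Agent.Lib.H7.BG10
open Cfsg.Agent.Lib.H20.BGS
open Cfsg.Agent.Lib.H19 (IsPiCard)
open scoped Pointwise

namespace Cfsg.Agent.Lib.H16.BG1364

open Cfsg.Agent.Lib.H16.BGCov
open Cfsg.Agent.Lib.H7.BG147

universe u
variable {G : Type u} [Group G] [Finite G]

local notation:max "cj(" g ", " X ")" => Subgroup.map (MulEquiv.toMonoidHom (MulAut.conj g)) X

/-- the frozen statement S1437 as a hypothesis. -/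
def H1437 (G : Type u) [Group G] : Prop :=
  ∀ (M : Subgroup G) (hM : IsCoatom M) (K U : Subgroup G) (hKU : Cfsg.IsSigmaDecomposition M K U) (hne : Cfsg.fittingHallOf M ≠ Cfsg.sigmaCore M),

    U = ⊥ ∧ Cfsg.sigmaCore M = ⁅M, M⁆ ∧ (Nat.card K).Prime ∧ (Nat.card ↥(Cfsg.sigmaCore M ⊓ Subgroup.centralizer (K : Set G))).Prime ∧
      Nat.card ↥(Cfsg.sigmaCore M ⊓ Subgroup.centralizer (K : Set G)) ∣ Nat.card (Cfsg.fittingHallOf M) ∧ Nat.card ↥(Cfsg.sigmaCore M ⊓ Subgroup.centralizer (K : Set G)) ∈ Cfsg.beta M ∧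
      ∃ Q : Subgroup G, Q ≤ Cfsg.fittingHallOf M ∧ M ≤ Subgroup.normalizer (Q : Set G) ∧ IsPGroup (Nat.card ↥(Cfsg.sigmaCore M ⊓ Subgroup.centralizer (K : Set G))) Q ∧
        ¬ Nat.card ↥(Cfsg.sigmaCore M ⊓ Subgroup.centralizer (K : Set G)) ∣ Q.relIndex (Cfsg.sigmaCore M) ∧
        ∀ D : Subgroup G, Cfsg.IsComplIn Q D (Cfsg.sigmaCore M) →
          Group.IsNilpotent D ∧ M ≤ Subgroup.normalizer ((Q ⊓ Subgroup.centralizer (D : Set G) : Subgroup G) : Set G) ∧
          Q ⊓ Subgroup.centralizer (D : Set G) < Q ∧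
          Nat.card Q = Nat.card ↥(Q ⊓ Subgroup.centralizer (D : Set G)) * Nat.card ↥(Cfsg.sigmaCore M ⊓ Subgroup.centralizer (K : Set G)) ^ Nat.card K ∧
          (∀ a ∈ Q, ∀ b ∈ Q, a ^ Nat.card ↥(Cfsg.sigmaCore M ⊓ Subgroup.centralizer (K : Set G)) ∈ Q ⊓ Subgroup.centralizer (D : Set G) ∧
            a * b * a⁻¹ * b⁻¹ ∈ Q ⊓ Subgroup.centralizer (D : Set G)) ∧
          ∀ N : Subgroup G, Q ⊓ Subgroup.centralizer (D : Set G) < N → N < Q → ¬ M ≤ Subgroup.normalizer (N : Set G)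

/-- `M_F` is a Hall subgroup of `M` for its own set of primes. -/
theorem fittingHallOf_isPiHallOf (M : Subgroup G) :
    IsPiHallOf {q | q ∣ Nat.card ↥(fittingHallOf M)} (fittingHallOf M) M := by
  refine ⟨Cfsg.Agent.Lib.H8.fittingHallOf_le M, fun p _ hd => hd, ?_⟩
  intro p hp hpd hpi
  have hcop := Cfsg.Agent.Lib.H10.BG144.card_fittingHallOf_coprime M
  have := Nat.dvd_gcd hpd hpi
  rw [hcop] at this
  exact hp.one_lt.ne' (Nat.dvd_one.1 this)

/-- a `q`-subgroup of `M`, `q ∣ |M_F|`, lies in `M_F`. -/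
theorem le_fittingHallOf_of_isPGroup {M P : Subgroup G} {q : ℕ} (hq : q.Prime)
    (hqd : q ∣ Nat.card ↥(fittingHallOf M)) (hP : IsPGroup q P) (hPM : P ≤ M) :
    P ≤ fittingHallOf M := by
  apply Cfsg.Agent.Lib.H20.BGY.le_of_normal_hall (fittingHallOf_isPiHallOf M)
    (Cfsg.Agent.Lib.H8.le_normalizer_fittingHallOf M) hPM
  intro p hp hpd
  haveI : Fact q.Prime := ⟨hq⟩
  obtain ⟨k, hk⟩ := IsPGroup.iff_card.1 hP
  rw [hk] at hpd
  have : p = q := (Nat.prime_dvd_prime_iff_eq hp hq).1 (hp.dvd_of_dvd_pow hpd)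
  rw [this]; exact hqd

/-- **the statement S1364** from S1366 (existence of `M*`) and S1437. -/
theorem thm_1364 (hG : IsMinSimpleOddOrder G) (h66 : H1366 G) (h37 : H1437 G)
    (M : Subgroup G) (hM : IsCoatom M) (K U : Subgroup G) (hKU : Cfsg.IsSigmaDecomposition M K U) (hK1 : K ≠ ⊥) :
    IsCyclic ↥(Cfsg.sigmaCore M ⊓ Subgroup.centralizer (K : Set G)) ∧ (Cfsg.sigmaCore M ⊓ Subgroup.centralizer (K : Set G)) ≠ ⊥ ∧ (Cfsg.sigmaCore M ⊓ Subgroup.centralizer (K : Set G)) ≤ Cfsg.fittingHallOf M ∧ ¬ IsCyclic (Cfsg.fittingHallOf M) := by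
  have h75 : Cfsg.Agent.Lib.H21.BGTilde.Hyp1375 G :=
    fun M hM x hx hx1 hxM => Cfsg.Agent.S1375.result hG M hM x hx hx1 hxM
  have h77 : Cfsg.Agent.Lib.H7.BG147.Hyp1377 G :=
    fun M hM => Cfsg.Agent.S1377.result hG M hM
  have h33 : Cfsg.Agent.Lib.H7.BG147.Hyp1433 G :=
    fun M N hM hN x y hx hy hx1 hy1 hxy =>
      Cfsg.Agent.S1433.result hG M N hM hN x y hx hy hx1 hy1 hxy
  have hKs1 := star_ne_bot hG hM hKU.hall hK1
  have hσM : sigmaCore M ≤ M := Cfsg.Agent.Lib.H20.BGS.sigmaCore_le M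
  have hFσ : fittingHallOf M ≤ sigmaCore M :=
    Cfsg.Agent.Lib.H10.BG144.fittingHallOf_le_sigmaCore hG hM
  -- cyclic and contained in `M_F`
  have hA : IsCyclic ↥(sigmaCore M ⊓ Subgroup.centralizer (K : Set G)) ∧
      sigmaCore M ⊓ Subgroup.centralizer (K : Set G) ≤ fittingHallOf M := by
    by_cases hF : fittingHallOf M = sigmaCore M
    · refine ⟨?_, by rw [hF]; exact inf_le_left⟩
      obtain ⟨Mstar, ⟨hMs, hKst, hKstH⟩, -⟩ := h66 M hM K U hKU hK1
      exact isCyclic_star_of_hyps hG h75 h77 h33 M hM K U hKU hK1 Mstar hMs hKst hKstH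
    · obtain ⟨-, -, -, hq, hqd, -, Q, hQF, hQn, hQp, hQi, -⟩ := h37 M hM K U hKU hF
      haveI : Fact (Nat.card ↥(sigmaCore M ⊓ Subgroup.centralizer (K : Set G))).Prime := ⟨hq⟩
      refine ⟨isCyclic_of_prime_card rfl, ?_⟩
      refine le_trans ?_ hQF
      have hQσ : Q ≤ sigmaCore M := hQF.trans hFσ
      have hHall : IsPiHallOf {Nat.card ↥(sigmaCore M ⊓ Subgroup.centralizer (K : Set G))} Q
          (sigmaCore M) := by
        refine ⟨hQσ, ?_, ?_⟩
        · intro p hp hpd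
          obtain ⟨k, hk⟩ := IsPGroup.iff_card.1 hQp
          rw [hk] at hpd
          exact (Nat.prime_dvd_prime_iff_eq hp hq).1 (hp.dvd_of_dvd_pow hpd)
        · intro p hp hpq
          rw [Set.mem_singleton_iff] at hpq
          rw [hpq]; exact hQi
      apply Cfsg.Agent.Lib.H20.BGY.le_of_normal_hall hHall (hσM.trans hQn) inf_le_left
      intro p hp hpd
      exact (Nat.prime_dvd_prime_iff_eq hp hq).1 hpd
  refine ⟨hA.1, hKs1, hA.2, ?_⟩
  -- `M_F` is not cyclic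
  intro hcyc
  have hc1 : Nat.card ↥(sigmaCore M ⊓ Subgroup.centralizer (K : Set G)) ≠ 1 :=
    fun h => hKs1 (Subgroup.card_eq_one.1 h)
  obtain ⟨q, hq, hqd⟩ := Nat.exists_prime_and_dvd hc1
  haveI : Fact q.Prime := ⟨hq⟩
  obtain ⟨S⟩ : Nonempty (Sylow q ↥(sigmaCore M)) := inferInstance
  obtain ⟨-, hSM, hSn⟩ := (Cfsg.Agent.S1431.result hG M hM K hKU.hall hK1).2.2.1 q hq hqd S
  set S' : Subgroup G := (S : Subgroup ↥(sigmaCore M)).map (sigmaCore M).subtype with hS'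
  have hS'p : IsPGroup q S' := S.isPGroup'.map _
  have hqF : q ∣ Nat.card ↥(fittingHallOf M) := hqd.trans (Subgroup.card_dvd_of_le hA.2)
  have hS'F : S' ≤ fittingHallOf M := le_fittingHallOf_of_isPGroup hq hqF hS'p hSM
  have hS'c : IsCyclic ↥S' := by
    haveI := hcyc
    exact isCyclic_of_injective (Subgroup.inclusion hS'F) (Subgroup.inclusion_injective hS'F)
  have hKM : K ≤ M := hKU.hall.1
  -- `K` normalizes `S'`
  have hKS' : K ≤ Subgroup.normalizer (S' : Set G) := by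
    intro k hk
    apply Cfsg.Agent.Lib.H16.BG.mem_normalizer_of_map_conj_le
    apply le_of_eq
    apply Cfsg.Agent.Lib.H7.BG14w.eq_of_card_eq_of_le_cyclic hcyc _ hS'F
      (Cfsg.Agent.Lib.H16.BG.card_cj k S')
    have h1 := Cfsg.Agent.Lib.H16.BG.cj_mono k hS'F
    rwa [Cfsg.Agent.Lib.H16.BG.cj_eq_self_of_mem_normalizer
      (Cfsg.Agent.Lib.H8.le_normalizer_fittingHallOf M (hKM hk))] at h1
  -- a subgroup of order `q` of `K*` lies in `S'`
  obtain ⟨y, hyKs, hyo⟩ : ∃ y ∈ sigmaCore M ⊓ Subgroup.centralizer (K : Set G), orderOf y = q := by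
    obtain ⟨⟨y, hy⟩, hyo⟩ := exists_prime_orderOf_dvd_card' q hqd
    exact ⟨y, hy, by rw [← hyo]; exact (Subgroup.orderOf_mk _ _).symm⟩
  have hy1 : y ≠ 1 := by
    rintro rfl
    rw [orderOf_one] at hyo
    exact hq.one_lt.ne hyo
  have hBp : IsPGroup q (Subgroup.zpowers y) :=
    IsPGroup.of_card (n := 1) (by rw [Nat.card_zpowers, hyo, pow_one])
  have hBKs : Subgroup.zpowers y ≤ sigmaCore M ⊓ Subgroup.centralizer (K : Set G) :=
    Subgroup.zpowers_le.2 hyKs
  have hBF : Subgroup.zpowers y ≤ fittingHallOf M := hBKs.trans hA.2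
  have hBS' : Subgroup.zpowers y ≤ S' := by
    -- `S'` is a normal Hall `q`-subgroup of the cyclic group `M_F`
    have hHall : IsPiHallOf {q} S' (fittingHallOf M) := by
      refine ⟨hS'F, ?_, ?_⟩
      · intro p hp hpd
        obtain ⟨k, hk⟩ := IsPGroup.iff_card.1 hS'p
        rw [hk] at hpd
        exact (Nat.prime_dvd_prime_iff_eq hp hq).1 (hp.dvd_of_dvd_pow hpd)
      · intro p hp hpq hpd
        rw [Set.mem_singleton_iff] at hpq
        subst hpq
        have h1 : S'.relIndex (fittingHallOf M) ∣ S'.relIndex (sigmaCore M) := by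
          rw [← Subgroup.relIndex_mul_relIndex S' (fittingHallOf M) (sigmaCore M) hS'F hFσ]
          exact dvd_mul_right _ _
        have h2 : S'.relIndex (sigmaCore M) = (S : Subgroup ↥(sigmaCore M)).index := by
          rw [hS', Subgroup.relIndex, Subgroup.subgroupOf,
            Subgroup.comap_map_eq_self_of_injective (Subgroup.subtype_injective _)]
        have h3 := S.not_dvd_index
        exact h3 (h2 ▸ (hpd.trans h1))
    have habel : fittingHallOf M ≤ Subgroup.normalizer (S' : Set G) := by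
      intro m hm
      apply Cfsg.Agent.Lib.H16.BG.mem_normalizer_of_map_conj_le
      apply le_of_eq
      apply Cfsg.Agent.Lib.H7.BG14w.eq_of_card_eq_of_le_cyclic hcyc _ hS'F
        (Cfsg.Agent.Lib.H16.BG.card_cj m S')
      have h1 := Cfsg.Agent.Lib.H16.BG.cj_mono m hS'F
      rwa [Cfsg.Agent.Lib.H16.BG.cj_eq_self_of_mem hm] at h1
    apply Cfsg.Agent.Lib.H20.BGY.le_of_normal_hall hHall habel hBF
    intro p hp hpd
    rw [Nat.card_zpowers, hyo] at hpd
    exact (Nat.prime_dvd_prime_iff_eq hp hq).1 hpd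
  have hB1 : Subgroup.zpowers y ≠ ⊥ := by
    intro h
    have : y ∈ Subgroup.zpowers y := Subgroup.mem_zpowers y
    rw [h, Subgroup.mem_bot] at this
    exact hy1 this
  have hcop : (Nat.card ↥K).Coprime (Nat.card ↥S') := by
    apply Nat.coprime_of_dvd
    intro r hr h1 h2
    have hκ := hKU.hall.2.1 r hr h1
    have h3 : Nat.card ↥S' ∣ Nat.card ↥(sigmaCore M) := by
      have hle : S' ≤ sigmaCore M := hS'F.trans hFσ
      exact Subgroup.card_dvd_of_le hle
    exact hκ.2.2.1 (Cfsg.Agent.Lib.H20.BGS.sigmaCore_isPiCard M r hr (h2.trans h3))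
  have hKB : K ≤ Subgroup.centralizer ((Subgroup.zpowers y : Subgroup G) : Set G) := by
    rw [Subgroup.le_centralizer_iff]
    exact hBKs.trans inf_le_right
  have hfin := Cfsg.Agent.Lib.H16.BG.le_centralizer_of_cyclic hS'c hS'p hKS' hcop hBS' hB1 hKB
  apply hSn
  refine le_inf (hS'F.trans hFσ) ?_
  rw [Subgroup.le_centralizer_iff]
  exact hfin

end Cfsg.Agent.Lib.H16.BG1364
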