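import Mathlib
import Cfsg.Agent.Lib.H16.BG1364
import Cfsg.Agent.Lib.H7.FrobNil
import Cfsg.Agent.Lib.H8.BG12b
import Cfsg.Agent.S1353
import Cfsg.Agent.S1358

/-!
# The statement S1363 from S1366 (existence of `M*`) and S1435 (helper16)
-/

set_option autoImplicit false
set_option linter.style.haveILetI false
set_option linter.unusedSectionVars false
set_option linter.unusedVariables false

open Cfsg
open Cfsg.Agent.Lib.H16.BG
open Cfsg.Agent.Lib.H7.BG7
open Cfsg.Agent.Lib.H7.BG10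
open Cfsg.Agent.Lib.H20.BGS
open Cfsg.Agent.Lib.H19 (IsPiCard)
open scoped Pointwise

namespace Cfsg.Agent.Lib.H16.BG1363

open Cfsg.Agent.Lib.H16.BGCov
open Cfsg.Agent.Lib.H7.BG147

universe u
variable {G : Type u} [Group G] [Finite G]

local notation:max "cj(" g ", " X ")" => Subgroup.map (MulEquiv.toMonoidHom (MulAut.conj g)) X

/-- the frozen statement S1435 as a hypothesis. -/
def H1435 (G : Type u) [Group G] : Prop :=
  ∀ (M : Subgroup G) (hM : IsCoatom M) (K U : Subgroup G) (hKU : Cfsg.IsSigmaDecomposition M K U) (hK1 : K ≠ ⊥) (hU1 : U ≠ ⊥) (Mstar : Subgroup G) (hMstar : IsCoatom Mstar)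
    (hKst : K = Cfsg.sigmaCore Mstar ⊓ Subgroup.centralizer ((Cfsg.sigmaCore M ⊓ Subgroup.centralizer (K : Set G)) : Set G))
    (hKstH : Cfsg.IsPiHallOf (Cfsg.kappa Mstar) (Cfsg.sigmaCore M ⊓ Subgroup.centralizer (K : Set G)) Mstar)
    (r : ℕ) [Fact r.Prime] (hr : r ∣ Nat.card U) (R : Sylow r U) (H : Subgroup G) (hH : IsCoatom H)
    (hNR : Subgroup.normalizer (((R : Subgroup U).map U.subtype : Subgroup G) : Set G) ≤ H),
    Cfsg.kappa H = ∅ ∧ U ≤ Cfsg.sigmaCore H ∧ M ⊓ H = U ⊔ K ∧ ¬ H ⊓ Subgroup.normalizer (U : Set G) ≤ M ∧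
      K ≤ Cfsg.fittingOf (H ⊓ Mstar) ∧ Cfsg.IsComplIn (H ⊓ Mstar) (Cfsg.sigmaCore H) H

/-- `U` is abelian in a standard factorisation with `K ≠ 1`. -/
theorem isMulCommutative_U (hG : IsMinSimpleOddOrder G) {M K U : Subgroup G} (hM : IsCoatom M)
    (hKU : IsSigmaDecomposition M K U) (hK1 : K ≠ ⊥) : IsMulCommutative ↥U := by
  have hfix := Cfsg.Agent.S1353.result hG M hM K U hKU
  obtain ⟨r, hr, X, hXK, hXc⟩ := Cfsg.Agent.Lib.H7.BG14u.exists_le_card_prime hK1
  obtain ⟨x, hxX, hx1, hxr⟩ : ∃ x ∈ X, x ≠ 1 ∧ x ^ r = 1 := by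
    haveI : Fact r.Prime := ⟨hr⟩
    have hd : r ∣ Nat.card ↥X := by rw [hXc]
    obtain ⟨x, hx⟩ := exists_prime_orderOf_dvd_card' r hd
    refine ⟨x, x.2, ?_, ?_⟩
    · intro h
      have h1 : x = 1 := Subtype.ext h
      rw [h1, orderOf_one] at hx
      exact hr.one_lt.ne hx
    · have := pow_orderOf_eq_one x
      rw [hx] at this
      exact congrArg Subtype.val this
  have hxK : x ∈ K := hXK hxX
  haveI hnil : Group.IsNilpotent ↥U := by
    apply Cfsg.Agent.Lib.H7.FrobNil.isNilpotent_of_fpf hr (hKU.normal hxK) hxr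
    intro u hu hxu
    have : u ∈ U ⊓ Subgroup.centralizer ({x} : Set G) := by
      refine Subgroup.mem_inf.2 ⟨hu, ?_⟩
      rw [Subgroup.mem_centralizer_iff]
      intro z hz
      rw [Set.mem_singleton_iff] at hz
      rw [hz]; exact hxu
    rw [hfix x hxK hx1] at this
    exact Subgroup.mem_bot.1 this
  exact Cfsg.Agent.Lib.H8.BG12.isMulCommutative_of_nilpotent_of_sylow
    (fun p hp P => (Cfsg.Agent.S1358.result hG M hM K U hKU p hp.out P).1)

/-- **the statement S1363** from S1366 (existence of `M*`) and S1435. -/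
theorem thm_1363 (hG : IsMinSimpleOddOrder G) (h66 : H1366 G) (h35 : H1435 G)
    (M : Subgroup G) (hM : IsCoatom M) (K U : Subgroup G) (hKU : Cfsg.IsSigmaDecomposition M K U) (hK1 : K ≠ ⊥) :
    IsMulCommutative U ∧ ¬ Subgroup.normalizer (U : Set G) ≤ M := by
  refine ⟨isMulCommutative_U hG hM hKU hK1, ?_⟩
  by_cases hU1 : U = ⊥
  · subst hU1
    intro h
    apply hM.1
    rw [eq_top_iff]
    refine le_trans ?_ h
    intro g _
    rw [Subgroup.mem_normalizer_iff]
    intro x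
    simp
  · obtain ⟨Mstar, ⟨hMs, hKst, hKstH⟩, -⟩ := h66 M hM K U hKU hK1
    have hc1 : Nat.card ↥U ≠ 1 := fun h => hU1 (Subgroup.card_eq_one.1 h)
    obtain ⟨r, hr, hrd⟩ := Nat.exists_prime_and_dvd hc1
    haveI : Fact r.Prime := ⟨hr⟩
    obtain ⟨R⟩ : Nonempty (Sylow r ↥U) := inferInstance
    set R' : Subgroup G := (R : Subgroup ↥U).map U.subtype with hR'
    have hR'1 : R' ≠ ⊥ := by
      intro h
      have h1 : Nat.card ↥R' = Nat.card ↥(R : Subgroup ↥U) :=
        Subgroup.card_map_of_injective U.subtype_injective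
      rw [h, Subgroup.card_bot] at h1
      have h2 := R.card_eq_multiplicity
      have h3 : r ∣ Nat.card ↥(R : Subgroup ↥U) := by
        rw [h2]
        exact dvd_pow_self r ((Nat.factorization_def _ hr).symm ▸
          (hr.factorization_pos_of_dvd Nat.card_pos.ne' hrd).ne')
      rw [← h1] at h3
      exact hr.one_lt.ne' (Nat.dvd_one.1 h3)
    have hR'M : R' ≤ M := (Subgroup.map_subtype_le _).trans hKU.compl.1
    have hR'top : R' ≠ ⊤ := fun h => hM.1 (eq_top_iff.2 (h ▸ hR'M))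
    obtain ⟨H, hH, hNH⟩ := Cfsg.Agent.Lib.H16.BG.exists_coatom_ge
      (Cfsg.Agent.Lib.H7.BG7.normalizer_ne_top hG hR'1 hR'top)
    have h := (h35 M hM K U hKU hK1 hU1 Mstar hMs hKst hKstH r hrd R H hH hNH).2.2.2.1
    exact fun hle => h (inf_le_right.trans hle)

end Cfsg.Agent.Lib.H16.BG1363
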