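import Mathlib
import Cfsg.Agent.Lib.H16.BG1363
import Cfsg.Agent.Lib.H21.BGP2c
import Cfsg.Agent.Lib.H19.BG13e
import Cfsg.Agent.S1404
import Cfsg.Agent.S1367
import Cfsg.Agent.S1368

/-!
# BG Theorem 15.7 (S1435), part a: the context, `H` is not conjugate to `M` or `M*` (helper16)
-/

set_option autoImplicit false
set_option linter.style.haveILetI false
set_option linter.unusedSectionVars false
set_option linter.unusedVariables false

open Cfsg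
open Cfsg.Agent.Lib.H16.BG
open Cfsg.Agent.Lib.H7.BG7
open Cfsg.Agent.Lib.H7.BG10
open Cfsg.Agent.Lib.H20.BGS
open Cfsg.Agent.Lib.H19 (IsPiCard)
open scoped Pointwise

namespace Cfsg.Agent.Lib.H16.BG157

open Cfsg.Agent.Lib.H7.BG147

universe u
variable {G : Type u} [Group G] [Finite G]

local notation:max "cj(" g ", " X ")" => Subgroup.map (MulEquiv.toMonoidHom (MulAut.conj g)) X

/-- the hypotheses of BG Theorem 15.7. -/
structure Ctx (M K U Ms R H : Subgroup G) (r : ℕ) : Prop where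
  hG : IsMinSimpleOddOrder G
  hM : IsCoatom M
  hKU : IsSigmaDecomposition M K U
  hK1 : K ≠ ⊥
  hU1 : U ≠ ⊥
  hMs : IsCoatom Ms
  hKst : K = sigmaCore Ms ⊓ Subgroup.centralizer
    ((sigmaCore M ⊓ Subgroup.centralizer (K : Set G) : Subgroup G) : Set G)
  hKstH : IsPiHallOf (kappa Ms) (sigmaCore M ⊓ Subgroup.centralizer (K : Set G)) Ms
  hr : r.Prime
  hrU : r ∣ Nat.card U
  hRU : SylIn r R U
  hH : IsCoatom H
  hNR : Subgroup.normalizer (R : Set G) ≤ H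

namespace Ctx

variable {M K U Ms R H : Subgroup G} {r : ℕ}

theorem pair (c : Ctx M K U Ms R H r) : Pair M K Ms :=
  ⟨c.hG, c.hM, c.hKU.hall, c.hK1, c.hMs, c.hKst, c.hKstH⟩

theorem card_K_prime (c : Ctx M K U Ms R H r) : (Nat.card ↥K).Prime :=
  Cfsg.Agent.Lib.H21.BGP2.card_K_prime c.hG c.hM c.hKU c.hK1 c.hU1

theorem comm_U (c : Ctx M K U Ms R H r) : IsMulCommutative ↥U :=
  Cfsg.Agent.Lib.H16.BG1363.isMulCommutative_U c.hG c.hM c.hKU c.hK1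

theorem nil_U (c : Ctx M K U Ms R H r) : Group.IsNilpotent ↥U :=
  Cfsg.Agent.Lib.H21.BGP2.isNilpotent_U c.hG c.hM c.hKU c.hK1

theorem U_le_M (c : Ctx M K U Ms R H r) : U ≤ M := c.hKU.compl.1

theorem K_le_M (c : Ctx M K U Ms R H r) : K ≤ M := c.hKU.hall.1

theorem r_not (c : Ctx M K U Ms R H r) : r ∉ sigma M ∧ r ∉ kappa M :=
  Cfsg.Agent.Lib.H7.BG14.not_mem_sigma_kappa_of_isSigmaDecomposition c.hG c.hM c.hKU c.hr c.hrU

/-- `R = O_r(U)`. -/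
theorem R_eq (c : Ctx M K U Ms R H r) : R = piCoreOf {r} U := by
  haveI : Fact r.Prime := ⟨c.hr⟩
  have hle : R ≤ piCoreOf {r} U := le_piCoreOf_of_nilpotent c.nil_U c.hRU.le
    (isPiCard_card_of_isPGroup (Set.mem_singleton r) c.hRU.isPGroup)
  exact c.hRU.eq_of_le hle (piCoreOf_le _ _) (isPGroup_piCoreOf_singleton r U)

theorem R_ne (c : Ctx M K U Ms R H r) : R ≠ ⊥ := by
  haveI : Fact r.Prime := ⟨c.hr⟩
  exact c.hRU.ne_bot c.hrU

theorem normalizer_U_le (c : Ctx M K U Ms R H r) : Subgroup.normalizer (U : Set G) ≤ H := by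
  refine le_trans ?_ c.hNR
  rw [c.R_eq]
  exact normalizer_le_normalizer_piCoreOf {r} U

theorem U_le_H (c : Ctx M K U Ms R H r) : U ≤ H :=
  Subgroup.le_normalizer.trans c.normalizer_U_le

theorem K_le_H (c : Ctx M K U Ms R H r) : K ≤ H :=
  c.hKU.normal.trans c.normalizer_U_le

theorem R_le_U (c : Ctx M K U Ms R H r) : R ≤ U := c.hRU.1

theorem R_le_H (c : Ctx M K U Ms R H r) : R ≤ H := c.R_le_U.trans c.U_le_H

/-- `R` is a Sylow `r`-subgroup of `M`. -/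
theorem sylIn_R_M (c : Ctx M K U Ms R H r) : SylIn r R M := by
  haveI : Fact r.Prime := ⟨c.hr⟩
  exact SylIn.of_hall (Cfsg.Agent.Lib.H21.BGP2.isPiHallOf_U c.hG c.hM c.hKU)
    ⟨c.hr, c.r_not.2, c.r_not.1⟩ c.hRU

/-- `H` is not conjugate to `M`. -/
theorem not_conj_M (c : Ctx M K U Ms R H r) (g : G) : H ≠ cj(g, M) := by
  haveI : Fact r.Prime := ⟨c.hr⟩
  intro e
  have h1 : SylIn r cj(g, R) H := by
    have := c.sylIn_R_M.map_conj g
    rwa [← e] at this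
  have h2 : SylIn r R H := h1.of_card_ge c.hRU.isPGroup c.R_le_H
    (by rw [Cfsg.Agent.Lib.H16.BG.card_cj])
  have h3 : r ∈ sigma H := Cfsg.Agent.Lib.H19.BG13.mem_sigma_of_sylIn h2 c.R_ne c.hNR
  have h4 := Cfsg.Agent.Lib.H19.BG13.mem_sigma_map_conj c.hG h3 g⁻¹
  rw [e, Cfsg.Agent.Lib.H16.BG.cj_inv_cj] at h4
  exact c.r_not.1 h4

theorem K_le_sigmaCore_Ms (c : Ctx M K U Ms R H r) : K ≤ sigmaCore Ms := c.pair.K_le_sigmaCore

/-- `p = |K| ∈ σ(M*)`. -/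
theorem p_mem_sigma_Ms (c : Ctx M K U Ms R H r) : Nat.card ↥K ∈ sigma Ms :=
  sigmaCore_isPiCard Ms _ c.card_K_prime (Subgroup.card_dvd_of_le c.K_le_sigmaCore_Ms)

theorem isPGroup_K (c : Ctx M K U Ms R H r) : IsPGroup (Nat.card ↥K) K :=
  IsPGroup.of_card (n := 1) (by rw [pow_one])

/-- `C_G(K) ≤ M*`. -/
theorem centralizer_K_le (c : Ctx M K U Ms R H r) : Subgroup.centralizer (K : Set G) ≤ Ms :=
  ((Cfsg.Agent.S1367.result c.hG M c.hM K U c.hKU c.hK1 Ms c.hMs c.hKst c.hKstH).2 K le_rfl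
    c.card_K_prime).1

/-- `M*` is the only maximal subgroup containing `C_G(K)`. -/
theorem uniq_centralizer_K (c : Ctx M K U Ms R H r) {L : Subgroup G} (hL : IsCoatom L)
    (h : Subgroup.centralizer (K : Set G) ≤ L) : L = Ms :=
  ((Cfsg.Agent.S1367.result c.hG M c.hM K U c.hKU c.hK1 Ms c.hMs c.hKst c.hKstH).2 K le_rfl
    c.card_K_prime).2 L hL h

/-- if `K ≤ g M* g⁻¹` then `g ∈ M*`. -/
theorem mem_Ms_of_K_le_cj (c : Ctx M K U Ms R H r) {g : G} (h : K ≤ cj(g, Ms)) : g ∈ Ms := by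
  haveI : Fact (Nat.card ↥K).Prime := ⟨c.card_K_prime⟩
  have h1 : cj(g⁻¹, K) ≤ Ms := by
    have := Cfsg.Agent.Lib.H16.BG.cj_mono g⁻¹ h
    rwa [Cfsg.Agent.Lib.H16.BG.cj_inv_cj] at this
  obtain ⟨m, hm, x, hx, hgx⟩ :=
    (Cfsg.Agent.S1404.result c.hG Ms c.hMs (Nat.card ↥K) c.p_mem_sigma_Ms K c.isPGroup_K c.hK1
      c.pair.K_le).1 g⁻¹ h1
  have h2 : g⁻¹ ∈ Ms := by
    rw [hgx]
    exact Ms.mul_mem hm (c.centralizer_K_le hx)
  simpa using Ms.inv_mem h2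

/-- `H ≠ M*`. -/
theorem ne_Ms (c : Ctx M K U Ms R H r) : H ≠ Ms := by
  intro e
  apply c.hU1
  have h68 := (Cfsg.Agent.S1368.result c.hG M c.hM K U c.hKU c.hK1 Ms c.hMs c.hKst c.hKstH).1
  have hU : U ≤ K ⊔ sigmaCore M := by
    have h1 : U ≤ M ⊓ Ms := le_inf c.U_le_M (e ▸ c.U_le_H)
    rw [h68] at h1
    exact h1.trans (sup_le_sup_left inf_le_left K)
  have h2 : U ⊓ (K ⊔ sigmaCore M) = ⊥ := c.hKU.compl.2.2.1
  rw [eq_bot_iff, ← h2]
  exact le_inf le_rfl hU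

/-- `H` is not conjugate to `M*`. -/
theorem not_conj_Ms (c : Ctx M K U Ms R H r) (g : G) : H ≠ cj(g, Ms) := by
  intro e
  have hg : g ∈ Ms := c.mem_Ms_of_K_le_cj (e ▸ c.K_le_H)
  rw [Cfsg.Agent.Lib.H16.BG.cj_eq_self_of_mem hg] at e
  exact c.ne_Ms e

/-- `κ(H) = ∅`. -/
theorem kappa_H (c : Ctx M K U Ms R H r) : kappa H = ∅ := by
  by_contra hne
  obtain ⟨g, hg | hg⟩ := c.pair.conj_of_kappa_nonempty c.hH (Set.nonempty_iff_ne_empty.2 hne)
  · exact c.not_conj_M g hg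
  · exact c.not_conj_Ms g hg

/-- `p ∉ σ(H)`. -/
theorem p_not_mem_sigma_H (c : Ctx M K U Ms R H r) : Nat.card ↥K ∉ sigma H := by
  intro h
  obtain ⟨g, hg⟩ := Cfsg.Agent.Lib.H7.BG14v.sigma_partition' c.hG c.hMs c.hH c.p_mem_sigma_Ms h
  exact c.not_conj_Ms g hg

end Ctx

end Cfsg.Agent.Lib.H16.BG157
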