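import Mathlib
import Cfsg.Agent.Lib.H7.BG14t

/-!
# BG 13.5 in general (helper16)

* `eq_bot_of_tau2`: if `τ₂(L) ≠ ∅`, `p ∈ τ₁(L)`, `P ≤ E` of order `p`, then `C_{L_σ}(P)` contains no
  nontrivial `t`-subgroup with `t ∉ β(L)` (via helper7's `no_theta`).
* `le_commutator_sigmaCore`: a `t`-subgroup (`t ∈ σ(L) ∖ β(L)`) of `C_{L_σ}(P)` lies in `(L_σ)'`.
* `cent_unique`: BG 13.5 (`cent_cent_Msigma_tau1_uniq`).
-/

set_option autoImplicit false
set_option linter.style.haveILetI false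
set_option linter.unusedSectionVars false
set_option linter.unusedVariables false
open Cfsg
open Cfsg.Agent.Lib.H16.BG
open Cfsg.Agent.Lib.H7.BG7
open Cfsg.Agent.Lib.H7.BG10
open Cfsg.Agent.Lib.H19 (IsPiCard)
open Cfsg.Agent.Lib.H1 (CoprimeAction)

namespace Cfsg.Agent.Lib.H16.BGCent

universe u
variable {G : Type u} [Group G] [Finite G]

local notation:max "cj(" g ", " X ")" => Subgroup.map (MulEquiv.toMonoidHom (MulAut.conj g)) X

/-- an elementary abelian subgroup of order `s²` inside a complement, for `s ∈ τ₂(L)`. -/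
theorem exists_elemAb_sq_le_compl (hG : IsMinSimpleOddOrder G) {L : Subgroup G} (hL : IsCoatom L)
    {E : Subgroup G} (hE : IsComplIn E (sigmaCore L) L) {s : ℕ} [hsF : Fact s.Prime]
    (hs2 : s ∈ tau2 L) :
    ∃ A : Subgroup G, A ≤ E ∧ IsElementaryAbelian s A ∧ Nat.card A = s ^ 2 := by
  have hU := Cfsg.Agent.Lib.H20.BGT.uniq3 hG
  have hσLh := (Cfsg.Agent.Lib.H20.BGS.sigma_core_hall hG hU hL).1
  obtain ⟨T', hT'⟩ := SylIn.exists_sylIn s E
  have hT'L : SylIn s T' L := Cfsg.Agent.Lib.H8.BG12.sylIn_of_compl hσLh hE hs2.2.1 hT'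
  have hT'c : ¬ IsCyclic ↥T' := by
    intro hc
    haveI := hc
    exact hs2.2.2.2 (pRankLE_of_sylIn hT'L
      (Cfsg.Agent.Lib.H7.BG13.pRankLE_one_of_isCyclic hsF.out))
  have hT'1 : T' ≠ ⊥ := by
    intro h
    apply hT'c
    rw [h]
    exact isCyclic_of_subsingleton
  have hs2' : s ≠ 2 :=
    prime_ne_two_of_dvd_card hG (dvd_card_of_ne_bot hT'L.isPGroup hT'L.le hT'1)
  obtain ⟨A', hA'T, hA'e, hA'c⟩ :=
    Cfsg.Agent.Lib.H20.BGT.exists_elemAb_sq_of_not_cyclic hs2' hT'.isPGroup hT'c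
  exact ⟨A', hA'T.trans hT'.le, hA'e, hA'c⟩

/-- if `τ₂(L) ≠ ∅` and `p ∈ τ₁(L)`, then `C_{L_σ}(P)` has no nontrivial `t`-subgroup, `t ∉ β(L)`. -/
theorem eq_bot_of_tau2 (hG : IsMinSimpleOddOrder G) {L : Subgroup G} (hL : IsCoatom L)
    {E : Subgroup G} (hE : IsComplIn E (sigmaCore L) L) {s : ℕ} (hs2 : s ∈ tau2 L)
    {p : ℕ} (hp1 : p ∈ tau1 L) {P : Subgroup G} (hPE : P ≤ E) (hPc : Nat.card P = p)
    {t : ℕ} [ht : Fact t.Prime] (htσ : t ∈ sigma L) (htβ : t ∉ beta L)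
    {R : Subgroup G} (hRσ : R ≤ sigmaCore L) (hRt : IsPGroup t R)
    (hRP : R ≤ Subgroup.centralizer (P : Set G)) : R = ⊥ := by
  by_contra hR1
  have hU := Cfsg.Agent.Lib.H20.BGT.uniq3 hG
  haveI hpF : Fact p.Prime := ⟨hp1.1⟩
  haveI hsF : Fact s.Prime := ⟨hs2.1⟩
  have hPp : IsPGroup p P := IsPGroup.of_card (n := 1) (by rw [hPc, pow_one])
  obtain ⟨A', hA'E, hA'e, hA'c⟩ := exists_elemAb_sq_le_compl hG hL hE hs2
  have hA'L : A' ≤ L := hA'E.trans hE.1
  have hA'p : IsPGroup s A' := IsPGroup.of_card (n := 2) hA'c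
  have h17L := Cfsg.Agent.S1417.result hG L hL s hs2 A' ⟨hA'L, hA'e, hA'c⟩
  have hnil : Group.IsNilpotent ↥(sigmaCore L) := h17L.1
  have hreg : sigmaCore L ⊓ Subgroup.centralizer (A' : Set G) = ⊥ := h17L.2.2.2.1
  have h18L := Cfsg.Agent.S1418.result hG L hL E hE s hs2 A' ⟨hA'E, hA'e, hA'c⟩
  have hPA' : P ≤ Subgroup.normalizer (A' : Set G) := hPE.trans h18L.1.1
  have hst : s ≠ t := by
    rintro rfl
    exact hs2.2.1 htσ
  have hps : p ≠ s := by
    rintro rfl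
    exact hs2.2.2.2 hp1.2.2.2.2
  have hσL' : sigmaCore L ≤ ⁅L, L⁆ := sigmaCore_le_commutator hG hU hL
  have hact' : CoprimeAction P A' :=
    Cfsg.Agent.Lib.H19.BG13.coprimeAction_of_isPGroup hps hPp hA'p hPA'
  have hdec' := Cfsg.Agent.Lib.H1.coprime_commutator_sup_centralizer hact'
  -- the part of `A'` centralizing `P` centralizes `R`
  have h3 : A' ⊓ Subgroup.centralizer (P : Set G) ≤ Subgroup.centralizer (R : Set G) := by
    intro x hx
    obtain ⟨hxA', hxP⟩ := Subgroup.mem_inf.1 hx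
    by_cases hx1 : x = 1
    · rw [hx1]; exact Subgroup.one_mem _
    have hxs : x ^ s = 1 := hA'e.2 x hxA'
    have hox : orderOf x = s := orderOf_eq_prime hxs hx1
    have hXc : Nat.card (Subgroup.zpowers x) = s := by rw [Nat.card_zpowers, hox]
    have hXE : Subgroup.zpowers x ≤ E ⊓ Subgroup.centralizer (P : Set G) := by
      rw [Subgroup.zpowers_le]
      exact Subgroup.mem_inf.2 ⟨hA'E hxA', hxP⟩
    have h28L := Cfsg.Agent.S1428.result hG L hL E hE p hp1 P hPE hPc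
      (Subgroup.zpowers x) hXE (by rw [hXc]; exact hsF.out)
    have hRx : R ≤ Subgroup.centralizer ((Subgroup.zpowers x : Subgroup G) : Set G) :=
      (le_inf hRσ hRP).trans (h28L.trans inf_le_right)
    exact le_centralizer_comm hRx (Subgroup.mem_zpowers x)
  -- the commutator part centralizes `O_t(L_σ) ≥ R`
  set T : Subgroup G := piCoreOf ({t} : Set ℕ) (sigmaCore L) with hT
  have hRT : R ≤ T := le_piCoreOf_of_nilpotent hnil hRσ
    (isPiCard_of_isPGroup ht.out (Set.mem_singleton t) hRt)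
  have hTp : IsPGroup t T := isPGroup_piCoreOf_singleton t (sigmaCore L)
  have hLT : L ≤ Subgroup.normalizer (T : Set G) :=
    (Cfsg.Agent.Lib.H20.BGS.le_normalizer_sigmaCore L).trans
      (normalizer_le_normalizer_piCoreOf _ _)
  have hTσ : T ≤ sigmaCore L := piCoreOf_le _ _
  have hA'₁E : ⁅A', P⁆ ≤ ⁅E, E⁆ := Subgroup.commutator_mono hA'E hPE
  have hA'₁A' : ⁅A', P⁆ ≤ A' := hact'.commutator_le
  have hA'₁p : IsPGroup s (⁅A', P⁆ : Subgroup G) := hA'p.to_le hA'₁A'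
  have hsβ : s ∉ beta L := fun h => hs2.2.1 (alpha_subset_sigma hG hU hL h.1)
  have h1 : T ≤ Subgroup.centralizer ((⁅A', P⁆ : Subgroup G) : Set G) :=
    Cfsg.Agent.Lib.H19.BG13.le_centralizer_of_beta' hG hL
      (hA'₁E.trans (Subgroup.commutator_mono hE.1 hE.1)) (hTσ.trans hσL')
      ((hA'₁A'.trans hA'L).trans hLT)
      (Cfsg.Agent.Lib.H19.BG13.isPGroup_coprime_card hst hA'₁p hTp)
      (by
        intro q hq hd
        rw [Cfsg.Agent.Lib.H8.BG12.prime_eq_of_dvd_card_pGroup hA'₁p hq hd]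
        exact hsβ)
      (by
        intro q hq hd
        rw [Cfsg.Agent.Lib.H8.BG12.prime_eq_of_dvd_card_pGroup hTp hq hd]
        exact htβ)
  have h2 : ⁅A', P⁆ ≤ Subgroup.centralizer (R : Set G) :=
    le_centralizer_comm (hRT.trans h1)
  -- so `A'` centralizes `R`: contradiction
  have hA'R : A' ≤ Subgroup.centralizer (R : Set G) := by
    rw [← hdec']
    exact sup_le h2 h3
  apply hR1
  rw [eq_bot_iff, ← hreg]
  exact le_inf hRσ (le_centralizer_comm hA'R)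

/-- a `t`-subgroup `R` of `L_σ` (`t ∈ σ(L) ∖ β(L)`) centralized by a subgroup `P` of order
`p ∈ τ₁(L)` of the complement `E` lies in `(L_σ)'`. -/
theorem le_commutator_sigmaCore (hG : IsMinSimpleOddOrder G) {L : Subgroup G}
    (hL : IsCoatom L) {E : Subgroup G} (hE : IsComplIn E (sigmaCore L) L)
    {p : ℕ} (hp1 : p ∈ tau1 L) {P : Subgroup G} (hPE : P ≤ E)
    (hPc : Nat.card P = p) {t : ℕ} [ht : Fact t.Prime] (htσ : t ∈ sigma L) (htβ : t ∉ beta L)
    {R : Subgroup G} (hRσ : R ≤ sigmaCore L) (hRt : IsPGroup t R)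
    (hRP : R ≤ Subgroup.centralizer (P : Set G)) :
    R ≤ ⁅sigmaCore L, sigmaCore L⁆ := by
  by_cases hτ₂ : ∃ s : ℕ, s ∈ tau2 L
  · obtain ⟨s, hs2⟩ := hτ₂
    rw [eq_bot_of_tau2 hG hL hE hs2 hp1 hPE hPc htσ htβ hRσ hRt hRP]
    exact bot_le
  · exact Cfsg.Agent.Lib.H7.BG14t.le_commutator_sigmaCore_of_tau2_empty hG hL hE
      (fun s hs => hτ₂ ⟨s, hs⟩) hp1 hPE hPc htσ htβ hRσ hRt hRP

/-- **BG 13.5** (`cent_cent_Msigma_tau1_uniq`): `p ∈ τ₁(L)`, `P ≤ E` of order `p`, `R ≤ C_{L_σ}(P)`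
of prime order `t`: `L` is the unique maximal subgroup containing `C_G(R)`, and the unique one
containing any Sylow `t`-subgroup of `L_σ`. -/
theorem cent_unique (hG : IsMinSimpleOddOrder G) {L : Subgroup G}
    (hL : IsCoatom L) {E : Subgroup G} (hE : IsComplIn E (sigmaCore L) L)
    {p : ℕ} (hp1 : p ∈ tau1 L) {P : Subgroup G} (hPE : P ≤ E)
    (hPc : Nat.card P = p) {t : ℕ} [ht : Fact t.Prime]
    {R : Subgroup G} (hRσ : R ≤ sigmaCore L) (hRc : Nat.card R = t)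
    (hRP : R ≤ Subgroup.centralizer (P : Set G)) :
    t ∈ sigma L ∧
    (Subgroup.centralizer (R : Set G) ≤ L ∧
      ∀ L' : Subgroup G, IsCoatom L' → Subgroup.centralizer (R : Set G) ≤ L' → L' = L) ∧
    ∀ S : Sylow t ↥(sigmaCore L),
      InUniqueMaximal ((S : Subgroup ↥(sigmaCore L)).map (sigmaCore L).subtype) ∧
      (S : Subgroup ↥(sigmaCore L)).map (sigmaCore L).subtype ≤ L := by
  have hU := Cfsg.Agent.Lib.H20.BGT.uniq3 hG
  have hσ := (Cfsg.Agent.Lib.H20.BGS.sigma_core_hall hG hU hL).1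
  have hRt : IsPGroup t R := IsPGroup.of_card (n := 1) (by rw [hRc, pow_one])
  have htσ : t ∈ sigma L := by
    apply hσ.2.1 t ht.out
    rw [← hRc]
    exact Subgroup.card_dvd_of_le hRσ
  have hRL : R ≤ L := hRσ.trans (Cfsg.Agent.Lib.H20.BGS.sigmaCore_le L)
  have h : t ∈ beta L ∨ R ≤ ⁅sigmaCore L, sigmaCore L⁆ := by
    by_cases htβ : t ∈ beta L
    · exact Or.inl htβ
    · exact Or.inr (le_commutator_sigmaCore hG hL hE hp1 hPE hPc htσ htβ hRσ hRt hRP)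
  refine ⟨htσ, ?_, ?_⟩
  · obtain ⟨S⟩ : Nonempty (Sylow t ↥(sigmaCore L)) := inferInstance
    exact (Cfsg.Agent.S1423.result hG L hL t htσ R hRL hRc S h).1
  · intro S
    exact (Cfsg.Agent.S1423.result hG L hL t htσ R hRL hRc S h).2

end Cfsg.Agent.Lib.H16.BGCent
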