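import Mathlib
import Cfsg.Agent.Lib.H16.BG157a
import Cfsg.Agent.Lib.H16.BGHyp
import Cfsg.Agent.Lib.H16.BGCentA
import Cfsg.Agent.Lib.H19.BG13h
import Cfsg.Agent.Lib.H7.FrobNil
import Cfsg.Agent.S1361
import Cfsg.Agent.S1417
import Cfsg.Agent.S1418

/-!
# BG Theorem 15.7 (S1435), part b: `C_{H_σ}(K) = 1`, `M_σ ∩ H = 1`, `H_σ ∩ M* = 1` (helper16)
-/

set_option autoImplicit false
set_option linter.style.haveILetI false
set_option linter.unusedSectionVars false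
set_option linter.unusedVariables false

open Cfsg
open Cfsg.Agent.Lib.H16.BG
open Cfsg.Agent.Lib.H7.BG7
open Cfsg.Agent.Lib.H7.BG10
open Cfsg.Agent.Lib.H20.BGS
open Cfsg.Agent.Lib.H19 (IsPiCard)
open scoped Pointwise

namespace Cfsg.Agent.Lib.H16.BG157

open Cfsg.Agent.Lib.H7.BG147

universe u
variable {G : Type u} [Group G] [Finite G]

local notation:max "cj(" g ", " X ")" => Subgroup.map (MulEquiv.toMonoidHom (MulAut.conj g)) X

/-- the centralizer of a non-identity element of a group of prime order. -/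
theorem centralizer_singleton_eq_of_prime {K : Subgroup G} (hK : (Nat.card ↥K).Prime) {k : G}
    (hk : k ∈ K) (hk1 : k ≠ 1) :
    Subgroup.centralizer ({k} : Set G) = Subgroup.centralizer (K : Set G) := by
  have h := Cfsg.Agent.Lib.H16.BG.zpowers_eq_of_card_prime hK rfl hk hk1
  rw [← Cfsg.Agent.Lib.H16.BG.centralizer_zpowers_eq, h]

namespace Ctx

variable {M K U Ms R H : Subgroup G} {r : ℕ}

theorem H_ne_M (c : Ctx M K U Ms R H r) : H ≠ M := by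
  intro e
  apply c.not_conj_M 1
  rw [Cfsg.Agent.Lib.H10.map_conj_one]
  exact e

/-- `K` is a `σ(H)'`-group. -/
theorem K_sigma' (c : Ctx M K U Ms R H r) :
    ∀ q : ℕ, q.Prime → q ∣ Nat.card ↥K → q ∉ sigma H := by
  intro q hq hd
  have : q = Nat.card ↥K := (Nat.prime_dvd_prime_iff_eq hq c.card_K_prime).1 hd
  rw [this]
  exact c.p_not_mem_sigma_H

/-- `C_{H_σ}(K) = 1`. -/
theorem cent_K (c : Ctx M K U Ms R H r) :
    sigmaCore H ⊓ Subgroup.centralizer (K : Set G) = ⊥ := by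
  by_contra hne
  have hp := c.card_K_prime
  haveI : Fact (Nat.card ↥K).Prime := ⟨hp⟩
  have hU := Cfsg.Agent.Lib.H20.BGT.uniq3 c.hG
  have hpσ := c.p_not_mem_sigma_H
  by_cases h1 : PRankLE (Nat.card ↥K) 1 ↥H
  · have hκ : Nat.card ↥K ∈ kappa H :=
      Cfsg.Agent.Lib.H7.BG13t.mem_kappa_of_centralizer_ne_bot c.hG c.hH hpσ h1 c.K_le_H rfl hne
    rw [c.kappa_H] at hκ
    exact hκ
  · have h2 : PRankLE (Nat.card ↥K) 2 ↥H := by
      by_contra h
      exact hpσ (alpha_subset_sigma c.hG hU c.hH ⟨hp, h⟩)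
    have hτ : Nat.card ↥K ∈ tau2 H := ⟨hp, hpσ, h2, h1⟩
    obtain ⟨E, hE, hKE⟩ := Cfsg.Agent.Lib.H19.BG13.exists_compl_ge c.hG c.hH c.K_le_H c.K_sigma'
    obtain ⟨A, hAE, hAe, hAc⟩ :=
      Cfsg.Agent.Lib.H16.BGCent.exists_elemAb_sq_le_compl c.hG c.hH hE hτ
    have h18 := Cfsg.Agent.S1418.result c.hG H c.hH E hE (Nat.card ↥K) hτ A ⟨hAE, hAe, hAc⟩
    have hKA : K ≤ A := h18.1.2 K hKE rfl
    have h3 := (h18.2.2 K hKA rfl hne).2 Ms c.hMs c.centralizer_K_le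
    exact c.ne_Ms h3.symm

/-- `H_σ` is nilpotent. -/
theorem nil_sigmaCore_H (c : Ctx M K U Ms R H r) : Group.IsNilpotent ↥(sigmaCore H) := by
  have hp := c.card_K_prime
  obtain ⟨k, hk, hk1⟩ : ∃ k ∈ K, k ≠ 1 := by
    by_contra hcon
    push Not at hcon
    apply c.hK1
    rw [eq_bot_iff]
    intro x hx
    rw [Subgroup.mem_bot]
    exact hcon x hx
  have hkp : k ^ Nat.card ↥K = 1 := by
    have := pow_card_eq_one' (G := ↥K) (x := ⟨k, hk⟩)
    exact congrArg Subtype.val this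
  apply Cfsg.Agent.Lib.H7.FrobNil.isNilpotent_of_fpf hp
    ((c.K_le_H.trans (Cfsg.Agent.Lib.H20.BGS.le_normalizer_sigmaCore H)) hk) hkp
  intro y hy hky
  have h1 : y ∈ sigmaCore H ⊓ Subgroup.centralizer ({k} : Set G) := by
    refine Subgroup.mem_inf.2 ⟨hy, ?_⟩
    rw [Subgroup.mem_centralizer_iff]
    intro z hz
    rw [Set.mem_singleton_iff] at hz
    rw [hz]; exact hky
  rw [centralizer_singleton_eq_of_prime hp hk hk1, c.cent_K] at h1
  exact Subgroup.mem_bot.1 h1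

/-- `C_{M_σ}(R) = 1`. -/
theorem cent_R (c : Ctx M K U Ms R H r) :
    sigmaCore M ⊓ Subgroup.centralizer (R : Set G) = ⊥ := by
  by_contra hne
  have h61 := Cfsg.Agent.S1361.result c.hG M c.hM K U c.hKU R c.R_le_U c.R_ne hne
  have := h61.2 H c.hH ((Subgroup.centralizer_le_normalizer _).trans c.hNR)
  exact c.H_ne_M this

/-- `M_σ ∩ H = 1`. -/
theorem sigmaCore_M_inf_H (c : Ctx M K U Ms R H r) : sigmaCore M ⊓ H = ⊥ := by
  haveI : Fact r.Prime := ⟨c.hr⟩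
  have hRp : IsPGroup r R := c.hRU.isPGroup
  have hRM : R ≤ M := c.R_le_U.trans c.U_le_M
  by_cases hcyc : IsCyclic ↥R
  · have h13 := Cfsg.Agent.Lib.H16.BGHyp.hyp13 c.hG
    have h1 := Cfsg.Agent.Lib.H19.BG13.centralizes_of_normalizer_le c.hG h13 c.hM c.r_not.1
      c.sylIn_R_M hcyc hRp c.R_ne hRM c.hH c.hNR hRp hRM c.R_le_H
    rw [eq_bot_iff, ← c.cent_R]
    exact le_inf inf_le_left h1
  · have hr2 : r ≠ 2 := Cfsg.Agent.Lib.H20.BGT.prime_ne_two' c.hG hRp c.R_ne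
    obtain ⟨A, hAR, hAe, hAc⟩ :=
      Cfsg.Agent.Lib.H20.BGT.exists_elemAb_sq_of_not_cyclic hr2 hRp hcyc
    have hAM : A ≤ M := hAR.trans hRM
    have hτ : r ∈ tau2 M :=
      Cfsg.Agent.Lib.H20.BGT.mem_tau2_of_elemAb_sq c.hG c.hM c.r_not.1 hAM hAe hAc
    have h17 := Cfsg.Agent.S1417.result c.hG M c.hM r hτ A ⟨hAM, hAe, hAc⟩
    exact h17.2.2.2.2.1 H c.hH c.H_ne_M (hAR.trans c.R_le_H)

/-- `M ∩ H = U K`. -/
theorem M_inf_H (c : Ctx M K U Ms R H r) : M ⊓ H = U ⊔ K := by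
  apply le_antisymm
  · intro x hx
    obtain ⟨hxM, hxH⟩ := Subgroup.mem_inf.1 hx
    obtain ⟨u, hu, y, hy, hxy⟩ := c.hKU.compl.2.2.2 x hxM
    rw [sup_comm] at hy
    have hKn : K ≤ Subgroup.normalizer ((sigmaCore M : Subgroup G) : Set G) :=
      c.K_le_M.trans (Cfsg.Agent.Lib.H20.BGS.le_normalizer_sigmaCore M)
    obtain ⟨s, hs, k, hk, hsk⟩ := Cfsg.Agent.Lib.H1.mem_sup_of_le_normalizer hKn hy
    have hsH : s ∈ H := by
      have : s = u⁻¹ * x * k⁻¹ := by rw [hxy, hsk]; group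
      rw [this]
      exact H.mul_mem (H.mul_mem (H.inv_mem (c.U_le_H hu)) hxH) (H.inv_mem (c.K_le_H hk))
    have hs1 : s = 1 := by
      have : s ∈ sigmaCore M ⊓ H := Subgroup.mem_inf.2 ⟨hs, hsH⟩
      rw [c.sigmaCore_M_inf_H] at this
      exact Subgroup.mem_bot.1 this
    rw [hxy, hsk, hs1, one_mul]
    exact Subgroup.mul_mem_sup hu hk
  · exact sup_le (le_inf c.U_le_M c.U_le_H) (le_inf c.K_le_M c.K_le_H)

/-- `H_σ ∩ M* = 1`. -/
theorem sigmaCore_H_inf_Ms (c : Ctx M K U Ms R H r) : sigmaCore H ⊓ Ms = ⊥ := by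
  haveI : Fact (Nat.card ↥K).Prime := ⟨c.card_K_prime⟩
  have hnc : ∀ g : G, Ms ≠ cj(g, H) := Cfsg.Agent.Lib.H19.BG13.not_conj_symm c.not_conj_Ms
  have h1 := Cfsg.Agent.Lib.H19.BG13.centralizes_of_mem_sigma c.hG c.hH c.hMs hnc
    c.p_not_mem_sigma_H c.p_mem_sigma_Ms c.isPGroup_K c.K_le_H c.pair.K_le
  rw [eq_bot_iff, ← c.cent_K]
  exact le_inf inf_le_left h1

end Ctx

end Cfsg.Agent.Lib.H16.BG157
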