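import Mathlib
import Cfsg.Agent.Lib.H16.BG157b
import Cfsg.Agent.Lib.H8.BG12k
import Cfsg.Agent.S1432
import Cfsg.Agent.S1446

/-!
# BG Theorem 15.7 (S1435), part c: the Frobenius action lemma, `U ≤ H_σ` (helper16)
-/

set_option autoImplicit false
set_option linter.style.haveILetI false
set_option linter.unusedSectionVars false
set_option linter.unusedVariables false

open Cfsg
open Cfsg.Agent.Lib.H16.BG
open Cfsg.Agent.Lib.H7.BG7
open Cfsg.Agent.Lib.H7.BG10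
open Cfsg.Agent.Lib.H20.BGS
open Cfsg.Agent.Lib.H19 (IsPiCard)
open scoped Pointwise

namespace Cfsg.Agent.Lib.H16.BG157

open Cfsg.Agent.Lib.H7.BG147

universe u
variable {G : Type u} [Group G] [Finite G]

local notation:max "cj(" g ", " X ")" => Subgroup.map (MulEquiv.toMonoidHom (MulAut.conj g)) X

namespace Ctx

variable {M K U Ms R H : Subgroup G} {r : ℕ}

/-- **the Frobenius action lemma**: a nontrivial `σ(H)'`-subgroup `F` of `H` normalized by `K`, on
which `K` acts without fixed points, centralizes a non-identity element of `H_σ`. -/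
theorem cent_ne_bot_of_frob (c : Ctx M K U Ms R H r) {F : Subgroup G} (hFH : F ≤ H) (hF1 : F ≠ ⊥)
    (hKF : K ≤ Subgroup.normalizer (F : Set G))
    (hfix : F ⊓ Subgroup.centralizer (K : Set G) = ⊥)
    (hFσ : ∀ q : ℕ, q.Prime → q ∣ Nat.card ↥F → q ∉ sigma H) :
    sigmaCore H ⊓ Subgroup.centralizer (F : Set G) ≠ ⊥ := by
  intro hCK
  have hp := c.card_K_prime
  have hKab : ∀ a b : ↥K, a * b = b * a := by
    haveI := c.hKU.cyclic
    letI : CommGroup ↥K := IsCyclic.commGroup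
    exact fun a b => mul_comm a b
  have hKR : F ⊓ K = ⊥ := by
    rw [eq_bot_iff, ← hfix]
    intro x hx
    refine Subgroup.mem_inf.2 ⟨hx.1, ?_⟩
    rw [Subgroup.mem_centralizer_iff]
    intro k hk
    have := hKab ⟨k, hk⟩ ⟨x, hx.2⟩
    exact congrArg Subtype.val this
  have hfrob : ∀ k ∈ K, k ≠ 1 → F ⊓ Subgroup.centralizer ({k} : Set G) = ⊥ := by
    intro k hk hk1
    rw [centralizer_singleton_eq_of_prime hp hk hk1]
    exact hfix
  have hle : F ⊔ K ≤ H := sup_le hFH c.K_le_H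
  have hsolv : Group.IsSolvable ↥(F ⊔ K : Subgroup G) := solvable_of_le_ne_top c.hG c.hH.1 hle
  have hodd : Odd (Nat.card ↥(F ⊔ K : Subgroup G)) :=
    Odd.of_dvd_nat c.hG.1 (Subgroup.card_subgroup_dvd_card _)
  have hσn : H ≤ Subgroup.normalizer ((sigmaCore H : Subgroup G) : Set G) :=
    Cfsg.Agent.Lib.H20.BGS.le_normalizer_sigmaCore H
  have hcop : (Nat.card ↥(F ⊔ K : Subgroup G)).Coprime (Nat.card ↥(sigmaCore H)) := by
    apply Nat.coprime_of_dvd
    intro q hq h1 h2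
    have hqσ : q ∈ sigma H := sigmaCore_isPiCard H q hq h2
    have h3 : q ∣ Nat.card ↥F * Nat.card ↥K := by
      refine h1.trans ?_
      rw [sup_comm, mul_comm]
      exact Cfsg.Agent.Lib.H19.card_sup_dvd_mul_of_le_normalizer hKF
    rcases (Nat.Prime.dvd_mul hq).1 h3 with h4 | h4
    · exact hFσ q hq h4 hqσ
    · exact c.K_sigma' q hq h4 hqσ
  have hpr : ∀ x ∈ K, x ≠ 1 → sigmaCore H ⊓ Subgroup.centralizer ({x} : Set G) =
      sigmaCore H ⊓ Subgroup.centralizer (K : Set G) := by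
    intro x hx hx1
    rw [centralizer_singleton_eq_of_prime hp hx hx1]
  have h46 := Cfsg.Agent.S1446.result F K (sigmaCore H) hF1 c.hK1 hKR hKF hfrob hsolv hodd
    (Cfsg.Agent.Lib.H8.BG12.sigmaCore_ne_bot' c.hG c.hH) c.nil_sigmaCore_H (hFH.trans hσn)
    (c.K_le_H.trans hσn) hcop hCK hpr
  have h1 := h46.2.1
  rw [c.cent_K, Subgroup.card_bot, one_pow] at h1
  exact Cfsg.Agent.Lib.H8.BG12.sigmaCore_ne_bot' c.hG c.hH (Subgroup.card_eq_one.1 h1)

/-- a subgroup of prime order `s ∉ σ(H)` of `H` centralizing a non-identity element of `H_σ`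
forces `H` to have `s`-rank at least 2. -/
theorem not_pRankLE_one (c : Ctx M K U Ms R H r) {s : ℕ} [Fact s.Prime] (hsσ : s ∉ sigma H)
    {X : Subgroup G} (hXH : X ≤ H) (hXc : Nat.card ↥X = s)
    (hne : sigmaCore H ⊓ Subgroup.centralizer (X : Set G) ≠ ⊥) : ¬ PRankLE s 1 ↥H := by
  intro h1
  have hκ : s ∈ kappa H :=
    Cfsg.Agent.Lib.H7.BG13t.mem_kappa_of_centralizer_ne_bot c.hG c.hH hsσ h1 hXH hXc hne
  rw [c.kappa_H] at hκ
  exact hκ

/-- a prime of `σ(M*)` dividing `|M|` is `p = |K|`. -/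
theorem eq_p_of_mem_sigma_Ms (c : Ctx M K U Ms R H r) {s : ℕ} (hs : s.Prime) (hsσ : s ∈ sigma Ms)
    (hsM : s ∣ Nat.card ↥M) : s = Nat.card ↥K := by
  have hhall := c.pair.symm.star_hall_sigma
  rw [← c.hKst] at hhall
  have h1 : ¬ s ∣ K.relIndex M := hhall.2.2 s hs hsσ
  have h2 : s ∣ Nat.card ↥K * K.relIndex M := by
    rw [SylIn.card_mul_relIndex c.K_le_M]; exact hsM
  rcases (Nat.Prime.dvd_mul hs).1 h2 with h3 | h3
  · exact (Nat.prime_dvd_prime_iff_eq hs c.card_K_prime).1 h3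
  · exact absurd h3 h1

/-- a prime of `κ(M*)` lies in `σ(M)`. -/
theorem mem_sigma_of_mem_kappa_Ms (c : Ctx M K U Ms R H r) {s : ℕ} (hs : s ∈ kappa Ms) :
    s ∈ sigma M := by
  have hs' : s.Prime := hs.1
  have h1 : ¬ s ∣ (sigmaCore M ⊓ Subgroup.centralizer (K : Set G)).relIndex Ms :=
    c.hKstH.2.2 s hs' hs
  have h2 : s ∣ Nat.card ↥(sigmaCore M ⊓ Subgroup.centralizer (K : Set G)) *
      (sigmaCore M ⊓ Subgroup.centralizer (K : Set G)).relIndex Ms := by
    rw [SylIn.card_mul_relIndex c.hKstH.1]; exact hs.2.1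
  rcases (Nat.Prime.dvd_mul hs').1 h2 with h3 | h3
  · exact sigmaCore_isPiCard M s hs' (h3.trans (Subgroup.card_dvd_of_le inf_le_left))
  · exact absurd h3 h1

/-- **the `τ₂` lemma**: no prime `s ∈ τ₂(H)` outside `σ(M) ∪ σ(M*)`. -/
theorem false_of_tau2 (c : Ctx M K U Ms R H r) {s : ℕ} (hτ : s ∈ tau2 H) (hsM : s ∉ sigma M)
    (hsMs : s ∉ sigma Ms) : False := by
  haveI hsF : Fact s.Prime := ⟨hτ.1⟩
  have hp := c.card_K_prime
  obtain ⟨E, hE, hKE⟩ := Cfsg.Agent.Lib.H19.BG13.exists_compl_ge c.hG c.hH c.K_le_H c.K_sigma'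
  obtain ⟨A, hAE, hAe, hAc⟩ :=
    Cfsg.Agent.Lib.H16.BGCent.exists_elemAb_sq_le_compl c.hG c.hH hE hτ
  have hAH : A ≤ H := hAE.trans hE.1
  have h18 := Cfsg.Agent.S1418.result c.hG H c.hH E hE s hτ A ⟨hAE, hAe, hAc⟩
  have h17 := Cfsg.Agent.S1417.result c.hG H c.hH s hτ A ⟨hAH, hAe, hAc⟩
  have hKA : K ≤ Subgroup.normalizer (A : Set G) := hKE.trans h18.1.1
  have hAp : IsPGroup s A := IsPGroup.of_card (n := 2) hAc
  have hA1 : A ≠ ⊥ := by
    intro h
    rw [h, Subgroup.card_bot] at hAc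
    have := hsF.out.one_lt
    nlinarith
  by_cases hfix : A ⊓ Subgroup.centralizer (K : Set G) = ⊥
  · refine c.cent_ne_bot_of_frob hAH hA1 hKA hfix ?_ h17.2.2.2.1
    intro q hq hd
    rw [Cfsg.Agent.Lib.H8.BG12.prime_eq_of_dvd_card_pGroup hAp hq hd]
    exact hτ.2.1
  · obtain ⟨x', hx', hx'1⟩ : ∃ x' ∈ A ⊓ Subgroup.centralizer (K : Set G), x' ≠ 1 := by
      by_contra hcon
      push Not at hcon
      apply hfix
      rw [eq_bot_iff]
      intro x hx
      rw [Subgroup.mem_bot]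
      exact hcon x hx
    obtain ⟨k, hk, hk1⟩ : ∃ k ∈ K, k ≠ 1 := by
      by_contra hcon
      push Not at hcon
      apply c.hK1
      rw [eq_bot_iff]
      intro x hx
      rw [Subgroup.mem_bot]
      exact hcon x hx
    have hx's : x' ^ s = 1 := hAe.2 x' hx'.1
    have hox : orderOf x' = s := orderOf_eq_prime hx's hx'1
    have hx'Ms : x' ∈ Ms ⊓ Subgroup.centralizer ({k} : Set G) := by
      refine Subgroup.mem_inf.2 ⟨c.centralizer_K_le hx'.2, ?_⟩
      exact Subgroup.centralizer_le (Set.singleton_subset_iff.2 hk) hx'.2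
    have h32 := Cfsg.Agent.S1432.result c.hG Ms c.hMs k (c.K_le_sigmaCore_Ms hk) hk1 x' hx'Ms hx'1
      (by
        intro q hq hd
        rw [hox] at hd
        rw [(Nat.prime_dvd_prime_iff_eq hq hsF.out).1 hd]
        exact hsMs)
    rcases h32 with ⟨h1, -⟩ | ⟨h1, -, h2, -⟩
    · exact hsM (c.mem_sigma_of_mem_kappa_Ms (h1 s hsF.out (by rw [hox])))
    · have hτMs : s ∈ tau2 Ms := h1 s hsF.out (by rw [hox])
      have hAMs : A ≤ Ms := by
        refine le_trans ?_ h2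
        intro a ha
        rw [Subgroup.mem_centralizer_iff]
        intro z hz
        rw [Set.mem_singleton_iff] at hz
        rw [hz]
        have := hAe.1.is_comm.comm ⟨x', hx'.1⟩ ⟨a, ha⟩
        exact congrArg Subtype.val this
      have h17' := Cfsg.Agent.S1417.result c.hG Ms c.hMs s hτMs A ⟨hAMs, hAe, hAc⟩
      have h3 := h17'.2.2.2.2.1 H c.hH c.ne_Ms hAH
      apply c.hK1
      rw [eq_bot_iff, ← h3]
      exact le_inf c.K_le_sigmaCore_Ms c.K_le_H

/-- `p = |K|` does not divide `|U|`. -/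
theorem p_not_dvd_card_U (c : Ctx M K U Ms R H r) : ¬ Nat.card ↥K ∣ Nat.card ↥U := by
  intro h
  have h1 := Cfsg.Agent.Lib.H7.BG14.not_mem_sigma_kappa_of_isSigmaDecomposition c.hG c.hM c.hKU
    c.card_K_prime h
  exact h1.2 (c.hKU.hall.2.1 _ c.card_K_prime dvd_rfl)

/-- `C_U(K) = 1`. -/
theorem U_inf_centralizer_K (c : Ctx M K U Ms R H r) :
    U ⊓ Subgroup.centralizer (K : Set G) = ⊥ := by
  obtain ⟨k, hk, hk1⟩ : ∃ k ∈ K, k ≠ 1 := by
    by_contra hcon
    push Not at hcon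
    apply c.hK1
    rw [eq_bot_iff]
    intro x hx
    rw [Subgroup.mem_bot]
    exact hcon x hx
  rw [← centralizer_singleton_eq_of_prime c.card_K_prime hk hk1]
  exact Cfsg.Agent.Lib.H7.BG14u.inf_centralizer_singleton_eq_bot c.hG c.hM c.hKU hk hk1

/-- **`U ≤ H_σ`**. -/
theorem U_le_sigmaCore_H (c : Ctx M K U Ms R H r) : U ≤ sigmaCore H := by
  apply Cfsg.Agent.Lib.H20.BGT.le_sigmaCore_of_isPiCard c.hG c.hH c.U_le_H
  intro s hs hsU
  by_contra hsσ
  haveI hsF : Fact s.Prime := ⟨hs⟩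
  have hnot := Cfsg.Agent.Lib.H7.BG14.not_mem_sigma_kappa_of_isSigmaDecomposition c.hG c.hM c.hKU
    hs hsU
  set Q := piCoreOf {s} U with hQ
  have hQU : Q ≤ U := piCoreOf_le _ _
  have hQp : IsPGroup s Q := isPGroup_piCoreOf_singleton s U
  have hQ1 : Q ≠ ⊥ := piCoreOf_singleton_ne_bot c.nil_U hsU
  have hKQ : K ≤ Subgroup.normalizer (Q : Set G) :=
    c.hKU.normal.trans (normalizer_le_normalizer_piCoreOf {s} U)
  have hfix : Q ⊓ Subgroup.centralizer (K : Set G) = ⊥ := by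
    rw [eq_bot_iff, ← c.U_inf_centralizer_K]
    exact inf_le_inf_right _ hQU
  have hQH : Q ≤ H := hQU.trans c.U_le_H
  have hne := c.cent_ne_bot_of_frob hQH hQ1 hKQ hfix (by
    intro q hq hd
    rw [Cfsg.Agent.Lib.H8.BG12.prime_eq_of_dvd_card_pGroup hQp hq hd]
    exact hsσ)
  obtain ⟨X, hXQ, hXc⟩ := Cfsg.Agent.Lib.H7.BG13t.exists_le_card_eq_prime hQp hQ1
  have hneX : sigmaCore H ⊓ Subgroup.centralizer (X : Set G) ≠ ⊥ := by
    intro h
    apply hne
    rw [eq_bot_iff, ← h]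
    exact inf_le_inf_left _ (Subgroup.centralizer_le hXQ)
  have h1 := c.not_pRankLE_one hsσ (hXQ.trans hQH) hXc hneX
  have hU3 := Cfsg.Agent.Lib.H20.BGT.uniq3 c.hG
  have h2 : PRankLE s 2 ↥H := by
    by_contra h
    exact hsσ (alpha_subset_sigma c.hG hU3 c.hH ⟨hs, h⟩)
  have hτ : s ∈ tau2 H := ⟨hs, hsσ, h2, h1⟩
  have hsM : s ∣ Nat.card ↥M := hsU.trans (Subgroup.card_dvd_of_le c.U_le_M)
  refine c.false_of_tau2 hτ hnot.1 ?_
  intro hsMs
  have := c.eq_p_of_mem_sigma_Ms hs hsMs hsM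
  rw [this] at hsU
  exact c.p_not_dvd_card_U hsU

end Ctx

end Cfsg.Agent.Lib.H16.BG157
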