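import Mathlib
import Cfsg.Agent.Lib.H16.BG157c
import Cfsg.Agent.Lib.H7.BG14w
import Cfsg.Agent.Lib.H19.BG13i
import Cfsg.Agent.S1352
import Cfsg.Agent.S1364
import Cfsg.Agent.S1415
import Cfsg.Agent.S1420
import Cfsg.Agent.S1425

/-!
# BG Theorem 15.7 (S1435), part d: `N_H(U) ⊄ M`, `K ≤ F(H ∩ M*)`, `H = H_σ (H ∩ M*)` (helper16)
-/

set_option autoImplicit false
set_option linter.style.haveILetI false
set_option linter.unusedSectionVars false
set_option linter.unusedVariables false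

open Cfsg
open Cfsg.Agent.Lib.H16.BG
open Cfsg.Agent.Lib.H7.BG7
open Cfsg.Agent.Lib.H7.BG10
open Cfsg.Agent.Lib.H20.BGS
open Cfsg.Agent.Lib.H19 (IsPiCard)
open Cfsg.Agent.Lib.H1 (CoprimeAction)
open scoped Pointwise

namespace Cfsg.Agent.Lib.H16.BG157

open Cfsg.Agent.Lib.H7.BG147

universe u
variable {G : Type u} [Group G] [Finite G]

local notation:max "cj(" g ", " X ")" => Subgroup.map (MulEquiv.toMonoidHom (MulAut.conj g)) X

/-- normalizers grow in nilpotent subgroups. -/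
theorem exists_mem_normalizer_not_mem_of_nilpotent {D P : Subgroup G}
    (hP : Group.IsNilpotent ↥P) (h : D < P) :
    ∃ x ∈ P, x ∈ Subgroup.normalizer (D : Set G) ∧ x ∉ D := by
  have hlt : D.subgroupOf P < ⊤ := by
    rw [lt_top_iff_ne_top]
    intro htop
    rw [Subgroup.subgroupOf_eq_top] at htop
    exact h.not_ge htop
  have := Group.normalizerCondition_of_isNilpotent (G := P) _ hlt
  obtain ⟨x, hxn, hxD⟩ := SetLike.exists_of_lt this
  rw [← Subgroup.subgroupOf_normalizer_eq h.le, Subgroup.mem_subgroupOf] at hxn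
  rw [Subgroup.mem_subgroupOf] at hxD
  exact ⟨x, x.2, hxn, hxD⟩

theorem exists_ne_one_of_ne_bot {K : Subgroup G} (h : K ≠ ⊥) : ∃ k ∈ K, k ≠ 1 := by
  by_contra hcon
  push Not at hcon
  apply h
  rw [eq_bot_iff]
  intro x hx
  rw [Subgroup.mem_bot]
  exact hcon x hx

namespace Ctx

variable {M K U Ms R H : Subgroup G} {r : ℕ}

/-- `K ∩ H_σ = 1`. -/
theorem K_inf_sigmaCore_H (c : Ctx M K U Ms R H r) : K ⊓ sigmaCore H = ⊥ := by
  rw [eq_bot_iff, ← c.cent_K]
  intro x hx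
  refine Subgroup.mem_inf.2 ⟨hx.2, ?_⟩
  have hKab : ∀ a b : ↥K, a * b = b * a := by
    haveI := c.hKU.cyclic
    letI : CommGroup ↥K := IsCyclic.commGroup
    exact fun a b => mul_comm a b
  rw [Subgroup.mem_centralizer_iff]
  intro k hk
  exact congrArg Subtype.val (hKab ⟨k, hk⟩ ⟨x, hx.1⟩)

/-- **(b)** `N_H(U) ⊄ M`. -/
theorem not_normalizer_le (c : Ctx M K U Ms R H r) :
    ¬ H ⊓ Subgroup.normalizer (U : Set G) ≤ M := by
  intro h
  have hN : Subgroup.normalizer (U : Set G) ≤ U ⊔ K := by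
    have h1 : Subgroup.normalizer (U : Set G) ≤ M ⊓ H :=
      le_inf ((le_inf c.normalizer_U_le le_rfl).trans h) c.normalizer_U_le
    rwa [c.M_inf_H] at h1
  have hUV : U ≤ sigmaCore H := c.U_le_sigmaCore_H
  have hVN : sigmaCore H ⊓ Subgroup.normalizer (U : Set G) ≤ U := by
    intro x hx
    obtain ⟨u, hu, k, hk, hxuk⟩ := Cfsg.Agent.Lib.H1.mem_sup_of_le_normalizer c.hKU.normal (hN hx.2)
    have hkV : k ∈ K ⊓ sigmaCore H := by
      refine Subgroup.mem_inf.2 ⟨hk, ?_⟩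
      have : k = u⁻¹ * x := by rw [hxuk]; group
      rw [this]
      exact (sigmaCore H).mul_mem ((sigmaCore H).inv_mem (hUV hu)) hx.1
    rw [c.K_inf_sigmaCore_H, Subgroup.mem_bot] at hkV
    rw [hxuk, hkV, mul_one]
    exact hu
  by_cases hUV' : U = sigmaCore H
  · have h1 : H ≤ Subgroup.normalizer (U : Set G) := by
      rw [hUV']
      exact Cfsg.Agent.Lib.H20.BGS.le_normalizer_sigmaCore H
    have h2 : H ≤ M := (le_inf le_rfl h1).trans h
    exact c.H_ne_M ((c.hH.le_iff_eq c.hM.1).1 h2).symm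
  · have hlt : U < sigmaCore H := lt_of_le_of_ne hUV hUV'
    obtain ⟨x, hxV, hxN, hxU⟩ := exists_mem_normalizer_not_mem_of_nilpotent c.nil_sigmaCore_H hlt
    exact hxU (hVN (Subgroup.mem_inf.2 ⟨hxV, hxN⟩))

theorem cyclic_star (c : Ctx M K U Ms R H r) :
    IsCyclic ↥(sigmaCore M ⊓ Subgroup.centralizer (K : Set G)) :=
  (Cfsg.Agent.S1364.result c.hG M c.hM K U c.hKU c.hK1).1

/-- `K ≤ (M*)_F`. -/
theorem K_le_fittingHallOf_Ms (c : Ctx M K U Ms R H r) : K ≤ fittingHallOf Ms := by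
  obtain ⟨Us, hUs⟩ := (Cfsg.Agent.S1352.result c.hG Ms c.hMs _ c.cyclic_star c.hKstH).1
  have h := (Cfsg.Agent.S1364.result c.hG Ms c.hMs _ Us hUs c.pair.star_ne).2.2.1
  rw [← c.hKst] at h
  exact h

/-- **(c1)** `K ≤ F(H ∩ M*)`. -/
theorem K_le_fittingOf (c : Ctx M K U Ms R H r) : K ≤ fittingOf (H ⊓ Ms) := by
  set N := fittingHallOf Ms ⊓ H with hN
  have hNle : N ≤ H ⊓ Ms :=
    le_inf inf_le_right (inf_le_left.trans (Cfsg.Agent.Lib.H8.fittingHallOf_le Ms))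
  have hnorm : H ⊓ Ms ≤ Subgroup.normalizer (N : Set G) :=
    Cfsg.Agent.Lib.H19.BG13.le_normalizer_inf'
      (inf_le_right.trans (Cfsg.Agent.Lib.H8.le_normalizer_fittingHallOf Ms))
      (inf_le_left.trans Subgroup.le_normalizer)
  have hnil : Group.IsNilpotent ↥N :=
    isNilpotent_of_le (Cfsg.Agent.Lib.H8.fittingHallOf_isNilpotent Ms) inf_le_left
  exact (le_inf c.K_le_fittingHallOf_Ms c.K_le_H).trans
    (Cfsg.Agent.Lib.H16.BG.le_fittingOf hNle hnorm hnil)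

/-- `N_G(K) ≤ M*`. -/
theorem normalizer_K_le (c : Ctx M K U Ms R H r) : Subgroup.normalizer (K : Set G) ≤ Ms := by
  have hY : K ≤ sigmaCore Ms ⊓ Subgroup.centralizer
      ((sigmaCore M ⊓ Subgroup.centralizer (K : Set G) : Subgroup G) : Set G) := by
    rw [← c.hKst]
  exact normalizer_le_star c.hG c.hMs c.hKstH c.pair.star_ne hY c.card_K_prime

/-- a complement of `H_σ` in `H` is a `σ(H)'`-group. -/
theorem compl_sigma' (c : Ctx M K U Ms R H r) {E : Subgroup G}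
    (hE : IsComplIn E (sigmaCore H) H) :
    ∀ q : ℕ, q.Prime → q ∣ Nat.card ↥E → q ∉ sigma H := by
  intro q hq hd hqσ
  have hU3 := Cfsg.Agent.Lib.H20.BGT.uniq3 c.hG
  have hh := (sigma_core_hall c.hG hU3 c.hH).1
  rw [Cfsg.Agent.Lib.H8.BG12.compl_card_eq_relIndex hE] at hd
  exact hh.2.2 q hq hqσ hd

/-- if some prime of `τ₂(H)` lies in `σ(M*)`, every complement of `H_σ` containing `K` lies in
`M*`. -/
theorem compl_le_Ms_of_tau2 (c : Ctx M K U Ms R H r) {E : Subgroup G}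
    (hE : IsComplIn E (sigmaCore H) H) (hKE : K ≤ E) {s : ℕ} (hτ : s ∈ tau2 H)
    (hsσ : s ∈ sigma Ms) : E ≤ Ms := by
  haveI hsF : Fact s.Prime := ⟨hτ.1⟩
  obtain ⟨A, hAE, hAe, hAc⟩ :=
    Cfsg.Agent.Lib.H16.BGCent.exists_elemAb_sq_le_compl c.hG c.hH hE hτ
  have h18 := Cfsg.Agent.S1418.result c.hG H c.hH E hE s hτ A ⟨hAE, hAe, hAc⟩
  have hAp : IsPGroup s A := IsPGroup.of_card (n := 2) hAc
  have hA1 : A ≠ ⊥ := by
    intro h
    rw [h, Subgroup.card_bot] at hAc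
    have := hsF.out.one_lt
    nlinarith
  obtain ⟨g, hg⟩ := Cfsg.Agent.S1425.result c.hG Ms c.hMs A hA1 (by
    intro q hq hd
    rw [Cfsg.Agent.Lib.H8.BG12.prime_eq_of_dvd_card_pGroup hAp hq hd]
    exact hsσ)
  obtain ⟨E', hE', -⟩ := Cfsg.Agent.Lib.H19.BG13.exists_compl_ge c.hG c.hMs
    (bot_le : (⊥ : Subgroup G) ≤ Ms) (by
      intro q hq hd
      rw [Subgroup.card_bot] at hd
      exact absurd (Nat.dvd_one.1 hd) hq.one_lt.ne')
  have h20 := (Cfsg.Agent.S1420.result c.hG Ms c.hMs E' hE').2.2.1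
  have hnc : ¬ IsCyclic ↥cj(g, A) := by
    intro hc
    exact Cfsg.Agent.Lib.H20.BGT.not_isCyclic_of_elemAb_sq hAe hAc
      (Cfsg.Agent.Lib.H19.BG13.isCyclic_of_map_conj_le hc le_rfl)
  have h1 := h20 s cj(g, A) hsσ (hAp.map _) (hg.trans (Cfsg.Agent.Lib.H20.BGS.sigmaCore_le Ms)) hnc
  rw [Cfsg.Agent.Lib.H16.BG.normalizer_cj, Cfsg.Agent.Lib.H16.BG.cj_le_iff] at h1
  have h2 : E ≤ cj(g⁻¹, Ms) := h18.1.1.trans h1
  have hg' : g⁻¹ ∈ Ms := c.mem_Ms_of_K_le_cj (hKE.trans h2)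
  rwa [Cfsg.Agent.Lib.H16.BG.cj_eq_self_of_mem hg'] at h2

/-- every complement of `H_σ` in `H` containing `K` lies in `M*`. -/
theorem compl_le_Ms (c : Ctx M K U Ms R H r) {E : Subgroup G}
    (hE : IsComplIn E (sigmaCore H) H) (hKE : K ≤ E) : E ≤ Ms := by
  by_cases hex : ∃ s, s ∈ tau2 H ∧ s ∈ sigma Ms
  · obtain ⟨s, hτ, hsσ⟩ := hex
    exact c.compl_le_Ms_of_tau2 hE hKE hτ hsσ
  push Not at hex
  have hp := c.card_K_prime
  haveI hpF : Fact (Nat.card ↥K).Prime := ⟨hp⟩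
  have hU3 := Cfsg.Agent.Lib.H20.BGT.uniq3 c.hG
  have hpσ := c.p_not_mem_sigma_H
  have h1 : PRankLE (Nat.card ↥K) 1 ↥H := by
    by_contra h1
    have h2 : PRankLE (Nat.card ↥K) 2 ↥H := by
      by_contra h
      exact hpσ (alpha_subset_sigma c.hG hU3 c.hH ⟨hp, h⟩)
    exact hex _ ⟨hp, hpσ, h2, h1⟩ c.p_mem_sigma_Ms
  have hEH : E ≤ H := hE.1
  have hE'E : ⁅E, E⁆ ≤ E := by
    rw [Subgroup.commutator_le]
    intro a ha b hb
    exact E.mul_mem (E.mul_mem (E.mul_mem ha hb) (E.inv_mem ha)) (E.inv_mem hb)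
  have hEn : E ≤ Subgroup.normalizer ((⁅E, E⁆ : Subgroup G) : Set G) :=
    Subgroup.normalizer_commutator_ge_left E E
  by_cases hd : Nat.card ↥K ∣ Nat.card ↥(⁅E, E⁆ : Subgroup G)
  · -- `K` is characteristic in the normal Sylow `p`-subgroup of `E'`
    have h15 := (Cfsg.Agent.S1415.result c.hG H c.hH E hE).1
    set P₁ := piCoreOf {Nat.card ↥K} (⁅E, E⁆ : Subgroup G) with hP₁
    have hP₁1 : P₁ ≠ ⊥ := piCoreOf_singleton_ne_bot h15 hd
    have hP₁p : IsPGroup (Nat.card ↥K) P₁ := isPGroup_piCoreOf_singleton _ _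
    have hP₁E : P₁ ≤ E := (piCoreOf_le _ _).trans hE'E
    have hEP₁ : E ≤ Subgroup.normalizer (P₁ : Set G) :=
      hEn.trans (normalizer_le_normalizer_piCoreOf _ _)
    obtain ⟨P, hP, hKP⟩ := SylIn.exists_ge c.isPGroup_K hKE
    have hP₁P : P₁ ≤ P := hP.normal_le hP₁p hP₁E hEP₁
    have hPc : IsCyclic ↥P :=
      Cfsg.Agent.Lib.H7.BG14.isCyclic_of_pRankLE_one c.hG (hP.le.trans hEH) hP.isPGroup h1
    obtain ⟨X, hXP₁, hXc⟩ := Cfsg.Agent.Lib.H7.BG13t.exists_le_card_eq_prime hP₁p hP₁1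
    have hXK : X = K :=
      Cfsg.Agent.Lib.H7.BG14w.eq_of_card_eq_of_le_cyclic hPc (hXP₁.trans hP₁P) hKP hXc
    have hKP₁ : K ≤ P₁ := hXK ▸ hXP₁
    have hEK : E ≤ Subgroup.normalizer (K : Set G) := by
      intro e he
      apply Cfsg.Agent.Lib.H16.BG.mem_normalizer_of_map_conj_le
      have h2 : cj(e, K) ≤ P := by
        have := Cfsg.Agent.Lib.H16.BG.cj_mono e hKP₁
        rw [Cfsg.Agent.Lib.H16.BG.cj_eq_self_of_mem_normalizer (hEP₁ he)] at this
        exact this.trans hP₁P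
      have h3 : cj(e, K) = K :=
        Cfsg.Agent.Lib.H7.BG14w.eq_of_card_eq_of_le_cyclic hPc h2 hKP
          (Cfsg.Agent.Lib.H16.BG.card_cj e K)
      exact h3.le
    exact hEK.trans c.normalizer_K_le
  · -- `K` centralizes `E'`
    have hcop : (Nat.card ↥K).Coprime (Nat.card ↥(⁅E, E⁆ : Subgroup G)) :=
      (Nat.Prime.coprime_iff_not_dvd hp).2 hd
    have hact : CoprimeAction K (⁅E, E⁆ : Subgroup G) :=
      ⟨hKE.trans hEn, hcop, Or.inl (solvable_of_le_ne_top c.hG c.hH.1 c.K_le_H)⟩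
    have hab : IsMulCommutative ↥(⁅E, E⁆ : Subgroup G) :=
      (Cfsg.Agent.S1420.result c.hG H c.hH E hE).2.1
    have hcent : (⁅E, E⁆ : Subgroup G) ≤ Subgroup.centralizer (K : Set G) := by
      by_contra hnc
      set F : Subgroup G := ⁅(⁅E, E⁆ : Subgroup G), K⁆ with hF
      have hdec := Cfsg.Agent.Lib.H1.coprime_commutator_sup_centralizer hact
      have hF1 : F ≠ ⊥ := by
        intro h0
        apply hnc
        rw [← hF, h0, bot_sup_eq] at hdec
        rw [← hdec]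
        exact inf_le_right
      have hfix : F ⊓ Subgroup.centralizer (K : Set G) = ⊥ :=
        Cfsg.Agent.Lib.H19.BG13.commutator_inf_centralizer_eq_bot hact hab
      have hKF : K ≤ Subgroup.normalizer (F : Set G) :=
        Subgroup.normalizer_commutator_ge_right _ K
      have hFE : F ≤ E := hact.commutator_le.trans hE'E
      have hFσ : ∀ q : ℕ, q.Prime → q ∣ Nat.card ↥F → q ∉ sigma H := fun q hq hd' =>
        c.compl_sigma' hE q hq (hd'.trans (Subgroup.card_dvd_of_le hFE))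
      have hne := c.cent_ne_bot_of_frob (hFE.trans hEH) hF1 hKF hfix hFσ
      obtain ⟨s, hs, X, hXF, hXc⟩ := Cfsg.Agent.Lib.H7.BG14u.exists_le_card_prime hF1
      haveI hsF : Fact s.Prime := ⟨hs⟩
      have hXE : X ≤ E := hXF.trans hFE
      have hsσ : s ∉ sigma H := hFσ s hs (by rw [← hXc]; exact Subgroup.card_dvd_of_le hXF)
      have hneX : sigmaCore H ⊓ Subgroup.centralizer (X : Set G) ≠ ⊥ := by
        intro h
        apply hne
        rw [eq_bot_iff, ← h]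
        exact inf_le_inf_left _ (Subgroup.centralizer_le hXF)
      have hr1 := c.not_pRankLE_one hsσ (hXE.trans hEH) hXc hneX
      have hr2 : PRankLE s 2 ↥H := by
        by_contra h
        exact hsσ (alpha_subset_sigma c.hG hU3 c.hH ⟨hs, h⟩)
      have hτ : s ∈ tau2 H := ⟨hs, hsσ, hr2, hr1⟩
      have hsMs : s ∉ sigma Ms := hex s hτ
      by_cases hsM : s ∈ sigma M
      · obtain ⟨A, hAE, hAe, hAc⟩ :=
          Cfsg.Agent.Lib.H16.BGCent.exists_elemAb_sq_le_compl c.hG c.hH hE hτ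
        have h18 := Cfsg.Agent.S1418.result c.hG H c.hH E hE s hτ A ⟨hAE, hAe, hAc⟩
        have hXA : X ≤ A := h18.1.2 X hXE hXc
        have huniq := (h18.2.2 X hXA hXc hneX).2
        have hX1 : X ≠ ⊥ := by
          intro h
          rw [h, Subgroup.card_bot] at hXc
          exact hs.one_lt.ne hXc
        obtain ⟨g, hg⟩ := Cfsg.Agent.S1425.result c.hG M c.hM X hX1 (by
          intro q hq hd'
          rw [hXc] at hd'
          rw [(Nat.prime_dvd_prime_iff_eq hq hs).1 hd']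
          exact hsM)
        obtain ⟨x, hxX, hx1⟩ := exists_ne_one_of_ne_bot hX1
        have hy : g * x * g⁻¹ ∈ sigmaCore M := hg (Cfsg.Agent.Lib.H16.BG.conj_mem_cj hxX)
        have hox : orderOf x = s := by
          have h2 : orderOf x ∣ s := by
            have := orderOf_dvd_natCard (⟨x, hxX⟩ : ↥X)
            rwa [hXc, Subgroup.orderOf_mk] at this
          rcases (Nat.dvd_prime hs).1 h2 with h3 | h3
          · exact absurd (orderOf_eq_one_iff.1 h3) hx1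
          · exact h3
        have hoy : orderOf (g * x * g⁻¹) = s := by
          rw [Cfsg.Agent.Lib.H7.BG147.orderOf_conj_eq, hox]
        have hCy := Cfsg.Agent.Lib.H21.BGP2.centralizer_le_of_P2 c.hG c.hM c.hKU c.hK1 c.hU1 hy hoy
        have hle : Subgroup.centralizer (X : Set G) ≤ cj(g⁻¹, M) := by
          intro z hz
          rw [Cfsg.Agent.Lib.H16.BG.mem_cj_iff, inv_inv]
          apply hCy
          rw [Subgroup.mem_centralizer_iff]
          intro w hw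
          rw [Set.mem_singleton_iff] at hw
          rw [hw]
          have h2 : x * z = z * x := (Subgroup.mem_centralizer_iff.1 hz) x hxX
          calc g * x * g⁻¹ * (g * z * g⁻¹) = g * (x * z) * g⁻¹ := by group
            _ = g * (z * x) * g⁻¹ := by rw [h2]
            _ = g * z * g⁻¹ * (g * x * g⁻¹) := by group
        have h3 := huniq cj(g⁻¹, M) (isCoatom_map_conj c.hM g⁻¹) hle
        exact c.not_conj_M g⁻¹ h3.symm
      · exact c.false_of_tau2 hτ hsM hsMs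
    -- hence `E` centralizes `K`
    refine le_trans ?_ c.centralizer_K_le
    intro e he
    rw [Subgroup.mem_centralizer_iff]
    intro k hk
    set d := e * k * e⁻¹ * k⁻¹ with hd'
    have hdE : d ∈ (⁅E, E⁆ : Subgroup G) := Subgroup.commutator_mem_commutator he (hKE hk)
    have hdk : k * d = d * k := (Subgroup.mem_centralizer_iff.1 (hcent hdE)) k hk
    have hkp : k ^ Nat.card ↥K = 1 := by
      have := pow_card_eq_one' (G := ↥K) (x := ⟨k, hk⟩)
      exact congrArg Subtype.val this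
    have h2 : (d * k) ^ Nat.card ↥K = d ^ Nat.card ↥K := by
      have hcomm : Commute d k := hdk.symm
      rw [hcomm.mul_pow, hkp, mul_one]
    have h3 : (d * k) ^ Nat.card ↥K = 1 := by
      have : d * k = e * k * e⁻¹ := by rw [hd']; group
      rw [this, conj_pow, hkp]; group
    have h4 : d ^ Nat.card ↥K = 1 := by rw [← h2, h3]
    have h5 : d ^ Nat.card ↥(⁅E, E⁆ : Subgroup G) = 1 := by
      have := pow_card_eq_one' (G := ↥(⁅E, E⁆ : Subgroup G)) (x := ⟨d, hdE⟩)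
      exact congrArg Subtype.val this
    have h6 : orderOf d ∣ Nat.gcd (Nat.card ↥K) (Nat.card ↥(⁅E, E⁆ : Subgroup G)) :=
      Nat.dvd_gcd (orderOf_dvd_of_pow_eq_one h4) (orderOf_dvd_of_pow_eq_one h5)
    rw [hcop.gcd_eq_one, Nat.dvd_one] at h6
    have hd1 : d = 1 := orderOf_eq_one_iff.1 h6
    have : e * k = d * k * e := by rw [hd']; group
    rw [this, hd1, one_mul]

/-- **(c2)** `H ∩ M*` is a complement to `H_σ` in `H`. -/
theorem isComplIn (c : Ctx M K U Ms R H r) : IsComplIn (H ⊓ Ms) (sigmaCore H) H := by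
  obtain ⟨E, hE, hKE⟩ := Cfsg.Agent.Lib.H19.BG13.exists_compl_ge c.hG c.hH c.K_le_H c.K_sigma'
  have hEMs := c.compl_le_Ms hE hKE
  refine ⟨inf_le_left, Cfsg.Agent.Lib.H20.BGS.sigmaCore_le H, ?_, ?_⟩
  · rw [eq_bot_iff, ← c.sigmaCore_H_inf_Ms]
    intro x hx
    exact Subgroup.mem_inf.2 ⟨hx.2, hx.1.2⟩
  · intro h hh
    obtain ⟨e, he, b, hb, hhe⟩ := hE.2.2.2 h hh
    exact ⟨e, Subgroup.mem_inf.2 ⟨hE.1 he, hEMs he⟩, b, hb, hhe⟩

end Ctx

end Cfsg.Agent.Lib.H16.BG157
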