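import Mathlib
import Cfsg.Agent.Lib.H16.BGCentA
import Cfsg.Agent.S1378
import Cfsg.Agent.S1409

/-!
# BG 14.2(c), last clause (helper16)

`p ∈ τ₁(M)`, `P ≤ E` of order `p` with `C_{M_σ}(P) ≠ 1`, `M*` a maximal subgroup containing
`N_G(P)`: then `p ∈ σ(M*)`.
-/

set_option autoImplicit false
set_option linter.style.haveILetI false
set_option linter.unusedSectionVars false
set_option linter.unusedVariables false
open Cfsg
open Cfsg.Agent.Lib.H16.BG
open Cfsg.Agent.Lib.H7.BG7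
open Cfsg.Agent.Lib.H7.BG10
open Cfsg.Agent.Lib.H19 (IsPiCard)
open Cfsg.Agent.Lib.H1 (CoprimeAction)

namespace Cfsg.Agent.Lib.H16.BGCent

universe u
variable {G : Type u} [Group G] [Finite G]

local notation:max "cj(" g ", " X ")" => Subgroup.map (MulEquiv.toMonoidHom (MulAut.conj g)) X

/-- `σ` of a conjugate. -/
theorem mem_sigma_of_mem_sigma_conj {p : ℕ} {M : Subgroup G} {g : G} (h : p ∈ sigma cj(g, M)) :
    p ∈ sigma M := by
  have h1 := Cfsg.Agent.Lib.H7.BG13.mem_sigma_conj h g⁻¹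
  rwa [Cfsg.Agent.Lib.H10.map_conj_map_conj, inv_mul_cancel, Cfsg.Agent.Lib.H10.map_conj_one] at h1

/-- a maximal subgroup of `p`-rank one has no conjugate containing an `E_{p²}`. -/
theorem not_le_conj_of_pRankLE_one (hG : IsMinSimpleOddOrder G) {M : Subgroup G} {p : ℕ}
    [hp : Fact p.Prime] (hr : PRankLE p 1 ↥M) {B : Subgroup G}
    (hBe : IsElementaryAbelian p B) (hBc : Nat.card B = p ^ 2) (g : G) : ¬ B ≤ cj(g, M) := by
  intro hB
  have h1 : cj(g⁻¹, B) ≤ M := by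
    have := Subgroup.map_mono (f := (MulAut.conj g⁻¹).toMonoidHom) hB
    rwa [Cfsg.Agent.Lib.H10.map_conj_map_conj, inv_mul_cancel,
      Cfsg.Agent.Lib.H10.map_conj_one] at this
  have h2 : IsElementaryAbelian p cj(g⁻¹, B) :=
    Cfsg.Agent.Lib.H10.BG131b.isElementaryAbelian_map_conj hBe g⁻¹
  have h3 : Nat.card ↥cj(g⁻¹, B) = p ^ 2 := by
    rw [← hBc]
    exact Subgroup.card_map_of_injective (MulAut.conj g⁻¹).injective
  apply not_pRankLE_of_elemAb h1 h2 _ hr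
  rw [h3, pow_one]
  have := hp.out.one_lt
  nlinarith

/-- **SIG** (BG 14.2(c), last clause). -/
theorem mem_sigma_of_normalizer_le (hG : IsMinSimpleOddOrder G) {M : Subgroup G}
    (hM : IsCoatom M) {E : Subgroup G} (hE : IsComplIn E (sigmaCore M) M)
    {p : ℕ} (hp1 : p ∈ tau1 M) {P : Subgroup G} (hPE : P ≤ E) (hPc : Nat.card P = p)
    (hK : sigmaCore M ⊓ Subgroup.centralizer (P : Set G) ≠ ⊥)
    {Ms : Subgroup G} (hMs : IsCoatom Ms) (hN : Subgroup.normalizer (P : Set G) ≤ Ms) :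
    p ∈ sigma Ms := by
  by_contra hpσ
  have hU := Cfsg.Agent.Lib.H20.BGT.uniq3 hG
  haveI hpF : Fact p.Prime := ⟨hp1.1⟩
  have hPp : IsPGroup p P := IsPGroup.of_card (n := 1) (by rw [hPc, pow_one])
  have hP1 : P ≠ ⊥ := by
    intro h; rw [h, Subgroup.card_bot] at hPc; exact hpF.out.one_lt.ne hPc
  have hPMs : P ≤ Ms := Subgroup.le_normalizer.trans hN
  -- (1) `p ∈ τ₂(M*)`, `p` not ideal
  obtain ⟨⟨hr2, hr1⟩, hnid, -⟩ := Cfsg.Agent.S1409.result hG Ms hMs p hpσ P hPc hN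
  have hp2 : p ∈ tau2 Ms := ⟨hpF.out, hpσ, hr2, hr1⟩
  -- (2) a subgroup `X` of prime order `q` of `C_{M_σ}(P)`
  obtain ⟨q, hq, hqd⟩ := Nat.exists_prime_and_dvd
    (fun h => hK (Subgroup.card_eq_one.1 h))
  haveI hqF : Fact q.Prime := ⟨hq⟩
  obtain ⟨X, hXK, hXc⟩ := Cfsg.Agent.Lib.H16.BG134.exists_card_eq_prime hqd
  have hXσ : X ≤ sigmaCore M := hXK.trans inf_le_left
  have hXP : X ≤ Subgroup.centralizer (P : Set G) := hXK.trans inf_le_right
  have hXq : IsPGroup q X := IsPGroup.of_card (n := 1) (by rw [hXc, pow_one])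
  obtain ⟨hqσ, ⟨hCX, hCXu⟩, -⟩ := cent_unique hG hM hE hp1 hPE hPc hXσ hXc hXP
  have hXMs : X ≤ Ms := hXP.trans ((Subgroup.centralizer_le_normalizer _).trans hN)
  have hpq : p ≠ q := by
    rintro rfl
    exact hp1.2.1 hqσ
  -- an `E_{p²}` in `M*`
  obtain ⟨E₀, hE₀, -⟩ := Cfsg.Agent.Lib.H19.BG13.exists_compl_ge hG hMs hPMs (by
    intro r hr hd
    rw [Cfsg.Agent.Lib.H8.BG12.prime_eq_of_dvd_card_pGroup hPp hr hd]
    exact hpσ)
  obtain ⟨B₀, hB₀E, hB₀e, hB₀c⟩ := exists_elemAb_sq_le_compl hG hMs hE₀ hp2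
  -- (3) `q ∉ σ(M*)`
  have hqσs : q ∉ sigma Ms := by
    intro h
    obtain ⟨g, hg⟩ := (Cfsg.Agent.S1378.result hG).2 M Ms hM hMs ⟨q, hqσ, h⟩
    exact not_le_conj_of_pRankLE_one hG hp1.2.2.2.2 hB₀e hB₀c g (hg ▸ hB₀E.trans hE₀.1)
  -- a complement containing `P` and `X`
  have hPX : P ≤ Subgroup.normalizer (X : Set G) :=
    (le_centralizer_comm hXP).trans (Subgroup.centralizer_le_normalizer _)
  obtain ⟨Es, hEs, hPXEs⟩ := Cfsg.Agent.Lib.H19.BG13.exists_compl_ge hG hMs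
    (sup_le hPMs hXMs) (by
    intro r hr hd
    have h1 := hd.trans (Cfsg.Agent.Lib.H19.card_sup_dvd_mul_of_le_normalizer hPX)
    rcases (Nat.Prime.dvd_mul hr).1 h1 with h2 | h2
    · rw [Cfsg.Agent.Lib.H8.BG12.prime_eq_of_dvd_card_pGroup hPp hr h2]; exact hpσ
    · rw [Cfsg.Agent.Lib.H8.BG12.prime_eq_of_dvd_card_pGroup hXq hr h2]; exact hqσs)
  have hPEs : P ≤ Es := le_sup_left.trans hPXEs
  have hXEs : X ≤ Es := le_sup_right.trans hPXEs
  obtain ⟨B, hBE, hBe, hBc⟩ := exists_elemAb_sq_le_compl hG hMs hEs hp2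
  have hBMs : B ≤ Ms := hBE.trans hEs.1
  have hBp : IsPGroup p B := IsPGroup.of_card (n := 2) hBc
  have hB1 : B ≠ ⊥ := by
    intro h
    rw [h, Subgroup.card_bot] at hBc
    have := hpF.out.one_lt
    nlinarith
  have h18 := Cfsg.Agent.S1418.result hG Ms hMs Es hEs p hp2 B ⟨hBE, hBe, hBc⟩
  have hEsB : Es ≤ Subgroup.normalizer (B : Set G) := h18.1.1
  have hPB : P ≤ B := h18.1.2 P hPEs hPc
  -- (4) `X` does not centralize `B`
  have hXB : ¬ B ≤ Subgroup.centralizer (X : Set G) := by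
    intro h
    have hBM : B ≤ M := h.trans hCX
    have := not_le_conj_of_pRankLE_one hG hp1.2.2.2.2 hBe hBc (1 : G)
    rw [Cfsg.Agent.Lib.H10.map_conj_one] at this
    exact this hBM
  -- (5) `L ≥ N_G(B)`
  have hNtop : Subgroup.normalizer (B : Set G) ≠ ⊤ := normalizer_ne_top_of_isPGroup hG hBp hB1
  obtain ⟨L, hL, hNL⟩ := exists_coatom_ge hNtop
  have hLMs : L ≠ Ms := fun e => h18.2.1.2.2 (e ▸ hNL)
  have hEsL : Es ≤ L := hEsB.trans hNL
  have hBL : B ≤ L := hBE.trans hEsL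
  have hpσL : p ∈ sigma L := by
    by_contra hpσL
    have hp2L : p ∈ tau2 L :=
      Cfsg.Agent.Lib.H20.BGT.mem_tau2_of_elemAb_sq hG hL hpσL hBL hBe hBc
    obtain ⟨EL, hELc, hBEL⟩ := Cfsg.Agent.Lib.H19.BG13.exists_compl_ge hG hL hBL (by
      intro r hr hd
      rw [Cfsg.Agent.Lib.H8.BG12.prime_eq_of_dvd_card_pGroup hBp hr hd]
      exact hpσL)
    exact (Cfsg.Agent.S1418.result hG L hL EL hELc p hp2L B ⟨hBEL, hBe, hBc⟩).2.1.2.2 hNL
  have hBσ : B ≤ sigmaCore L :=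
    Cfsg.Agent.Lib.H20.BGT.le_sigmaCore_of_isPiCard hG hL hBL
      (isPiCard_of_isPGroup hpF.out hpσL hBp)
  have hpβ : p ∉ beta L := fun h => hnid h.2
  have hXL : X ≤ L := hXEs.trans hEsL
  have hPσL : P ≤ sigmaCore L := hPB.trans hBσ
  -- (6) `q ∉ σ(L)`
  have hqσL : q ∉ sigma L := by
    intro h
    obtain ⟨g, hg⟩ := (Cfsg.Agent.S1378.result hG).2 M L hM hL ⟨q, hqσ, h⟩
    rw [hg] at hpσL
    exact hp1.2.1 (mem_sigma_of_mem_sigma_conj hpσL)
  have hLM : L ≠ M := fun e => hp1.2.1 (e ▸ hpσL)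
  have hqL : q ∣ Nat.card ↥L := by rw [← hXc]; exact Subgroup.card_dvd_of_le hXL
  obtain ⟨EL, hELc, hXEL⟩ := Cfsg.Agent.Lib.H19.BG13.exists_compl_ge hG hL hXL (by
    intro r hr hd
    rw [Cfsg.Agent.Lib.H8.BG12.prime_eq_of_dvd_card_pGroup hXq hr hd]
    exact hqσL)
  have hPX' : P ≤ Subgroup.centralizer (X : Set G) := le_centralizer_comm hXP
  -- (7) the type of `q` in `L`
  rcases Cfsg.Agent.Lib.H19.BG13.prime_type hG hL hq hqL with h | h | h | h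
  · exact hqσL h
  · -- `q ∈ τ₁(L)`: BG 13.5 for `L`
    obtain ⟨-, ⟨hCP, hCPu⟩, -⟩ := cent_unique hG hL hELc h hXEL hXc hPσL hPc hPX'
    exact hLMs (hCPu Ms hMs ((Subgroup.centralizer_le_normalizer _).trans hN)).symm
  · -- `q ∈ τ₂(L)`
    obtain ⟨A, hAE, hAe, hAc⟩ := exists_elemAb_sq_le_compl hG hL hELc h
    have h18L := Cfsg.Agent.S1418.result hG L hL EL hELc q h A ⟨hAE, hAe, hAc⟩
    have hXA : X ≤ A := h18L.1.2 X hXEL hXc
    have hne : sigmaCore L ⊓ Subgroup.centralizer (X : Set G) ≠ ⊥ := by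
      intro h0
      apply hP1
      rw [eq_bot_iff, ← h0]
      exact le_inf hPσL hPX'
    obtain ⟨hCXL, -⟩ := h18L.2.2 X hXA hXc hne
    exact hLM (hCXu L hL hCXL)
  · -- `q ∈ τ₃(L)`
    have hqβ : q ∉ beta L := fun h' => hqσL (alpha_subset_sigma hG hU hL h'.1)
    have hXL' : X ≤ ⁅L, L⁆ := Cfsg.Agent.Lib.H19.BG13.tau3_le_commutator hG hL h hXq hXL
    have hσL' : sigmaCore L ≤ ⁅L, L⁆ := sigmaCore_le_commutator hG hU hL
    apply hXB
    exact Cfsg.Agent.Lib.H19.BG13.le_centralizer_of_beta' hG hL hXL' (hBσ.trans hσL')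
      (hXEs.trans hEsB) (Cfsg.Agent.Lib.H19.BG13.isPGroup_coprime_card hpq.symm hXq hBp)
      (by
        intro r hr hd
        rw [Cfsg.Agent.Lib.H8.BG12.prime_eq_of_dvd_card_pGroup hXq hr hd]
        exact hqβ)
      (by
        intro r hr hd
        rw [Cfsg.Agent.Lib.H8.BG12.prime_eq_of_dvd_card_pGroup hBp hr hd]
        exact hpβ)

end Cfsg.Agent.Lib.H16.BGCent
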