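import Mathlib
import Cfsg.Agent.Lib.H8.BQ0

/-!
# S4719 Part II, piece QA (helper16): `|H/X| * |X| = |H|` for `X ≤ H ≤ N_Γ(X)`
-/

set_option autoImplicit false

universe u

namespace Cfsg.Agent.Lib.H16.BQ

open Subgroup Cfsg.Agent.Lib.H8.BQ

/-- QA. `|H/X| * |X| = |H|`. -/
theorem card_qImg {Γ : Type u} [Group Γ] [Finite Γ] (X H : Subgroup Γ) (hXH : X ≤ H)
    (hHX : H ≤ normalizer (X : Set Γ)) :
    Nat.card (qImg X H) * Nat.card X = Nat.card H := by
  have h1 : Nat.card (qImg X H) = X.relIndex H := by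
    unfold qImg qMap
    rw [← relIndex_ker, QuotientGroup.ker_mk', relIndex_subgroupOf hHX]
  have h2 := relIndex_mul_relIndex ⊥ X H bot_le hXH
  rw [relIndex_bot_left, relIndex_bot_left] at h2
  rw [h1, mul_comm]
  exact h2

end Cfsg.Agent.Lib.H16.BQ
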