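import Mathlib

/-!
# S2154 (Borel–Tits, architect helper29), piece CLOSED
-/
set_option autoImplicit false

namespace Cfsg.Agent.Lib.H16.BT

variable {ι : Type*} [Fintype ι] [DecidableEq ι] {F : Type*} [Field F]

/-- unipotent of step `≥ 1` for the grading `ω` (verbatim copy of the definition in the
signature file `tools/blueprints/S2154_sigs.lean`) -/
def UW (ω : ι → ℝ) : Set (Matrix ι ι F) :=
  {M | (∀ a, M a a = 1) ∧ ∀ a b, a ≠ b → M a b ≠ 0 → ω b + 1 ≤ ω a}

/-- definition-free form of `isClosed_UW` -/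
theorem isClosed_UW_raw (l : ℕ) (ω : (Fin l → ℝ) → ι → ℝ) (hω : ∀ a, Continuous fun x => ω x a)
    (M : Matrix ι ι F) :
    IsClosed {x : Fin l → ℝ |
      (∀ a, M a a = 1) ∧ ∀ a b, a ≠ b → M a b ≠ 0 → ω x b + 1 ≤ ω x a} := by
  have hset : {x : Fin l → ℝ |
      (∀ a, M a a = 1) ∧ ∀ a b, a ≠ b → M a b ≠ 0 → ω x b + 1 ≤ ω x a} =
      {_x : Fin l → ℝ | ∀ a, M a a = 1} ∩
        ⋂ a, ⋂ b, {x : Fin l → ℝ | a ≠ b → M a b ≠ 0 → ω x b + 1 ≤ ω x a} := by
    ext x
    simp only [Set.mem_ofPred_eq, Set.mem_inter_iff, Set.mem_iInter]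
  rw [hset]
  apply IsClosed.inter isClosed_const
  apply isClosed_iInter
  intro a
  apply isClosed_iInter
  intro b
  by_cases h1 : a ≠ b
  · by_cases h2 : M a b ≠ 0
    · have : {x : Fin l → ℝ | a ≠ b → M a b ≠ 0 → ω x b + 1 ≤ ω x a} =
          {x : Fin l → ℝ | ω x b + 1 ≤ ω x a} := by
        ext x
        simp only [Set.mem_ofPred_eq]
        exact ⟨fun h => h h1 h2, fun h _ _ => h⟩
      rw [this]
      exact isClosed_le ((hω b).add continuous_const) (hω a)
    · have : {x : Fin l → ℝ | a ≠ b → M a b ≠ 0 → ω x b + 1 ≤ ω x a} = Set.univ := by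
        ext x
        simp only [Set.mem_ofPred_eq, Set.mem_univ, iff_true]
        exact fun _ h => absurd h h2
      rw [this]
      exact isClosed_univ
  · have : {x : Fin l → ℝ | a ≠ b → M a b ≠ 0 → ω x b + 1 ≤ ω x a} = Set.univ := by
      ext x
      simp only [Set.mem_ofPred_eq, Set.mem_univ, iff_true]
      exact fun h => absurd h h1
    rw [this]
    exact isClosed_univ

/-- CLOSED : the set of parameters `x` with `M ∈ UW (ω x)` is closed. -/
theorem isClosed_UW (l : ℕ) (ω : (Fin l → ℝ) → ι → ℝ) (hω : ∀ a, Continuous fun x => ω x a)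
    (M : Matrix ι ι F) :
    IsClosed {x : Fin l → ℝ | M ∈ UW (ω x)} :=
  isClosed_UW_raw l ω hω M

end Cfsg.Agent.Lib.H16.BT
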