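import Mathlib

/-!
# S2154 (Borel–Tits, architect helper29), piece OPT
-/
set_option autoImplicit false

namespace Cfsg.Agent.Lib.H16.BT

/-- a continuous coercive function on `Fin l → ℝ` attains its minimum on a nonempty closed set -/
theorem exists_min (l : ℕ) (Q : (Fin l → ℝ) → ℝ) (hQc : Continuous Q) (hQ : ∀ x j, (x j) ^ 2 ≤ Q x)
    (S : Set (Fin l → ℝ)) (hS : IsClosed S) (hne : S.Nonempty) : ∃ x ∈ S, ∀ y ∈ S, Q x ≤ Q y := by
  obtain ⟨x₀, hx₀⟩ := hne
  set K : Set (Fin l → ℝ) := S ∩ {x | Q x ≤ Q x₀} with hK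
  have hKclosed : IsClosed K := hS.inter (isClosed_le hQc continuous_const)
  have hKbdd : Bornology.IsBounded K := by
    rw [Metric.isBounded_iff_subset_closedBall (0 : Fin l → ℝ)]
    refine ⟨Real.sqrt (Q x₀), ?_⟩
    rintro x ⟨_, hx⟩
    rw [Metric.mem_closedBall, dist_zero_right, pi_norm_le_iff_of_nonneg (Real.sqrt_nonneg _)]
    intro j
    rw [Real.norm_eq_abs]
    exact Real.abs_le_sqrt (le_trans (hQ x j) hx)
  have hKcpt : IsCompact K := Metric.isCompact_of_isClosed_isBounded hKclosed hKbdd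
  have hKne : K.Nonempty := ⟨x₀, hx₀, show Q x₀ ≤ Q x₀ from le_refl _⟩
  obtain ⟨x, hxK, hmin⟩ := hKcpt.exists_isMinOn hKne hQc.continuousOn
  refine ⟨x, hxK.1, ?_⟩
  intro y hy
  by_cases hle : Q y ≤ Q x₀
  · exact hmin ⟨hy, hle⟩
  · push Not at hle
    exact le_trans hxK.2 hle.le

end Cfsg.Agent.Lib.H16.BT
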