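import Mathlib
import Cfsg.Prelude
import Cfsg.Agent.Lib.H16.ChiefRankA
import Cfsg.Agent.Lib.H16.ClassTwo
import Cfsg.Agent.Lib.H16.NarrowB

/-! Chief factors inside a normal `p`-subgroup of rank at most two (helper16): the quotient by a
central elementary abelian subgroup containing all elements of order `p`. -/

set_option autoImplicit false

namespace Cfsg.Agent.Lib.H16.ChiefRank

open scoped commutatorElement

universe u

variable {G : Type u} [Group G] [Finite G] {p : ℕ} [hp : Fact p.Prime]

theorem card_map_mk_mul {Q N : Subgroup G} [N.Normal] (hNQ : N ≤ Q) :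
    Nat.card (Q.map (QuotientGroup.mk' N)) * Nat.card N = Nat.card Q := by
  have h1 := Narrow.card_map_mul_card_inf_ker (QuotientGroup.mk' N) Q
  rw [QuotientGroup.ker_mk', inf_eq_right.mpr hNQ] at h1
  exact h1

/-- If `R ≤ Q` is central in `Q`, has exponent `p` and order at most `p ^ 2`, and contains every
element of `Q` of order dividing `p`, then `Q / N` has rank at most two for every normal
subgroup `N ≤ R` of `G`. -/
theorem rankTwo_quotient (hp2 : p ≠ 2) {Q R N : Subgroup G} [hNn : N.Normal] (hRQ : R ≤ Q)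
    (hRc : ∀ r ∈ R, ∀ x ∈ Q, r * x = x * r) (hRexp : ∀ r ∈ R, r ^ p = 1)
    (hRcard : Nat.card R ≤ p ^ 2) (hΩ : ∀ x ∈ Q, x ^ p = 1 → x ∈ R) (hNR : N ≤ R) :
    RankTwo p (Q.map (QuotientGroup.mk' N)) := by
  intro E' hE'Q hE'c hE'e
  have hodd : Odd p := hp.out.odd_of_ne_two hp2
  set E : Subgroup G := E'.comap (QuotientGroup.mk' N) with hE
  have hEQ : E ≤ Q := by
    have h1 : E ≤ (Q.map (QuotientGroup.mk' N)).comap (QuotientGroup.mk' N) :=
      Subgroup.comap_mono hE'Q
    rw [QuotientGroup.comap_map_mk', sup_eq_right.mpr (hNR.trans hRQ)] at h1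
    exact h1
  have hNE : N ≤ E := by
    intro n hn
    rw [hE, Subgroup.mem_comap, QuotientGroup.mk'_apply, (QuotientGroup.eq_one_iff n).mpr hn]
    exact E'.one_mem
  have hcardE : Nat.card E = Nat.card E' * Nat.card N := by
    have h1 := card_map_mk_mul hNE
    rw [hE, Subgroup.map_comap_eq_self_of_surjective (QuotientGroup.mk'_surjective N)] at h1
    rw [hE]
    exact h1.symm
  -- the `p`-th power map `E → N`
  have hpowN : ∀ e ∈ E, e ^ p ∈ N := by
    intro e he
    rw [← QuotientGroup.eq_one_iff]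
    have := hE'e _ he
    simpa using this
  have hcommN : ∀ e ∈ E, ∀ f ∈ E, (e * f)⁻¹ * (f * e) ∈ N := by
    intro e he f hf
    rw [← QuotientGroup.eq_one_iff]
    have h1 := hE'c _ he _ hf
    have h2 : (((e * f)⁻¹ * (f * e) : G) : G ⧸ N) =
        ((QuotientGroup.mk' N) e * (QuotientGroup.mk' N) f)⁻¹ *
          ((QuotientGroup.mk' N) f * (QuotientGroup.mk' N) e) := by simp
    rw [h2, h1, inv_mul_cancel]
  have hmulpow : ∀ e ∈ E, ∀ f ∈ E, (e * f) ^ p = e ^ p * f ^ p := by
    intro e he f hf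
    have hc := hcommN e he f hf
    have hcR := hNR hc
    have h : f * e = e * f * ((e * f)⁻¹ * (f * e)) := by group
    exact mul_pow_eq_of_central h (hRc _ hcR e (hEQ he)) (hRc _ hcR f (hEQ hf)) hodd
      (hRexp _ hcR)
  let φ : ↥E →* ↥N := MonoidHom.mk' (fun e => ⟨(e : G) ^ p, hpowN e e.2⟩) (by
    intro a b
    apply Subtype.ext
    exact hmulpow a a.2 b b.2)
  have hker : Nat.card φ.ker ≤ Nat.card R := by
    have hmem : ∀ x : φ.ker, ((x : ↥E) : G) ∈ R := by
      intro x
      apply hΩ _ (hEQ x.1.2)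
      have := x.2
      rw [MonoidHom.mem_ker] at this
      exact congrArg Subtype.val this
    apply Nat.card_le_card_of_injective (fun x : φ.ker => (⟨((x : ↥E) : G), hmem x⟩ : ↥R))
    intro x y hxy
    have := congrArg Subtype.val hxy
    exact Subtype.ext (Subtype.ext this)
  have hrange : Nat.card φ.range ≤ Nat.card N := Subgroup.card_le_card_group _
  have h1 : Nat.card φ.ker * Nat.card φ.range = Nat.card E := by
    rw [← Subgroup.index_ker]
    exact Subgroup.card_mul_index _
  have hNpos : 0 < Nat.card N := Nat.card_pos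
  have h2 : Nat.card E' * Nat.card N ≤ p ^ 2 * Nat.card N := by
    rw [← hcardE, ← h1]
    exact Nat.mul_le_mul (hker.trans hRcard) hrange
  exact Nat.le_of_mul_le_mul_right h2 hNpos

/-- The chief factor `Q / K` passes to the quotient by a normal subgroup `N ≤ K`. -/
theorem chief_quotient {Q K N : Subgroup G} [hQn : Q.Normal] [hKn : K.Normal] [hNn : N.Normal]
    (hNK : N ≤ K) (hlt : K < Q)
    (hchief : ∀ L : Subgroup G, L.Normal → K ≤ L → L ≤ Q → L = K ∨ L = Q) :
    K.map (QuotientGroup.mk' N) < Q.map (QuotientGroup.mk' N) ∧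
    (∀ L : Subgroup (G ⧸ N), L.Normal → K.map (QuotientGroup.mk' N) ≤ L →
      L ≤ Q.map (QuotientGroup.mk' N) →
      L = K.map (QuotientGroup.mk' N) ∨ L = Q.map (QuotientGroup.mk' N)) ∧
    (K.map (QuotientGroup.mk' N)).relIndex (Q.map (QuotientGroup.mk' N)) = K.relIndex Q := by
  have hπs := QuotientGroup.mk'_surjective N
  have hcK : (K.map (QuotientGroup.mk' N)).comap (QuotientGroup.mk' N) = K := by
    rw [QuotientGroup.comap_map_mk', sup_eq_right.mpr hNK]
  have hcQ : (Q.map (QuotientGroup.mk' N)).comap (QuotientGroup.mk' N) = Q := by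
    rw [QuotientGroup.comap_map_mk', sup_eq_right.mpr (hNK.trans hlt.le)]
  refine ⟨?_, ?_, ?_⟩
  · refine lt_of_le_of_ne (Subgroup.map_mono hlt.le) (fun h => ?_)
    have : K = Q := by rw [← hcK, h, hcQ]
    exact hlt.ne this
  · intro L hL hKL hLQ
    have h1 : (L.comap (QuotientGroup.mk' N)).Normal := hL.comap _
    have h2 : K ≤ L.comap (QuotientGroup.mk' N) := by
      rw [← hcK]; exact Subgroup.comap_mono hKL
    have h3 : L.comap (QuotientGroup.mk' N) ≤ Q := by
      rw [← hcQ]; exact Subgroup.comap_mono hLQ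
    rcases hchief _ h1 h2 h3 with h | h
    · left
      rw [← Subgroup.map_comap_eq_self_of_surjective hπs L, h]
    · right
      rw [← Subgroup.map_comap_eq_self_of_surjective hπs L, h]
  · rw [← Subgroup.relIndex_comap, hcK]

end Cfsg.Agent.Lib.H16.ChiefRank
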