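import Mathlib
import Cfsg.Prelude
import Cfsg.Agent.Lib.H16.ChiefRankB
import Cfsg.Agent.Lib.H16.ChiefRankE

/-! Chief factors inside a normal `p`-subgroup of rank at most two (helper16): main theorem.

For an odd prime `p`, a normal `p`-subgroup `Q` of a finite group `G` without elementary abelian
subgroups of order `p ^ 3`, and a chief factor `Q / K` of `G`, the order of `Q / K` divides
`p ^ 2`. -/

set_option autoImplicit false

namespace Cfsg.Agent.Lib.H16.ChiefRank

open scoped commutatorElement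

universe u

section

variable {G : Type u} [Group G] [Finite G] {p : ℕ} [hp : Fact p.Prime]

/-- The case without normal elementary abelian subgroups of order `p ^ 2`. -/
theorem false_of_no_normal_sq (hp2 : p ≠ 2) {Q K : Subgroup G} [hQn : Q.Normal] [hKn : K.Normal]
    (hQ : IsPGroup p Q) (hrk : RankTwo p Q) (hlt : K < Q)
    (hchief : ∀ L : Subgroup G, L.Normal → K ≤ L → L ≤ Q → L = K ∨ L = Q)
    (hP : ∀ M : Subgroup G, M.Normal → M < Q → M ≤ K)
    (hnoR : ∀ R : Subgroup G, R.Normal → R ≤ Q → (∀ a ∈ R, ∀ b ∈ R, a * b = b * a) →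
      (∀ a ∈ R, a ^ p = 1) → Nat.card R ≠ p ^ 2)
    (hn : ¬ K.relIndex Q ∣ p ^ 2) : False := by
  have hodd : Odd p := hp.out.odd_of_ne_two hp2
  obtain ⟨-, hpow⟩ := chief_elemAb hlt hQ hchief
  -- a maximal normal abelian subgroup
  obtain ⟨A, -, hA⟩ := Finite.exists_le_maximal
    (p := fun A : Subgroup G => A.Normal ∧ A ≤ Q ∧ ∀ a ∈ A, ∀ b ∈ A, a * b = b * a) (a := ⊥)
    ⟨inferInstance, bot_le, fun a ha b hb => by
      rw [Subgroup.mem_bot.mp ha, Subgroup.mem_bot.mp hb]⟩
  obtain ⟨hAn, hAQ, hAc⟩ := hA.prop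
  haveI := hAn
  have hAcyc : IsCyclic ↥A := isCyclic_of_normal_comm hp2 hQ hrk hnoR A hAQ hAc
  have hAcent := central_of_normal_cyclic hp2 hQ hP hpow hAQ hAcyc hn
  -- `Q` is not commutative
  have hQnc : ¬ ∀ x ∈ Q, ∀ y ∈ Q, x * y = y * x := by
    intro hQc
    have hQA : Q ≤ A := hA.le_of_ge ⟨hQn, le_rfl, hQc⟩ hAQ
    obtain ⟨g, hg⟩ := hAcyc.exists_generator
    apply hn
    refine Dvd.dvd.trans ?_ (dvd_pow_self p two_ne_zero)
    apply relIndex_dvd_of_gen (g := (g : G)) (hAQ g.2) (hpow _ (hAQ g.2))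
    intro x hx
    obtain ⟨k, hk⟩ := Subgroup.mem_zpowers_iff.mp (hg ⟨x, hQA hx⟩)
    refine ⟨k, ?_⟩
    have : (g : G) ^ k = x := by
      have := congrArg Subtype.val hk
      simpa using this
    rw [this, inv_mul_cancel]
    exact K.one_mem
  -- the second centre
  set D : Subgroup G := commSub Q A with hD
  have hDn : D.Normal := inferInstance
  have hAD : A ≤ D := le_commSub hAQ
  have hDQ : D ≤ Q := commSub_le Q A
  have hQA : ¬ Q ≤ A := fun h => hQnc (fun x hx y hy => hAc x (h hx) y (h hy))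
  obtain ⟨l, hlQ, hlA, hl⟩ := exists_not_mem_comm_mem (M := A) (L := Q) hQ le_rfl
    Subgroup.le_normalizer hQA
  have hlD : l ∈ D := ⟨hlQ, hl⟩
  have hDnc : ¬ ∀ x ∈ D, ∀ y ∈ D, x * y = y * x := by
    intro hDc
    exact hlA (hA.le_of_ge ⟨hDn, hDQ, hDc⟩ hAD hlD)
  have hcomm_mem : ∀ x ∈ Q, ∀ d ∈ D, (x * d)⁻¹ * (d * x) ∈ A := by
    intro x hx d hd
    have h1 := (D.inv_mem hd).2 x⁻¹ (Q.inv_mem hx)
    have : (x * d)⁻¹ * (d * x) = (⁅x⁻¹, d⁻¹⁆)⁻¹ := by
      simp only [commutatorElement_def]; group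
    rw [this]
    exact A.inv_mem h1
  have hclosed : ∀ d ∈ D, ∀ d' ∈ D, d ^ p = 1 → d' ^ p = 1 → (d * d') ^ p = 1 := by
    intro d hd d' hd' hdp hdp'
    have hc := hcomm_mem d (hDQ hd) d' hd'
    have h : d' * d = d * d' * ((d * d')⁻¹ * (d' * d)) := by group
    exact mul_pow_eq_one_of_central h (hAcent _ hc d (hDQ hd)) (hAcent _ hc d' (hDQ hd')) hodd
      hdp hdp'
  set E : Subgroup G := omegaSub p D hclosed with hE
  have hEn : E.Normal := omegaSub_normal hclosed
  have hED : E ≤ D := fun x hx => hx.1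
  have hEexp : ∀ e ∈ E, e ^ p = 1 := fun e he => he.2
  by_cases hEc : ∀ x y : ↥E, x * y = y * x
  · -- `E` is commutative: then `D` is cyclic
    have hEcyc : IsCyclic ↥E := isCyclic_of_normal_comm hp2 hQ hrk hnoR E (hED.trans hDQ)
      (fun a ha b hb => congrArg Subtype.val (hEc ⟨a, ha⟩ ⟨b, hb⟩))
    have hEcard : Nat.card E ≤ p := by
      apply NormalSq.card_le_of_isCyclic_of_pow p hp.out.pos
      intro x
      apply Subtype.ext
      rw [Subgroup.coe_pow, Subgroup.coe_one]
      exact hEexp x x.2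
    have hDcyc : IsCyclic ↥D := by
      apply isCyclic_of_rankOne hp2 (hQ.to_le hDQ)
      intro F _ hFe
      rw [pow_one]
      have hle : F.map D.subtype ≤ E := by
        rintro _ ⟨f, hf, rfl⟩
        refine ⟨f.2, ?_⟩
        have := hFe f hf
        have h3 := congrArg Subtype.val this
        simpa using h3
      calc Nat.card F = Nat.card (F.map D.subtype) :=
            (Subgroup.card_map_of_injective D.subtype_injective).symm
        _ ≤ Nat.card E := Subgroup.card_le_of_le hle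
        _ ≤ p := hEcard
    apply hDnc
    intro x hx y hy
    obtain ⟨g, hg⟩ := hDcyc.exists_generator
    obtain ⟨k, hk⟩ := Subgroup.mem_zpowers_iff.mp (hg ⟨x, hx⟩)
    obtain ⟨k', hk'⟩ := Subgroup.mem_zpowers_iff.mp (hg ⟨y, hy⟩)
    have h1 : (g : G) ^ k = x := by
      have := congrArg Subtype.val hk
      simpa using this
    have h2 : (g : G) ^ k' = y := by
      have := congrArg Subtype.val hk'
      simpa using this
    rw [← h1, ← h2]
    exact (Commute.zpow_zpow_self (g : G) k k').eq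
  · -- `E` is not commutative
    have hEA : ∀ x ∈ Q, ∀ e ∈ E, ⁅x, e⁆ ∈ A := fun x hx e he => (hED he).2 x hx
    have hidx := relIndex_centralizer_dvd_sq hQ hrk hAcyc hAcent (hED.trans hDQ) hEA hEexp hEc
    set C : Subgroup G := Q ⊓ Subgroup.centralizer (E : Set G) with hC
    have hCn : C.Normal := inferInstance
    have hClt : C < Q := by
      refine lt_of_le_of_ne inf_le_left (fun h => hEc ?_)
      intro x y
      have hxC : (x : G) ∈ C := by rw [h]; exact hDQ (hED x.2)
      have := Subgroup.mem_centralizer_iff.mp (Subgroup.mem_inf.mp hxC).2 y y.2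
      exact Subtype.ext this.symm
    have hCK : C ≤ K := hP C hCn hClt
    exact hn ((Subgroup.relIndex_dvd_of_le_left Q hCK).trans hidx)

end

/-- **Main theorem.** For an odd prime `p`, if `Q` is a normal `p`-subgroup of the finite group
`G` without elementary abelian subgroups of order `p ^ 3` and `Q / K` is a chief factor of `G`,
then `|Q : K|` divides `p ^ 2`. -/
theorem relIndex_dvd_sq_aux {p : ℕ} [hp : Fact p.Prime] (hp2 : p ≠ 2) :
    ∀ (n : ℕ) (G : Type u) [Group G] [Finite G] (Q K : Subgroup G) [Q.Normal] [K.Normal],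
      Nat.card Q = n → IsPGroup p Q → RankTwo p Q → K < Q →
      (∀ L : Subgroup G, L.Normal → K ≤ L → L ≤ Q → L = K ∨ L = Q) → K.relIndex Q ∣ p ^ 2 := by
  intro n
  induction n using Nat.strong_induction_on with
  | _ n ih =>
    intro G _ _ Q K hQn hKn hcard hQ hrk hlt hchief
    by_contra hn
    by_cases hsup : ∃ M : Subgroup G, M.Normal ∧ M < Q ∧ M ⊔ K = Q
    · obtain ⟨M, hMn, hMQ, hMK⟩ := hsup
      haveI := hMn
      obtain ⟨hch', hri⟩ := chief_supplement hMK hchief
      have hlt' : M ⊓ K < M := by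
        refine lt_of_le_of_ne inf_le_left (fun h => ?_)
        have hMK' : M ≤ K := inf_eq_left.mp h
        rw [sup_eq_right.mpr hMK'] at hMK
        exact hlt.ne hMK
      have := ih (Nat.card M) (by rw [← hcard]; exact RankTwo.card_lt_of_lt hMQ) G M (M ⊓ K) rfl
        (hQ.to_le hMQ.le) (hrk.mono hMQ.le) hlt' hch'
      rw [hri] at this
      exact hn this
    · have hP : ∀ M : Subgroup G, M.Normal → M < Q → M ≤ K :=
        fun M hM hMQ => le_of_normal_lt hchief hsup hlt.le hM hMQ
      by_cases hR : ∃ R : Subgroup G, R.Normal ∧ R ≤ Q ∧ (∀ a ∈ R, ∀ b ∈ R, a * b = b * a) ∧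
          (∀ a ∈ R, a ^ p = 1) ∧ Nat.card R = p ^ 2
      · obtain ⟨R, hRn, hRQ, hRc, hRe, hRcard⟩ := hR
        haveI := hRn
        have hRcent := central_of_normal_sq hQ hP hRQ hRc hRcard hn
        have hΩ : ∀ x ∈ Q, x ^ p = 1 → x ∈ R :=
          fun x hx hxp => mem_of_pow_eq_one hrk hRQ hRcent hRe hRcard hx hxp
        have hRlt : R < Q := by
          refine lt_of_le_of_ne hRQ (fun h => hn ?_)
          have h1 : K.relIndex Q ∣ Nat.card Q := Subgroup.relIndex_dvd_card K Q
          have h2 : Nat.card Q = p ^ 2 := by rw [← h]; exact hRcard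
          rw [h2] at h1
          exact h1
        have hRK : R ≤ K := hP R hRn hRlt
        obtain ⟨hlt', hch', hri⟩ := chief_quotient hRK hlt hchief
        have hrk' := rankTwo_quotient hp2 hRQ hRcent hRe hRcard.le hΩ le_rfl
        have hcard' : Nat.card (Q.map (QuotientGroup.mk' R)) < n := by
          have h1 := card_map_mk_mul hRQ
          rw [hRcard, hcard] at h1
          have h2 : 1 < p ^ 2 := Nat.one_lt_pow two_ne_zero hp.out.one_lt
          have h3 : 0 < Nat.card (Q.map (QuotientGroup.mk' R)) := Nat.card_pos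
          nlinarith
        have hQn' : (Q.map (QuotientGroup.mk' R)).Normal :=
          hQn.map _ (QuotientGroup.mk'_surjective R)
        have hKn' : (K.map (QuotientGroup.mk' R)).Normal :=
          hKn.map _ (QuotientGroup.mk'_surjective R)
        have := ih _ hcard' (G ⧸ R) (Q.map (QuotientGroup.mk' R)) (K.map (QuotientGroup.mk' R)) rfl
          (hQ.map _) hrk' hlt' hch'
        rw [hri] at this
        exact hn this
      · have hnoR : ∀ R : Subgroup G, R.Normal → R ≤ Q → (∀ a ∈ R, ∀ b ∈ R, a * b = b * a) →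
            (∀ a ∈ R, a ^ p = 1) → Nat.card R ≠ p ^ 2 :=
          fun R h1 h2 h3 h4 h5 => hR ⟨R, h1, h2, h3, h4, h5⟩
        exact false_of_no_normal_sq hp2 hQ hrk hlt hchief hP hnoR hn

theorem relIndex_dvd_sq {G : Type u} [Group G] [Finite G] {p : ℕ} [hp : Fact p.Prime]
    (hp2 : p ≠ 2) (Q K : Subgroup G) [Q.Normal] [K.Normal] (hQ : IsPGroup p Q)
    (hrk : RankTwo p Q) (hlt : K < Q)
    (hchief : ∀ L : Subgroup G, L.Normal → K ≤ L → L ≤ Q → L = K ∨ L = Q) :
    K.relIndex Q ∣ p ^ 2 :=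
  relIndex_dvd_sq_aux hp2 _ G Q K rfl hQ hrk hlt hchief

end Cfsg.Agent.Lib.H16.ChiefRank
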