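import Mathlib
import Cfsg.Prelude
import Cfsg.Agent.Lib.H16.ChiefRankF

/-! Chief factors of `p`-power order of a finite group of `p`-rank at most two, `p` odd, have
order `p` or `p ^ 2` (helper16). Reduction to a normal `p`-subgroup by the Frattini argument. -/

set_option autoImplicit false

namespace Cfsg.Agent.Lib.H16.ChiefRank

open scoped commutatorElement

universe u

variable {G : Type u} [Group G] [Finite G] {p : ℕ} [hp : Fact p.Prime]

theorem relIndex_dvd_sq_of_pRankLE (hp2 : p ≠ 2) (hr : Cfsg.PRankLE p 2 G) (H K : Subgroup G)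
    [hHn : H.Normal] [hKn : K.Normal] (hKH : K < H) (hpow : ∃ n : ℕ, K.relIndex H = p ^ n)
    (hchief : ∀ L : Subgroup G, L.Normal → K ≤ L → L ≤ H → L = K ∨ L = H) :
    K.relIndex H ∣ p ^ 2 := by
  obtain ⟨n, hn⟩ := hpow
  obtain P₁ : Sylow p ↥H := default
  set P : Subgroup G := (P₁ : Subgroup ↥H).map H.subtype with hP
  have hPH : P ≤ H := Subgroup.map_subtype_le _
  have hPp : IsPGroup p P := P₁.2.map _
  have hfrat : Subgroup.normalizer (P : Set G) ⊔ H = ⊤ := Sylow.normalizer_sup_eq_top P₁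
  -- `P ⊔ K = H`
  have hPK : P ⊔ K = H := by
    apply le_antisymm (sup_le hPH hKH.le)
    have h1 : (P ⊔ K).relIndex H ∣ P.relIndex H :=
      Subgroup.relIndex_dvd_of_le_left H le_sup_left
    have h2 : (P ⊔ K).relIndex H ∣ p ^ n := hn ▸ Subgroup.relIndex_dvd_of_le_left H le_sup_right
    have h3 : ¬ p ∣ P.relIndex H := by
      have h4 : P.subgroupOf H = (P₁ : Subgroup ↥H) := by
        rw [hP, Subgroup.subgroupOf, Subgroup.comap_map_eq_self_of_injective H.subtype_injective]
      rw [Subgroup.relIndex, h4]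
      exact P₁.not_dvd_index
    obtain ⟨i, -, hi⟩ := (Nat.dvd_prime_pow hp.out).mp h2
    have hi0 : i = 0 := by
      by_contra h
      apply h3
      have : p ∣ (P ⊔ K).relIndex H := by rw [hi]; exact dvd_pow_self p h
      exact this.trans h1
    rw [hi0, pow_zero] at hi
    exact Subgroup.relIndex_eq_one.mp hi
  set N : Subgroup G := Subgroup.normalizer (P : Set G) with hN
  have hPN : P ≤ N := Subgroup.le_normalizer
  have hNK : N ⊔ K = ⊤ := by
    rw [eq_top_iff, ← hfrat]
    apply sup_le le_sup_left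
    rw [← hPK]
    exact sup_le (hPN.trans le_sup_left) le_sup_right
  -- pass to `N`
  set Q' : Subgroup ↥N := P.subgroupOf N with hQ'
  set K' : Subgroup ↥N := (K ⊓ P).subgroupOf N with hK'
  have hQ'n : Q'.Normal := Subgroup.normal_in_normalizer
  have hK'n : K'.Normal := by
    constructor
    intro x hx g
    rw [hK', Subgroup.mem_subgroupOf] at hx ⊢
    obtain ⟨hxK, hxP⟩ := Subgroup.mem_inf.mp hx
    refine Subgroup.mem_inf.mpr ⟨?_, ?_⟩
    · have := hKn.conj_mem _ hxK (g : G)
      simpa using this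
    · have := (Subgroup.mem_normalizer_iff.mp g.2 (x : G)).mp hxP
      simpa using this
  have hQ'p : IsPGroup p Q' := hPp.comap_subtype
  have hrk : RankTwo p Q' := by
    intro E _ hEc hEe
    haveI : IsMulCommutative ↥E := ⟨⟨fun a b => Subtype.ext (hEc a a.2 b b.2)⟩⟩
    have h1 := hr (E.map N.subtype) (Subgroup.map_isMulCommutative E N.subtype) ?_
    · rwa [Subgroup.card_map_of_injective N.subtype_injective] at h1
    · rintro _ ⟨a, ha, rfl⟩
      have := hEe a ha
      have h2 := congrArg Subtype.val this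
      simpa using h2
  have hlt' : K' < Q' := by
    refine lt_of_le_of_ne ?_ (fun h => hKH.ne ?_)
    · intro x hx
      rw [hK', Subgroup.mem_subgroupOf] at hx
      rw [hQ', Subgroup.mem_subgroupOf]
      exact (Subgroup.mem_inf.mp hx).2
    · have hPK' : P ≤ K := by
        intro x hx
        have h1 : (⟨x, hPN hx⟩ : ↥N) ∈ Q' := by rw [hQ', Subgroup.mem_subgroupOf]; exact hx
        rw [← h, hK', Subgroup.mem_subgroupOf] at h1
        exact (Subgroup.mem_inf.mp h1).1
      rw [← hPK, sup_eq_right.mpr hPK']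
  have hch' : ∀ L : Subgroup ↥N, L.Normal → K' ≤ L → L ≤ Q' → L = K' ∨ L = Q' := by
    intro L hLn hK'L hLQ'
    set L₀ : Subgroup G := L.map N.subtype with hL₀
    have hL₀P : L₀ ≤ P := by
      rintro _ ⟨x, hx, rfl⟩
      have := hLQ' hx
      rwa [hQ', Subgroup.mem_subgroupOf] at this
    have hMn : (L₀ ⊔ K).Normal := by
      rw [← Subgroup.normalizer_eq_top_iff, eq_top_iff, ← hNK]
      apply sup_le
      · apply le_normalizer_of_conj_mem
        intro g hg b hb
        rw [← SetLike.mem_coe, Subgroup.mul_normal L₀ K, Set.mem_mul] at hb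
        obtain ⟨l, hl, k, hk, rfl⟩ := hb
        obtain ⟨l', hl', rfl⟩ := hl
        have h1 : g * (N.subtype l' * k) * g⁻¹ = (g * N.subtype l' * g⁻¹) * (g * k * g⁻¹) := by
          group
        rw [h1]
        apply Subgroup.mul_mem_sup
        · refine ⟨⟨g, hg⟩ * l' * ⟨g, hg⟩⁻¹, hLn.conj_mem l' hl' ⟨g, hg⟩, ?_⟩
          simp
        · exact hKn.conj_mem k hk g
      · exact le_sup_right.trans Subgroup.le_normalizer
    have hMH : L₀ ⊔ K ≤ H := sup_le (hL₀P.trans hPH) hKH.le
    rcases hchief _ hMn le_sup_right hMH with h | h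
    · left
      apply le_antisymm _ hK'L
      intro x hx
      rw [hK', Subgroup.mem_subgroupOf]
      have h1 : (x : G) ∈ L₀ := ⟨x, hx, rfl⟩
      refine Subgroup.mem_inf.mpr ⟨?_, hL₀P h1⟩
      rw [← h]
      exact Subgroup.mem_sup_left h1
    · right
      apply le_antisymm hLQ'
      intro x hx
      rw [hQ', Subgroup.mem_subgroupOf] at hx
      have h1 : (x : G) ∈ L₀ ⊔ K := by rw [h]; exact hPH hx
      rw [← SetLike.mem_coe, Subgroup.mul_normal L₀ K, Set.mem_mul] at h1
      obtain ⟨l, hl, k, hk, hlk⟩ := h1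
      obtain ⟨l', hl', rfl⟩ := hl
      have hkP : k ∈ P := by
        have : k = (N.subtype l')⁻¹ * (x : G) := by rw [← hlk]; group
        rw [this]
        exact P.mul_mem (P.inv_mem (hL₀P ⟨l', hl', rfl⟩)) hx
      have hk' : (⟨k, hPN hkP⟩ : ↥N) ∈ L := by
        apply hK'L
        rw [hK', Subgroup.mem_subgroupOf]
        exact Subgroup.mem_inf.mpr ⟨hk, hkP⟩
      have : x = l' * ⟨k, hPN hkP⟩ := by
        apply Subtype.ext
        rw [Subgroup.coe_mul]
        exact hlk.symm
      rw [this]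
      exact L.mul_mem hl' hk'
  have hmain := relIndex_dvd_sq hp2 Q' K' hQ'p hrk hlt' hch'
  have hri : K'.relIndex Q' = K.relIndex H := by
    rw [hK', hQ', Subgroup.relIndex_subgroupOf hPN, Subgroup.inf_relIndex_right, ← hPK,
      Subgroup.relIndex_sup_right]
  rw [hri] at hmain
  exact hmain

end Cfsg.Agent.Lib.H16.ChiefRank
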