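import Mathlib
import Cfsg.Agent.Lib.H14.FumDefs
import Cfsg.Agent.Lib.H7.CoprimeGen

/-!
S4330-P3 (helper16): hyperplane decomposition for an elementary abelian `p`-group `B` of automorphisms of a finite
abelian `p'`-group `V` with `C_V(B) = 1`: `V` is generated by the `C_V(D)`, `D` a hyperplane of `B`
(`iSup_fixedPts_hyperplane`), and the `C_V(D)` are independent (`fixedPts_hyperplane_indep`).
-/

set_option autoImplicit false

namespace Cfsg.Agent.Lib.H16.Fum

open Cfsg.Agent.Lib.H14.Fum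

universe u

/-- Two distinct subgroups of prime index `p` in `B` generate `B`. -/
theorem le_sup_of_hyperplanes {G : Type*} [Group G] {p : ℕ} [Fact p.Prime] {B D D₀ : Subgroup G}
    (hD : D ≤ B) (hD₀ : D₀ ≤ B) (hDp : D.relIndex B = p) (hD₀p : D₀.relIndex B = p) (hne : D ≠ D₀) :
    B ≤ D ⊔ D₀ := by
  have hp := (Fact.out : p.Prime)
  have hK : D ⊔ D₀ ≤ B := sup_le hD hD₀
  have e1 := Subgroup.relIndex_mul_relIndex D₀ (D ⊔ D₀) B le_sup_right hK
  rw [hD₀p] at e1
  have hdvd : (D ⊔ D₀).relIndex B ∣ p := Dvd.intro_left _ e1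
  rcases (Nat.dvd_prime hp).1 hdvd with h1 | h1
  · exact Subgroup.relIndex_eq_one.1 h1
  · exfalso
    rw [h1] at e1
    have h2 : D₀.relIndex (D ⊔ D₀) = 1 :=
      Nat.eq_of_mul_eq_mul_right hp.pos (by rw [one_mul]; exact e1)
    have h3 : D ≤ D₀ := le_trans le_sup_left (Subgroup.relIndex_eq_one.1 h2)
    have e2 := Subgroup.relIndex_mul_relIndex D D₀ B h3 hD₀
    rw [hD₀p, hDp] at e2
    have h4 : D.relIndex D₀ = 1 :=
      Nat.eq_of_mul_eq_mul_right hp.pos (by rw [one_mul]; exact e2)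
    exact hne (le_antisymm h3 (Subgroup.relIndex_eq_one.1 h4))

/-- `MulAut V → End V`. -/
def toEnd (V : Type u) [CommGroup V] : MulAut V →* Monoid.End V where
  toFun e := (e : V ≃* V).toMonoidHom
  map_one' := rfl
  map_mul' _ _ := rfl

theorem toEnd_apply {V : Type u} [CommGroup V] (e : MulAut V) (v : V) : toEnd V e v = e v := rfl

section tau

variable {V : Type u} [CommGroup V] [Finite V]

/-- A `Fintype` structure on a group of automorphisms of a finite group. -/
@[reducible] noncomputable def fumFintype (D : Subgroup (MulAut V)) : Fintype ↥D := Fintype.ofFinite _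

attribute [local instance] fumFintype

/-- The trace `v ↦ ∏_{d ∈ D} d v`. -/
noncomputable def tauHom (D : Subgroup (MulAut V)) : V →* V where
  toFun v := ∏ d : ↥D, (d : MulAut V) v
  map_one' := by simp
  map_mul' v w := by
    simp only [map_mul]
    exact Finset.prod_mul_distrib

theorem tauHom_apply (D : Subgroup (MulAut V)) (v : V) :
    tauHom D v = ∏ d : ↥D, (d : MulAut V) v := rfl

theorem tau_fixed_of_mem (D : Subgroup (MulAut V)) {x : MulAut V} (hx : x ∈ D) (v : V) :
    x (tauHom D v) = tauHom D v := by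
  rw [tauHom_apply, map_prod]
  exact Fintype.prod_equiv (Equiv.mulLeft (⟨x, hx⟩ : ↥D)) _ _ (fun d => rfl)

theorem tau_fixed_of_comm (D : Subgroup (MulAut V)) {x : MulAut V}
    (hx : ∀ d ∈ D, x * d = d * x) {v : V} (hv : x v = v) : x (tauHom D v) = tauHom D v := by
  rw [tauHom_apply, map_prod]
  apply Finset.prod_congr rfl
  intro d _
  calc x ((d : MulAut V) v) = (x * (d : MulAut V)) v := rfl
    _ = ((d : MulAut V) * x) v := by rw [hx d d.2]
    _ = (d : MulAut V) (x v) := rfl
    _ = (d : MulAut V) v := by rw [hv]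

theorem tau_of_fixed (D : Subgroup (MulAut V)) {v : V} (hv : v ∈ fixedPts D) :
    tauHom D v = v ^ Nat.card D := by
  rw [tauHom_apply]
  have h1 : ∀ d ∈ (Finset.univ : Finset ↥D), (d : MulAut V) v = v := fun d _ => hv d d.2
  rw [Finset.prod_congr rfl h1, Finset.prod_const, Finset.card_univ, Nat.card_eq_fintype_card]

end tau

section main

variable {V : Type u} [CommGroup V] [Finite V] {p : ℕ} [Fact p.Prime]

/-- **S4330-P3, independence.** -/
theorem fixedPts_hyperplane_indep (hcop : (Nat.card V).Coprime p) (B : Subgroup (MulAut V))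
    (hBab : ∀ x ∈ B, ∀ y ∈ B, x * y = y * x) (hBexp : ∀ x ∈ B, x ^ p = 1)
    (hfix : fixedPts B = ⊥) (s : Finset (Subgroup (MulAut V)))
    (hs : ∀ D ∈ s, D ≤ B ∧ D.relIndex B = p) (u : Subgroup (MulAut V) → V)
    (hu : ∀ D ∈ s, u D ∈ fixedPts D) (hprod : ∏ D ∈ s, u D = 1) : ∀ D ∈ s, u D = 1 := by
  intro D₀ hD₀
  have hkill : ∀ D ∈ s, D ≠ D₀ → tauHom D₀ (u D) = 1 := by
    intro D hD hne
    have hle : B ≤ MulAction.stabilizer (MulAut V) (tauHom D₀ (u D)) := by
      refine le_trans (le_sup_of_hyperplanes (hs D hD).1 (hs D₀ hD₀).1 (hs D hD).2 (hs D₀ hD₀).2 hne)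
        (sup_le ?_ ?_)
      · intro x hx
        rw [MulAction.mem_stabilizer_iff, MulAut.smul_def]
        exact tau_fixed_of_comm D₀
          (fun d hd => hBab x ((hs D hD).1 hx) d ((hs D₀ hD₀).1 hd)) (hu D hD x hx)
      · intro x hx
        rw [MulAction.mem_stabilizer_iff, MulAut.smul_def]
        exact tau_fixed_of_mem D₀ hx _
    have hmem : tauHom D₀ (u D) ∈ fixedPts B := by
      intro b hb
      have h1 := hle hb
      rwa [MulAction.mem_stabilizer_iff, MulAut.smul_def] at h1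
    rw [hfix, Subgroup.mem_bot] at hmem
    exact hmem
  have h1 : tauHom D₀ (∏ D ∈ s, u D) = ∏ D ∈ s, tauHom D₀ (u D) := map_prod _ _ _
  rw [hprod, map_one, Finset.prod_eq_single D₀ (fun D hD hne => hkill D hD hne)
    (fun h => absurd hD₀ h), tau_of_fixed D₀ (hu D₀ hD₀)] at h1
  -- `h1 : 1 = u D₀ ^ Nat.card D₀`
  have hPg : IsPGroup p ↥D₀ := by
    intro g
    refine ⟨1, ?_⟩
    rw [pow_one]
    apply Subtype.ext
    rw [Subgroup.coe_pow, Subgroup.coe_one]
    exact hBexp g ((hs D₀ hD₀).1 g.2)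
  obtain ⟨m, hm⟩ := (IsPGroup.iff_card (p := p) (G := ↥D₀)).1 hPg
  have hd1 : orderOf (u D₀) ∣ Nat.card D₀ := orderOf_dvd_of_pow_eq_one h1.symm
  have hd2 : orderOf (u D₀) ∣ Nat.card V := orderOf_dvd_natCard _
  have hc : (Nat.card D₀).Coprime (Nat.card V) := by
    rw [hm]
    exact Nat.Coprime.pow_left m hcop.symm
  have h3 : orderOf (u D₀) = 1 := Nat.eq_one_of_dvd_coprimes hc hd1 hd2
  exact orderOf_eq_one_iff.1 h3

theorem gen_aux (p : ℕ) [Fact p.Prime] : ∀ n : ℕ, ∀ (V : Type u) [CommGroup V] [Finite V],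
    (Nat.card V).Coprime p → ∀ B : Subgroup (MulAut V), Nat.card B = n →
    (∀ x ∈ B, ∀ y ∈ B, x * y = y * x) → (∀ x ∈ B, x ^ p = 1) → fixedPts B = ⊥ →
    ⨆ D : {D : Subgroup (MulAut V) // D ≤ B ∧ D.relIndex B = p}, fixedPts D.1 = ⊤ := by
  intro n
  induction n using Nat.strong_induction_on with
  | _ n ih =>
  intro V _ _ hcop B hn hBab hBexp hfix
  have hp := (Fact.out : p.Prime)
  -- claim: fixed points of non-trivial elements lie in the span
  have claim : ∀ γ ∈ B, γ ≠ 1 → ∀ v : V, γ v = v →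
      v ∈ ⨆ D : {D : Subgroup (MulAut V) // D ≤ B ∧ D.relIndex B = p}, fixedPts D.1 := by
    intro γ hγB hγ1 v hv
    have hzB : Subgroup.zpowers γ ≤ B := (Subgroup.zpowers_le).2 hγB
    have hvW : v ∈ fixedPts (Subgroup.zpowers γ) := by
      intro b hb
      have h1 : Subgroup.zpowers γ ≤ MulAction.stabilizer (MulAut V) v := by
        rw [Subgroup.zpowers_le, MulAction.mem_stabilizer_iff, MulAut.smul_def]
        exact hv
      have h2 := h1 hb
      rwa [MulAction.mem_stabilizer_iff, MulAut.smul_def] at h2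
    have hW : ∀ δ ∈ B, ∀ w ∈ fixedPts (Subgroup.zpowers γ), δ w ∈ fixedPts (Subgroup.zpowers γ) := by
      intro δ hδ w hw b hb
      calc b (δ w) = (b * δ) w := rfl
        _ = (δ * b) w := by rw [hBab b (hzB hb) δ hδ]
        _ = δ (b w) := rfl
        _ = δ w := by rw [hw b hb]
    set W : Subgroup V := fixedPts (Subgroup.zpowers γ) with hWdef
    set ρ := resAut W B hW with hρ
    have hρapp : ∀ (b : ↥B) (w : ↥W), ((ρ b w : ↥W) : V) = (b : MulAut V) w := fun b w => rfl
    -- the image has smaller order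
    have hker : (⟨γ, hγB⟩ : ↥B) ∈ ρ.ker := by
      rw [MonoidHom.mem_ker]
      ext w
      rw [hρapp]
      exact w.2 γ (Subgroup.mem_zpowers γ)
    have hkerne : ρ.ker ≠ ⊥ := by
      intro h
      rw [h, Subgroup.mem_bot] at hker
      exact hγ1 (congrArg Subtype.val hker)
    have hlt : Nat.card ρ.range < n := by
      have h1 := Subgroup.card_mul_index ρ.ker
      rw [Subgroup.index_ker, hn] at h1
      have h2 : 1 < Nat.card ρ.ker := (Subgroup.one_lt_card_iff_ne_bot _).2 hkerne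
      have h3 : 0 < Nat.card ρ.range := Nat.card_pos
      nlinarith
    have hcopW : (Nat.card ↥W).Coprime p :=
      Nat.Coprime.coprime_dvd_left (Subgroup.card_subgroup_dvd_card W) hcop
    have hab' : ∀ x ∈ ρ.range, ∀ y ∈ ρ.range, x * y = y * x := by
      rintro _ ⟨a, rfl⟩ _ ⟨b, rfl⟩
      rw [← map_mul, ← map_mul]
      congr 1
      exact Subtype.ext (hBab a a.2 b b.2)
    have hexp' : ∀ x ∈ ρ.range, x ^ p = 1 := by
      rintro _ ⟨a, rfl⟩
      rw [← map_pow]
      have : a ^ p = 1 := by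
        apply Subtype.ext
        rw [Subgroup.coe_pow, Subgroup.coe_one]
        exact hBexp a a.2
      rw [this, map_one]
    have hfix' : fixedPts ρ.range = ⊥ := by
      rw [eq_bot_iff]
      intro w hw
      rw [Subgroup.mem_bot]
      have h1 : (w : V) ∈ fixedPts B := by
        intro b hb
        have h2 := hw (ρ ⟨b, hb⟩) ⟨_, rfl⟩
        have h3 := congrArg Subtype.val h2
        rwa [hρapp] at h3
      rw [hfix, Subgroup.mem_bot] at h1
      exact Subtype.ext h1
    have hIH := ih (Nat.card ρ.range) hlt ↥W hcopW ρ.range rfl hab' hexp' hfix'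
    have hmap : (⨆ D' : {D' : Subgroup (MulAut ↥W) // D' ≤ ρ.range ∧ D'.relIndex ρ.range = p},
        fixedPts D'.1).map W.subtype ≤
        ⨆ D : {D : Subgroup (MulAut V) // D ≤ B ∧ D.relIndex B = p}, fixedPts D.1 := by
      rw [Subgroup.map_iSup]
      apply iSup_le
      intro D'
      rintro _ ⟨w, hw, rfl⟩
      have hDB : (D'.1.comap ρ).map B.subtype ≤ B := Subgroup.map_subtype_le _
      have hDrel : ((D'.1.comap ρ).map B.subtype).relIndex B = p := by
        unfold Subgroup.relIndex Subgroup.subgroupOf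
        rw [Subgroup.comap_map_eq_self_of_injective (Subgroup.subtype_injective B), Subgroup.index_comap]
        exact D'.2.2
      have hwfix : (W.subtype w) ∈ fixedPts ((D'.1.comap ρ).map B.subtype) := by
        rintro _ ⟨b₀, hb₀, rfl⟩
        have h2 := hw (ρ b₀) hb₀
        have h3 := congrArg Subtype.val h2
        rwa [hρapp] at h3
      exact (le_iSup (fun D : {D : Subgroup (MulAut V) // D ≤ B ∧ D.relIndex B = p} => fixedPts D.1)
        ⟨(D'.1.comap ρ).map B.subtype, hDB, hDrel⟩) hwfix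
    apply hmap
    refine ⟨⟨v, hvW⟩, ?_, rfl⟩
    rw [hIH]
    exact Subgroup.mem_top _
  rw [eq_top_iff]
  intro w _
  by_cases hB : B = ⊥
  · have h1 : w ∈ fixedPts B := by
      intro b hb
      rw [hB, Subgroup.mem_bot] at hb
      rw [hb]; rfl
    rw [hfix, Subgroup.mem_bot] at h1
    rw [h1]
    exact Subgroup.one_mem _
  obtain ⟨β, hβB, hβ1⟩ : ∃ β ∈ B, β ≠ 1 := by
    by_contra hcon
    push Not at hcon
    apply hB
    rw [eq_bot_iff]
    intro x hx
    rw [Subgroup.mem_bot]
    exact hcon x hx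
  by_cases hcyc : ∀ α ∈ B, α ∈ Subgroup.zpowers β
  · have hBz : B = Subgroup.zpowers β :=
      le_antisymm hcyc ((Subgroup.zpowers_le).2 hβB)
    have hord : orderOf β = p := by
      rcases (Nat.dvd_prime hp).1 (orderOf_dvd_of_pow_eq_one (hBexp β hβB)) with h | h
      · exact absurd (orderOf_eq_one_iff.1 h) hβ1
      · exact h
    have hrel : (⊥ : Subgroup (MulAut V)).relIndex B = p := by
      rw [Subgroup.relIndex_bot_left, hBz, Nat.card_zpowers, hord]
    apply (le_iSup (fun D : {D : Subgroup (MulAut V) // D ≤ B ∧ D.relIndex B = p} => fixedPts D.1)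
      ⟨⊥, bot_le, hrel⟩)
    intro b hb
    rw [Subgroup.mem_bot] at hb
    rw [hb]; rfl
  · push Not at hcyc
    obtain ⟨α, hαB, hαz⟩ := hcyc
    have hαβ : toEnd V α * toEnd V β = toEnd V β * toEnd V α := by
      rw [← map_mul, ← map_mul, hBab α hαB β hβB]
    have hβp : (toEnd V β) ^ p = 1 := by rw [← map_pow, hBexp β hβB, map_one]
    obtain ⟨h, hβh, heq⟩ := Cfsg.Agent.Lib.H7.rank2_formula p (toEnd V α) (toEnd V β) hαβ hβp w
    set T := ⨆ D : {D : Subgroup (MulAut V) // D ≤ B ∧ D.relIndex B = p}, fixedPts D.1 with hT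
    have hhT : h ∈ T := claim β hβB hβ1 h hβh
    have hβT : Cfsg.Agent.Lib.H7.cycTrace p (toEnd V β) w ∈ T :=
      claim β hβB hβ1 _ (Cfsg.Agent.Lib.H7.cycTrace_fixed p hβp w)
    have hjT : ∀ j : ZMod p, Cfsg.Agent.Lib.H7.cycTrace p (toEnd V α * toEnd V β ^ j.val) w ∈ T := by
      intro j
      have e1 : toEnd V α * toEnd V β ^ j.val = toEnd V (α * β ^ j.val) := by
        rw [map_mul, map_pow]
      have hmemB : α * β ^ j.val ∈ B := B.mul_mem hαB (B.pow_mem hβB _)
      have hne1 : α * β ^ j.val ≠ 1 := by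
        intro h1
        apply hαz
        have : α = (β ^ j.val)⁻¹ := eq_inv_of_mul_eq_one_left h1
        rw [this]
        exact Subgroup.inv_mem _ (Subgroup.pow_mem _ (Subgroup.mem_zpowers β) _)
      have hγp : (toEnd V (α * β ^ j.val)) ^ p = 1 := by
        rw [← map_pow, hBexp _ hmemB, map_one]
      rw [e1]
      exact claim _ hmemB hne1 _ (Cfsg.Agent.Lib.H7.cycTrace_fixed p hγp w)
    have hwp : w ^ p ∈ T := by
      have e2 : w ^ p = ((∏ j : ZMod p, Cfsg.Agent.Lib.H7.cycTrace p (toEnd V α * toEnd V β ^ j.val) w) *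
          Cfsg.Agent.Lib.H7.cycTrace p (toEnd V β) w) * h⁻¹ := by
        rw [← heq, mul_inv_cancel_right]
      rw [e2]
      exact T.mul_mem (T.mul_mem (Subgroup.prod_mem T (fun j _ => hjT j)) hβT) (T.inv_mem hhT)
    have e3 : (w ^ p) ^ (Nat.card V).gcdB p = w := (powCoprime hcop).left_inv w
    rw [← e3]
    exact T.zpow_mem hwp _

/-- **S4330-P3, generation.** -/
theorem iSup_fixedPts_hyperplane (hcop : (Nat.card V).Coprime p) (B : Subgroup (MulAut V))
    (hBab : ∀ x ∈ B, ∀ y ∈ B, x * y = y * x) (hBexp : ∀ x ∈ B, x ^ p = 1)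
    (hfix : fixedPts B = ⊥) :
    ⨆ D : {D : Subgroup (MulAut V) // D ≤ B ∧ D.relIndex B = p}, fixedPts D.1 = ⊤ :=
  gen_aux p (Nat.card B) V hcop B rfl hBab hBexp hfix

end main

end Cfsg.Agent.Lib.H16.Fum
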