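import Cfsg.Agent.Lib.H1.G85.Defs
import Cfsg.Agent.Lib.H13.GlaubIVL
import Cfsg.Agent.Lib.H16.GlaubT6

/-!
# S4385, wave 2, piece (CH23): chain facts for `(q,t) = (2,3)`  (helper16, twin of helper10)
-/

set_option autoImplicit false
open scoped Pointwise
open Cfsg.Agent.Lib.H5.Glaub Cfsg.Agent.Lib.H5.Glaub.Setup Cfsg.Agent.Lib.H1.G85
namespace Cfsg.Agent.Lib.H16.G85

variable {G : Type*} [Group G] [Finite G]

omit [Finite G] in
theorem comm_zpowers {a b : G} (h : a * b = b * a) :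
    Comm (Subgroup.zpowers a) (Subgroup.zpowers b) := by
  intro y hy z hz
  obtain ⟨i, rfl⟩ := Subgroup.mem_zpowers_iff.1 hy
  obtain ⟨j, rfl⟩ := Subgroup.mem_zpowers_iff.1 hz
  exact ((show Commute a b from h).zpow_zpow i j).eq

/-- a subgroup of order 4 containing two different involutions `a`, `b` is `{1,a,b,ab}` -/
theorem mem_four {Q : Subgroup G} (hQ : Nat.card Q = 4) {a b : G} (ha : a ∈ Q) (hb : b ∈ Q)
    (ha1 : a ≠ 1) (hb1 : b ≠ 1) (hab : a ≠ b) (hb2 : b * b = 1) (g : G) :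
    g ∈ Q ↔ g = 1 ∨ g = a ∨ g = b ∨ g = a * b := by
  classical
  have hab0 : a * b ≠ 1 := fun h => hab (by
    have h1 : a = b⁻¹ := eq_inv_of_mul_eq_one_left h
    rw [h1]; exact inv_eq_of_mul_eq_one_left hb2)
  have hab1 : a * b ≠ a := fun h => hb1 (by simpa using h)
  have hab2 : a * b ≠ b := fun h => ha1 (by simpa using h)
  have hsub : (({1, a, b, a * b} : Finset G) : Set G) ⊆ (Q : Set G) := by
    intro y hy
    simp only [Finset.coe_insert, Finset.coe_singleton, Set.mem_insert_iff,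
      Set.mem_singleton_iff] at hy
    rcases hy with rfl | rfl | rfl | rfl
    · exact Q.one_mem
    · exact ha
    · exact hb
    · exact Q.mul_mem ha hb
  have hc : ({1, a, b, a * b} : Finset G).card = 4 := by
    rw [Finset.card_insert_of_notMem, Finset.card_insert_of_notMem,
      Finset.card_insert_of_notMem, Finset.card_singleton]
    · simp [hab2.symm]
    · simp [hab, hab1.symm]
    · simp [ha1.symm, hb1.symm, hab0.symm]
  have heq : (({1, a, b, a * b} : Finset G) : Set G) = (Q : Set G) := by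
    apply Set.eq_of_subset_of_ncard_le hsub
    rw [Set.ncard_coe_finset, hc]
    have : (Q : Set G).ncard = Nat.card Q := rfl
    rw [this, hQ]
  have : g ∈ Q ↔ g ∈ (({1, a, b, a * b} : Finset G) : Set G) := by rw [heq]; rfl
  rw [this]
  simp only [Finset.coe_insert, Finset.coe_singleton, Set.mem_insert_iff, Set.mem_singleton_iff]


/-- (CH23) chain facts for `(q,t) = (2,3)` -/
theorem chain23 (S : Setup G) (hp2 : S.p = 2) (hU : S.Uni 3) (hI : S.Ivl 3) (hD : S.Dist 3 2) (hC : S.Cen 3 2)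
    (x : ℤ → G) (hx : Gen S 3 x) (hodd : ¬ 2 ∣ (S.Pj 0).relIndex (H0 S)) :
    (∀ k : ℤ, -3 ≤ k → k ≤ 0 → x k ∈ H0 S) ∧
    (∀ g : G, g ∈ S.Pj (-1) ⊓ S.Pj 0 ↔ g = 1 ∨ g = x (-1) ∨ g = x (-2) ∨ g = x (-1) * x (-2)) ∧
    H0 S ≤ Subgroup.normalizer ((S.Pj (-1) ⊓ S.Pj 0 : Subgroup G) : Set G) ∧
    x (-1) ≠ x (-2) ∧ x (-1) * x (-2) = x (-2) * x (-1) ∧
    x (-3) * x (-2) * (x (-3))⁻¹ = x (-2) ∧ x (-3) * x (-1) * (x (-3))⁻¹ = x (-1) * x (-2) ∧
    x 0 * x (-1) * (x 0)⁻¹ = x (-1) ∧ x 0 * x (-2) * (x 0)⁻¹ = x (-2) * x (-1) ∧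
    ∃ m : ℕ, ¬ 2 ∣ m ∧ Nat.card ↥(H0 S) = 8 * m := by
  -- basic membership
  have hxX : ∀ k : ℤ, x k ∈ S.X 3 k := fun k => by
    rw [hx.X_eq k]; exact Subgroup.mem_zpowers _
  have hPm : S.Pj (-1) = S.Iv 3 (-3) (-1) := by
    rw [hI.Pj_eq (-1)]; norm_num
  have hP0 : S.Pj 0 = S.Iv 3 (-2) 0 := by
    rw [hI.Pj_eq 0]; norm_num
  have hQeq : S.Pj (-1) ⊓ S.Pj 0 = S.Iv 3 (-2) (-1) := by
    ext g
    rw [Cfsg.Agent.Lib.H13.Glaub.mem_Iv S 3 hU (by norm_num) (by norm_num), Subgroup.mem_inf]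
    constructor
    · rintro ⟨h1, h2⟩ j hj1 hj2
      have : j = -1 ∨ j = 0 := by omega
      rcases this with rfl | rfl
      · exact h1
      · exact h2
    · intro h
      exact ⟨h (-1) (by norm_num) (by norm_num), h 0 (by norm_num) (by norm_num)⟩
  have hQcard : Nat.card ↥(S.Iv 3 (-2) (-1)) = 4 := by
    have := hI.card (-2) (-1) (by norm_num) (by norm_num)
    rw [this, hp2]; norm_num
  -- commutation of neighbours
  have hcomm : ∀ i j : ℤ, |i - j| < 2 → x i * x j = x j * x i := fun i j hij =>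
    hD.comm i j (by exact_mod_cast hij) _ (hxX i) _ (hxX j)
  have hncomm : ∀ i : ℤ, x i * x (i + 2) ≠ x (i + 2) * x i := by
    intro i h
    apply hD.ncomm i
    rw [hx.X_eq i, hx.X_eq (i + (2 : ℕ))]
    have : i + ((2 : ℕ) : ℤ) = i + 2 := by norm_num
    rw [this]
    exact comm_zpowers h
  have h12 : x (-1) * x (-2) = x (-2) * x (-1) := hcomm _ _ (by norm_num)
  have hm1Q : x (-1) ∈ S.Iv 3 (-2) (-1) := S.X_le_Iv 3 (by norm_num) (by norm_num) (hxX (-1))
  have hm2Q : x (-2) ∈ S.Iv 3 (-2) (-1) := S.X_le_Iv 3 (by norm_num) (by norm_num) (hxX (-2))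
  have hne : x (-1) ≠ x (-2) := by
    intro h
    have hle : S.Iv 3 (-2) (-1) ≤ S.X 3 (-2) := by
      rw [Iv_le_iff]
      intro k h1 h2
      have : k = -2 ∨ k = -1 := by omega
      rcases this with rfl | rfl
      · exact le_rfl
      · rw [hx.X_eq (-1), h, ← hx.X_eq (-2)]
    have h1 := Subgroup.card_le_of_le hle
    have h2 := Cfsg.Agent.Lib.H16.Glaub.X_card S hI (by norm_num) (-2)
    rw [hQcard, h2, hp2] at h1
    omega
  have hmemQ := fun g => mem_four hQcard hm1Q hm2Q (hx.ne_one (-1)) (hx.ne_one (-2)) hne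
    (hx.sq (-2)) g
  -- normality of `Q`
  have hnormm : ∀ g ∈ S.Iv 3 (-3) (-1), ∀ a ∈ S.Iv 3 (-2) (-1), g * a * g⁻¹ ∈ S.Iv 3 (-2) (-1) :=
    fun g hg a ha => Cfsg.Agent.Lib.H16.Glaub.Iv_conj_right S hI (a := -3) (a' := -2) (b := -1) (by norm_num) (by norm_num)
      (by norm_num) hg ha
  have hnorm0 : ∀ g ∈ S.Iv 3 (-2) 0, ∀ a ∈ S.Iv 3 (-2) (-1), g * a * g⁻¹ ∈ S.Iv 3 (-2) (-1) :=
    fun g hg a ha => Cfsg.Agent.Lib.H16.Glaub.Iv_conj_left S hI (a := -2) (b := 0) (b' := -1) (by norm_num) (by norm_num)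
      (by norm_num) hg ha
  have hinv : ∀ k : ℤ, (x k)⁻¹ = x k := fun k => inv_eq_of_mul_eq_one_left (hx.sq k)
  have hm3 : x (-3) ∈ S.Iv 3 (-3) (-1) := S.X_le_Iv 3 (by norm_num) (by norm_num) (hxX (-3))
  have h0 : x 0 ∈ S.Iv 3 (-2) 0 := S.X_le_Iv 3 (by norm_num) (by norm_num) (hxX 0)
  have h32 : x (-3) * x (-2) * (x (-3))⁻¹ = x (-2) := by
    rw [hcomm (-3) (-2) (by norm_num)]; group
  have h01 : x 0 * x (-1) * (x 0)⁻¹ = x (-1) := by
    rw [hcomm 0 (-1) (by norm_num)]; group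
  refine ⟨?_, ?_, ?_, hne, h12, h32, ?_, h01, ?_, ?_⟩
  · intro k hk1 hk2
    by_cases hk : k ≤ -1
    · exact Pj_neg_one_le_H0 S (by rw [hPm]; exact S.X_le_Iv 3 hk1 hk (hxX k))
    · exact Pj_zero_le_H0 S (by rw [hP0]; exact S.X_le_Iv 3 (by omega) hk2 (hxX k))
  · intro g
    rw [hQeq]
    exact hmemQ g
  · rw [hQeq]
    unfold H0
    rw [hPm, hP0]
    exact sup_le (Subgroup.le_normalizer_iff.2 hnormm) (Subgroup.le_normalizer_iff.2 hnorm0)
  · -- conjugate of `x (-1)` by `x (-3)`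
    have hc := hnormm _ hm3 _ hm1Q
    rcases (hmemQ _).1 hc with h | h | h | h
    · exfalso
      apply hx.ne_one (-1)
      have : x (-1) = (x (-3))⁻¹ * (x (-3) * x (-1) * (x (-3))⁻¹) * x (-3) := by group
      rw [this, h]; group
    · exfalso
      apply hncomm (-3)
      have e : (-3 : ℤ) + 2 = -1 := by norm_num
      rw [e]
      calc x (-3) * x (-1) = (x (-3) * x (-1) * (x (-3))⁻¹) * x (-3) := by group
        _ = x (-1) * x (-3) := by rw [h]
    · exfalso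
      apply hne
      have e : x (-3) * x (-1) * (x (-3))⁻¹ = x (-3) * x (-2) * (x (-3))⁻¹ := by rw [h, h32]
      have := mul_left_cancel (mul_right_cancel e)
      exact this
    · exact h
  · -- conjugate of `x (-2)` by `x 0`
    have hc := hnorm0 _ h0 _ hm2Q
    rcases (hmemQ _).1 hc with h | h | h | h
    · exfalso
      apply hx.ne_one (-2)
      have : x (-2) = (x 0)⁻¹ * (x 0 * x (-2) * (x 0)⁻¹) * x 0 := by group
      rw [this, h]; group
    · exfalso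
      apply hne
      have e : x 0 * x (-1) * (x 0)⁻¹ = x 0 * x (-2) * (x 0)⁻¹ := by rw [h, h01]
      exact mul_left_cancel (mul_right_cancel e)
    · exfalso
      apply hncomm (-2)
      have e : (-2 : ℤ) + 2 = 0 := by norm_num
      rw [e]
      symm
      calc x 0 * x (-2) = (x 0 * x (-2) * (x 0)⁻¹) * x 0 := by group
        _ = x (-2) * x 0 := by rw [h]
    · rw [h, h12]
  · refine ⟨(S.Pj 0).relIndex (H0 S), hodd, ?_⟩
    have h1 := Subgroup.relIndex_mul_relIndex ⊥ (S.Pj 0) (H0 S) bot_le (Pj_zero_le_H0 S)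
    rw [Subgroup.relIndex_bot_left, Subgroup.relIndex_bot_left] at h1
    have h2 : Nat.card ↥(S.Pj 0) = 8 := by
      rw [hP0, hI.card (-2) 0 (by norm_num) (by norm_num), hp2]
      have : ((0 : ℤ) - (-2)).toNat = 2 := by decide
      rw [this]; norm_num
    rw [h2] at h1
    omega

end Cfsg.Agent.Lib.H16.G85
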