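import Mathlib
import Cfsg.Prelude.Def_Characters
import Cfsg.Agent.Lib.L0.CharOps

/-!
# S4561 piece PICHAR (helper16): the outer product `f ↦ ∏ i, χ (f i)` of an irreducible character
is an irreducible character of the Pi group.
-/

set_option autoImplicit false

open scoped ComplexConjugate

namespace Cfsg.Agent.Lib.H16.GAG

open Cfsg Cfsg.Agent.Lib.L0

/-- a finite product of pulled-back characters is a character -/
theorem isCharacter_prod_eval {ι : Type*} {G : Type*} [Group G] (χ : G → ℂ)
    (hχ : IsCharacter G χ) (s : Finset ι) :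
    IsCharacter (ι → G) (fun f => ∏ i ∈ s, χ (f i)) := by
  classical
  induction s using Finset.induction_on with
  | empty =>
    have h1 : IsCharacter (ι → G) (1 : (ι → G) → ℂ) := isCharacter_of_irr isIrrCharacter_one
    convert h1 using 1
    funext f
    simp
  | insert a s ha ih =>
    have h1 : IsCharacter (ι → G) (χ ∘ (Pi.evalMonoidHom (fun _ : ι => G) a)) :=
      isCharacter_comp _ hχ
    have h2 := isCharacter_mul h1 ih
    convert h2 using 1
    funext f
    rw [Finset.prod_insert ha]
    rfl

/-- PICHAR.  The outer product `f ↦ ∏ i, χ (f i)` is an irreducible character of `ι → G`. -/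
theorem isIrrCharacter_piChar {ι : Type*} [Fintype ι] {G : Type*} [Group G] [Finite G] (χ : G → ℂ)
    (hχ : IsIrrCharacter G χ) : IsIrrCharacter (ι → G) (fun f => ∏ i, χ (f i)) := by
  classical
  have : Fintype G := Fintype.ofFinite G
  have hchar : IsCharacter (ι → G) (fun f => ∏ i, χ (f i)) :=
    isCharacter_prod_eval χ (isCharacter_of_irr hχ) Finset.univ
  apply isIrrCharacter_of_classInner_self_eq_one hchar
  have h1 : classInner χ χ = 1 := irr_classInner_self hχ
  unfold classInner at h1 ⊢
  have hG : (Nat.card G : ℂ) ≠ 0 := by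
    exact_mod_cast (Nat.card_pos (α := G)).ne'
  have hsum : ∑ g : G, χ g * conj (χ g) = (Nat.card G : ℂ) := by
    have := congrArg (fun z => (Nat.card G : ℂ) * z) h1
    simp only [mul_one] at this
    rw [← mul_assoc, mul_inv_cancel₀ hG, one_mul] at this
    exact this
  have hprod : ∑ f : ι → G, (∏ i, χ (f i)) * conj (∏ i, χ (f i)) =
      ∏ _i : ι, ∑ g : G, χ g * conj (χ g) := by
    rw [Finset.prod_univ_sum]
    rw [Fintype.piFinset_univ]
    refine Finset.sum_congr rfl fun f _ => ?_
    rw [map_prod, Finset.prod_mul_distrib]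
  rw [hprod, Finset.prod_const, Finset.card_univ, hsum, Nat.card_pi, Finset.prod_const,
    Finset.card_univ, Nat.cast_pow]
  exact inv_mul_cancel₀ (pow_ne_zero _ hG)

end Cfsg.Agent.Lib.H16.GAG
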