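import Cfsg.Agent.Lib.H13.HSDefs2

/-!
# HS project (architect helper13), stage 2: the block argument in degree 8

Shared core of pieces Q1 (`struct8`) and A7 (`struct8_alt`).
-/

namespace Cfsg.Agent.Lib.H16.HS

open Equiv MulAction Cfsg.Agent.Lib.H13.HS
open scoped Pointwise

/-- The block argument: a transitive, imprimitive group `M` of degree `8` whose point stabilizer
`M_a` is transitive on a `3`-set `Δ` and on the complement of `insert a Δ` preserves the
partition `{insert a Δ, (insert a Δ)ᶜ}`. -/
theorem hsblk_core {α : Type*} [Finite α] (h8 : Nat.card α = 8) {M : Subgroup (Perm α)}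
    (htr : IsPretransitive M α) (hnp : ¬ IsPreprimitive M α)
    (a : α) (Δ : Set α) (hΔ : Δ.ncard = 3) (ha : a ∉ Δ)
    (hmoveΔ : ∀ x ∈ Δ, ∀ y ∈ Δ, ∃ g ∈ M, g a = a ∧ g x = y)
    (hmoveC : ∀ x, x ∉ insert a Δ → ∀ y, y ∉ insert a Δ → ∃ g ∈ M, g a = a ∧ g x = y) :
    M ≤ partStab (insert a Δ) := by
  classical
  -- a nontrivial block
  have hex : ∃ B : Set α, IsBlock M B ∧ ¬ IsTrivialBlock B := by
    by_contra hcon
    push Not at hcon
    exact hnp { toIsPretransitive := htr, isTrivialBlock_of_isBlock := fun {B} hB => hcon B hB }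
  obtain ⟨B₀, hB₀, hB₀nt⟩ := hex
  have hne : B₀.Nonempty := by
    by_contra h
    rw [Set.not_nonempty_iff_eq_empty] at h
    exact hB₀nt (Or.inl (h ▸ Set.subsingleton_empty))
  obtain ⟨x₀, hx₀⟩ := hne
  obtain ⟨g₀, hg₀⟩ := htr.exists_smul_eq x₀ a
  have hB : IsBlock M (g₀ • B₀) := hB₀.translate g₀
  have hBnt : ¬ IsTrivialBlock (g₀ • B₀) := fun h => hB₀nt ((IsTrivialBlock.smul_iff g₀).mp h)
  have haB : a ∈ g₀ • B₀ := by rw [← hg₀]; exact Set.smul_mem_smul_set hx₀
  generalize g₀ • B₀ = B at hB hBnt haB
  -- invariance under the point stabilizer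
  have hinv : ∀ g ∈ M, g a = a → ∀ x ∈ B, g x ∈ B := by
    intro g hg hga x hx
    have h1 : (⟨g, hg⟩ : M) • a ∈ B := by
      have : (⟨g, hg⟩ : M) • a = g a := rfl
      rw [this, hga]; exact haB
    have h2 : (⟨g, hg⟩ : M) • B = B := hB.smul_eq_of_mem haB h1
    have h3 : (⟨g, hg⟩ : M) • x ∈ (⟨g, hg⟩ : M) • B := Set.smul_mem_smul_set hx
    rw [h2] at h3
    exact h3
  have hΔall : (∃ x ∈ Δ, x ∈ B) → ∀ y ∈ Δ, y ∈ B := by
    rintro ⟨x, hxΔ, hxB⟩ y hy
    obtain ⟨g, hg, hga, hgx⟩ := hmoveΔ x hxΔ y hy
    rw [← hgx]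
    exact hinv g hg hga x hxB
  have hCall : (∃ x, x ∉ insert a Δ ∧ x ∈ B) → ∀ y, y ∉ insert a Δ → y ∈ B := by
    rintro ⟨x, hxC, hxB⟩ y hy
    obtain ⟨g, hg, hga, hgx⟩ := hmoveC x hxC y hy
    rw [← hgx]
    exact hinv g hg hga x hxB
  have hcard4 : (insert a Δ).ncard = 4 := by
    rw [Set.ncard_insert_of_notMem ha (Set.toFinite Δ), hΔ]
  -- identify the block
  have hBeq : B = insert a Δ := by
    by_cases h1 : ∃ x ∈ Δ, x ∈ B
    · by_cases h2 : ∃ x, x ∉ insert a Δ ∧ x ∈ B
      · exfalso
        apply hBnt
        right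
        ext z
        simp only [Set.mem_univ, iff_true]
        by_cases hz : z ∈ insert a Δ
        · rcases hz with rfl | hz
          · exact haB
          · exact hΔall h1 z hz
        · exact hCall h2 z hz
      · push Not at h2
        ext z
        constructor
        · intro hz
          by_contra hz'
          exact h2 z hz' hz
        · rintro (rfl | hz)
          · exact haB
          · exact hΔall h1 z hz
    · exfalso
      push Not at h1
      by_cases h2 : ∃ x, x ∉ insert a Δ ∧ x ∈ B
      · -- B = Δᶜ has 5 elements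
        have hBc : B = Δᶜ := by
          ext z
          constructor
          · intro hz hzΔ
            exact h1 z hzΔ hz
          · intro hz
            by_cases hza : z = a
            · rw [hza]; exact haB
            · apply hCall h2 z
              rintro (h | h)
              · exact hza h
              · exact hz h
        have h5 : B.ncard = 5 := by
          have := Set.ncard_add_ncard_compl Δ
          rw [hBc]
          omega
        have hdvd : B.ncard ∣ Nat.card α := hB.ncard_dvd_card ⟨a, haB⟩
        rw [h5, h8] at hdvd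
        omega
      · push Not at h2
        apply hBnt
        left
        intro x hx y hy
        have hxa : x = a := by
          by_contra hxa
          by_cases hxΔ : x ∈ Δ
          · exact h1 x hxΔ hx
          · exact h2 x (by rintro (h | h); exacts [hxa h, hxΔ h]) hx
        have hya : y = a := by
          by_contra hya
          by_cases hyΔ : y ∈ Δ
          · exact h1 y hyΔ hy
          · exact h2 y (by rintro (h | h); exacts [hya h, hyΔ h]) hy
        rw [hxa, hya]
  subst hBeq
  -- every element of M preserves the partition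
  intro g hg
  have hcompl4 : (insert a Δ)ᶜ.ncard = 4 := by
    have := Set.ncard_add_ncard_compl (insert a Δ)
    omega
  have hsm : (⟨g, hg⟩ : M) • (insert a Δ) = g • (insert a Δ) := rfl
  unfold partStab
  rw [mem_stabilizer_iff, Set.smul_set_insert, Set.smul_set_singleton, Set.smul_set_compl]
  rcases hB.smul_eq_or_disjoint ⟨g, hg⟩ with h | h
  · rw [hsm] at h
    rw [h]
  · rw [hsm] at h
    have hsub : g • (insert a Δ) ⊆ (insert a Δ)ᶜ := Set.subset_compl_iff_disjoint_right.mpr h
    have heq : g • (insert a Δ) = (insert a Δ)ᶜ := by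
      apply Set.eq_of_subset_of_ncard_le hsub
      rw [Set.ncard_smul_set, hcard4, hcompl4]
    rw [heq, compl_compl, Set.pair_comm]

end Cfsg.Agent.Lib.H16.HS
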