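import Mathlib

/-!
helper16 library (S3050, piece ALG of helper15's blueprint): an additive map `θ` from a perfect
field of characteristic 2 with more than two elements to a vector space over it which satisfies
`θ 1 = a θ(a⁻²) + θ(a⁻¹) + θ(a)` for all `a ≠ 0` vanishes.
-/

set_option autoImplicit false

namespace Cfsg.Agent.Lib.H16.Hig

theorem theta_eq_zero {K : Type*} [Field K] [CharP K 2] {M : Type*} [AddCommGroup M] [Module K M]
    (hbig : ∃ c : K, c ≠ 0 ∧ c ≠ 1) (hsq : ∀ c : K, ∃ a : K, a ^ 2 = c)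
    (θ : K →+ M) (h : ∀ a : K, a ≠ 0 → θ 1 = a • θ (a⁻¹ ^ 2) + θ a⁻¹ + θ a) :
    ∀ a, θ a = 0 := by
  have h2 : ∀ x : M, x + x = 0 := by
    intro x
    have : (2 : K) • x = 0 := by rw [CharTwo.two_eq_zero, zero_smul]
    rwa [two_smul] at this
  have s1 : ∀ a : K, a ≠ 0 → a • θ (a⁻¹ ^ 2) = a⁻¹ • θ (a ^ 2) := by
    intro a ha
    have e1 := h a ha
    have e2 := h a⁻¹ (inv_ne_zero ha)
    rw [inv_inv] at e2
    linear_combination (norm := module) e2 - e1
  have s2 : ∀ c : K, c ≠ 0 → θ c⁻¹ = c⁻¹ • θ c := by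
    intro c hc
    obtain ⟨a, rfl⟩ := hsq c
    have ha : a ≠ 0 := by
      rintro rfl
      simp at hc
    have e := s1 a ha
    rw [inv_pow] at e
    have e' := congrArg (fun x => a⁻¹ • x) e
    simp only [smul_smul, inv_mul_cancel₀ ha, one_smul] at e'
    rw [e', pow_two, mul_inv]
  have s3 : ∀ a : K, θ (a ^ 2) = a • θ 1 + θ a + a • θ a := by
    intro a
    by_cases ha : a = 0
    · subst ha
      simp
    have e := h a ha
    rw [s1 a ha, s2 a ha] at e
    have e' := congrArg (fun x => a • x) e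
    simp only [smul_add, smul_smul, mul_inv_cancel₀ ha, one_smul] at e'
    linear_combination (norm := module) - e' - h2 (θ a) - h2 (a • θ a)
  have s4 : ∀ a b : K, a • θ b = b • θ a := by
    intro a b
    have ea := s3 a
    have eb := s3 b
    have eab := s3 (a + b)
    rw [CharTwo.add_sq, map_add, map_add, ea, eb] at eab
    linear_combination (norm := module) - eab - h2 (b • θ a)
  have s5 : ∀ a : K, θ a = a • θ 1 := by
    intro a
    have := s4 a 1
    rw [one_smul] at this
    exact this.symm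
  obtain ⟨c, hc0, hc1⟩ := hbig
  have e := h c hc0
  rw [s5 (c⁻¹ ^ 2), s5 c⁻¹, s5 c] at e
  have hz : (c - 1) • θ 1 = 0 := by
    have hcc : c * c⁻¹ ^ 2 = c⁻¹ := by
      field_simp
    rw [smul_smul, hcc] at e
    linear_combination (norm := module) - e - h2 (c⁻¹ • θ 1)
  have h1 : θ 1 = 0 := by
    rcases smul_eq_zero.1 hz with h' | h'
    · exact absurd (sub_eq_zero.1 h') hc1
    · exact h'
  intro a
  rw [s5 a, h1, smul_zero]

end Cfsg.Agent.Lib.H16.Hig
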