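import Mathlib
import Cfsg.Agent.Lib.H15.HigVPINV
import Cfsg.Agent.Lib.H6.HigXV0

/-!
helper16 library (S3050, piece COMM of helper15's blueprint): for `m ∈ X` the double `m + m` lies
in `V0`, and the identity obtained from `U 1 U a = U a U 1` applied to `W m`.
-/

set_option autoImplicit false

namespace Cfsg.Agent.Lib.H16.Hig

open Cfsg.Agent.Lib.H15.Hig

variable {K : Type*} [Field K] [CharP K 2] {V : Type*} [AddCommGroup V] (O : Ops K V)

theorem two_mem_V0 (hg : Good K V) {m : V} (hm : m ∈ X O) : m + m ∈ V0 O := by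
  intro a
  have hp := Cfsg.Agent.Lib.H6.Hig.sub_mem_V0_of_mem_X O hg hm a
  have h2 := add_self_of_mem_V0 O hg hp
  rw [map_add]
  linear_combination (norm := abel) h2

theorem comm_identity (hg : Good K V) {m : V} (hm : m ∈ X O) {a : K} (ha : a ≠ 0) :
    O.H a (m + m) + (m + m) =
      O.H a (O.U (a⁻¹ ^ 2) m - m) + (O.U a⁻¹ m - m) + (O.U a m - m) + O.H a (O.U 1 m - m) := by
  have hp : ∀ b, O.U b m - m ∈ V0 O :=
    fun b => Cfsg.Agent.Lib.H6.Hig.sub_mem_V0_of_mem_X O hg hm b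
  have hp1 := hp 1
  have hpa := hp a
  have hpi := hp a⁻¹
  have hps := hp (a⁻¹ ^ 2)
  have hs := two_mem_V0 O hg hm
  generalize hq1 : O.U 1 m - m = q1 at hp1 ⊢
  generalize hqa : O.U a m - m = qa at hpa ⊢
  generalize hqi : O.U a⁻¹ m - m = qi at hpi ⊢
  generalize hqs : O.U (a⁻¹ ^ 2) m - m = qs at hps ⊢
  have u1 : O.U 1 m = m + q1 := by rw [← hq1]; abel
  have ua : O.U a m = m + qa := by rw [← hqa]; abel
  have ui : O.U a⁻¹ m = m + qi := by rw [← hqi]; abel
  have us : O.U (a⁻¹ ^ 2) m = m + qs := by rw [← hqs]; abel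
  have f_comm : O.U 1 (O.U a (O.W m)) = O.U a (O.U 1 (O.W m)) := by
    rw [← O.U_add, ← O.U_add, add_comm]
  have star_a : O.U a (O.W m) = - O.H a m - O.W m - O.W qi := by
    rw [U_W_general O ha m, ui, map_add]
    abel
  have star_1 : O.U 1 (O.W m) = - m - (O.W m + O.W q1) := by
    rw [U_W_general O one_ne_zero m, inv_one, O.H_one, u1, map_add]
  have g1 : O.U 1 (O.H a m) = O.H a m + O.H a qs := by
    have h := O.H_U a (a⁻¹ ^ 2) ha m
    have e : a ^ 2 * a⁻¹ ^ 2 = 1 := by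
      rw [← mul_pow, mul_inv_cancel₀ ha, one_pow]
    rw [e, us, map_add] at h
    exact h.symm
  have g3 : O.U 1 (O.W qi) = qi + O.W qi := by
    rw [U_W_of_mem_V0' O hg one_ne_zero hpi, O.H_one]
  have g6 : O.U a (O.W q1) = O.H a q1 + O.W q1 := U_W_of_mem_V0' O hg ha hp1
  have L : O.U 1 (O.U a (O.W m)) =
      - (O.H a m + O.H a qs) - (- m - (O.W m + O.W q1)) - (qi + O.W qi) := by
    rw [star_a, map_sub, map_sub, map_neg, g1, star_1, g3]
  have R : O.U a (O.U 1 (O.W m)) =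
      - (m + qa) - ((- O.H a m - O.W m - O.W qi) + (O.H a q1 + O.W q1)) := by
    rw [star_1, map_sub, map_neg, map_add, ua, star_a, g6]
  have key := L.symm.trans (f_comm.trans R)
  have e_qa : qa + qa = 0 := add_self_of_mem_V0 O hg hpa
  have e_hq1 : O.H a q1 + O.H a q1 = 0 := add_self_of_mem_V0 O hg (H_mem_V0 O ha hp1)
  have e_wq1 : O.W q1 + O.W q1 = 0 := by
    rw [← map_add, add_self_of_mem_V0 O hg hp1, map_zero]
  have e_wqi : O.W qi + O.W qi = 0 := by
    rw [← map_add, add_self_of_mem_V0 O hg hpi, map_zero]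
  have e_hs : (O.H a m + O.H a m) + (O.H a m + O.H a m) = 0 := by
    have := add_self_of_mem_V0 O hg (H_mem_V0 O ha hs)
    rwa [map_add] at this
  rw [map_add]
  linear_combination (norm := abel) key + e_hs - e_wq1 + e_wqi - e_qa - e_hq1

end Cfsg.Agent.Lib.H16.Hig
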