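import Mathlib
import Cfsg.Agent.Lib.H16.HigALG
import Cfsg.Agent.Lib.H16.HigCOMM

/-!
helper16 library (S3050, piece XLE of helper15's blueprint): `X ≤ Vp`.
-/

set_option autoImplicit false

namespace Cfsg.Agent.Lib.H16.Hig

open Cfsg.Agent.Lib.H15.Hig

variable {K : Type*} [Field K] [CharP K 2] {V : Type*} [AddCommGroup V] (O : Ops K V)

theorem X_le_Vp (hg : Good K V) : X O ≤ Vp O := by
  intro m hm
  let _ := modV0 O hg
  have hp : ∀ b, O.U b m - m ∈ V0 O :=
    fun b => Cfsg.Agent.Lib.H6.Hig.sub_mem_V0_of_mem_X O hg hm b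
  let P : K → V0 O := fun a => ⟨O.U a m - m, hp a⟩
  let s : V0 O := ⟨m + m, two_mem_V0 O hg hm⟩
  have hPadd : ∀ a b, P (a + b) = P a + P b := by
    intro a b
    apply Subtype.ext
    exact Cfsg.Agent.Lib.H6.Hig.sub_add_of_mem_X O hg hm a b
  have h2 : ∀ x : V0 O, x + x = 0 := fun x => by
    apply Subtype.ext
    exact add_self_of_mem_V0 O hg x.2
  let θ : K →+ V0 O := AddMonoidHom.mk' (fun a => P a + a • P 1 + a • s) (by
    intro a b
    simp only [hPadd, add_smul]
    abel)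
  have hθ : ∀ a, θ a = P a + a • P 1 + a • s := fun a => rfl
  have hC : ∀ a : K, a ≠ 0 → a • s + s = a • P (a⁻¹ ^ 2) + P a⁻¹ + P a + a • P 1 := by
    intro a ha
    apply Subtype.ext
    simp only [AddSubgroup.coe_add]
    rw [coe_smul_V0 O hg ha, coe_smul_V0 O hg ha, coe_smul_V0 O hg ha]
    exact comm_identity O hg hm ha
  have hi : ∀ a : K, a ≠ 0 → θ 1 = a • θ (a⁻¹ ^ 2) + θ a⁻¹ + θ a := by
    intro a ha
    rw [hθ, hθ, hθ, hθ, one_smul, one_smul]
    have e1 : a • (a⁻¹ ^ 2 • P 1) = a⁻¹ • P 1 := by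
      rw [smul_smul]
      congr 1
      field_simp
    have e2 : a • (a⁻¹ ^ 2 • s) = a⁻¹ • s := by
      rw [smul_smul]
      congr 1
      field_simp
    rw [smul_add, smul_add, e1, e2]
    have hc := hC a ha
    linear_combination (norm := abel) h2 (P 1) + hc - h2 (a⁻¹ • P 1) - h2 (a⁻¹ • s) - h2 (a • s)
  have hz := theta_eq_zero hg.big hg.sq θ hi
  have hs0 : s = 0 := by
    have h1 := hz 1
    rw [hθ, one_smul, one_smul, h2 (P 1), zero_add] at h1
    exact h1
  have hP : ∀ a : K, P a = a • P 1 := by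
    intro a
    have h1 := hz a
    rw [hθ, hs0, smul_zero, add_zero] at h1
    linear_combination (norm := abel) h1 - h2 (a • P 1)
  have hPH : ∀ a : K, a ≠ 0 → O.U a m - m = O.H a (O.U 1 m - m) := by
    intro a ha
    have := congrArg Subtype.val (hP a)
    rw [coe_smul_V0 O hg ha] at this
    exact this
  have hp1 := hp 1
  have hm' : m + O.W (O.U 1 m - m) ∈ V0 O := by
    intro a
    by_cases ha : a = 0
    · rw [ha, O.U_zero]
    · rw [map_add, U_W_of_mem_V0' O hg ha hp1]
      have e := hPH a ha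
      have e2 := add_self_of_mem_V0 O hg (H_mem_V0 O ha hp1)
      linear_combination (norm := abel) e + e2
  refine (mem_Vp O).2 ⟨_, hm', _, hp1, ?_⟩
  have e : O.W (O.U 1 m - m) + O.W (O.U 1 m - m) = 0 := by
    rw [← map_add, add_self_of_mem_V0 O hg hp1, map_zero]
  linear_combination (norm := abel) e

end Cfsg.Agent.Lib.H16.Hig
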