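import Mathlib

set_option autoImplicit false

/-!
# S3206 piece COMB: the extraspecial-type contradiction
-/

namespace Cfsg.Agent.Lib.H16.JRCOMB

/-- a swap rule: if `a`, `b`, `a * b` all square to the central involution `z` then `a * b = z * (b * a)` -/
theorem swap_of_sq {L : Type*} [Group L] (z : L) (hzz : z * z = 1) (hzc : ∀ x : L, z * x = x * z)
    (a b : L) (ha : a * a = z) (hb : b * b = z) (hab : (a * b) * (a * b) = z) :
    a * b = z * (b * a) := by
  have hainv : a⁻¹ = z * a := by
    apply inv_eq_of_mul_eq_one_right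
    calc a * (z * a) = z * (a * a) := by rw [← mul_assoc, ← hzc a, mul_assoc]
      _ = 1 := by rw [ha, hzz]
  have hbinv : b⁻¹ = z * b := by
    apply inv_eq_of_mul_eq_one_right
    calc b * (z * b) = z * (b * b) := by rw [← mul_assoc, ← hzc b, mul_assoc]
      _ = 1 := by rw [hb, hzz]
  have h1 : a * b = z * (a * b)⁻¹ := by
    have : (a * b) * (a * b) * (a * b)⁻¹ = z * (a * b)⁻¹ := by rw [hab]
    rwa [mul_assoc, mul_inv_cancel, mul_one] at this
  rw [h1, mul_inv_rev, hbinv, hainv]
  have hzc' : ∀ x : L, x * z = z * x := fun x => (hzc x).symm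
  calc z * (z * b * (z * a)) = z * (z * (z * (b * a))) := by
        rw [mul_assoc z b, ← mul_assoc b z a, hzc' b, mul_assoc z b a]
    _ = z * (b * a) := by rw [← mul_assoc z z, hzz, one_mul]

theorem COMB {G L : Type*} [Group G] [Group L] [Finite G] (f : L →* G) (hf : Function.Surjective f)
    (S : Subgroup G) (hcard : 4 < Nat.card ↥S) (hexp : ∀ s ∈ S, s * s = 1)
    (z : L) (hz1 : z ≠ 1) (hker : ∀ k : L, f k = 1 ↔ k = 1 ∨ k = z) (hzc : ∀ x : L, z * x = x * z)
    (hsq : ∀ a b : L, f a ∈ S → f b ∈ S → f a ≠ 1 → f b ≠ 1 → a * a = b * b)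
    (hzT : z ∈ ⁅S.comap f, S.comap f⁆) : False := by
  classical
  haveI : Fintype ↥S := Fintype.ofFinite _
  have hfz : f z = 1 := (hker z).2 (Or.inr rfl)
  have hzz : z * z = 1 := by
    have h1 : f (z * z) = 1 := by rw [map_mul, hfz, one_mul]
    rcases (hker _).1 h1 with h | h
    · exact h
    · exfalso
      apply hz1
      have : z * z = z * 1 := by rw [mul_one]; exact h
      exact mul_left_cancel this
  -- choosing elements outside small finsets
  have key : ∀ s : Finset ↥S, s.card ≤ 4 → ∃ x : ↥S, x ∉ s := by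
    intro s hs
    by_contra h
    push Not at h
    have h1 : Nat.card ↥S ≤ s.card := by
      rw [Nat.card_eq_fintype_card]
      exact Finset.card_le_card (fun x _ => h x)
    omega
  obtain ⟨y', hy'⟩ := key {1} (by simp)
  obtain ⟨w', hw'⟩ := key {1, y'} (le_trans (Finset.card_insert_le _ _) (by simp))
  obtain ⟨x', hx'⟩ := key {1, y', w', y' * w'} (by
    refine le_trans (Finset.card_insert_le _ _) ?_
    refine Nat.succ_le_succ (le_trans (Finset.card_insert_le _ _) ?_)
    refine Nat.succ_le_succ (le_trans (Finset.card_insert_le _ _) ?_)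
    simp)
  simp only [Finset.mem_insert, Finset.mem_singleton, not_or] at hy' hw' hx'
  obtain ⟨y, hy⟩ := hf y'.1
  obtain ⟨w, hw⟩ := hf w'.1
  obtain ⟨x, hx⟩ := hf x'.1
  have hyS : f y ∈ S := hy ▸ y'.2
  have hwS : f w ∈ S := hw ▸ w'.2
  have hxS : f x ∈ S := hx ▸ x'.2
  have hy1 : f y ≠ 1 := by
    rw [hy]; intro h; exact hy' (Subtype.ext h)
  have hw1 : f w ≠ 1 := by
    rw [hw]; intro h; exact hw'.1 (Subtype.ext h)
  have hwy : f w ≠ f y := by
    rw [hw, hy]; intro h; exact hw'.2 (Subtype.ext h)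
  have hx1 : f x ≠ 1 := by
    rw [hx]; intro h; exact hx'.1 (Subtype.ext h)
  have hxy : f x ≠ f y := by
    rw [hx, hy]; intro h; exact hx'.2.1 (Subtype.ext h)
  have hxw : f x ≠ f w := by
    rw [hx, hw]; intro h; exact hx'.2.2.1 (Subtype.ext h)
  have hxyw : f x ≠ f y * f w := by
    rw [hx, hy, hw]; intro h; exact hx'.2.2.2 (Subtype.ext h)
  -- inverse in S is the element itself
  have hinvS : ∀ s ∈ S, s⁻¹ = s := fun s hs => inv_eq_of_mul_eq_one_right (hexp s hs)
  -- products of distinct nonidentity elements of S are nonidentity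
  have hprod : ∀ a b : L, f a ∈ S → f b ∈ S → f a ≠ f b → f (a * b) ≠ 1 := by
    intro a b _ hb hne h
    rw [map_mul] at h
    apply hne
    rw [eq_inv_of_mul_eq_one_left h, hinvS _ hb]
  -- the common square
  have hc : f (y * y) = 1 := by rw [map_mul]; exact hexp _ hyS
  rcases (hker _).1 hc with hc1 | hcz
  · -- exponent 2: T abelian
    have hsq1 : ∀ a : L, f a ∈ S → a * a = 1 := by
      intro a ha
      by_cases h1 : f a = 1
      · rcases (hker a).1 h1 with h | h
        · rw [h, one_mul]
        · rw [h]; exact hzz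
      · rw [hsq a y ha hyS h1 hy1]; exact hc1
    have hcomm : ∀ a b : L, f a ∈ S → f b ∈ S → a * b = b * a := by
      intro a b ha hb
      have hab : f (a * b) ∈ S := by rw [map_mul]; exact S.mul_mem ha hb
      have h1 := hsq1 _ hab
      have ha1 := hsq1 a ha
      have hb1 := hsq1 b hb
      have hainv : a⁻¹ = a := inv_eq_of_mul_eq_one_right ha1
      have hbinv : b⁻¹ = b := inv_eq_of_mul_eq_one_right hb1
      have h2 : (a * b)⁻¹ = a * b := inv_eq_of_mul_eq_one_right h1
      rw [mul_inv_rev, hainv, hbinv] at h2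
      exact h2.symm
    have hbot : ⁅S.comap f, S.comap f⁆ = ⊥ := by
      rw [Subgroup.commutator_eq_bot_iff_le_centralizer]
      intro a ha
      rw [Subgroup.mem_centralizer_iff]
      intro b hb
      exact hcomm b a hb ha
    rw [hbot, Subgroup.mem_bot] at hzT
    exact hz1 hzT
  · -- all squares are z
    have hsqz : ∀ a : L, f a ∈ S → f a ≠ 1 → a * a = z := by
      intro a ha h1
      rw [hsq a y ha hyS h1 hy1]; exact hcz
    have hswap : ∀ a b : L, f a ∈ S → f b ∈ S → f a ≠ 1 → f b ≠ 1 → f a ≠ f b →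
        a * b = z * (b * a) := by
      intro a b ha hb ha1 hb1 hne
      have hab : f (a * b) ∈ S := by rw [map_mul]; exact S.mul_mem ha hb
      exact swap_of_sq z hzz hzc a b (hsqz a ha ha1) (hsqz b hb hb1)
        (hsqz (a * b) hab (hprod a b ha hb hne))
    have hywS : f (y * w) ∈ S := by rw [map_mul]; exact S.mul_mem hyS hwS
    have hyw1 : f (y * w) ≠ 1 := hprod y w hyS hwS (Ne.symm hwy)
    have h1 : x * (y * w) = z * ((y * w) * x) :=
      hswap x (y * w) hxS hywS hx1 hyw1 (by rw [map_mul]; exact hxyw)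
    have h2 : x * y = z * (y * x) := hswap x y hxS hyS hx1 hy1 hxy
    have h3 : x * w = z * (w * x) := hswap x w hxS hwS hx1 hw1 hxw
    have h4 : x * (y * w) = (y * w) * x := by
      calc x * (y * w) = (x * y) * w := by rw [mul_assoc]
        _ = z * (y * x) * w := by rw [h2]
        _ = z * (y * (x * w)) := by simp only [mul_assoc]
        _ = z * (y * (z * (w * x))) := by rw [h3]
        _ = (z * z) * (y * (w * x)) := by
            rw [← mul_assoc y z, ← hzc y]
            simp only [mul_assoc]
        _ = (y * w) * x := by rw [hzz, one_mul, mul_assoc]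
    rw [h4] at h1
    apply hz1
    have : 1 * ((y * w) * x) = z * ((y * w) * x) := by rw [one_mul]; exact h1
    exact (mul_right_cancel this).symm

end Cfsg.Agent.Lib.H16.JRCOMB
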