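import Mathlib
import Cfsg.Prelude.Def_CaseTheorems
import Cfsg.Prelude.Def_TwoFusion
import Cfsg.Agent.Lib.H5.JRPSL2F
import Cfsg.Agent.Lib.H22.JRTRANSPORT
import Cfsg.Agent.Lib.H22.JRINN

set_option autoImplicit false

/-!
# S3206 piece SYL: the Sylow 2-subgroup of a group of Janko-Ree type is elementary abelian of order 8
-/

namespace Cfsg.Agent.Lib.H16.JRSYL

theorem mem_sup_of_commute {G : Type*} [Group G] (H K : Subgroup G)
    (hc : ∀ a ∈ H, ∀ b ∈ K, a * b = b * a) {x : G} (hx : x ∈ H ⊔ K) :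
    ∃ y ∈ H, ∃ z ∈ K, y * z = x := by
  rw [Subgroup.sup_eq_closure] at hx
  induction hx using Subgroup.closure_induction with
  | mem x hx =>
    rcases hx with hx | hx
    · exact ⟨x, hx, 1, K.one_mem, mul_one x⟩
    · exact ⟨1, H.one_mem, x, hx, one_mul x⟩
  | one => exact ⟨1, H.one_mem, 1, K.one_mem, mul_one 1⟩
  | mul a b _ _ iha ihb =>
    obtain ⟨y₁, hy₁, z₁, hz₁, rfl⟩ := iha
    obtain ⟨y₂, hy₂, z₂, hz₂, rfl⟩ := ihb
    refine ⟨y₁ * y₂, H.mul_mem hy₁ hy₂, z₁ * z₂, K.mul_mem hz₁ hz₂, ?_⟩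
    calc y₁ * y₂ * (z₁ * z₂) = y₁ * (y₂ * z₁) * z₂ := by simp only [mul_assoc]
      _ = y₁ * (z₁ * y₂) * z₂ := by rw [hc y₂ hy₂ z₁ hz₁]
      _ = y₁ * z₁ * (y₂ * z₂) := by simp only [mul_assoc]
  | inv a _ iha =>
    obtain ⟨y, hy, z, hz, rfl⟩ := iha
    refine ⟨y⁻¹, H.inv_mem hy, z⁻¹, K.inv_mem hz, ?_⟩
    rw [mul_inv_rev, hc _ (H.inv_mem hy) _ (K.inv_mem hz)]

theorem SYL {G : Type*} [Group G] [Finite G]
    (hab : ∀ S : Sylow 2 G, IsMulCommutative ↥(S : Subgroup G))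
    (t : G) (ht : orderOf t = 2) (E : Subgroup G)
    (hE : Cfsg.IsInternalDirectProduct (Subgroup.zpowers t) E (Subgroup.centralizer ({t} : Set G)))
    {F : Type*} [Field F] [Fintype F] (hFo : Odd (Fintype.card F)) (hF3 : 3 < Fintype.card F)
    (N : Subgroup ↥E) [N.Normal] (hN : Nonempty (↥N ≃* Matrix.ProjectiveSpecialLinearGroup (Fin 2) F))
    (hNc : Subgroup.centralizer (N : Set ↥E) = ⊥) :
    ∃ S : Sylow 2 G, Nat.card ↥(S : Subgroup G) = 8 ∧ ∀ s ∈ (S : Subgroup G), s * s = 1 := by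
  classical
  have : Fact (Nat.Prime 2) := ⟨Nat.prime_two⟩
  obtain ⟨e⟩ := hN
  obtain ⟨hzC, hEC, hcomm, hdisj, hsup⟩ := hE
  -- all 2-subgroups of G are abelian
  have h2ab : ∀ Q : Subgroup G, IsPGroup 2 ↥Q → ∀ a ∈ Q, ∀ b ∈ Q, a * b = b * a := by
    intro Q hQ a ha b hb
    obtain ⟨P, hP⟩ := hQ.exists_le_sylow
    have := (hab P).is_comm.comm (⟨a, hP ha⟩ : (P : Subgroup G)) ⟨b, hP hb⟩
    exact congrArg Subtype.val this
  -- the embedding of N into G
  let ι : ↥N →* G := E.subtype.comp N.subtype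
  have hι : Function.Injective ι :=
    (Subgroup.subtype_injective E).comp (Subgroup.subtype_injective N)
  have hιE : ∀ n : ↥N, ι n ∈ E := fun n => (n : ↥E).2
  -- 2-subgroups of PSL2 are abelian
  have habP : ∀ Q : Subgroup (Matrix.ProjectiveSpecialLinearGroup (Fin 2) F), IsPGroup 2 ↥Q →
      ∀ a ∈ Q, ∀ b ∈ Q, a * b = b * a := by
    intro Q hQ a ha b hb
    let j : Matrix.ProjectiveSpecialLinearGroup (Fin 2) F →* G := ι.comp e.symm.toMonoidHom
    have hj : Function.Injective j := hι.comp e.symm.injective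
    have h1 := h2ab (Q.map j) (hQ.map j) (j a) (Subgroup.mem_map_of_mem j ha) (j b)
      (Subgroup.mem_map_of_mem j hb)
    apply hj
    rw [map_mul, map_mul]
    exact h1
  obtain ⟨hZ', hcore', P', hc4', hexp', hcen'⟩ := Cfsg.Agent.Lib.H5.JRPSL2F.PSL2F hFo hF3 habP
  obtain ⟨hZ, hcore, V, hV4, hVexp, hVc⟩ := Cfsg.Agent.Lib.H22.JRTRANSPORT.TRANSPORT e hZ' hcore' P' hc4' hexp' hcen'
  -- the 2-group W = <t> V
  have ht2 : IsPGroup 2 ↥(Subgroup.zpowers t) := by
    apply IsPGroup.of_card (n := 1)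
    rw [Nat.card_zpowers, ht, pow_one]
  have hVG2 : IsPGroup 2 ↥((V : Subgroup ↥N).map ι) := V.2.map ι
  have htE : ∀ x ∈ E, t * x = x * t := by
    intro x hx
    exact hcomm t (Subgroup.mem_zpowers t) x hx
  have hnorm : Subgroup.zpowers t ≤ Subgroup.normalizer (((V : Subgroup ↥N).map ι : Subgroup G) : Set G) := by
    rw [Subgroup.zpowers_le]
    rw [Subgroup.mem_normalizer_iff]
    intro h
    have key : ∀ x : G, x ∈ E → t * x * t⁻¹ = x := by
      intro x hx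
      rw [htE x hx, mul_assoc, mul_inv_cancel, mul_one]
    constructor
    · intro hh
      obtain ⟨v, hv, rfl⟩ := hh
      rw [key _ (hιE v)]
      exact Subgroup.mem_map_of_mem ι hv
    · intro hh
      obtain ⟨v, hv, hveq⟩ := hh
      have h1 : h = t⁻¹ * ι v * t := by rw [hveq]; group
      have h2 : t⁻¹ * ι v * t = ι v := by
        rw [mul_assoc, ← htE _ (hιE v), ← mul_assoc, inv_mul_cancel, one_mul]
      rw [h1, h2]
      exact Subgroup.mem_map_of_mem ι hv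
  have hW2 : IsPGroup 2 ↥(Subgroup.zpowers t ⊔ (V : Subgroup ↥N).map ι) :=
    IsPGroup.to_sup_of_normal_right' ht2 hVG2 hnorm
  obtain ⟨S, hWS⟩ := hW2.exists_le_sylow
  have htS : Subgroup.zpowers t ≤ S := le_trans le_sup_left hWS
  have hVS : (V : Subgroup ↥N).map ι ≤ S := le_trans le_sup_right hWS
  have hcommS : ∀ a ∈ (S : Subgroup G), ∀ b ∈ (S : Subgroup G), a * b = b * a := h2ab _ S.2
  have htmem : t ∈ (S : Subgroup G) := htS (Subgroup.mem_zpowers t)
  -- apply INN inside E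
  have hQle := Cfsg.Agent.Lib.H22.JRINN.INN N hNc hZ hcore V hVc ((S : Subgroup G).subgroupOf E)
    (S.2.comap_subtype) (by
      intro a ha b hb
      rw [Subgroup.mem_subgroupOf] at ha hb
      apply Subtype.ext
      exact hcommS _ ha _ hb) (by
      rintro x ⟨v, hv, rfl⟩
      rw [Subgroup.mem_subgroupOf]
      exact hVS (Subgroup.mem_map_of_mem ι hv))
  -- decomposition of elements of S
  have hdec : ∀ s ∈ (S : Subgroup G), ∃ y ∈ Subgroup.zpowers t, ∃ v ∈ (V : Subgroup ↥N), y * ι v = s := by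
    intro s hs
    have hsC : s ∈ Subgroup.centralizer ({t} : Set G) := by
      rw [Subgroup.mem_centralizer_iff]
      intro x hx
      rw [Set.mem_singleton_iff] at hx
      rw [hx]
      exact hcommS _ htmem _ hs
    rw [← hsup] at hsC
    obtain ⟨y, hy, x, hx, rfl⟩ := mem_sup_of_commute _ _ hcomm hsC
    have hxS : x ∈ (S : Subgroup G) := by
      have : x = y⁻¹ * (y * x) := by group
      rw [this]
      exact Subgroup.mul_mem _ (Subgroup.inv_mem _ (htS hy)) hs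
    have hxQ : (⟨x, hx⟩ : ↥E) ∈ (S : Subgroup G).subgroupOf E := by
      rw [Subgroup.mem_subgroupOf]; exact hxS
    obtain ⟨v, hv, hveq⟩ := hQle hxQ
    refine ⟨y, hy, v, hv, ?_⟩
    have : ι v = x := congrArg Subtype.val hveq
    rw [this]
  -- squares
  have hysq : ∀ y ∈ Subgroup.zpowers t, y * y = 1 := by
    intro y hy
    obtain ⟨k, rfl⟩ := Subgroup.mem_zpowers_iff.mp hy
    have htt : t ^ 2 = 1 := by rw [← ht]; exact pow_orderOf_eq_one t
    rw [← zpow_add, ← two_mul, zpow_mul, zpow_ofNat, htt, one_zpow]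
  refine ⟨S, ?_, ?_⟩
  · -- cardinality via a bijection
    let φ : ↥(Subgroup.zpowers t) × ↥(V : Subgroup ↥N) → ↥(S : Subgroup G) := fun p =>
      ⟨(p.1 : G) * ι (p.2 : ↥N), Subgroup.mul_mem _ (htS p.1.2) (hVS (Subgroup.mem_map_of_mem ι p.2.2))⟩
    have hφ : Function.Bijective φ := by
      constructor
      · rintro ⟨⟨y₁, hy₁⟩, ⟨v₁, hv₁⟩⟩ ⟨⟨y₂, hy₂⟩, ⟨v₂, hv₂⟩⟩ h
        have h1 : y₁ * ι v₁ = y₂ * ι v₂ := congrArg Subtype.val h
        have h2 : y₂⁻¹ * y₁ = ι v₂ * (ι v₁)⁻¹ := by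
          have : y₂⁻¹ * (y₁ * ι v₁) * (ι v₁)⁻¹ = y₂⁻¹ * (y₂ * ι v₂) * (ι v₁)⁻¹ := by rw [h1]
          rw [← mul_assoc, mul_assoc, mul_inv_cancel, mul_one] at this
          rw [this]; group
        have h3 : y₂⁻¹ * y₁ ∈ Subgroup.zpowers t ⊓ E := by
          refine ⟨Subgroup.mul_mem _ (Subgroup.inv_mem _ hy₂) hy₁, ?_⟩
          rw [h2]
          exact Subgroup.mul_mem _ (hιE v₂) (Subgroup.inv_mem _ (hιE v₁))
        rw [hdisj, Subgroup.mem_bot] at h3
        have hy : y₁ = y₂ := by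
          have : y₂ * (y₂⁻¹ * y₁) = y₂ * 1 := by rw [h3]
          rw [← mul_assoc, mul_inv_cancel, one_mul, mul_one] at this
          exact this
        have hv : v₁ = v₂ := by
          apply hι
          rw [hy] at h1
          exact mul_left_cancel h1
        subst hy; subst hv; rfl
      · rintro ⟨s, hs⟩
        obtain ⟨y, hy, v, hv, hyv⟩ := hdec s hs
        exact ⟨(⟨y, hy⟩, ⟨v, hv⟩), Subtype.ext hyv⟩
    rw [← Nat.card_congr (Equiv.ofBijective φ hφ), Nat.card_prod, Nat.card_zpowers, ht, hV4]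
  · intro s hs
    obtain ⟨y, hy, v, hv, rfl⟩ := hdec s hs
    have hvv : ι v * ι v = 1 := by rw [← map_mul, hVexp v hv, map_one]
    have hc : ι v * y = y * ι v := (hcomm y hy (ι v) (hιE v)).symm
    calc y * ι v * (y * ι v) = y * (ι v * y) * ι v := by simp only [mul_assoc]
      _ = (y * y) * (ι v * ι v) := by rw [hc]; simp only [mul_assoc]
      _ = 1 := by rw [hysq y hy, hvv, one_mul]

end Cfsg.Agent.Lib.H16.JRSYL
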