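import Mathlib
import Cfsg.Agent.Lib.H23.LSDefs

set_option autoImplicit false

/-!
# S5286, piece W1 (helper16): the word of `(letter l)⁻¹ * w`
-/

namespace Cfsg.Agent.Lib.H16.LS

open Cfsg Cfsg.Agent.Lib.H23.LS

universe u

variable {X : Type u} [DecidableEq X]

/-- (W1) -/
theorem toWord_letter_inv_mul (l : X × Bool) (w : FreeGroup X) :
    ((letter l)⁻¹ * w).toWord =
      if w.toWord.head? = some l then w.toWord.tail else (l.1, !l.2) :: w.toWord := by
  have h1 : (letter l)⁻¹ = FreeGroup.mk [(l.1, !l.2)] := by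
    rw [letter, FreeGroup.inv_mk]
    rfl
  have h2 : ((letter l)⁻¹ * w).toWord = FreeGroup.reduce ((l.1, !l.2) :: w.toWord) := by
    rw [FreeGroup.toWord_mul, h1, FreeGroup.toWord_mk, FreeGroup.reduce_singleton]
    rfl
  rw [h2, FreeGroup.reduce.cons, FreeGroup.reduce_toWord]
  rcases hw : w.toWord with _ | ⟨hd, tl⟩
  · simp
  · simp only [List.head?_cons, Option.some.injEq, List.tail_cons]
    by_cases hhd : hd = l
    · subst hhd
      simp
    · rw [if_neg hhd, if_neg]
      rintro ⟨e1, e2⟩
      apply hhd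
      apply Prod.ext
      · exact e1.symm
      · simp only [Bool.not_eq_eq_eq_not, Bool.not_not] at e2
        exact e2.symm

end Cfsg.Agent.Lib.H16.LS
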