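import Mathlib
import Cfsg.Agent.Lib.H23.LSDefs

set_option autoImplicit false

/-!
# S5286, piece W2 (helper16): no cancellation in `u⁻¹ * w` when the first letters differ
-/

namespace Cfsg.Agent.Lib.H16.LS

open Cfsg Cfsg.Agent.Lib.H23.LS

universe u

variable {X : Type u} [DecidableEq X]

/-- (W2) -/
theorem norm_inv_mul_of_head_ne (u w : FreeGroup X) (l : X × Bool) (hu : u.toWord.head? = some l)
    (hw : w.toWord.head? ≠ some l) :
    (u⁻¹ * w).norm = u.norm + w.norm ∧ (u⁻¹ * w).toWord.head? = (u⁻¹).toWord.head? := by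
  obtain ⟨U', hU'⟩ : ∃ U', u.toWord = l :: U' := by
    rcases hh : u.toWord with _ | ⟨a, U'⟩
    · rw [hh] at hu
      simp at hu
    · rw [hh] at hu
      simp only [List.head?_cons, Option.some.injEq] at hu
      exact ⟨U', by rw [hu]⟩
  have hinv : (u⁻¹).toWord = FreeGroup.invRev U' ++ [(l.1, !l.2)] := by
    rw [FreeGroup.toWord_inv, hU', FreeGroup.invRev_cons]
    rfl
  have hred : FreeGroup.IsReduced ((u⁻¹).toWord ++ w.toWord) := by
    apply List.IsChain.append FreeGroup.isReduced_toWord FreeGroup.isReduced_toWord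
    intro x hx y hy
    rw [hinv, List.getLast?_append_of_ne_nil _ (by simp)] at hx
    simp only [List.getLast?_singleton, Option.mem_def, Option.some.injEq] at hx
    subst hx
    intro e1
    by_contra e2
    apply hw
    rw [Option.mem_def] at hy
    rw [hy]
    congr 1
    apply Prod.ext
    · exact e1.symm
    · simp only at e2
      cases hl : l.2 <;> cases hy2 : y.2 <;> simp_all
  have hword : (u⁻¹ * w).toWord = (u⁻¹).toWord ++ w.toWord := by
    rw [FreeGroup.toWord_mul, hred.reduce_eq]
  refine ⟨?_, ?_⟩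
  · rw [FreeGroup.norm, hword, List.length_append]
    rw [← FreeGroup.norm, ← FreeGroup.norm, FreeGroup.norm_inv_eq]
  · rw [hword, List.head?_append_of_ne_nil]
    rw [hinv]
    simp

end Cfsg.Agent.Lib.H16.LS
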