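import Mathlib

/-!
# S4429 piece (F12a) `extra11` (helper16): PURE arithmetic of the characters outside the 11-block in pattern (A)

Exact signature of `tools/blueprints/S4429_sigs.lean`.
-/

set_option autoImplicit false

namespace Cfsg.Agent.Lib.H16.M7920

open scoped BigOperators

universe u

theorem extra11 {ι : Type u} [DecidableEq ι] (T : Finset ι) (B : ι → ℤ) (d : ι → ℕ)
    (h11 : ∀ i ∈ T, 11 ∣ d i) (hdvd : ∀ i ∈ T, d i ∣ 7920) (hpos : ∀ i ∈ T, 0 < d i)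
    (hcong : ∀ i ∈ T, ∃ c : ℕ, (d i : ℤ) = B i + 5 * c)
    (hB2 : ∑ i ∈ T, B i ^ 2 = 2) (hlin : ∑ i ∈ T, (d i : ℤ) * B i = -33)
    (hsq : ∑ i ∈ T, d i ^ 2 = 5082) :
    ∃ t₁ t₂ t₃ : ι, t₁ ∈ T ∧ t₂ ∈ T ∧ t₃ ∈ T ∧ t₁ ≠ t₂ ∧ t₁ ≠ t₃ ∧ t₂ ≠ t₃ ∧
      d t₁ = 11 ∧ d t₂ = 44 ∧ d t₃ = 55 ∧ ∀ i ∈ T, i = t₁ ∨ i = t₂ ∨ i = t₃ := by
  classical
  set U : Finset ι := T.filter (fun i => B i ≠ 0) with hU
  set W : Finset ι := T.filter (fun i => ¬ B i ≠ 0) with hW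
  have hUT : ∀ i ∈ U, i ∈ T := fun i hi => (Finset.mem_filter.1 hi).1
  have hWT : ∀ i ∈ W, i ∈ T := fun i hi => (Finset.mem_filter.1 hi).1
  have hWB : ∀ i ∈ W, B i = 0 := fun i hi => not_not.1 (Finset.mem_filter.1 hi).2
  have hUB : ∀ i ∈ U, B i ≠ 0 := fun i hi => (Finset.mem_filter.1 hi).2
  have hsplitZ : ∀ f : ι → ℤ, ∑ i ∈ U, f i + ∑ i ∈ W, f i = ∑ i ∈ T, f i := fun f =>
    Finset.sum_filter_add_sum_filter_not T (fun i => B i ≠ 0) f
  have hsplitN : ∀ f : ι → ℕ, ∑ i ∈ U, f i + ∑ i ∈ W, f i = ∑ i ∈ T, f i := fun f =>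
    Finset.sum_filter_add_sum_filter_not T (fun i => B i ≠ 0) f
  -- the possible degrees
  have hdval : ∀ i ∈ T, d i = 11 ∨ d i = 22 ∨ d i = 33 ∨ d i = 44 ∨ d i = 55 ∨ d i = 66 := by
    intro i hi
    obtain ⟨k, hk⟩ := h11 i hi
    have h1 : d i ^ 2 ≤ ∑ j ∈ T, d j ^ 2 :=
      Finset.single_le_sum (f := fun j => d j ^ 2) (fun j _ => Nat.zero_le _) hi
    rw [hsq] at h1
    have h0 := hpos i hi
    have hk6 : k ≤ 6 := by
      by_contra hgt
      push Not at hgt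
      have : 77 ≤ d i := by rw [hk]; omega
      nlinarith
    have hk1 : 1 ≤ k := by
      by_contra hlt
      push Not at hlt
      have : k = 0 := by omega
      rw [hk, this] at h0
      simp at h0
    rw [hk]
    interval_cases k <;> simp
  -- `U`
  have hUsq : ∑ i ∈ U, B i ^ 2 = 2 := by
    have h := hsplitZ (fun i => B i ^ 2)
    have h0 : ∑ i ∈ W, B i ^ 2 = 0 := Finset.sum_eq_zero fun i hi => by rw [hWB i hi]; ring
    rw [h0, add_zero, hB2] at h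
    exact h
  have hUpm : ∀ i ∈ U, B i = 1 ∨ B i = -1 := by
    intro i hi
    have h1 : B i ^ 2 ≤ ∑ j ∈ U, B j ^ 2 :=
      Finset.single_le_sum (f := fun j => B j ^ 2) (fun j _ => sq_nonneg _) hi
    rw [hUsq] at h1
    have h0 := hUB i hi
    have h2 : B i ≤ 1 := by nlinarith
    have h3 : -1 ≤ B i := by nlinarith
    omega
  have hUcard : U.card = 2 := by
    have h1 : ∑ i ∈ U, B i ^ 2 = ∑ i ∈ U, (1 : ℤ) := by
      refine Finset.sum_congr rfl fun i hi => ?_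
      rcases hUpm i hi with h | h <;> rw [h] <;> norm_num
    rw [hUsq, Finset.sum_const, nsmul_eq_mul, mul_one] at h1
    exact_mod_cast h1.symm
  obtain ⟨u, v, huv, hUuv⟩ := Finset.card_eq_two.1 hUcard
  have huU : u ∈ U := by rw [hUuv]; simp
  have hvU : v ∈ U := by rw [hUuv]; simp
  have hUcase : ∀ i ∈ U, (B i = 1 ∧ (d i = 11 ∨ d i = 66)) ∨ (B i = -1 ∧ d i = 44) := by
    intro i hi
    obtain ⟨c, hc⟩ := hcong i (hUT i hi)
    rcases hUpm i hi with hb | hb <;> rcases hdval i (hUT i hi) with h | h | h | h | h | h <;>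
      rw [hb, h] at hc <;>
      first
        | (exfalso; omega)
        | exact Or.inl ⟨hb, Or.inl h⟩
        | exact Or.inl ⟨hb, Or.inr h⟩
        | exact Or.inr ⟨hb, h⟩
  have hlinU : (d u : ℤ) * B u + (d v : ℤ) * B v = -33 := by
    have h := hsplitZ (fun i => (d i : ℤ) * B i)
    have h0 : ∑ i ∈ W, (d i : ℤ) * B i = 0 :=
      Finset.sum_eq_zero fun i hi => by rw [hWB i hi]; ring
    rw [h0, add_zero, hlin, hUuv, Finset.sum_pair huv] at h
    exact h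
  -- `W`
  have hWd : ∀ i ∈ W, d i = 55 := by
    intro i hi
    obtain ⟨c, hc⟩ := hcong i (hWT i hi)
    rw [hWB i hi] at hc
    rcases hdval i (hWT i hi) with h | h | h | h | h | h <;> rw [h] at hc ⊢ <;> omega
  have hsqUW : ∑ i ∈ U, d i ^ 2 + 3025 * W.card = 5082 := by
    have h := hsplitN (fun i => d i ^ 2)
    have h0 : ∑ i ∈ W, d i ^ 2 = 3025 * W.card := by
      rw [Finset.sum_congr rfl (fun i hi => by rw [hWd i hi]), Finset.sum_const, smul_eq_mul]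
      ring
    rw [h0, hsq] at h
    exact h
  rw [hUuv, Finset.sum_pair huv] at hsqUW
  -- the two orders of `u`, `v`
  have hfin : ∀ t₁ t₂ : ι, t₁ ∈ U → t₂ ∈ U → t₁ ≠ t₂ → U = {t₁, t₂} → d t₁ = 11 → d t₂ = 44 →
      d t₁ ^ 2 + d t₂ ^ 2 + 3025 * W.card = 5082 →
      ∃ t₁ t₂ t₃ : ι, t₁ ∈ T ∧ t₂ ∈ T ∧ t₃ ∈ T ∧ t₁ ≠ t₂ ∧ t₁ ≠ t₃ ∧ t₂ ≠ t₃ ∧
        d t₁ = 11 ∧ d t₂ = 44 ∧ d t₃ = 55 ∧ ∀ i ∈ T, i = t₁ ∨ i = t₂ ∨ i = t₃ := by
    intro t₁ t₂ h1 h2 h12 hUeq hd1 hd2 hs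
    rw [hd1, hd2] at hs
    have hWcard : W.card = 1 := by omega
    obtain ⟨t₃, hWeq⟩ := Finset.card_eq_one.1 hWcard
    have h3W : t₃ ∈ W := by rw [hWeq]; simp
    refine ⟨t₁, t₂, t₃, hUT _ h1, hUT _ h2, hWT _ h3W, h12, ?_, ?_, hd1, hd2, hWd _ h3W, ?_⟩
    · intro h
      exact hUB t₁ h1 (by rw [h]; exact hWB t₃ h3W)
    · intro h
      exact hUB t₂ h2 (by rw [h]; exact hWB t₃ h3W)
    · intro i hi
      by_cases hb : B i ≠ 0
      · have : i ∈ U := Finset.mem_filter.2 ⟨hi, hb⟩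
        rw [hUeq] at this
        simp only [Finset.mem_insert, Finset.mem_singleton] at this
        rcases this with h | h
        · exact Or.inl h
        · exact Or.inr (Or.inl h)
      · have : i ∈ W := Finset.mem_filter.2 ⟨hi, hb⟩
        rw [hWeq] at this
        exact Or.inr (Or.inr (Finset.mem_singleton.1 this))
  rcases hUcase u huU with ⟨hbu, hdu⟩ | ⟨hbu, hdu⟩ <;> rcases hUcase v hvU with ⟨hbv, hdv⟩ | ⟨hbv, hdv⟩
  · exfalso
    rw [hbu, hbv] at hlinU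
    rcases hdu with h | h <;> rcases hdv with h' | h' <;> rw [h, h'] at hlinU <;> omega
  · rw [hbu, hbv, hdv] at hlinU
    have hdu' : d u = 11 := by
      rcases hdu with h | h
      · exact h
      · rw [h] at hlinU; omega
    exact hfin u v huU hvU huv hUuv hdu' hdv hsqUW
  · rw [hbu, hbv, hdu] at hlinU
    have hdv' : d v = 11 := by
      rcases hdv with h | h
      · exact h
      · rw [h] at hlinU; omega
    refine hfin v u hvU huU (Ne.symm huv) (by rw [hUuv, Finset.pair_comm]) hdv' hdu (by omega)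
  · exfalso
    rw [hbu, hbv, hdu, hdv] at hlinU
    omega

end Cfsg.Agent.Lib.H16.M7920
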