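import Cfsg.Agent.Lib.H8.MBNEich
import Cfsg.Agent.Lib.H8.MBNPerm

/-!
helper16 library (S2549, piece GEND of helper8's blueprint): row reduction step D, the row `m + 2`
of column `k < m` is cleared by `s_{m-1} * xW (m-1) w`.
-/

set_option autoImplicit false

namespace Cfsg.Agent.Lib.H16.MBN

open Matrix Cfsg.Agent.Lib.H12.DCos Cfsg.Agent.Lib.H8.FBN Cfsg.Agent.Lib.H8.MBN

variable {F : Type*} [Field F] {m : ℕ} (a b : F)

/-- the Eichler matrix `xW a b c w₀ w₁` with `c < m` is block upper triangular -/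
theorem xW_isUpB (c : Fin (2 * m + 2)) (hc : (c : ℕ) < m) (w₀ w₁ : F) : IsUpB (xW a b c w₀ w₁) := by
  intro i j hij
  have hi := i.2
  have hj := j.2
  have hne : i ≠ j := by
    rintro rfl
    exact lt_irrefl _ hij
  unfold lv at hij
  rw [xW_apply, if_neg hne, if_neg, if_neg, if_neg, if_neg, if_neg]
  · simp
  all_goals
    rintro ⟨h1, h2⟩
    have h1' := congrArg Fin.val h1
    have h2' := congrArg Fin.val h2
    simp only [p0_val, p1_val, Fin.val_rev] at h1' h2'
    split_ifs at hij <;> omega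

/-- the columns `< m` of `xW a b c w₀ w₁` (`c < m`) are unit columns -/
theorem xW_apply_col (c : Fin (2 * m + 2)) (hc : (c : ℕ) < m) (w₀ w₁ : F) (i l : Fin (2 * m + 2))
    (hl : (l : ℕ) < m) : xW a b c w₀ w₁ i l = if i = l then 1 else 0 := by
  have hi := i.2
  have hl2 := l.2
  have e1 : ¬ (i = p0 ∧ l = c.rev) := by
    rintro ⟨_, h2⟩
    have h2' := congrArg Fin.val h2
    rw [Fin.val_rev] at h2'
    omega
  have e2 : ¬ (i = p1 ∧ l = c.rev) := by
    rintro ⟨_, h2⟩
    have h2' := congrArg Fin.val h2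
    rw [Fin.val_rev] at h2'
    omega
  have e3 : ¬ (i = c ∧ l = c.rev) := by
    rintro ⟨_, h2⟩
    have h2' := congrArg Fin.val h2
    rw [Fin.val_rev] at h2'
    omega
  have e4 : ¬ (i = c ∧ l = p0) := by
    rintro ⟨_, h2⟩
    have h2' := congrArg Fin.val h2
    rw [p0_val] at h2'
    omega
  have e5 : ¬ (i = c ∧ l = p1) := by
    rintro ⟨_, h2⟩
    have h2' := congrArg Fin.val h2
    rw [p1_val] at h2'
    omega
  rw [xW_apply, if_neg e1, if_neg e2, if_neg e3, if_neg e4, if_neg e5]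
  simp

theorem gen_stepDM (k l : ℕ) (hk : k < m) (hl : l = m + 2) (g : ↥(GM (m := m) a b))
    (hg : Tri k (g.1 : Matrix (Fin (2 * m + 2)) (Fin (2 * m + 2)) F))
    (hz : ∀ i c : Fin (2 * m + 2), (c : ℕ) = k → l < (i : ℕ) →
      (g.1 : Matrix (Fin (2 * m + 2)) (Fin (2 * m + 2)) F) i c = 0)
    (hne : ∀ i c : Fin (2 * m + 2), (c : ℕ) = k → (i : ℕ) = l →
      (g.1 : Matrix (Fin (2 * m + 2)) (Fin (2 * m + 2)) F) i c ≠ 0) :
    ∃ r ∈ BsM a b ⊔ NsM a b, Tri k (r.1 : Matrix (Fin (2 * m + 2)) (Fin (2 * m + 2)) F) ∧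
      ∀ i c : Fin (2 * m + 2), (c : ℕ) = k → l ≤ (i : ℕ) →
        ((r * g).1 : Matrix (Fin (2 * m + 2)) (Fin (2 * m + 2)) F) i c = 0 := by
  subst hl
  have hm : 0 < m := by omega
  let j : Fin m := ⟨m - 1, by omega⟩
  let c₀ : Fin (2 * m + 2) := loM j
  let r2 : Fin (2 * m + 2) := ⟨m + 2, by omega⟩
  let kf : Fin (2 * m + 2) := ⟨k, by omega⟩
  have hjv : (j : ℕ) = m - 1 := rfl
  have hc₀v : (c₀ : ℕ) = m - 1 := rfl
  have hr2v : (r2 : ℕ) = m + 2 := rfl
  have hkfv : (kf : ℕ) = k := rfl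
  have hc₀rev : c₀.rev = r2 := by
    apply Fin.ext
    rw [Fin.val_rev, hc₀v, hr2v]
    omega
  have hc₀mid : ¬ IsMid c₀ := by
    unfold IsMid
    rw [hc₀v]
    omega
  have hc₀lt : (c₀ : ℕ) < m := by rw [hc₀v]; omega
  have hpiv : (g.1 : Matrix (Fin (2 * m + 2)) (Fin (2 * m + 2)) F) r2 kf ≠ 0 := hne r2 kf rfl rfl
  let w₀ : F := - (g.1 : Matrix (Fin (2 * m + 2)) (Fin (2 * m + 2)) F) p0 kf /
    (g.1 : Matrix (Fin (2 * m + 2)) (Fin (2 * m + 2)) F) r2 kf
  let w₁ : F := - (g.1 : Matrix (Fin (2 * m + 2)) (Fin (2 * m + 2)) F) p1 kf /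
    (g.1 : Matrix (Fin (2 * m + 2)) (Fin (2 * m + 2)) F) r2 kf
  let x : ↥(GM (m := m) a b) := xWG a b c₀ w₀ w₁
  have hxval : (x.1 : Matrix (Fin (2 * m + 2)) (Fin (2 * m + 2)) F) = xW a b c₀ w₀ w₁ :=
    xWG_val a b c₀ hc₀mid w₀ w₁
  -- the entries of `x * g`
  have hxg : ∀ i c : Fin (2 * m + 2),
      ((x * g).1 : Matrix (Fin (2 * m + 2)) (Fin (2 * m + 2)) F) i c =
        (g.1 : Matrix (Fin (2 * m + 2)) (Fin (2 * m + 2)) F) i c +
          (if i = p0 then w₀ * (g.1 : Matrix (Fin (2 * m + 2)) (Fin (2 * m + 2)) F) r2 c else 0) +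
          (if i = p1 then w₁ * (g.1 : Matrix (Fin (2 * m + 2)) (Fin (2 * m + 2)) F) r2 c else 0) -
          (if i = c₀ then QW a b w₀ w₁ * (g.1 : Matrix (Fin (2 * m + 2)) (Fin (2 * m + 2)) F) r2 c +
            (2 * w₀ + a * w₁) * (g.1 : Matrix (Fin (2 * m + 2)) (Fin (2 * m + 2)) F) p0 c +
            (a * w₀ + 2 * b * w₁) * (g.1 : Matrix (Fin (2 * m + 2)) (Fin (2 * m + 2)) F) p1 c else 0) := by
    intro i c
    rw [Cfsg.Agent.Lib.H8.MBN.val_mul a b, hxval, xW_mul_apply, hc₀rev]
  have hp01 : (p0 : Fin (2 * m + 2)) ≠ p1 := by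
    intro h
    have := congrArg Fin.val h
    rw [p0_val, p1_val] at this
    omega
  have hp0c : (p0 : Fin (2 * m + 2)) ≠ c₀ := by
    intro h
    have := congrArg Fin.val h
    rw [p0_val, hc₀v] at this
    omega
  have hp1c : (p1 : Fin (2 * m + 2)) ≠ c₀ := by
    intro h
    have := congrArg Fin.val h
    rw [p1_val, hc₀v] at this
    omega
  -- column `k` of `x * g`
  have h0 : ((x * g).1 : Matrix (Fin (2 * m + 2)) (Fin (2 * m + 2)) F) p0 kf = 0 := by
    rw [hxg, if_pos rfl, if_neg hp01, if_neg hp0c]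
    simp only [w₀]
    field_simp
    ring
  have h1 : ((x * g).1 : Matrix (Fin (2 * m + 2)) (Fin (2 * m + 2)) F) p1 kf = 0 := by
    rw [hxg, if_neg hp01.symm, if_pos rfl, if_neg hp1c]
    simp only [w₁]
    field_simp
    ring
  have hbig : ∀ i : Fin (2 * m + 2), m + 2 < (i : ℕ) →
      ((x * g).1 : Matrix (Fin (2 * m + 2)) (Fin (2 * m + 2)) F) i kf = 0 := by
    intro i hi
    rw [hxg, if_neg, if_neg, if_neg, hz i kf rfl hi]
    · simp
    · intro h
      have := congrArg Fin.val h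
      rw [hc₀v] at this
      omega
    · intro h
      have := congrArg Fin.val h
      rw [p1_val] at this
      omega
    · intro h
      have := congrArg Fin.val h
      rw [p0_val] at this
      omega
  have hr2 : ((x * g).1 : Matrix (Fin (2 * m + 2)) (Fin (2 * m + 2)) F) r2 kf =
      (g.1 : Matrix (Fin (2 * m + 2)) (Fin (2 * m + 2)) F) r2 kf := by
    rw [hxg, if_neg, if_neg, if_neg]
    · simp
    · intro h
      have := congrArg Fin.val h
      rw [hc₀v, hr2v] at this
      omega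
    · intro h
      have := congrArg Fin.val h
      rw [p1_val, hr2v] at this
      omega
    · intro h
      have := congrArg Fin.val h
      rw [p0_val, hr2v] at this
      omega
  -- singularity of the column kills the entry `(m - 1, k)`
  have hc₀k : ((x * g).1 : Matrix (Fin (2 * m + 2)) (Fin (2 * m + 2)) F) c₀ kf = 0 := by
    have hQ := Qm_col a b (x * g) kf
    rw [if_neg, if_neg] at hQ
    · unfold Qm at hQ
      beta_reduce at hQ
      rw [h0, h1] at hQ
      rw [Finset.sum_eq_single c₀] at hQ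
      · rw [if_pos hc₀lt, hc₀rev, hr2] at hQ
        have : ((x * g).1 : Matrix (Fin (2 * m + 2)) (Fin (2 * m + 2)) F) c₀ kf *
            (g.1 : Matrix (Fin (2 * m + 2)) (Fin (2 * m + 2)) F) r2 kf = 0 := by
          linear_combination hQ
        rcases mul_eq_zero.mp this with h | h
        · exact h
        · exact absurd h hpiv
      · intro i _ hic
        by_cases him : (i : ℕ) < m
        · rw [if_pos him]
          have : m + 2 < ((i.rev : Fin (2 * m + 2)) : ℕ) := by
            rw [Fin.val_rev]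
            have : (i : ℕ) ≠ m - 1 := fun h => hic (Fin.ext (by rw [h, hc₀v]))
            omega
          rw [hbig i.rev this, mul_zero]
        · rw [if_neg him]
      · intro h
        exact absurd (Finset.mem_univ _) h
    · intro h
      have := congrArg Fin.val h
      rw [p1_val, hkfv] at this
      omega
    · intro h
      have := congrArg Fin.val h
      rw [p0_val, hkfv] at this
      omega
  have hxB : x ∈ BsM a b := by
    rw [mem_BsM, hxval]
    exact xW_isUpB a b c₀ hc₀lt w₀ w₁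
  refine ⟨sRefM a b j * x, Subgroup.mul_mem _ (Subgroup.mem_sup_right (sRefM_mem_NsM a b j))
    (Subgroup.mem_sup_left hxB), ?_, ?_⟩
  · -- the first `k` columns stay upper triangular
    intro i c hck hci
    rw [sRefM_mul_apply, hxval, xW_apply_col a b c₀ hc₀lt w₀ w₁ _ c (by omega), if_neg]
    intro h
    have h1 : τM j c = c := τM_of_lt j c (by rw [hjv]; omega)
    have h2 : i = c := by
      rw [← τM_τM j i, h, h1]
    rw [h2] at hci
    exact lt_irrefl _ hci
  · intro i c hc hi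
    have hckf : c = kf := Fin.ext hc
    subst hckf
    rw [mul_assoc, sRefM_mul_apply]
    have hi2 := i.2
    rcases Nat.eq_or_lt_of_le hi with hi' | hi'
    · have : τM j i = c₀ := by
        apply Fin.ext
        rw [τM_val, hjv, hc₀v]
        split_ifs <;> omega
      rw [this]
      exact hc₀k
    · have : τM j i = i := by
        apply Fin.ext
        rw [τM_val, hjv]
        split_ifs <;> omega
      rw [this]
      exact hbig i hi'

end Cfsg.Agent.Lib.H16.MBN
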