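import Cfsg.Agent.Lib.H16.NTUNIQCore
import Cfsg.Agent.Lib.H28.NT.KEYF

/-!
# S4892, piece (UNIQ): good extensions are unique on every `H ⊇ N` (exact signature of the sigs file)
-/

set_option autoImplicit false
open Cfsg.Agent.Lib.H21.AD Cfsg.Agent.Lib.H28.NT

namespace Cfsg.Agent.Lib.H16.NT

variable {G : Type*} [Group G] [Finite G] {p : ℕ} {M : Ideal Cfsg.AlgInt} {N Q : Subgroup G} {θ : G → ℂ}

/-- (UNIQ) good extensions are unique on every `H ⊇ N`: `f₂ = f₁·ν` on `H` (Gallagher), `ν(c) = 1` for `p`-regular `c`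
(KEYF on `N ⊔ zpowers c`, then `L0.SigmaRes.hom_eq_of_mul_eq` or directly), `ν(x)^d = 1` for `p`-elements
(`H23.detChar_mul_homToFun`), `exists_pexp` splits `g = g_p g_{p'}`. -/
theorem goodE_unique [N.Normal] (h : Hyp p M N Q θ) (H : Subgroup G) (hNH : N ≤ H) (f₁ f₂ : G → ℂ)
    (h₁ : GoodE p N θ H f₁) (h₂ : GoodE p N θ H f₂) : ∀ g ∈ H, f₁ g = f₂ g :=
  goodE_unique_core h (fun J₁ J₂ hN1 h12 hp2 f₁ f₂ h₁ h₂ => keyF h J₁ J₂ hN1 h12 hp2 f₁ f₂ h₁ h₂)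
    H hNH f₁ f₂ h₁ h₂

end Cfsg.Agent.Lib.H16.NT
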