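import Mathlib
import Cfsg.Prelude.Def_Blocks
import Cfsg.Prelude.Def_CharExt
import Cfsg.Agent.Lib.H21.AD.Defs
import Cfsg.Agent.Lib.H21.AD.LC1
import Cfsg.Agent.Lib.H28.NT.Defs
import Cfsg.Agent.Lib.H13.ADPEXP
import Cfsg.Agent.Lib.H23.ExtGeneral
import Cfsg.Agent.Lib.L0.SigmaResidualA

/-!
# S4892, piece (UNIQ), core: good extensions are unique on every `H ⊇ N` (KEYF as a hypothesis)

`f₂ = f₁·ν` on `H` (Gallagher), `ν(c) = 1` for `p`-regular `c` (KEYF on `N ⊔ zpowers c` + Gallagher uniqueness),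
`ν(x)^d = 1` for `p`-elements (determinants), `exists_pexp` splits `g = g_p g_{p'}`.
-/

set_option autoImplicit false
open Cfsg.Agent.Lib.H21.AD Cfsg.Agent.Lib.H28.NT

namespace Cfsg.Agent.Lib.H16.NT

open Cfsg.Agent.Lib.L0 Cfsg.Agent.Lib.H23

variable {G : Type*} [Group G] [Finite G] {p : ℕ} {M : Ideal Cfsg.AlgInt} {N Q : Subgroup G} {θ : G → ℂ}

/-- the restriction of `f` to the copy of `N` inside `K` is irreducible when `f = θ` on `N` -/
theorem irr_subgroupOf (hθ : Cfsg.IsIrrCharacter N (fun n : N => θ n)) (K : Subgroup G) (hNK : N ≤ K)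
    (f : G → ℂ) (hf : ∀ n ∈ N, f n = θ n) :
    Cfsg.IsIrrCharacter (N.subgroupOf K) (fun n : N.subgroupOf K => f ((n : K) : G)) := by
  have h1 := isIrrCharacter_comp_of_surjective
    ((Subgroup.subgroupOfEquivOfLe hNK).toMonoidHom)
    (Subgroup.subgroupOfEquivOfLe hNK).surjective hθ
  convert h1 using 1
  funext n
  simp only [Function.comp_apply, MulEquiv.coe_toMonoidHom]
  rw [hf _ (Subgroup.mem_subgroupOf.mp n.2)]
  rfl

/-- an extension of `θ` to `H` restricts to an irreducible character of every `J` with `N ≤ J ≤ H` -/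
theorem isExt_mono (hθ : Cfsg.IsIrrCharacter N (fun n : N => θ n)) (J H : Subgroup G) (hNJ : N ≤ J)
    (hJH : J ≤ H) (f : G → ℂ) (hf : IsExt N θ H f) : IsExt N θ J f := by
  refine ⟨?_, hf.2⟩
  have hc : Cfsg.IsCharacter J (fun y : J => f y) :=
    isCharacter_comp (Subgroup.inclusion hJH) (isCharacter_of_irr hf.1)
  exact isIrrCharacter_of_restrict_irr (N.subgroupOf J) hc (irr_subgroupOf hθ J hNJ f hf.2)

/-- (UNIQ) good extensions are unique on every `H ⊇ N`; `hkey` is the statement of (KEYF) -/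
theorem goodE_unique_core [N.Normal] (h : Hyp p M N Q θ)
    (hkey : ∀ (J₁ J₂ : Subgroup G), N ≤ J₁ → J₁ ≤ J₂ → ¬ p ∣ N.relIndex J₂ → ∀ f₁ f₂ : G → ℂ,
      GoodA p N θ J₁ f₁ → GoodA p N θ J₂ f₂ → ∀ g ∈ J₁, f₁ g = f₂ g)
    (H : Subgroup G) (hNH : N ≤ H) (f₁ f₂ : G → ℂ)
    (h₁ : GoodE p N θ H f₁) (h₂ : GoodE p N θ H f₂) : ∀ g ∈ H, f₁ g = f₂ g := by
  classical
  haveI : Fintype ↥H := Fintype.ofFinite _
  have hp : Fact p.Prime := ⟨h.hp⟩
  obtain ⟨hE1, hS1, hD1⟩ := h₁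
  obtain ⟨hE2, hS2, hD2⟩ := h₂
  -- Gallagher on `H`
  have hNirr : Cfsg.IsIrrCharacter (N.subgroupOf H) (fun n : N.subgroupOf H => f₁ ((n : H) : G)) :=
    irr_subgroupOf h.hirr H hNH f₁ hE1.2
  obtain ⟨ν, hνN, hν⟩ := exists_hom_of_restrict_eq (N.subgroupOf H)
    (η := fun y : H => f₁ y) (χ' := fun y : H => f₂ y) hE1.1 hE2.1 hNirr
    (fun n => by
      have hn : ((n : H) : G) ∈ N := Subgroup.mem_subgroupOf.mp n.2
      rw [hE2.2 _ hn, hE1.2 _ hn])
  have hval : ∀ y : H, f₂ y = f₁ y * (ν y : ℂ) := by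
    intro y
    have := congrFun hν y
    simpa [Pi.mul_apply, homToFun_apply] using this
  -- `ν` is trivial on `p`-regular elements
  have hreg : ∀ y : H, ¬ p ∣ orderOf y → ν y = 1 := by
    intro y hy
    set c : G := (y : G) with hc
    have hcH : c ∈ H := y.2
    have hcord : ¬ p ∣ orderOf c := by rwa [hc, Subgroup.orderOf_coe]
    set J : Subgroup G := N ⊔ Subgroup.zpowers c with hJ
    have hNJ : N ≤ J := le_sup_left
    have hJH : J ≤ H := sup_le hNH (by rw [Subgroup.zpowers_le]; exact hcH)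
    have hpJ : ¬ p ∣ N.relIndex J := not_dvd_relIndex_sup_zpowers N c hcord
    have hG1 : GoodA p N θ J f₁ := ⟨isExt_mono h.hirr J H hNJ hJH f₁ hE1, hS1 c hcH hcord⟩
    have hG2 : GoodA p N θ J f₂ := ⟨isExt_mono h.hirr J H hNJ hJH f₂ hE2, hS2 c hcH hcord⟩
    have hkey := hkey J J hNJ le_rfl hpJ f₁ f₂ hG1 hG2
    -- Gallagher uniqueness on `J`
    haveI : Fintype ↥J := Fintype.ofFinite _
    let β : ↥J →* ℂˣ := ν.comp (Subgroup.inclusion hJH)
    have hβN : ∀ n : N.subgroupOf J, β n = 1 := by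
      intro n
      have hn : ((n : J) : G) ∈ N := Subgroup.mem_subgroupOf.mp n.2
      exact hνN ⟨Subgroup.inclusion hJH (n : J), Subgroup.mem_subgroupOf.mpr hn⟩
    have hmul : (fun y : J => f₁ y) * homToFun ↥J β = (fun y : J => f₁ y) * homToFun ↥J 1 := by
      funext z
      simp only [Pi.mul_apply, homToFun_apply, MonoidHom.one_apply, Units.val_one, mul_one]
      have h3 := hval (Subgroup.inclusion hJH z)
      have h4 := hkey z z.2
      simp only [β, MonoidHom.comp_apply]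
      have h5 : ((Subgroup.inclusion hJH z : H) : G) = (z : G) := rfl
      rw [h5] at h3
      rw [← h3, ← h4]
    have hβ1 : β = 1 := Cfsg.Agent.Lib.L0.SigmaRes.hom_eq_of_mul_eq (N.subgroupOf J) hG1.1.1
      (irr_subgroupOf h.hirr J hNJ f₁ hE1.2) β 1 hβN (fun _ => rfl) hmul
    have hcJ : c ∈ J := Subgroup.mem_sup_right (Subgroup.mem_zpowers c)
    have h6 := DFunLike.congr_fun hβ1 ⟨c, hcJ⟩
    have h7 : Subgroup.inclusion hJH ⟨c, hcJ⟩ = y := Subtype.ext rfl
    have h8 : β ⟨c, hcJ⟩ = ν (Subgroup.inclusion hJH ⟨c, hcJ⟩) := rfl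
    rw [h8, h7] at h6
    exact h6
  -- `ν` is trivial on `p`-elements
  obtain ⟨d, hd1, hdp⟩ := h.hdeg
  have hpel : ∀ y : H, (∃ k : ℕ, orderOf y = p ^ k) → ν y = 1 := by
    intro y hy
    have hη1 : (fun z : H => f₁ z) 1 = (d : ℂ) := by
      simp only [Subgroup.coe_one]
      rw [hE1.2 1 N.one_mem, hd1]
    have hdet := detChar_mul_homToFun (isCharacter_of_irr hE1.1) d hη1 ν
    have hdet' := congrFun hdet y
    rw [← hν] at hdet'
    simp only [Pi.mul_apply, Pi.pow_apply, homToFun_apply] at hdet'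
    rw [hD2 y hy, hD1 y hy, one_mul] at hdet'
    have h1 : (ν y) ^ d = 1 := by
      apply Units.ext
      rw [Units.val_pow_eq_pow_val, Units.val_one]
      exact hdet'.symm
    obtain ⟨k, hk⟩ := hy
    have h2 : (ν y) ^ (p ^ k) = 1 := by
      rw [← map_pow, ← hk, pow_orderOf_eq_one, map_one]
    have h3 : orderOf (ν y) ∣ d := orderOf_dvd_of_pow_eq_one h1
    have h4 : orderOf (ν y) ∣ p ^ k := orderOf_dvd_of_pow_eq_one h2
    have hcop : Nat.Coprime d (p ^ k) :=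
      Nat.Coprime.pow_right k ((Nat.Prime.coprime_iff_not_dvd h.hp).mpr hdp).symm
    have h5 : orderOf (ν y) = 1 := Nat.eq_one_of_dvd_coprimes hcop h3 h4
    exact orderOf_eq_one_iff.mp h5
  -- split into `p`-part and `p'`-part
  obtain ⟨e, he1, -, -, he4⟩ := Cfsg.Agent.Lib.H13.AD.exists_pexp p h.hp ↥H
  intro g hg
  set y : H := ⟨g, hg⟩ with hy
  have hνy : ν y = 1 := by
    have hsplit : y = (y * (y ^ e)⁻¹) * y ^ e := by group
    rw [hsplit, map_mul, hpel _ (he4 y), hreg _ (he1 y), one_mul]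
  have := hval y
  rw [hνy, Units.val_one, mul_one] at this
  exact this.symm

end Cfsg.Agent.Lib.H16.NT
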