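import Mathlib
import Cfsg.Prelude.Def_Characters
import Cfsg.Agent.Lib.H23.DetChar
import Cfsg.Agent.Lib.H24.CharKer
import Cfsg.Agent.Lib.H24.BrauerP4
import Cfsg.Agent.Lib.L0.CharLinear

/-!
# A nonabelian simple group of even order has no irreducible character of degree 2 (helper16)

`ρ : G → GL_2(ℂ)` irreducible, `t` an involution, `A = ρ(t)`, `A^2 = 1`: either `A = ±1` (then `t` lies in the kernel
or in the centre) or `tr A = 0`, `det A = -1` (then `det ∘ ρ` is a nontrivial linear character of the perfect group `G`).
-/

set_option autoImplicit false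

namespace Cfsg.Agent.Lib.H16

open Cfsg Cfsg.Agent.Lib.L0 Cfsg.Agent.Lib.H24

universe u

/-- a `2 × 2` complex matrix with `A^2 = 1` is `±1` or has trace `0` and determinant `-1` -/
theorem mat2_invol (A : Matrix (Fin 2) (Fin 2) ℂ) (h : A * A = 1) :
    A = 1 ∨ A = -1 ∨ (A.trace = 0 ∧ A.det = -1) := by
  have h00 := congrFun (congrFun h 0) 0
  have h01 := congrFun (congrFun h 0) 1
  have h10 := congrFun (congrFun h 1) 0
  have h11 := congrFun (congrFun h 1) 1
  simp only [Matrix.mul_apply, Fin.sum_univ_two, Matrix.one_apply_eq, Matrix.one_apply_ne,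
    ne_eq, Fin.isValue, zero_ne_one, one_ne_zero, not_false_eq_true] at h00 h01 h10 h11
  by_cases hs : A 0 0 + A 1 1 = 0
  · right; right
    refine ⟨by rw [Matrix.trace_fin_two]; exact hs, ?_⟩
    rw [Matrix.det_fin_two]
    have hd : A 1 1 = -A 0 0 := by linear_combination hs
    rw [hd]
    linear_combination -h00
  · have hb : A 0 1 = 0 := by
      have : A 0 1 * (A 0 0 + A 1 1) = 0 := by linear_combination h01
      exact (mul_eq_zero.1 this).resolve_right hs
    have hc : A 1 0 = 0 := by
      have : A 1 0 * (A 0 0 + A 1 1) = 0 := by linear_combination h10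
      exact (mul_eq_zero.1 this).resolve_right hs
    rw [hb, hc] at h00 h11
    have ha : A 0 0 = 1 ∨ A 0 0 = -1 := by
      have : (A 0 0 - 1) * (A 0 0 + 1) = 0 := by linear_combination h00
      rcases mul_eq_zero.1 this with h | h
      · left; linear_combination h
      · right; linear_combination h
    have hd : A 1 1 = 1 ∨ A 1 1 = -1 := by
      have : (A 1 1 - 1) * (A 1 1 + 1) = 0 := by linear_combination h11
      rcases mul_eq_zero.1 this with h | h
      · left; linear_combination h
      · right; linear_combination h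
    rcases ha with ha | ha <;> rcases hd with hd | hd
    · left
      ext i j
      fin_cases i <;> fin_cases j <;> simp [ha, hd, hb, hc]
    · exfalso; apply hs; rw [ha, hd]; norm_num
    · exfalso; apply hs; rw [ha, hd]; norm_num
    · right; left
      ext i j
      fin_cases i <;> fin_cases j <;> simp [ha, hd, hb, hc]

/-- A nonabelian simple group of even order has no irreducible character of degree 2. -/
theorem no_irr_degree_two {G : Type u} [Group G] [Finite G] [IsSimpleGroup G]
    (hperf : commutator G = ⊤) (χ : G → ℂ) (hχ : IsIrrCharacter G χ) (h2 : χ 1 = 2)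
    (t : G) (ht : orderOf t = 2) : False := by
  classical
  have hχc : IsCharacter G χ := isCharacter_of_irr hχ
  obtain ⟨n, ρ, hρ⟩ := hχc
  have hn : n = 2 := by
    have h1 : ρ.character 1 = (n : ℂ) := by
      rw [Representation.char_one]
      simp
    rw [hρ, h2] at h1
    exact_mod_cast h1.symm
  subst hn
  have ht1 : t ≠ 1 := by
    intro h
    rw [h, orderOf_one] at ht
    norm_num at ht
  have htt : t * t = 1 := by
    have := pow_orderOf_eq_one t
    rwa [ht, pow_two] at this
  -- the kernel is trivial
  have hker : charKer χ (isCharacter_of_irr hχ) = ⊥ := by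
    rcases (charKer_normal χ (isCharacter_of_irr hχ)).eq_bot_or_eq_top with h | h
    · exact h
    · exfalso
      have := irr_eq_trivial_of_charKer_eq_top hχ h
      rw [this] at h2
      norm_num at h2
  have hmem : ∀ g : G, ρ g = 1 → g = 1 := by
    intro g hg
    have : g ∈ charKer χ (isCharacter_of_irr hχ) :=
      (mem_charKer_rep ρ (isCharacter_of_irr hχ) hρ g).2 hg
    rw [hker, Subgroup.mem_bot] at this
    exact this
  set A : Matrix (Fin 2) (Fin 2) ℂ := LinearMap.toMatrix' (ρ t) with hA
  have hAA : A * A = 1 := by
    rw [hA, ← LinearMap.toMatrix'_mul, ← map_mul, htt, map_one, LinearMap.toMatrix'_one]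
  have hρA : ρ t = Matrix.toLin' A := by rw [hA, Matrix.toLin'_toMatrix']
  rcases mat2_invol A hAA with h | h | ⟨_, hdet⟩
  · -- `ρ t = 1`
    apply ht1
    apply hmem
    rw [hρA, h, Matrix.toLin'_one]
    rfl
  · -- `ρ t = -1`: `t` is central
    have hρt : ρ t = -1 := by
      rw [hρA, h, map_neg, Matrix.toLin'_one]
      rfl
    have hcomm : ∀ g : G, t * g = g * t := by
      intro g
      have h1 : ρ (t * g * t⁻¹ * g⁻¹) = 1 := by
        have htinv : t⁻¹ = t := inv_eq_of_mul_eq_one_left htt
        rw [htinv, map_mul, map_mul, map_mul, hρt]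
        have : ρ g * ρ g⁻¹ = 1 := by rw [← map_mul, mul_inv_cancel, map_one]
        calc (-1 : (Fin 2 → ℂ) →ₗ[ℂ] (Fin 2 → ℂ)) * ρ g * (-1) * ρ g⁻¹ = ρ g * ρ g⁻¹ := by
              apply LinearMap.ext
              intro v
              simp only [Module.End.mul_apply, LinearMap.neg_apply, Module.End.one_apply, map_neg, neg_neg]
          _ = 1 := this
      have h2 := hmem _ h1
      calc t * g = (t * g * t⁻¹ * g⁻¹) * (g * t) := by group
        _ = g * t := by rw [h2, one_mul]
    have hcen : t ∈ Subgroup.center G := by
      rw [Subgroup.mem_center_iff]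
      intro g
      exact (hcomm g).symm
    rcases (inferInstance : (Subgroup.center G).Normal).eq_bot_or_eq_top with h | h
    · rw [h, Subgroup.mem_bot] at hcen
      exact ht1 hcen
    · -- `G` is abelian, so not perfect
      have hab : commutator G = ⊥ := by
        rw [commutator_def, Subgroup.commutator_eq_bot_iff_le_centralizer]
        intro a _
        rw [Subgroup.mem_centralizer_iff]
        intro b _
        have hb : b ∈ Subgroup.center G := by rw [h]; trivial
        exact (Subgroup.mem_center_iff.1 hb a).symm
      rw [hperf] at hab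
      have : t ∈ (⊤ : Subgroup G) := Subgroup.mem_top t
      rw [hab, Subgroup.mem_bot] at this
      exact ht1 this
  · -- `det (ρ t) = -1`
    have h1 : Cfsg.detChar χ t = -1 := by
      rw [← hρ, Cfsg.Agent.Lib.H23.detChar_eq ρ t, ← LinearMap.det_toMatrix', ← hA, hdet]
    obtain ⟨f, hf⟩ := Cfsg.Agent.Lib.H23.exists_hom_detChar (isCharacter_of_irr hχ)
    have hirr : IsIrrCharacter G (Cfsg.detChar χ) := by
      rw [hf]
      exact isIrrCharacter_of_hom f
    have hone : Cfsg.detChar χ 1 = 1 :=
      (Cfsg.Agent.Lib.H23.isCharacter_detChar (isCharacter_of_irr hχ)).2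
    have := BrP.linear_eq_one_of_perfect hperf (Cfsg.detChar χ) hirr hone
    rw [this] at h1
    norm_num at h1

end Cfsg.Agent.Lib.H16
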