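import Mathlib
import Cfsg.Prelude.Def_CaseTheorems
import Cfsg.Prelude.Def_Transfer
import Cfsg.Agent.Lib.H16.SolvableCore
import Cfsg.Agent.Lib.H9.PPrimeCore

/-! A normal `p`-complement criterion for solvable groups (helper16): if `G` is finite solvable,
`T` is a Sylow `p`-subgroup and every normal subgroup of `T` has an automorphism group which is a
`p`-group, then `O_{p'}(G)` is a normal complement of `T`. -/

set_option autoImplicit false

namespace Cfsg.Agent.Lib.H16

open Cfsg

/-- If `C_X(Q) ≤ Q` for a normal `p`-subgroup `Q` whose automorphism group is a `p`-group, then `X`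
is a `p`-group. -/
theorem isPGroup_of_centralizer_le_of_aut {X : Type*} [Group X] (p : ℕ)
    (Q : Subgroup X) [Q.Normal] (hQ : IsPGroup p Q)
    (hC : Subgroup.centralizer (Q : Set X) ≤ Q) (hAut : IsPGroup p (MulAut Q)) :
    IsPGroup p X := by
  intro x
  obtain ⟨a, ha⟩ := hAut (MulAut.conjNormal x)
  have hxc : x ^ (p ^ a) ∈ Subgroup.centralizer (Q : Set X) := by
    rw [Subgroup.mem_centralizer_iff]
    intro q hq
    have h1 : MulAut.conjNormal (x ^ (p ^ a)) (⟨q, hq⟩ : Q) = ⟨q, hq⟩ := by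
      rw [map_pow, ha]; rfl
    have h2 := congrArg Subtype.val h1
    rw [MulAut.conjNormal_apply] at h2
    have h3 : x ^ (p ^ a) * q = q * x ^ (p ^ a) := by
      calc x ^ (p ^ a) * q = (x ^ (p ^ a) * q * (x ^ (p ^ a))⁻¹) * x ^ (p ^ a) := by group
        _ = q * x ^ (p ^ a) := by rw [h2]
    exact h3.symm
  have hxQ := hC hxc
  obtain ⟨b, hb⟩ := hQ ⟨x ^ (p ^ a), hxQ⟩
  refine ⟨a + b, ?_⟩
  rw [pow_add, pow_mul]
  have := congrArg Subtype.val hb
  simpa using this

/-- A finite solvable group whose Sylow `p`-subgroup `T` has only normal subgroups with `p`-group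
automorphism groups has a normal `p`-complement. -/
theorem hasNormalPComplement_of_aut {G : Type*} [Group G] [Finite G] (p : ℕ) [hp : Fact p.Prime]
    (hs : Group.IsSolvable G) (T : Sylow p G)
    (hA : ∀ Q : Subgroup (T : Subgroup G), Q.Normal → IsPGroup p (MulAut Q)) :
    Cfsg.HasNormalPComplement p G := by
  classical
  set N : Subgroup G := pPrimeCore p G with hN
  have hNcop : (Nat.card N).Coprime p := Cfsg.Agent.Lib.H22.card_pPrimeCore_coprime p
  have hdisj : N ⊓ (T : Subgroup G) = ⊥ := by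
    apply Subgroup.inf_eq_bot_of_coprime
    obtain ⟨k, hk⟩ := IsPGroup.iff_card.mp T.2
    rw [hk]
    exact Nat.Coprime.pow_right _ hNcop
  have hOb : pPrimeCore p (G ⧸ N) = ⊥ := Cfsg.Agent.Lib.H9.pPrimeCore_quotient_eq_bot p
  have hsb : Group.IsSolvable (G ⧸ N) := inferInstance
  have hHH := centralizer_pCore_le_of_isSolvable (G := G ⧸ N) p hsb hOb
  -- the map T → G/N
  set f : (T : Subgroup G) →* G ⧸ N := (QuotientGroup.mk' N).comp (T : Subgroup G).subtype with hf
  have hfinj : Function.Injective f := by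
    rw [injective_iff_map_eq_one]
    intro t ht
    have h1 : (t : G) ∈ N := by
      have : (QuotientGroup.mk' N) (t : G) = 1 := ht
      rwa [QuotientGroup.mk'_apply, QuotientGroup.eq_one_iff] at this
    have h2 : (t : G) ∈ N ⊓ (T : Subgroup G) := ⟨h1, t.2⟩
    rw [hdisj, Subgroup.mem_bot] at h2
    exact Subtype.ext h2
  have hrange : f.range = (T : Subgroup G).map (QuotientGroup.mk' N) := by
    rw [hf, MonoidHom.range_comp, Subgroup.range_subtype]
  set Tb : Sylow p (G ⧸ N) := T.mapSurjective (QuotientGroup.mk'_surjective N) with hTb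
  have hQle : pCore p (G ⧸ N) ≤ f.range := by
    rw [hrange]
    exact Cfsg.Agent.Lib.H1.pCore_le_sylow Tb
  set Q : Subgroup (T : Subgroup G) := (pCore p (G ⧸ N)).comap f with hQdef
  have hQn : Q.Normal := Subgroup.Normal.comap inferInstance f
  have hAQ := hA Q hQn
  have hmap : Q.map f = pCore p (G ⧸ N) := Subgroup.map_comap_eq_self hQle
  have hAut : IsPGroup p (MulAut (pCore p (G ⧸ N))) := by
    have e1 : Q ≃* Q.map f := Subgroup.equivMapOfInjective Q f hfinj
    have e2 : Q.map f ≃* pCore p (G ⧸ N) := MulEquiv.subgroupCongr hmap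
    exact hAQ.of_equiv (MulAut.congr (e1.trans e2))
  have hGb : IsPGroup p (G ⧸ N) :=
    isPGroup_of_centralizer_le_of_aut p (pCore p (G ⧸ N)) (Cfsg.Agent.Lib.H1.pCore_isPGroup p _)
      hHH hAut
  have htop : (⊤ : Subgroup (G ⧸ N)) = (Tb : Subgroup (G ⧸ N)) := Tb.3 (hGb.to_subgroup ⊤) le_top
  have hsup : N ⊔ (T : Subgroup G) = ⊤ := by
    have h1 : ((T : Subgroup G).map (QuotientGroup.mk' N)).comap (QuotientGroup.mk' N) = ⊤ := by
      have : (T : Subgroup G).map (QuotientGroup.mk' N) = (Tb : Subgroup (G ⧸ N)) := rfl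
      rw [this, ← htop, Subgroup.comap_top]
    rw [Subgroup.comap_map_eq, QuotientGroup.ker_mk'] at h1
    rw [sup_comm]; exact h1
  refine ⟨T, N, inferInstance, ?_⟩
  apply Subgroup.isComplement'_of_disjoint_and_mul_eq_univ
  · rw [disjoint_iff]; exact hdisj
  · rw [← Subgroup.normal_mul, hsup]; rfl

end Cfsg.Agent.Lib.H16
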