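import Mathlib
import Cfsg.Prelude.Def_Transfer
import Cfsg.Agent.Lib.L0.TransferPC

/-! Normal `p`-complements ascend from normal subgroups of `p`-power index (helper16). -/

set_option autoImplicit false

universe u

namespace Cfsg.Agent.Lib.H16

/-- An element whose order is prime to the index of a normal subgroup lies in it. -/
theorem mem_of_normal_of_coprime_orderOf {G : Type*} [Group G] (N : Subgroup G) [N.Normal] (g : G)
    (h : Nat.Coprime N.index (orderOf g)) : g ∈ N := by
  obtain ⟨m, hm⟩ := exists_pow_eq_self_of_coprime h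
  rw [← hm]
  exact N.pow_mem (N.pow_index_mem g) m

/-- If a normal subgroup `K` of `p`-power index has a normal `p`-complement, so does `G`. -/
theorem hasNormalPComplement_of_normal_of_index_pow {G : Type u} [Group G] [Finite G] {p : ℕ}
    [hp : Fact p.Prime] (K : Subgroup G) [hK : K.Normal] (hidx : ∃ j, K.index = p ^ j)
    (h : Cfsg.HasNormalPComplement p K) : Cfsg.HasNormalPComplement p G := by
  obtain ⟨N, hNn, hNp, k, hk⟩ := Cfsg.Agent.Lib.L0.HasNormalPComplement.exists_normal h
  obtain ⟨j, hj⟩ := hidx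
  have hcard : Nat.card (N.map K.subtype) = Nat.card N :=
    Subgroup.card_map_of_injective K.subtype_injective
  haveI : (N.map K.subtype).Normal := by
    constructor
    rintro _ ⟨n₀, hn₀, rfl⟩ g
    have hgK : g * (n₀ : G) * g⁻¹ ∈ K := hK.conj_mem _ n₀.2 g
    have hord : orderOf (⟨g * (n₀ : G) * g⁻¹, hgK⟩ : K) = orderOf n₀ := by
      rw [← Subgroup.orderOf_coe, ← Subgroup.orderOf_coe]
      exact (MulAut.conj g).orderOf_eq (n₀ : G)
    have hcop : Nat.Coprime N.index (orderOf (⟨g * (n₀ : G) * g⁻¹, hgK⟩ : K)) := by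
      rw [hord, hk]
      apply Nat.Coprime.pow_left
      have h1 : orderOf (⟨n₀, hn₀⟩ : N) ∣ Nat.card N := orderOf_dvd_natCard _
      have h2 : orderOf (⟨n₀, hn₀⟩ : N) = orderOf n₀ := by
        rw [← Subgroup.orderOf_coe]
      rw [h2] at h1
      rw [Nat.Prime.coprime_iff_not_dvd hp.out]
      exact fun hd => hNp (hd.trans h1)
    have := mem_of_normal_of_coprime_orderOf N _ hcop
    exact ⟨_, this, rfl⟩
  apply Cfsg.Agent.Lib.L0.hasNormalPComplement_of_normal (N.map K.subtype)
  · rw [hcard]; exact hNp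
  · exact ⟨k + j, by rw [Subgroup.index_map_subtype, hk, hj, pow_add]⟩

end Cfsg.Agent.Lib.H16
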