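import Mathlib
import Cfsg.Agent.Lib.H15.NseA

/-!
# Arithmetic of `nse(A₅)` (helper16, for helper15's S3431)

`arith_A5`: if `NseData N s` holds, `s` takes only the values `0, 1, 15, 20, 24` and takes each of
`15, 20, 24`, then `N = 60`, `s 2 = 15`, `s 3 = 20`, `s 5 = 24` and `s` vanishes elsewhere.
-/

set_option autoImplicit false

namespace Cfsg.Agent.Lib.H16.NseArith

open Cfsg.Agent.Lib.H15.Nse

/-- the hypothesis on the values of `s` -/
def Vals (s : ℕ → ℕ) : Prop := ∀ m, s m = 0 ∨ s m = 1 ∨ s m = 15 ∨ s m = 20 ∨ s m = 24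

theorem s_zero {N : ℕ} {s : ℕ → ℕ} (D : NseData N s) : s 0 = 0 := by
  apply D.ndvd
  intro h
  have := D.pos
  rw [zero_dvd_iff] at h
  omega

theorem two_dvd_tot {m : ℕ} (h : 2 < m) : 2 ∣ Nat.totient m :=
  even_iff_two_dvd.1 (Nat.totient_even h)

theorem eq_two_of_s_eq_15 {N : ℕ} {s : ℕ → ℕ} (D : NseData N s) {m : ℕ} (h : s m = 15) :
    m = 2 := by
  have h1 := D.tot m
  rw [h] at h1
  by_contra hm
  have : m = 0 ∨ m = 1 ∨ 2 < m := by omega
  rcases this with rfl | rfl | h2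
  · rw [s_zero D] at h; omega
  · rw [D.one] at h; omega
  · have : 2 ∣ 15 := (two_dvd_tot h2).trans h1
    omega

theorem s_large {N : ℕ} {s : ℕ → ℕ} (D : NseData N s) (hV : Vals s) {m : ℕ} (h : 2 < m) :
    s m = 0 ∨ s m = 20 ∨ s m = 24 := by
  rcases hV m with h0 | h1 | h15 | h20 | h24
  · exact Or.inl h0
  · exfalso
    have h1' := D.tot m
    rw [h1] at h1'
    have : 2 ∣ 1 := (two_dvd_tot h).trans h1'
    omega
  · have := eq_two_of_s_eq_15 D h15; omega
  · exact Or.inr (Or.inl h20)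
  · exact Or.inr (Or.inr h24)

theorem frob_list {N : ℕ} {s : ℕ → ℕ} (D : NseData N s) (n : ℕ) (L : List ℕ)
    (hL : n.divisors = L.toFinset) (hnd : L.Nodup) (h : n ∣ N) : n ∣ (L.map s).sum := by
  have := D.frob n h
  rwa [hL, List.sum_toFinset _ hnd] at this

theorem odd_prime_dvd {N : ℕ} {s : ℕ → ℕ} (D : NseData N s) (hV : Vals s) {p : ℕ}
    (hp : p.Prime) (hpN : p ∣ N) (hp2 : p ≠ 2) :
    (p = 3 ∧ s 3 = 20) ∨ (p = 5 ∧ s 5 = 24) := by
  have hp3 : 2 < p := lt_of_le_of_ne hp.two_le (Ne.symm hp2)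
  have hne := D.cauchy p hp hpN
  have hfr := D.frob p hpN
  rw [hp.divisors, Finset.sum_pair (by omega : (1:ℕ) ≠ p), D.one] at hfr
  have htot := D.tot p
  rw [Nat.totient_prime hp] at htot
  rcases s_large D hV hp3 with h | h | h
  · exact absurd h hne
  · rw [h] at hfr htot
    have hle : p ≤ 21 := Nat.le_of_dvd (by norm_num) hfr
    left
    have h3 : p = 3 := by
      interval_cases p <;>
        first | rfl | omega | (exfalso; revert hp; norm_num)
    subst h3
    exact ⟨rfl, h⟩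
  · rw [h] at hfr htot
    have hle : p ≤ 25 := Nat.le_of_dvd (by norm_num) hfr
    right
    have h5 : p = 5 := by
      interval_cases p <;>
        first | rfl | omega | (exfalso; revert hp; norm_num)
    subst h5
    exact ⟨rfl, h⟩

theorem s3_eq {N : ℕ} {s : ℕ → ℕ} (D : NseData N s) (hV : Vals s) (h3 : 3 ∣ N) : s 3 = 20 := by
  rcases odd_prime_dvd D hV Nat.prime_three h3 (by norm_num) with ⟨_, h⟩ | ⟨h, _⟩
  · exact h
  · omega

theorem s5_eq {N : ℕ} {s : ℕ → ℕ} (D : NseData N s) (hV : Vals s) (h5 : 5 ∣ N) : s 5 = 24 := by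
  rcases odd_prime_dvd D hV (by norm_num : Nat.Prime 5) h5 (by norm_num) with ⟨h, _⟩ | ⟨_, h⟩
  · omega
  · exact h

theorem tot9 : Nat.totient 9 = 6 := by decide
theorem tot27 : Nat.totient 27 = 18 := by decide
theorem tot25 : Nat.totient 25 = 20 := by decide
theorem tot15 : Nat.totient 15 = 8 := by decide
theorem tot16 : Nat.totient 16 = 8 := by decide
theorem tot32 : Nat.totient 32 = 16 := by decide

theorem not_nine_dvd {N : ℕ} {s : ℕ → ℕ} (D : NseData N s) (hV : Vals s) : ¬ 9 ∣ N := by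
  intro h9
  have h3 : 3 ∣ N := dvd_trans (by norm_num) h9
  have hs3 : s 3 = 20 := s3_eq D hV h3
  have hfr := frob_list D 9 [1, 3, 9] (by decide) (by decide) h9
  simp only [List.map_cons, List.map_nil, List.sum_cons, List.sum_nil, D.one, hs3] at hfr
  have ht := D.tot 9
  rw [tot9] at ht
  have hs9 : s 9 = 24 := by
    rcases s_large D hV (by norm_num : 2 < 9) with h | h | h
    · rw [h] at hfr; omega
    · rw [h] at ht; omega
    · exact h
  have h27 : ¬ 27 ∣ N := by
    intro h27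
    have hfr := frob_list D 27 [1, 3, 9, 27] (by decide) (by decide) h27
    simp only [List.map_cons, List.map_nil, List.sum_cons, List.sum_nil, D.one, hs3, hs9] at hfr
    have ht := D.tot 27
    rw [tot27] at ht
    rcases s_large D hV (by norm_num : 2 < 27) with h | h | h
    · rw [h] at hfr; omega
    · rw [h] at ht; omega
    · rw [h] at ht; omega
  have e2 : (3 : ℕ) ^ 2 = 9 := by norm_num
  have e3 : (3 : ℕ) ^ (2 + 1) = 27 := by norm_num
  obtain ⟨n, -, -, hn, hj⟩ := D.syl 3 2 Nat.prime_three (by rw [e2]; exact h9)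
    (by rw [e3]; exact h27) (by rw [e2, hs9]; norm_num)
  have h1 := hj 1 (by norm_num)
  rw [e2, tot9, hs9] at hn
  rw [pow_one, Nat.totient_prime Nat.prime_three, hs3] at h1
  norm_num at h1
  omega

theorem not_25_dvd {N : ℕ} {s : ℕ → ℕ} (D : NseData N s) (hV : Vals s) (hs2 : s 2 = 15)
    (h2 : 2 ∣ N) : ¬ 25 ∣ N := by
  intro h25
  have h5 : 5 ∣ N := dvd_trans (by norm_num) h25
  have hs5 : s 5 = 24 := s5_eq D hV h5
  have hfr := frob_list D 25 [1, 5, 25] (by decide) (by decide) h25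
  simp only [List.map_cons, List.map_nil, List.sum_cons, List.sum_nil, D.one, hs5] at hfr
  have ht := D.tot 25
  rw [tot25] at ht
  have hs25 : s 25 = 0 := by
    rcases s_large D hV (by norm_num : 2 < 25) with h | h | h
    · exact h
    · rw [h] at hfr; omega
    · rw [h] at ht; omega
  have h50 : 50 ∣ N := by omega
  have hs50 : s 50 = 0 := D.mul 25 2 hs25
  have hfr50 := frob_list D 50 [1, 2, 5, 10, 25, 50] (by decide) (by decide) h50
  simp only [List.map_cons, List.map_nil, List.sum_cons, List.sum_nil, D.one, hs2, hs5, hs25,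
    hs50] at hfr50
  rcases s_large D hV (by norm_num : 2 < 10) with h | h | h <;> rw [h] at hfr50 <;> omega

theorem s32_eq {N : ℕ} {s : ℕ → ℕ} (D : NseData N s) (hV : Vals s) : s 32 = 0 := by
  have ht := D.tot 32
  rw [tot32] at ht
  rcases s_large D hV (by norm_num : 2 < 32) with h | h | h
  · exact h
  · rw [h] at ht; omega
  · rw [h] at ht; omega

theorem s64_eq {N : ℕ} {s : ℕ → ℕ} (D : NseData N s) (hV : Vals s) : s 64 = 0 :=
  D.mul 32 2 (s32_eq D hV)

theorem s128_eq {N : ℕ} {s : ℕ → ℕ} (D : NseData N s) (hV : Vals s) : s 128 = 0 :=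
  D.mul 32 4 (s32_eq D hV)

theorem s16_eq {N : ℕ} {s : ℕ → ℕ} (D : NseData N s) (hV : Vals s) : s 16 = 0 ∨ s 16 = 24 := by
  have ht := D.tot 16
  rw [tot16] at ht
  rcases s_large D hV (by norm_num : 2 < 16) with h | h | h
  · exact Or.inl h
  · rw [h] at ht; omega
  · exact Or.inr h

theorem not_128_dvd {N : ℕ} {s : ℕ → ℕ} (D : NseData N s) (hV : Vals s) (hs2 : s 2 = 15) :
    ¬ 128 ∣ N := by
  intro h
  have hfr := frob_list D 128 [1, 2, 4, 8, 16, 32, 64, 128] (by decide) (by decide) h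
  simp only [List.map_cons, List.map_nil, List.sum_cons, List.sum_nil, D.one, hs2, s32_eq D hV,
    s64_eq D hV, s128_eq D hV] at hfr
  rcases s_large D hV (by norm_num : 2 < 4) with h4 | h4 | h4 <;>
  rcases s_large D hV (by norm_num : 2 < 8) with h8 | h8 | h8 <;>
  rcases s_large D hV (by norm_num : 2 < 16) with h16 | h16 | h16 <;>
  rw [h4, h8, h16] at hfr <;> omega

theorem of_64_dvd {N : ℕ} {s : ℕ → ℕ} (D : NseData N s) (hV : Vals s) (hs2 : s 2 = 15)
    (h : 64 ∣ N) : s 4 = 24 ∧ s 8 = 24 ∧ s 16 = 0 := by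
  have hfr := frob_list D 64 [1, 2, 4, 8, 16, 32, 64] (by decide) (by decide) h
  simp only [List.map_cons, List.map_nil, List.sum_cons, List.sum_nil, D.one, hs2, s32_eq D hV,
    s64_eq D hV] at hfr
  have m1 : s 4 ≠ 0 ∨ s 8 = 0 := by
    by_cases h4 : s 4 = 0
    · exact Or.inr (D.mul 4 2 h4)
    · exact Or.inl h4
  have m2 : s 8 ≠ 0 ∨ s 16 = 0 := by
    by_cases h8 : s 8 = 0
    · exact Or.inr (D.mul 8 2 h8)
    · exact Or.inl h8
  rcases s_large D hV (by norm_num : 2 < 4) with h4 | h4 | h4 <;>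
  rcases s_large D hV (by norm_num : 2 < 8) with h8 | h8 | h8 <;>
  rcases s16_eq D hV with h16 | h16 <;>
  rw [h4, h8, h16] at hfr <;> omega

theorem sixty_le {N : ℕ} {s : ℕ → ℕ} (D : NseData N s) (hs2 : s 2 = 15) {a b : ℕ}
    (ha : s a = 20) (hb : s b = 24) : 60 ≤ N := by
  have h1 := D.one
  have hsub : ({1, 2, a, b} : Finset ℕ) ⊆ N.divisors := by
    intro x hx
    simp only [Finset.mem_insert, Finset.mem_singleton] at hx
    rw [Nat.mem_divisors]
    refine ⟨?_, D.pos.ne'⟩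
    by_contra hnd
    have := D.ndvd x hnd
    rcases hx with rfl | rfl | rfl | rfl <;> omega
  have hle := Finset.sum_le_sum_of_subset (f := s) hsub
  rw [← D.total] at hle
  have n1 : (1 : ℕ) ∉ ({2, a, b} : Finset ℕ) := by
    simp only [Finset.mem_insert, Finset.mem_singleton, not_or]
    refine ⟨by omega, ?_, ?_⟩ <;> (intro h; subst h; omega)
  have n2 : (2 : ℕ) ∉ ({a, b} : Finset ℕ) := by
    simp only [Finset.mem_insert, Finset.mem_singleton, not_or]
    refine ⟨?_, ?_⟩ <;> (intro h; subst h; omega)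
  have n3 : a ≠ b := by intro h; subst h; omega
  rw [Finset.sum_insert n1, Finset.sum_insert n2, Finset.sum_pair n3] at hle
  omega

theorem dvd_960 {N : ℕ} (hN : N ≠ 0) (h2 : ¬ 128 ∣ N) (h3 : ¬ 9 ∣ N) (h5 : ¬ 25 ∣ N)
    (hp : ∀ p, p.Prime → p ∣ N → p = 2 ∨ p = 3 ∨ p = 5) : N ∣ 960 := by
  rw [← Nat.factorization_prime_le_iff_dvd hN (by norm_num)]
  intro p pp
  by_cases hpN : p ∣ N
  · rcases hp p pp hpN with rfl | rfl | rfl
    · have a1 : N.factorization 2 ≤ 6 := by
        by_contra h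
        rw [not_le] at h
        exact h2 ((Nat.Prime.pow_dvd_iff_le_factorization Nat.prime_two hN).2 h)
      have a2 : 6 ≤ (960 : ℕ).factorization 2 :=
        (Nat.Prime.pow_dvd_iff_le_factorization Nat.prime_two (by norm_num)).1 (by norm_num)
      omega
    · have a1 : N.factorization 3 ≤ 1 := by
        by_contra h
        rw [not_le] at h
        exact h3 ((Nat.Prime.pow_dvd_iff_le_factorization Nat.prime_three hN).2 h)
      have a2 : 1 ≤ (960 : ℕ).factorization 3 :=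
        (Nat.Prime.pow_dvd_iff_le_factorization Nat.prime_three (by norm_num)).1 (by norm_num)
      omega
    · have a1 : N.factorization 5 ≤ 1 := by
        by_contra h
        rw [not_le] at h
        exact h5 ((Nat.Prime.pow_dvd_iff_le_factorization pp hN).2 h)
      have a2 : 1 ≤ (960 : ℕ).factorization 5 :=
        (Nat.Prime.pow_dvd_iff_le_factorization pp (by norm_num)).1 (by norm_num)
      omega
  · rw [Nat.factorization_eq_zero_of_not_dvd hpN]
    exact Nat.zero_le _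

theorem case_D {N : ℕ} {s : ℕ → ℕ} (D : NseData N s) (hV : Vals s) (h3 : 3 ∣ N) (h5 : 5 ∣ N)
    (h4 : 4 ∣ N) (hs2 : s 2 = 15) : s 4 = 0 ∧ s 6 = 0 ∧ s 10 = 0 ∧ s 15 = 0 := by
  have hs3 := s3_eq D hV h3
  have hs5 := s5_eq D hV h5
  have h15 : 15 ∣ N := by omega
  have h30 : 30 ∣ N := by omega
  have h12 : 12 ∣ N := by omega
  have h20 : 20 ∣ N := by omega
  have hf15 := frob_list D 15 [1, 3, 5, 15] (by decide) (by decide) h15
  simp only [List.map_cons, List.map_nil, List.sum_cons, List.sum_nil, D.one, hs3, hs5] at hf15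
  have ht15 := D.tot 15
  rw [tot15] at ht15
  have hs15 : s 15 = 0 := by
    rcases s_large D hV (by norm_num : 2 < 15) with h | h | h
    · exact h
    · rw [h] at ht15; omega
    · rw [h] at hf15; omega
  have hs30 : s 30 = 0 := D.mul 15 2 hs15
  have hf30 := frob_list D 30 [1, 2, 3, 5, 6, 10, 15, 30] (by decide) (by decide) h30
  simp only [List.map_cons, List.map_nil, List.sum_cons, List.sum_nil, D.one, hs2, hs3, hs5, hs15,
    hs30] at hf30
  have h610 : s 6 = 0 ∧ s 10 = 0 := by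
    rcases s_large D hV (by norm_num : 2 < 6) with h6 | h6 | h6 <;>
    rcases s_large D hV (by norm_num : 2 < 10) with h10 | h10 | h10 <;>
    rw [h6, h10] at hf30 <;> omega
  obtain ⟨hs6, hs10⟩ := h610
  have hs12 : s 12 = 0 := D.mul 6 2 hs6
  have hs20 : s 20 = 0 := D.mul 10 2 hs10
  have hf12 := frob_list D 12 [1, 2, 3, 4, 6, 12] (by decide) (by decide) h12
  simp only [List.map_cons, List.map_nil, List.sum_cons, List.sum_nil, D.one, hs2, hs3, hs6,
    hs12] at hf12
  have hf20 := frob_list D 20 [1, 2, 4, 5, 10, 20] (by decide) (by decide) h20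
  simp only [List.map_cons, List.map_nil, List.sum_cons, List.sum_nil, D.one, hs2, hs5, hs10,
    hs20] at hf20
  have hs4 : s 4 = 0 := by
    rcases s_large D hV (by norm_num : 2 < 4) with h | h | h
    · exact h
    · rw [h] at hf12; omega
    · rw [h] at hf20; omega
  exact ⟨hs4, hs6, hs10, hs15⟩

theorem div960_a : ∀ n ∈ (960 : ℕ).divisors, 60 ≤ n → 4 ∣ n := by decide +kernel

theorem div960_b : ∀ d ∈ (960 : ℕ).divisors,
    d = 1 ∨ d = 2 ∨ d = 3 ∨ d = 5 ∨ 4 ∣ d ∨ 6 ∣ d ∨ 10 ∣ d ∨ 15 ∣ d := by decide +kernel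

theorem div960_c : ∀ n ∈ (960 : ℕ).divisors, 60 ≤ n → ¬ 3 ∣ n → ¬ 5 ∣ n → n = 64 := by
  decide +kernel

theorem div64 : ∀ d ∈ (64 : ℕ).divisors,
    d = 1 ∨ d = 2 ∨ d = 4 ∨ d = 8 ∨ d = 16 ∨ d = 32 ∨ d = 64 := by decide +kernel

/-- The arithmetic of `nse(A₅)`. -/
theorem arith_A5 {N : ℕ} {s : ℕ → ℕ} (D : NseData N s)
    (hV : ∀ m, s m = 0 ∨ s m = 1 ∨ s m = 15 ∨ s m = 20 ∨ s m = 24)
    (e15 : ∃ m, s m = 15) (e20 : ∃ m, s m = 20) (e24 : ∃ m, s m = 24) :
    N = 60 ∧ s 2 = 15 ∧ s 3 = 20 ∧ s 5 = 24 ∧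
      ∀ m, m ≠ 1 → m ≠ 2 → m ≠ 3 → m ≠ 5 → s m = 0 := by
  obtain ⟨m15, h15⟩ := e15
  obtain ⟨m20, h20⟩ := e20
  obtain ⟨m24, h24⟩ := e24
  have hs2 : s 2 = 15 := by
    have := eq_two_of_s_eq_15 D h15
    subst this
    exact h15
  have h2N : 2 ∣ N := by
    by_contra h
    have := D.ndvd 2 h
    omega
  have h60 := sixty_le D hs2 h20 h24
  have hpr : ∀ p, p.Prime → p ∣ N → p = 2 ∨ p = 3 ∨ p = 5 := by
    intro p pp hpN
    by_cases hp2 : p = 2
    · exact Or.inl hp2
    · rcases odd_prime_dvd D hV pp hpN hp2 with ⟨h, _⟩ | ⟨h, _⟩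
      · exact Or.inr (Or.inl h)
      · exact Or.inr (Or.inr h)
  have h960 : N ∣ 960 := dvd_960 D.pos.ne' (not_128_dvd D hV hs2) (not_nine_dvd D hV)
    (not_25_dvd D hV hs2 h2N) hpr
  have hmem : N ∈ (960 : ℕ).divisors := Nat.mem_divisors.2 ⟨h960, by norm_num⟩
  have hm20 : m20 ∣ N := by
    by_contra h
    have := D.ndvd m20 h
    omega
  by_cases h3 : 3 ∣ N <;> by_cases h5 : 5 ∣ N
  · -- both
    have h4 : 4 ∣ N := div960_a N hmem h60
    obtain ⟨z4, z6, z10, z15⟩ := case_D D hV h3 h5 h4 hs2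
    have hz : ∀ d, (4 ∣ d ∨ 6 ∣ d ∨ 10 ∣ d ∨ 15 ∣ d) → s d = 0 := by
      rintro d (⟨k, rfl⟩ | ⟨k, rfl⟩ | ⟨k, rfl⟩ | ⟨k, rfl⟩)
      exacts [D.mul 4 k z4, D.mul 6 k z6, D.mul 10 k z10, D.mul 15 k z15]
    have hsupp : ∀ d, s d ≠ 0 → d = 1 ∨ d = 2 ∨ d = 3 ∨ d = 5 := by
      intro d hd
      have hdN : d ∣ N := by
        by_contra h
        exact hd (D.ndvd d h)
      have hd960 : d ∈ (960 : ℕ).divisors := Nat.mem_divisors.2 ⟨hdN.trans h960, by norm_num⟩
      rcases div960_b d hd960 with h | h | h | h | h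
      · exact Or.inl h
      · exact Or.inr (Or.inl h)
      · exact Or.inr (Or.inr (Or.inl h))
      · exact Or.inr (Or.inr (Or.inr h))
      · exact absurd (hz d h) hd
    have hs3 := s3_eq D hV h3
    have hs5 := s5_eq D hV h5
    have hN60 : N = 60 := by
      have hle : ∑ d ∈ N.divisors, s d ≤ ∑ d ∈ ({1, 2, 3, 5} : Finset ℕ), s d := by
        apply Finset.sum_le_sum_of_ne_zero
        intro d _ hd
        simp only [Finset.mem_insert, Finset.mem_singleton]
        exact hsupp d hd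
      rw [← D.total] at hle
      rw [Finset.sum_insert (by decide), Finset.sum_insert (by decide),
        Finset.sum_pair (by decide), D.one, hs2, hs3, hs5] at hle
      omega
    refine ⟨hN60, hs2, hs3, hs5, ?_⟩
    intro m h1 h2 h3' h5'
    by_contra hne
    rcases hsupp m hne with h | h | h | h <;> contradiction
  · -- 3 ∣ N, ¬ 5 ∣ N
    exfalso
    have hs3 := s3_eq D hV h3
    obtain ⟨n, -, hnN, hn, -⟩ := D.syl 3 1 Nat.prime_three (by rw [pow_one]; exact h3)
      (by norm_num; exact not_nine_dvd D hV) (by rw [pow_one, hs3]; norm_num)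
    rw [pow_one, Nat.totient_prime Nat.prime_three, hs3] at hn
    norm_num at hn
    have : n = 10 := by omega
    subst this
    exact h5 (dvd_trans (by norm_num) hnN)
  · -- ¬ 3 ∣ N, 5 ∣ N
    exfalso
    have hs5 := s5_eq D hV h5
    have p5 : Nat.Prime 5 := by norm_num
    obtain ⟨n, -, hnN, hn, -⟩ := D.syl 5 1 p5 (by rw [pow_one]; exact h5)
      (by norm_num; exact not_25_dvd D hV hs2 h2N) (by rw [pow_one, hs5]; norm_num)
    rw [pow_one, Nat.totient_prime p5, hs5] at hn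
    norm_num at hn
    have : n = 6 := by omega
    subst this
    exact h3 (dvd_trans (by norm_num) hnN)
  · -- neither
    exfalso
    have hN64 : N = 64 := div960_c N hmem h60 h3 h5
    subst hN64
    obtain ⟨a4, a8, a16⟩ := of_64_dvd D hV hs2 (dvd_refl 64)
    have hm : m20 ∈ (64 : ℕ).divisors := Nat.mem_divisors.2 ⟨hm20, by norm_num⟩
    have h1 := D.one
    have a32 := s32_eq D hV
    have a64 := s64_eq D hV
    rcases div64 m20 hm with rfl | rfl | rfl | rfl | rfl | rfl | rfl <;> omega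

end Cfsg.Agent.Lib.H16.NseArith
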