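import Mathlib

/-!
# Numbers of elements of each order in `A₄`, `A₅`, `A₆` (helper16, for helper15's S3431)

`nse_A4`, `nse_A5`, `nse_A6`: the set of the numbers of elements of each order.
-/

set_option autoImplicit false

namespace Cfsg.Agent.Lib.H16.NseCert

open Equiv Equiv.Perm

/-- number of even permutations of `Fin n` satisfying a decidable predicate -/
def evCount (n : ℕ) (P : Perm (Fin n) → Prop) [DecidablePred P] : ℕ :=
  (Finset.univ.filter (fun g : Perm (Fin n) => sign g = 1 ∧ P g)).card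

theorem card_alt_eq (n : ℕ) (m : ℕ) (P : Perm (Fin n) → Prop) [DecidablePred P]
    (hP : ∀ g : Perm (Fin n), sign g = 1 → (orderOf g = m ↔ P g)) :
    Nat.card {g : alternatingGroup (Fin n) // orderOf g = m} = evCount n P := by
  unfold evCount
  rw [← Fintype.card_subtype, ← Nat.card_eq_fintype_card]
  apply Nat.card_congr
  refine ⟨fun g => ⟨g.1.1, ?_, ?_⟩, fun g => ⟨⟨g.1, ?_⟩, ?_⟩, ?_, ?_⟩
  · exact mem_alternatingGroup.1 g.1.2
  · have h := g.2
    rw [← Subgroup.orderOf_coe] at h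
    exact (hP _ (mem_alternatingGroup.1 g.1.2)).1 h
  · exact mem_alternatingGroup.2 g.2.1
  · rw [← Subgroup.orderOf_coe]
    exact (hP _ g.2.1).2 g.2.2
  · intro g; rfl
  · intro g; rfl

theorem order_one_iff {n : ℕ} (g : Perm (Fin n)) : orderOf g = 1 ↔ g = 1 := orderOf_eq_one_iff

theorem order_prime_iff {n : ℕ} (p : ℕ) (hp : p.Prime) (g : Perm (Fin n)) :
    orderOf g = p ↔ (g ^ p = 1 ∧ g ≠ 1) := by
  constructor
  · intro h
    refine ⟨h ▸ pow_orderOf_eq_one g, ?_⟩
    intro h1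
    rw [h1, orderOf_one] at h
    exact hp.one_lt.ne h
  · rintro ⟨h1, h2⟩
    have : Fact p.Prime := ⟨hp⟩
    exact orderOf_eq_prime h1 h2

theorem order_four_iff {n : ℕ} (g : Perm (Fin n)) :
    orderOf g = 4 ↔ (g ^ 4 = 1 ∧ g ^ 2 ≠ 1) := by
  constructor
  · intro h
    refine ⟨h ▸ pow_orderOf_eq_one g, ?_⟩
    intro h1
    have := orderOf_dvd_of_pow_eq_one h1
    rw [h] at this
    omega
  · rintro ⟨h1, h2⟩
    have : Fact (Nat.Prime 2) := ⟨Nat.prime_two⟩
    have := orderOf_eq_prime_pow (x := g) (p := 2) (n := 1) (by simpa using h2) (by simpa using h1)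
    simpa using this

theorem image_cnt_eq {G : Type*} [Group G] (L : List ℕ) (hL : ∀ g : G, orderOf g ∈ L)
    (hne : ∀ m ∈ L, Nat.card {g : G // orderOf g = m} ≠ 0) :
    ((fun m : ℕ => Nat.card {g : G // orderOf g = m}) '' Set.range (orderOf : G → ℕ)) =
      {x | ∃ m ∈ L, Nat.card {g : G // orderOf g = m} = x} := by
  ext x
  constructor
  · rintro ⟨m, ⟨g, rfl⟩, rfl⟩
    exact ⟨orderOf g, hL g, rfl⟩
  · rintro ⟨m, hm, rfl⟩
    have h := hne m hm
    rw [Nat.card_ne_zero] at h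
    obtain ⟨⟨⟨g, hg⟩⟩, _⟩ := h
    exact ⟨m, ⟨g, hg⟩, rfl⟩

theorem prime_five' : Nat.Prime 5 := by norm_num

/-! ### `A_4` -/

set_option maxRecDepth 100000 in
theorem ord4 : ∀ g : Perm (Fin 4), sign g = 1 → g = 1 ∨ (g ^ 2 = 1 ∧ g ≠ 1) ∨ (g ^ 3 = 1 ∧ g ≠ 1) := by
  decide +kernel

set_option maxRecDepth 100000 in
theorem c4_1 : Nat.card {g : alternatingGroup (Fin 4) // orderOf g = 1} = 1 := by
  rw [card_alt_eq 4 1 (fun g => g = 1) (fun g _ => order_one_iff g)]
  decide +kernel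

set_option maxRecDepth 100000 in
theorem c4_2 : Nat.card {g : alternatingGroup (Fin 4) // orderOf g = 2} = 3 := by
  rw [card_alt_eq 4 2 (fun g => g ^ 2 = 1 ∧ g ≠ 1) (fun g _ => order_prime_iff 2 Nat.prime_two g)]
  decide +kernel

set_option maxRecDepth 100000 in
theorem c4_3 : Nat.card {g : alternatingGroup (Fin 4) // orderOf g = 3} = 8 := by
  rw [card_alt_eq 4 3 (fun g => g ^ 3 = 1 ∧ g ≠ 1) (fun g _ => order_prime_iff 3 Nat.prime_three g)]
  decide +kernel

theorem ordA4 (g : alternatingGroup (Fin 4)) : orderOf g ∈ [1, 2, 3] := by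
  rw [← Subgroup.orderOf_coe]
  rcases ord4 g.1 (mem_alternatingGroup.1 g.2) with h | h | h
  · rw [(order_one_iff _).2 h]; simp
  · rw [(order_prime_iff 2 Nat.prime_two _).2 h]; simp
  · rw [(order_prime_iff 3 Nat.prime_three _).2 h]; simp

/-- the set of numbers of elements of each order of `A_4` -/
theorem nse_A4 : ((fun m : ℕ => Nat.card {g : ↥(alternatingGroup (Fin 4)) // orderOf g = m}) ''
    Set.range (orderOf : ↥(alternatingGroup (Fin 4)) → ℕ)) = ({1, 3, 8} : Set ℕ) := by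
  rw [image_cnt_eq [1, 2, 3] ordA4]
  · ext x
    simp only [List.mem_cons, List.not_mem_nil, or_false, exists_eq_or_imp, exists_eq_left,
      c4_1, c4_2, c4_3, Set.mem_ofPred_eq, Set.mem_insert_iff, Set.mem_singleton_iff]
    constructor
    · rintro (h | h | h) <;> omega
    · rintro (h | h | h) <;> omega
  · intro m hm
    simp only [List.mem_cons, List.not_mem_nil, or_false] at hm
    rcases hm with rfl | rfl | rfl
    · rw [c4_1]; omega
    · rw [c4_2]; omega
    · rw [c4_3]; omega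

/-! ### `A_5` -/

set_option maxRecDepth 100000 in
theorem ord5 : ∀ g : Perm (Fin 5), sign g = 1 → g = 1 ∨ (g ^ 2 = 1 ∧ g ≠ 1) ∨ (g ^ 3 = 1 ∧ g ≠ 1) ∨ (g ^ 5 = 1 ∧ g ≠ 1) := by
  decide +kernel

set_option maxRecDepth 100000 in
theorem c5_1 : Nat.card {g : alternatingGroup (Fin 5) // orderOf g = 1} = 1 := by
  rw [card_alt_eq 5 1 (fun g => g = 1) (fun g _ => order_one_iff g)]
  decide +kernel

set_option maxRecDepth 100000 in
theorem c5_2 : Nat.card {g : alternatingGroup (Fin 5) // orderOf g = 2} = 15 := by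
  rw [card_alt_eq 5 2 (fun g => g ^ 2 = 1 ∧ g ≠ 1) (fun g _ => order_prime_iff 2 Nat.prime_two g)]
  decide +kernel

set_option maxRecDepth 100000 in
theorem c5_3 : Nat.card {g : alternatingGroup (Fin 5) // orderOf g = 3} = 20 := by
  rw [card_alt_eq 5 3 (fun g => g ^ 3 = 1 ∧ g ≠ 1) (fun g _ => order_prime_iff 3 Nat.prime_three g)]
  decide +kernel

set_option maxRecDepth 100000 in
theorem c5_5 : Nat.card {g : alternatingGroup (Fin 5) // orderOf g = 5} = 24 := by
  rw [card_alt_eq 5 5 (fun g => g ^ 5 = 1 ∧ g ≠ 1) (fun g _ => order_prime_iff 5 prime_five' g)]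
  decide +kernel

theorem ordA5 (g : alternatingGroup (Fin 5)) : orderOf g ∈ [1, 2, 3, 5] := by
  rw [← Subgroup.orderOf_coe]
  rcases ord5 g.1 (mem_alternatingGroup.1 g.2) with h | h | h | h
  · rw [(order_one_iff _).2 h]; simp
  · rw [(order_prime_iff 2 Nat.prime_two _).2 h]; simp
  · rw [(order_prime_iff 3 Nat.prime_three _).2 h]; simp
  · rw [(order_prime_iff 5 prime_five' _).2 h]; simp

/-- the set of numbers of elements of each order of `A_5` -/
theorem nse_A5 : ((fun m : ℕ => Nat.card {g : ↥(alternatingGroup (Fin 5)) // orderOf g = m}) ''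
    Set.range (orderOf : ↥(alternatingGroup (Fin 5)) → ℕ)) = ({1, 15, 20, 24} : Set ℕ) := by
  rw [image_cnt_eq [1, 2, 3, 5] ordA5]
  · ext x
    simp only [List.mem_cons, List.not_mem_nil, or_false, exists_eq_or_imp, exists_eq_left,
      c5_1, c5_2, c5_3, c5_5, Set.mem_ofPred_eq, Set.mem_insert_iff, Set.mem_singleton_iff]
    constructor
    · rintro (h | h | h | h) <;> omega
    · rintro (h | h | h | h) <;> omega
  · intro m hm
    simp only [List.mem_cons, List.not_mem_nil, or_false] at hm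
    rcases hm with rfl | rfl | rfl | rfl
    · rw [c5_1]; omega
    · rw [c5_2]; omega
    · rw [c5_3]; omega
    · rw [c5_5]; omega

/-! ### `A_6` -/

set_option maxRecDepth 100000 in
theorem ord6 : ∀ g : Perm (Fin 6), sign g = 1 → g = 1 ∨ (g ^ 2 = 1 ∧ g ≠ 1) ∨ (g ^ 3 = 1 ∧ g ≠ 1) ∨ (g ^ 4 = 1 ∧ g ^ 2 ≠ 1) ∨ (g ^ 5 = 1 ∧ g ≠ 1) := by
  decide +kernel

set_option maxRecDepth 100000 in
theorem c6_1 : Nat.card {g : alternatingGroup (Fin 6) // orderOf g = 1} = 1 := by
  rw [card_alt_eq 6 1 (fun g => g = 1) (fun g _ => order_one_iff g)]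
  decide +kernel

set_option maxRecDepth 100000 in
theorem c6_2 : Nat.card {g : alternatingGroup (Fin 6) // orderOf g = 2} = 45 := by
  rw [card_alt_eq 6 2 (fun g => g ^ 2 = 1 ∧ g ≠ 1) (fun g _ => order_prime_iff 2 Nat.prime_two g)]
  decide +kernel

set_option maxRecDepth 100000 in
theorem c6_3 : Nat.card {g : alternatingGroup (Fin 6) // orderOf g = 3} = 80 := by
  rw [card_alt_eq 6 3 (fun g => g ^ 3 = 1 ∧ g ≠ 1) (fun g _ => order_prime_iff 3 Nat.prime_three g)]
  decide +kernel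

set_option maxRecDepth 100000 in
theorem c6_4 : Nat.card {g : alternatingGroup (Fin 6) // orderOf g = 4} = 90 := by
  rw [card_alt_eq 6 4 (fun g => g ^ 4 = 1 ∧ g ^ 2 ≠ 1) (fun g _ => order_four_iff g)]
  decide +kernel

set_option maxRecDepth 100000 in
theorem c6_5 : Nat.card {g : alternatingGroup (Fin 6) // orderOf g = 5} = 144 := by
  rw [card_alt_eq 6 5 (fun g => g ^ 5 = 1 ∧ g ≠ 1) (fun g _ => order_prime_iff 5 prime_five' g)]
  decide +kernel

theorem ordA6 (g : alternatingGroup (Fin 6)) : orderOf g ∈ [1, 2, 3, 4, 5] := by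
  rw [← Subgroup.orderOf_coe]
  rcases ord6 g.1 (mem_alternatingGroup.1 g.2) with h | h | h | h | h
  · rw [(order_one_iff _).2 h]; simp
  · rw [(order_prime_iff 2 Nat.prime_two _).2 h]; simp
  · rw [(order_prime_iff 3 Nat.prime_three _).2 h]; simp
  · rw [(order_four_iff _).2 h]; simp
  · rw [(order_prime_iff 5 prime_five' _).2 h]; simp

/-- the set of numbers of elements of each order of `A_6` -/
theorem nse_A6 : ((fun m : ℕ => Nat.card {g : ↥(alternatingGroup (Fin 6)) // orderOf g = m}) ''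
    Set.range (orderOf : ↥(alternatingGroup (Fin 6)) → ℕ)) = ({1, 45, 80, 90, 144} : Set ℕ) := by
  rw [image_cnt_eq [1, 2, 3, 4, 5] ordA6]
  · ext x
    simp only [List.mem_cons, List.not_mem_nil, or_false, exists_eq_or_imp, exists_eq_left,
      c6_1, c6_2, c6_3, c6_4, c6_5, Set.mem_ofPred_eq, Set.mem_insert_iff, Set.mem_singleton_iff]
    constructor
    · rintro (h | h | h | h | h) <;> omega
    · rintro (h | h | h | h | h) <;> omega
  · intro m hm
    simp only [List.mem_cons, List.not_mem_nil, or_false] at hm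
    rcases hm with rfl | rfl | rfl | rfl | rfl
    · rw [c6_1]; omega
    · rw [c6_2]; omega
    · rw [c6_3]; omega
    · rw [c6_4]; omega
    · rw [c6_5]; omega

end Cfsg.Agent.Lib.H16.NseCert
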