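import Mathlib
import Cfsg.Prelude.Def_Characters
import Cfsg.Agent.Lib.H24.CharOrth
import Cfsg.Agent.Lib.H24.CharBasic
import Cfsg.Agent.Lib.H24.BrauerP4
import Cfsg.Agent.Lib.H15.O5760A
import Cfsg.Agent.Lib.H12.O5760E3
import Cfsg.Agent.Lib.L0.CharOps
import Cfsg.Agent.Lib.L0.CharBasic

/-!
# S0980 piece (E4) (helper16, architect's twin): the principal 5-block for `N_G(K) = D10`, by column
orthogonality only.  Exact signature of `tools/blueprints/S0980_sigs_h16.lean`.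
-/

set_option autoImplicit false

namespace Cfsg.Agent.Lib.H16.O5760

open Cfsg Cfsg.Agent.Lib.L0 Cfsg.Agent.Lib.H24 Cfsg.Agent.Lib.H15.O5760
open scoped BigOperators ComplexConjugate

universe u

/-- `1` and `α = ζ + ζ^4` are linearly independent over `ℤ`. -/
theorem int_indep {ζ : ℂ} (hζ : IsPrimitiveRoot ζ 5) (a b : ℤ)
    (h : (a : ℂ) + b * (ζ + ζ ^ 4) = 0) : a = 0 ∧ b = 0 := by
  by_cases hb : b = 0
  · subst hb
    have : (a : ℂ) = 0 := by simpa using h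
    exact ⟨by exact_mod_cast this, rfl⟩
  · exfalso
    apply al_irrational hζ (-(a : ℚ) / b)
    have hb' : (b : ℂ) ≠ 0 := by exact_mod_cast hb
    push_cast
    field_simp
    linear_combination h

/-- a sum over a fintype supported on four distinct points -/
theorem sum_four {ι M : Type*} [Fintype ι] [DecidableEq ι] [AddCommMonoid M] (f : ι → M)
    (a b c d : ι) (hab : a ≠ b) (hac : a ≠ c) (had : a ≠ d) (hbc : b ≠ c) (hbd : b ≠ d)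
    (hcd : c ≠ d) (h0 : ∀ i, i ≠ a → i ≠ b → i ≠ c → i ≠ d → f i = 0) :
    ∑ i, f i = f a + (f b + (f c + f d)) := by
  rw [← Finset.sum_subset (Finset.subset_univ ({a, b, c, d} : Finset ι))]
  · rw [Finset.sum_insert, Finset.sum_insert, Finset.sum_insert, Finset.sum_singleton]
    · simp [hcd]
    · simp [hbc, hbd]
    · simp [hab, hac, had]
  · intro i _ hi
    simp only [Finset.mem_insert, Finset.mem_singleton, not_or] at hi
    exact h0 i hi.1 hi.2.1 hi.2.2.1 hi.2.2.2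

theorem b0_structure {G : Type u} [Group G] [Fintype G] (hperf : commutator G = ⊤)
    (K : Subgroup G) (hK : Nat.card K = 5) (hC : Subgroup.centralizer (K : Set G) = K)
    {x : G} (hx : x ∈ K) (hx1 : x ≠ 1) (hinv : IsConj x x⁻¹) (hsq : ¬ IsConj x (x ^ 2))
    (ζ : ℂ) (hζ : IsPrimitiveRoot ζ 5) :
    ∃ (χ θ θ' : IrrCharacter G) (ε δ : ℤ), (ε = 1 ∨ ε = -1) ∧ (δ = 1 ∨ δ = -1) ∧
      (χ : G → ℂ) ≠ 1 ∧ (θ : G → ℂ) ≠ 1 ∧ (θ' : G → ℂ) ≠ 1 ∧ χ ≠ θ ∧ χ ≠ θ' ∧ θ ≠ θ' ∧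
      (χ : G → ℂ) x = ε ∧ (θ : G → ℂ) x = δ * (ζ + ζ ^ 4) ∧ (θ' : G → ℂ) x = δ * (ζ ^ 2 + ζ ^ 3) ∧
      (∀ ψ : IrrCharacter G, (ψ : G → ℂ) ≠ 1 → ψ ≠ χ → ψ ≠ θ → ψ ≠ θ' → (ψ : G → ℂ) x = 0) ∧
      ∀ g : G, ¬ IsConj g x → ¬ IsConj g (x ^ 2) →
        (θ : G → ℂ) g = (θ' : G → ℂ) g ∧
          1 + (ε : ℂ) * (χ : G → ℂ) g - (δ : ℂ) * (θ : G → ℂ) g = 0 := by
  classical
  have hfi : Fintype (IrrCharacter G) := Fintype.ofFinite (IrrCharacter G)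
  -- algebra of `α`, `β`
  obtain ⟨α, hα⟩ : ∃ α : ℂ, ζ + ζ ^ 4 = α := ⟨_, rfl⟩
  obtain ⟨β, hβ⟩ : ∃ β : ℂ, ζ ^ 2 + ζ ^ 3 = β := ⟨_, rfl⟩
  rw [hα, hβ]
  have hab : α + β = -1 := by rw [← hα, ← hβ]; exact al_add_be hζ
  have hab' : α * β = -1 := by rw [← hα, ← hβ]; exact al_mul_be hζ
  have hα2 : α ^ 2 = 1 - α := by rw [← hα]; linear_combination al_sq hζ
  have hcα : conj α = α := by rw [← hα]; exact conj_al hζ
  have hcβ : conj β = β := by rw [← hβ]; exact conj_be hζ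
  have hindep : ∀ a b : ℤ, (a : ℂ) + b * α = 0 → a = 0 ∧ b = 0 := by
    intro a b h
    rw [← hα] at h
    exact int_indep hζ a b h
  have hαβ : α - β ≠ 0 := by
    intro h
    have h5 : (α - β) ^ 2 = 5 := by linear_combination (α + β - 1) * hab - 4 * hab'
    rw [h] at h5
    norm_num at h5
  -- the order of `x`
  have hox : orderOf x = 5 := by
    have h1 : orderOf (⟨x, hx⟩ : K) ∣ Nat.card K := orderOf_dvd_natCard _
    rw [hK, Subgroup.orderOf_mk] at h1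
    rcases (Nat.Prime.eq_one_or_self_of_dvd (by norm_num : Nat.Prime 5) _ h1) with h2 | h2
    · exact absurd (orderOf_eq_one_iff.1 h2) hx1
    · exact h2
  -- the centralizer of `x`
  have hcent : Nat.card (Subgroup.centralizer ({x} : Set G)) = 5 := by
    have heq : Subgroup.zpowers x = K := by
      apply Subgroup.eq_of_le_of_card_ge ((Subgroup.zpowers_le).2 hx)
      rw [Nat.card_zpowers, hox, hK]
    have h1 : Subgroup.centralizer ({x} : Set G) = Subgroup.centralizer (K : Set G) := by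
      apply le_antisymm
      · intro g hg
        rw [Subgroup.mem_centralizer_iff] at hg ⊢
        intro k hk
        rw [← heq] at hk
        obtain ⟨n, rfl⟩ := Subgroup.mem_zpowers_iff.1 hk
        have h2 : x * g = g * x := hg x (Set.mem_singleton x)
        exact ((Commute.zpow_left (show Commute x g from h2) n)).eq
      · exact Subgroup.centralizer_le (Set.singleton_subset_iff.2 hx)
    rw [h1, hC, hK]
  -- the values at `x`, `x^2`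
  have hvals := fun ψ : IrrCharacter G => char_values_order5 ψ.1 ψ.2 x hox hinv ζ hζ
  choose A m hAx hAx2 using hvals
  simp only [hα, hβ] at hAx hAx2
  have hcx : ∀ ψ : IrrCharacter G, conj ((ψ : G → ℂ) x) = (ψ : G → ℂ) x := by
    intro ψ
    rw [hAx ψ, map_add, map_mul, map_intCast, map_intCast, hcα]
  have hcx2 : ∀ ψ : IrrCharacter G, conj ((ψ : G → ℂ) (x ^ 2)) = (ψ : G → ℂ) (x ^ 2) := by
    intro ψ
    rw [hAx2 ψ, map_add, map_mul, map_intCast, map_intCast, hcβ]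
  -- the trivial character
  set T : IrrCharacter G := trivialIrr G with hT
  have hT1 : ∀ ψ : IrrCharacter G, (ψ : G → ℂ) = 1 → ψ = T := by
    intro ψ h
    apply Subtype.ext
    rw [h]; rfl
  have hTv : ∀ g : G, (T : G → ℂ) g = 1 := fun g => rfl
  have hAT : A T = 1 ∧ m T = 0 := by
    have h1 := hAx T
    rw [hTv] at h1
    have := hindep (A T - 1) (m T) (by push_cast; linear_combination -h1)
    exact ⟨by linarith [this.1], this.2⟩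
  -- (x, x): `∑ (A^2 + m^2) = 5`, `∑ (2 A m - m^2) = 0`
  have hPQ : ∑ ψ : IrrCharacter G, (A ψ ^ 2 + m ψ ^ 2) = 5 ∧
      ∑ ψ : IrrCharacter G, (2 * A ψ * m ψ - m ψ ^ 2) = 0 := by
    have h1 := second_orthogonality x x
    rw [if_pos (IsConj.refl x), hcent] at h1
    have h2 : ∀ ψ : IrrCharacter G, (ψ : G → ℂ) x * conj ((ψ : G → ℂ) x) =
        ((A ψ ^ 2 + m ψ ^ 2 : ℤ) : ℂ) + ((2 * A ψ * m ψ - m ψ ^ 2 : ℤ) : ℂ) * α := by
      intro ψ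
      rw [hcx ψ, hAx ψ]
      push_cast
      linear_combination (m ψ : ℂ) ^ 2 * hα2
    rw [Finset.sum_congr rfl (fun ψ _ => h2 ψ), Finset.sum_add_distrib, ← Finset.sum_mul,
      ← Int.cast_sum, ← Int.cast_sum] at h1
    have := hindep (∑ ψ : IrrCharacter G, (A ψ ^ 2 + m ψ ^ 2) - 5)
      (∑ ψ : IrrCharacter G, (2 * A ψ * m ψ - m ψ ^ 2)) (by push_cast at h1 ⊢; linear_combination h1)
    exact ⟨by linarith [this.1], this.2⟩
  -- (x, x^2): `∑ (A^2 - A m - m^2) = 0`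
  have hN : ∑ ψ : IrrCharacter G, (A ψ ^ 2 - A ψ * m ψ - m ψ ^ 2) = 0 := by
    have h1 := second_orthogonality x (x ^ 2)
    rw [if_neg hsq] at h1
    have h2 : ∀ ψ : IrrCharacter G, (ψ : G → ℂ) x * conj ((ψ : G → ℂ) (x ^ 2)) =
        ((A ψ ^ 2 - A ψ * m ψ - m ψ ^ 2 : ℤ) : ℂ) := by
      intro ψ
      rw [hcx2 ψ, hAx ψ, hAx2 ψ]
      push_cast
      linear_combination (A ψ : ℂ) * (m ψ : ℂ) * hab + (m ψ : ℂ) ^ 2 * hab'
    rw [Finset.sum_congr rfl (fun ψ _ => h2 ψ), ← Int.cast_sum] at h1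
    exact_mod_cast h1
  have hf : ∑ ψ : IrrCharacter G, (2 * A ψ ^ 2 - 2 * A ψ * m ψ + 3 * m ψ ^ 2) = 10 := by
    have : ∑ ψ : IrrCharacter G, (2 * A ψ ^ 2 - 2 * A ψ * m ψ + 3 * m ψ ^ 2) =
        2 * ∑ ψ : IrrCharacter G, (A ψ ^ 2 + m ψ ^ 2) -
          ∑ ψ : IrrCharacter G, (2 * A ψ * m ψ - m ψ ^ 2) := by
      rw [Finset.mul_sum, ← Finset.sum_sub_distrib]
      refine Finset.sum_congr rfl fun ψ _ => ?_
      ring
    rw [this, hPQ.1, hPQ.2]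
    norm_num
  obtain ⟨i₀, j₁, j₂, hi₀T, hj₁T, hj₂T, hi₀j₁, hi₀j₂, hj₁j₂, hi₀v, hj₁v, hj₂v, hrest⟩ :=
    Cfsg.Agent.Lib.H12.O5760.arith_three A m T hAT.1 hAT.2 hf hN
  -- splitting sums
  have hsplit : ∀ {M : Type} [AddCommMonoid M] (f : IrrCharacter G → M),
      (∀ ψ, ψ ≠ T → ψ ≠ i₀ → ψ ≠ j₁ → ψ ≠ j₂ → f ψ = 0) →
      ∑ ψ, f ψ = f T + (f i₀ + (f j₁ + f j₂)) := by
    intro M _ f h0
    exact sum_four f T i₀ j₁ j₂ (Ne.symm hi₀T) (Ne.symm hj₁T) (Ne.symm hj₂T) hi₀j₁ hi₀j₂ hj₁j₂ h0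
  -- degrees
  have hDex : ∀ ψ : IrrCharacter G, ∃ n : ℕ, 0 < n ∧ (ψ : G → ℂ) 1 = n := fun ψ => irr_one_eq ψ
  choose D hDpos hD using hDex
  have hDT : D T = 1 := by
    have := hD T
    rw [hTv] at this
    exact_mod_cast this.symm
  have h1x : ¬ IsConj (1 : G) x := fun h => hx1 (isConj_one_right.1 h)
  have hdeg : ∑ ψ : IrrCharacter G, (D ψ : ℤ) * A ψ = 0 ∧
      ∑ ψ : IrrCharacter G, (D ψ : ℤ) * m ψ = 0 := by
    have h1 := second_orthogonality (1 : G) x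
    rw [if_neg h1x] at h1
    have h2 : ∀ ψ : IrrCharacter G, (ψ : G → ℂ) 1 * conj ((ψ : G → ℂ) x) =
        (((D ψ : ℤ) * A ψ : ℤ) : ℂ) + (((D ψ : ℤ) * m ψ : ℤ) : ℂ) * α := by
      intro ψ
      rw [hcx ψ, hAx ψ, hD ψ]
      push_cast
      ring
    rw [Finset.sum_congr rfl (fun ψ _ => h2 ψ), Finset.sum_add_distrib, ← Finset.sum_mul,
      ← Int.cast_sum, ← Int.cast_sum] at h1
    exact hindep _ _ h1
  have hdegA : 1 + ((D i₀ : ℤ) * A i₀ + ((D j₁ : ℤ) * A j₁ + (D j₂ : ℤ) * A j₂)) = 0 := by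
    have := hsplit (fun ψ => (D ψ : ℤ) * A ψ) (fun ψ h1 h2 h3 h4 => by
      simp only [(hrest ψ h1 h2 h3 h4).1, mul_zero])
    rw [hdeg.1] at this
    simp only [hDT, hAT.1] at this
    push_cast at this
    linarith
  have hdegm : (D j₁ : ℤ) * m j₁ + (D j₂ : ℤ) * m j₂ = 0 := by
    have := hsplit (fun ψ => (D ψ : ℤ) * m ψ) (fun ψ h1 h2 h3 h4 => by
      simp only [(hrest ψ h1 h2 h3 h4).2, mul_zero])
    rw [hdeg.2] at this
    have hmi₀ : m i₀ = 0 := by rcases hi₀v with h | h <;> exact h.2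
    simp only [hAT.2, hmi₀, mul_zero, zero_add] at this
    linarith
  have hD1 : (0 : ℤ) < D j₁ := by exact_mod_cast hDpos j₁
  have hD2 : (0 : ℤ) < D j₂ := by exact_mod_cast hDpos j₂
  have hD0 : (0 : ℤ) < D i₀ := by exact_mod_cast hDpos i₀
  -- no nontrivial linear character
  have hbad : (D j₁ : ℤ) * A j₁ + (D j₂ : ℤ) * A j₂ = 0 → False := by
    intro h
    have h1 : 1 + (D i₀ : ℤ) * A i₀ = 0 := by linarith
    have hDi : D i₀ = 1 := by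
      rcases hi₀v with h2 | h2
      · rw [h2.1] at h1; omega
      · rw [h2.1] at h1; omega
    apply hi₀T
    apply hT1
    apply BrP.linear_eq_one_of_perfect hperf (i₀ : G → ℂ) i₀.2
    rw [hD i₀, hDi]
    simp
  -- the assignment of `θ`, `θ'`
  have key : ∃ (θ θ' : IrrCharacter G) (δ : ℤ), (δ = 1 ∨ δ = -1) ∧ θ ≠ T ∧ θ' ≠ T ∧ i₀ ≠ θ ∧
      i₀ ≠ θ' ∧ θ ≠ θ' ∧ (A θ = 0 ∧ m θ = δ ∨ False) ∧ (A θ' = -δ ∧ m θ' = -δ) ∧
      ∀ ψ, ψ ≠ T → ψ ≠ i₀ → ψ ≠ θ → ψ ≠ θ' → A ψ = 0 ∧ m ψ = 0 := by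
    rcases hj₁v with h1 | h1 | h1 | h1 <;> rcases hj₂v with h2 | h2 | h2 | h2
    all_goals first
      | (exfalso; rw [h1.2, h2.2] at hdegm; omega)
      | (exfalso; apply hbad; rw [h1.2, h2.2] at hdegm; rw [h1.1, h2.1]; omega)
      | (refine ⟨j₁, j₂, 1, Or.inl rfl, hj₁T, hj₂T, hi₀j₁, hi₀j₂, hj₁j₂, Or.inl ⟨h1.1, h1.2⟩,
          ⟨h2.1, h2.2⟩, hrest⟩)
      | (refine ⟨j₁, j₂, -1, Or.inr rfl, hj₁T, hj₂T, hi₀j₁, hi₀j₂, hj₁j₂, Or.inl ⟨h1.1, h1.2⟩,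
          ⟨h2.1, h2.2⟩, hrest⟩)
      | (refine ⟨j₂, j₁, 1, Or.inl rfl, hj₂T, hj₁T, hi₀j₂, hi₀j₁, Ne.symm hj₁j₂,
          Or.inl ⟨h2.1, h2.2⟩, ⟨h1.1, h1.2⟩, fun ψ a b c d => hrest ψ a b d c⟩)
      | (refine ⟨j₂, j₁, -1, Or.inr rfl, hj₂T, hj₁T, hi₀j₂, hi₀j₁, Ne.symm hj₁j₂,
          Or.inl ⟨h2.1, h2.2⟩, ⟨h1.1, h1.2⟩, fun ψ a b c d => hrest ψ a b d c⟩)
  obtain ⟨θ, θ', δ, hδ, hθT, hθ'T, hi₀θ, hi₀θ', hθθ', hθv, hθ'v, hrest'⟩ := key
  have hθv' : A θ = 0 ∧ m θ = δ := hθv.resolve_right (fun h => h)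
  -- values
  obtain ⟨ε, hε⟩ : ∃ ε : ℤ, A i₀ = ε := ⟨_, rfl⟩
  have hεv : ε = 1 ∨ ε = -1 := by
    rw [← hε]
    rcases hi₀v with h | h
    · exact Or.inl h.1
    · exact Or.inr h.1
  have hmi₀ : m i₀ = 0 := by rcases hi₀v with h | h <;> exact h.2
  have hχx : (i₀ : G → ℂ) x = ε := by rw [hAx i₀, hmi₀, hε]; simp
  have hχx2 : (i₀ : G → ℂ) (x ^ 2) = ε := by rw [hAx2 i₀, hmi₀, hε]; simp
  have hθx : (θ : G → ℂ) x = δ * α := by rw [hAx θ, hθv'.1, hθv'.2]; simp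
  have hθx2 : (θ : G → ℂ) (x ^ 2) = δ * β := by rw [hAx2 θ, hθv'.1, hθv'.2]; simp
  have hθ'x : (θ' : G → ℂ) x = δ * β := by
    rw [hAx θ', hθ'v.1, hθ'v.2]; push_cast; linear_combination (-(δ : ℂ)) * hab
  have hθ'x2 : (θ' : G → ℂ) (x ^ 2) = δ * α := by
    rw [hAx2 θ', hθ'v.1, hθ'v.2]; push_cast; linear_combination (-(δ : ℂ)) * hab
  have hvan : ∀ ψ : IrrCharacter G, ψ ≠ T → ψ ≠ i₀ → ψ ≠ θ → ψ ≠ θ' →
      (ψ : G → ℂ) x = 0 ∧ (ψ : G → ℂ) (x ^ 2) = 0 := by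
    intro ψ h1 h2 h3 h4
    obtain ⟨hA0, hm0⟩ := hrest' ψ h1 h2 h3 h4
    rw [hAx ψ, hAx2 ψ, hA0, hm0]
    simp
  have hδ0 : (δ : ℂ) ≠ 0 := by
    rcases hδ with h | h <;> rw [h] <;> norm_num
  refine ⟨i₀, θ, θ', ε, δ, hεv, hδ, fun h => hi₀T (hT1 _ h), fun h => hθT (hT1 _ h),
    fun h => hθ'T (hT1 _ h), hi₀θ, hi₀θ', hθθ', hχx, hθx, hθ'x, ?_, ?_⟩
  · intro ψ h1 h2 h3 h4
    exact (hvan ψ (fun h => h1 (by rw [h]; rfl)) h2 h3 h4).1
  · intro g hgx hgx2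
    have hsplit' : ∀ (f : IrrCharacter G → ℂ),
        (∀ ψ, ψ ≠ T → ψ ≠ i₀ → ψ ≠ θ → ψ ≠ θ' → f ψ = 0) →
        ∑ ψ, f ψ = f T + (f i₀ + (f θ + f θ')) := by
      intro f h0
      exact sum_four f T i₀ θ θ' (Ne.symm hi₀T) (Ne.symm hθT) (Ne.symm hθ'T) hi₀θ hi₀θ' hθθ' h0
    have e1 := second_orthogonality g x
    rw [if_neg hgx, hsplit' _ (fun ψ h1 h2 h3 h4 => by rw [(hvan ψ h1 h2 h3 h4).1]; simp)] at e1
    have e2 := second_orthogonality g (x ^ 2)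
    rw [if_neg hgx2, hsplit' _ (fun ψ h1 h2 h3 h4 => by rw [(hvan ψ h1 h2 h3 h4).2]; simp)] at e2
    simp only [hcx, hcx2] at e1 e2
    simp only [hTv, hχx, hχx2, hθx, hθx2, hθ'x, hθ'x2] at e1 e2
    have hdiff : (δ : ℂ) * (α - β) * ((θ : G → ℂ) g - (θ' : G → ℂ) g) = 0 := by
      linear_combination e1 - e2
    have heq : (θ : G → ℂ) g = (θ' : G → ℂ) g := by
      rcases mul_eq_zero.1 hdiff with h | h
      · rcases mul_eq_zero.1 h with h' | h'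
        · exact absurd h' hδ0
        · exact absurd h' hαβ
      · exact sub_eq_zero.1 h
    refine ⟨heq, ?_⟩
    rw [← heq] at e1
    linear_combination e1 - (δ : ℂ) * (θ : G → ℂ) g * hab

end Cfsg.Agent.Lib.H16.O5760
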