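import Mathlib
import Cfsg.Prelude.Def_Characters
import Cfsg.Agent.Lib.H24.O4320O5
import Cfsg.Agent.Lib.H24.CharOrth
import Cfsg.Agent.Lib.H24.CharBasic
import Cfsg.Agent.Lib.H24.CharKer
import Cfsg.Agent.Lib.H24.BrauerP4
import Cfsg.Agent.Lib.H23.QuasiElem
import Cfsg.Agent.Lib.L0.CharOps
import Cfsg.Agent.Lib.L0.CharBasic
import Cfsg.Agent.Lib.H11.O5760E9
import Cfsg.Agent.Lib.H11.O5760E8
import Cfsg.Agent.Lib.H24.O5760E6
import Cfsg.Agent.Lib.H16.O5760E4

/-!
# S0980 piece (E10) (helper16, architect): assembly, no simple group of order 5760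

`K` a self-centralizing subgroup of order 5 with `|N_G(K)| = 10`; the three characters `χ, θ, θ'` of (E4),
a 2-central involution `z` of (E9), the class multiplication formula (E6) and helper24's count of the
pairs of conjugates of an involution of `N_G(K)` with product `x` give `|C_G(z)|^2 ≤ 9216 < 128^2`.
-/

set_option autoImplicit false

namespace Cfsg.Agent.Lib.H16.O5760

open Cfsg Cfsg.Agent.Lib.L0 Cfsg.Agent.Lib.H24
open scoped ComplexConjugate

universe u

/-- conjugate elements have the same order -/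
theorem orderOf_eq_of_isConj {G : Type u} [Group G] {a b : G} (h : IsConj a b) :
    orderOf a = orderOf b := by
  obtain ⟨c, hc⟩ := h
  exact SemiconjBy.orderOf_eq _ hc

/-- `C_G(g e g⁻¹) = g C_G(e) g⁻¹`, cardinalities (copy of helper23's `PPearl.base_card_centralizer_conj`). -/
theorem card_centralizer_conj {G : Type u} [Group G] (e g : G) :
    Nat.card ↥(Subgroup.centralizer ({g * e * g⁻¹} : Set G)) =
      Nat.card ↥(Subgroup.centralizer ({e} : Set G)) := by
  apply Nat.card_congr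
  refine ⟨fun x => ⟨g⁻¹ * x.1 * g, ?_⟩, fun x => ⟨g * x.1 * g⁻¹, ?_⟩, ?_, ?_⟩
  · have hx := x.2
    rw [Subgroup.mem_centralizer_singleton_iff] at hx ⊢
    calc g⁻¹ * x.1 * g * e = g⁻¹ * (x.1 * (g * e * g⁻¹)) * g := by group
      _ = g⁻¹ * ((g * e * g⁻¹) * x.1) * g := by rw [hx]
      _ = e * (g⁻¹ * x.1 * g) := by group
  · have hx := x.2
    rw [Subgroup.mem_centralizer_singleton_iff] at hx ⊢
    calc g * x.1 * g⁻¹ * (g * e * g⁻¹) = g * (x.1 * e) * g⁻¹ := by group
      _ = g * (e * x.1) * g⁻¹ := by rw [hx]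
      _ = g * e * g⁻¹ * (g * x.1 * g⁻¹) := by group
  · intro x
    apply Subtype.ext
    simp only
    group
  · intro x
    apply Subtype.ext
    simp only
    group

/-- the final real inequality -/
theorem arith_final (c D X r e ε : ℝ) (hc : 128 ≤ c) (hD : 2 ≤ D) (hX : 0 < X)
    (hr1 : r ≤ D) (hr2 : -D ≤ r) (he : e = 1 ∨ e = -1) (hε : ε = 1 ∨ ε = -1)
    (h1 : e = 1 → X = D - ε)
    (heq : c ^ 2 * 5 * (e * D * X) = 5760 * (D - r) ^ 2) : False := by
  have hDpos : 0 < D := by linarith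
  have hcpos : 0 < c := by linarith
  have hc2 : 128 ^ 2 ≤ c ^ 2 := by nlinarith
  rcases he with he | he
  · have hX' := h1 he
    have hXD : D ≤ 2 * X := by
      rcases hε with hε | hε <;> rw [hX', hε] <;> linarith
    rw [he] at heq
    have hsq : (D - r) ^ 2 ≤ 4 * D ^ 2 := by nlinarith
    have h2 : c ^ 2 * 5 * (D * X) ≤ 23040 * D ^ 2 := by nlinarith
    have h3 : c ^ 2 * 5 * X ≤ 23040 * D := by
      have : (c ^ 2 * 5 * X) * D ≤ (23040 * D) * D := by nlinarith
      exact le_of_mul_le_mul_right this hDpos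
    have h4 : c ^ 2 * 5 * X ≤ 46080 * X := by nlinarith
    have h5 : c ^ 2 * 5 ≤ 46080 := le_of_mul_le_mul_right h4 hX
    nlinarith
  · rw [he] at heq
    have hpos : 0 < c ^ 2 * 5 * (D * X) := by positivity
    have hnn : 0 ≤ 5760 * (D - r) ^ 2 := by positivity
    nlinarith

theorem false_of_data {G : Type u} [Group G] [Fintype G] [IsSimpleGroup G] (hG : Nat.card G = 5760)
    (K : Subgroup G) (hK : Nat.card K = 5)
    (hC : Subgroup.centralizer (K : Set G) = K)
    (hN : Nat.card (Subgroup.normalizer (K : Set G)) = 10) : False := by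
  classical
  have : Fact (Nat.Prime 5) := ⟨by norm_num⟩
  have hperf : commutator G = ⊤ :=
    BrP.commutator_eq_top_of_simple (by rw [hG]; norm_num)
  -- `x ∈ K`, `x ≠ 1`
  obtain ⟨x, hxK, hx1⟩ : ∃ x ∈ K, x ≠ 1 := by
    have h1 : 1 < Nat.card K := by rw [hK]; norm_num
    have : Nontrivial K := (Finite.one_lt_card_iff_nontrivial).1 h1
    obtain ⟨y, hy⟩ := exists_ne (1 : K)
    exact ⟨y, y.2, fun h => hy (Subtype.ext h)⟩
  have hordx : orderOf x = 5 := by
    have h1 : orderOf x ∣ 5 := by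
      have := orderOf_dvd_natCard (⟨x, hxK⟩ : K)
      rwa [Subgroup.orderOf_mk, hK] at this
    rcases (Nat.dvd_prime (by norm_num : Nat.Prime 5)).1 h1 with h | h
    · exact absurd (orderOf_eq_one_iff.1 h) hx1
    · exact h
  have hordx2 : orderOf (x ^ 2) = 5 := by
    rw [Nat.Coprime.orderOf_pow (by rw [hordx]; norm_num), hordx]
  obtain ⟨hinv, hsq⟩ := Cfsg.Agent.Lib.H11.O5760.conj_facts K hK hC hN hxK hx1
  have hζ : IsPrimitiveRoot (Complex.exp (2 * Real.pi * Complex.I / (5 : ℕ))) 5 :=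
    Complex.isPrimitiveRoot_exp 5 (by norm_num)
  obtain ⟨χ, θ, θ', ε, δ, hε, hδ, h1χ, h1θ, h1θ', hχθ, hχθ', hθθ', hχx, hθx, hθ'x, hvan, hrel⟩ :=
    Cfsg.Agent.Lib.H16.O5760.b0_structure hperf K hK hC hxK hx1 hinv hsq _ hζ
  obtain ⟨z, hz2, hz128⟩ := Cfsg.Agent.Lib.H11.O5760.central_involution (G := G) hG
  -- elements of order `≠ 5` are not conjugate to `x`, `x^2`
  have hnc : ∀ g : G, orderOf g ≠ 5 → ¬ IsConj g x ∧ ¬ IsConj g (x ^ 2) := by
    intro g hg
    refine ⟨fun h => hg ?_, fun h => hg ?_⟩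
    · rw [orderOf_eq_of_isConj h, hordx]
    · rw [orderOf_eq_of_isConj h, hordx2]
  have hrel1 := hrel 1 (hnc 1 (by rw [orderOf_one]; norm_num)).1 (hnc 1 (by rw [orderOf_one]; norm_num)).2
  -- degrees
  obtain ⟨d, hdpos, hd⟩ := irr_one_eq θ
  obtain ⟨dχ, hdχpos, hdχ⟩ := irr_one_eq χ
  have hd2 : 2 ≤ d := by
    by_contra hlt
    have hd1 : d = 1 := by omega
    apply h1θ
    apply BrP.linear_eq_one_of_perfect hperf (θ : G → ℂ) θ.2
    rw [hd, hd1]
    simp
  -- the inequality for an involution `w` of `N_G(K)` with `128 ∣ |C_G(w)|`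
  have hmain : ∀ w : G, orderOf w = 2 →
      (∑ s : G, ∑ t : G, if (s * w * s⁻¹) * (t * w * t⁻¹) = x then (1 : ℂ) else 0) *
        ((δ : ℂ) * (ε : ℂ) * (θ : G → ℂ) 1 * (χ : G → ℂ) 1) =
      (Nat.card G : ℂ) * ((θ : G → ℂ) 1 - (θ : G → ℂ) w) ^ 2 := by
    intro w hw
    have hrelw := hrel w (hnc w (by rw [hw]; norm_num)).1 (hnc w (by rw [hw]; norm_num)).2
    exact Cfsg.Agent.Lib.H24.O5760.pairs_formula _ hζ χ θ θ' ε δ hε hδ h1χ h1θ h1θ' hχθ hχθ' hθθ'
      hχx hθx hθ'x hvan hrel1 hrelw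
  by_cases hex : ∃ s t : G, (s * z * s⁻¹) * (t * z * t⁻¹) = x
  · obtain ⟨s, t, hst⟩ := hex
    set z' : G := s * z * s⁻¹ with hz'
    set w : G := t * z * t⁻¹ with hw
    have hzz : z * z = 1 := by
      have := pow_orderOf_eq_one z
      rwa [hz2, pow_two] at this
    have hz'z' : z' * z' = 1 := by
      have : z' * z' = s * (z * z) * s⁻¹ := by rw [hz']; group
      rw [this, hzz]; group
    have hww : w * w = 1 := by
      have : w * w = t * (z * z) * t⁻¹ := by rw [hw]; group
      rw [this, hzz]; group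
    have hz'inv : z'⁻¹ = z' := inv_eq_of_mul_eq_one_left hz'z'
    have hz'2 : orderOf z' = 2 := by
      rw [← orderOf_eq_of_isConj (isConj_iff.2 ⟨s, rfl⟩ : IsConj z z'), hz2]
    -- `z'` inverts `x`
    have hz'x : z' * x * z'⁻¹ = x⁻¹ := by
      rw [hz'inv, ← hst]
      have : (z' * w)⁻¹ = w * z' := by
        rw [mul_inv_rev, hz'inv, inv_eq_of_mul_eq_one_left hww]
      rw [this]
      calc z' * (z' * w) * z' = (z' * z') * w * z' := by group
        _ = w * z' := by rw [hz'z', one_mul]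
    -- `K = zpowers x`
    have hKx : K = Subgroup.zpowers x := by
      symm
      apply Subgroup.eq_of_le_of_card_ge (Subgroup.zpowers_le.2 hxK)
      rw [Nat.card_zpowers, hordx, hK]
    have hz'N : z' ∈ Subgroup.normalizer (K : Set G) := by
      apply Cfsg.Agent.Lib.H23.mem_normalizer_of_conj_le
      intro c hc
      rw [hKx] at hc ⊢
      obtain ⟨n, rfl⟩ := Subgroup.mem_zpowers_iff.1 hc
      have : z' * x ^ n * z'⁻¹ = (x⁻¹) ^ n := by
        rw [← hz'x]
        simp [conj_zpow]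
      rw [this]
      exact Subgroup.zpow_mem _ (Subgroup.inv_mem _ (Subgroup.mem_zpowers x)) n
    have hcount := Cfsg.Agent.Lib.H24.O4320.card_pairs_inverting (p := 5) (by norm_num) K hK hC hz'N hz'2
      hxK hx1
    have hE6 := hmain z' hz'2
    rw [hcount, hG, hd, hdχ] at hE6
    -- `θ z'` is real
    have hreal : conj ((θ : G → ℂ) z') = (θ : G → ℂ) z' := by
      have := isCharacter_apply_inv (isCharacter_of_irr θ.2) z'
      rw [hz'inv] at this
      exact this.symm
    obtain ⟨r, hr⟩ := Complex.conj_eq_iff_real.1 hreal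
    have hnorm := isCharacter_norm_le (isCharacter_of_irr θ.2) z'
    rw [hd] at hnorm
    rw [hr] at hnorm hE6
    rw [Complex.norm_natCast, Complex.norm_real, Real.norm_eq_abs] at hnorm
    have hr1 : r ≤ d := (abs_le.1 hnorm).2
    have hr2 : -(d : ℝ) ≤ r := (abs_le.1 hnorm).1
    -- the card of the centralizer
    set c : ℕ := Nat.card (Subgroup.centralizer ({z'} : Set G)) with hc
    have hc128 : 128 ∣ c := by
      rw [hc, hz', card_centralizer_conj]
      exact hz128
    have hcpos : 0 < c := Nat.card_pos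
    have hc128' : (128 : ℝ) ≤ c := by
      exact_mod_cast Nat.le_of_dvd hcpos hc128
    have hrel1' := hrel1.2
    rw [hd, hdχ] at hrel1'
    have heqR : (c : ℝ) ^ 2 * 5 * (((δ * ε : ℤ) : ℝ) * d * dχ) = 5760 * ((d : ℝ) - r) ^ 2 := by
      have : (((c : ℝ) ^ 2 * 5 * (((δ * ε : ℤ) : ℝ) * d * dχ) : ℝ) : ℂ) =
          ((5760 * ((d : ℝ) - r) ^ 2 : ℝ) : ℂ) := by
        push_cast
        push_cast at hE6
        rw [← hE6]
      exact_mod_cast this
    have hrelR : (1 : ℝ) + (ε : ℝ) * dχ - (δ : ℝ) * d = 0 := by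
      have : ((1 + (ε : ℝ) * dχ - (δ : ℝ) * d : ℝ) : ℂ) = ((0 : ℝ) : ℂ) := by
        push_cast
        exact hrel1'
      exact_mod_cast this
    refine arith_final (c : ℝ) (d : ℝ) (dχ : ℝ) r ((δ * ε : ℤ) : ℝ) (ε : ℝ) hc128' (by exact_mod_cast hd2)
      (by exact_mod_cast hdχpos) hr1 hr2 ?_ ?_ ?_ heqR
    · rcases hε with h | h <;> rcases hδ with h' | h' <;> rw [h, h'] <;> norm_num
    · rcases hε with h | h <;> rw [h] <;> norm_num
    · intro he
      rcases hε with h | h <;> rcases hδ with h' | h'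
      · rw [h, h'] at hrelR; rw [h]; push_cast at hrelR ⊢; linarith
      · exfalso; rw [h, h'] at he; norm_num at he
      · exfalso; rw [h, h'] at he; norm_num at he
      · rw [h, h'] at hrelR; rw [h]; push_cast at hrelR ⊢; linarith
  · -- the pair count is `0`, so `z ∈ ker θ`
    have hzero : (∑ s : G, ∑ t : G, if (s * z * s⁻¹) * (t * z * t⁻¹) = x then (1 : ℂ) else 0) = 0 := by
      apply Finset.sum_eq_zero
      intro s _
      apply Finset.sum_eq_zero
      intro t _
      rw [if_neg]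
      intro h
      exact hex ⟨s, t, h⟩
    have hE6 := hmain z hz2
    rw [hzero, zero_mul, hG] at hE6
    have hθz : (θ : G → ℂ) z = (θ : G → ℂ) 1 := by
      have h5760 : ((5760 : ℕ) : ℂ) ≠ 0 := by norm_num
      have := (mul_eq_zero.1 hE6.symm).resolve_left h5760
      have h2 := pow_eq_zero_iff (two_ne_zero) |>.1 this
      exact (sub_eq_zero.1 h2).symm
    have hzker : z ∈ charKer (θ : G → ℂ) (isCharacter_of_irr θ.2) := mem_charKer.2 hθz
    rcases (charKer_normal (θ : G → ℂ) (isCharacter_of_irr θ.2)).eq_bot_or_eq_top with hb | ht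
    · rw [hb, Subgroup.mem_bot] at hzker
      rw [hzker, orderOf_one] at hz2
      norm_num at hz2
    · apply h1θ
      rw [irr_eq_trivial_of_charKer_eq_top θ.2 ht]
      rfl

end Cfsg.Agent.Lib.H16.O5760
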