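import Mathlib

/-! # S0980 piece (E5) (helper16): the key identity (pure field algebra) -/

set_option autoImplicit false

namespace Cfsg.Agent.Lib.H16.O5760

/-- (E5) the key identity. -/
theorem key_identity (ε δ : ℤ) (hε : ε = 1 ∨ ε = -1) (hδ : δ = 1 ∨ δ = -1) (α β dχ d u τ : ℂ)
    (hαβ : α + β = -1) (hdχ : dχ ≠ 0) (hd : d ≠ 0)
    (h1 : 1 + (ε : ℂ) * dχ - (δ : ℂ) * d = 0) (hz : 1 + (ε : ℂ) * u - (δ : ℂ) * τ = 0) :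
    (1 + u * u * (ε : ℂ) / dχ + τ * τ * ((δ : ℂ) * α) / d + τ * τ * ((δ : ℂ) * β) / d) *
      ((δ : ℂ) * (ε : ℂ) * d * dχ) = (d - τ) ^ 2 := by
  have hε2 : (ε : ℂ) * (ε : ℂ) = 1 := by
    rcases hε with h | h <;> rw [h] <;> norm_num
  have hδ2 : (δ : ℂ) * (δ : ℂ) = 1 := by
    rcases hδ with h | h <;> rw [h] <;> norm_num
  have hβ : β = -1 - α := by linear_combination hαβ
  -- `dχ = ε (δ d - 1)`, `u = ε (δ τ - 1)`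
  have hdχ' : dχ = (ε : ℂ) * ((δ : ℂ) * d - 1) := by
    linear_combination (ε : ℂ) * h1 + (-dχ) * hε2
  have hu' : u = (ε : ℂ) * ((δ : ℂ) * τ - 1) := by
    linear_combination (ε : ℂ) * hz + (-u) * hε2
  have e1 : (1 + u * u * (ε : ℂ) / dχ + τ * τ * ((δ : ℂ) * α) / d + τ * τ * ((δ : ℂ) * β) / d) *
      ((δ : ℂ) * (ε : ℂ) * d * dχ) =
      (δ : ℂ) * (ε : ℂ) * d * dχ + u * u * ((ε : ℂ) * (ε : ℂ)) * (δ : ℂ) * d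
        + τ * τ * ((δ : ℂ) * (δ : ℂ)) * (α + β) * (ε : ℂ) * dχ := by
    field_simp
    ring
  rw [e1, hε2, hδ2, hαβ, hu', hdχ']
  have : (δ : ℂ) * (ε : ℂ) * d * ((ε : ℂ) * ((δ : ℂ) * d - 1)) +
      (ε : ℂ) * ((δ : ℂ) * τ - 1) * ((ε : ℂ) * ((δ : ℂ) * τ - 1)) * 1 * (δ : ℂ) * d +
      τ * τ * 1 * (-1) * (ε : ℂ) * ((ε : ℂ) * ((δ : ℂ) * d - 1)) =
      ((ε : ℂ) * (ε : ℂ)) * ((δ : ℂ) * d * ((δ : ℂ) * d - 1) + ((δ : ℂ) * τ - 1) ^ 2 * ((δ : ℂ) * d)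
        - τ * τ * ((δ : ℂ) * d - 1)) := by ring
  rw [this, hε2]
  linear_combination (d * d - 2 * d * τ + d * τ * τ * (δ : ℂ)) * hδ2

end Cfsg.Agent.Lib.H16.O5760
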