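import Cfsg.Agent.Lib.H13.O7Defs

set_option autoImplicit false
set_option linter.unusedVariables false
set_option linter.unusedSectionVars false
set_option linter.dupNamespace false

/-!
# A nontrivial strongly closed subgroup of `S0` contains `Esub` (helper16, for helper13, S2647)
-/

namespace Cfsg.Agent.Lib.H13.O7

open Matrix Equiv Cfsg

variable {F : Type*} [Field F]

theorem sce16_tv_comp_perm (σ : Perm (Fin 7)) (a b : Fin 7) : tv (σ a) (σ b) ∘ ⇑σ = tv a b := by
  funext x
  simp only [tv, Function.comp, Pi.mul_apply, Pi.mulSingle_apply, EmbeddingLike.apply_eq_iff_eq]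

theorem sce16_tv_self (a : Fin 7) : tv a a = 1 := by
  funext x
  simp only [tv, Pi.mul_apply, Pi.mulSingle_apply, Pi.one_apply]
  split_ifs <;> simp

theorem sce16_prod_tv (a b : Fin 7) : ∏ i, tv a b i = 1 := by
  simp only [tv, Pi.mul_apply]
  rw [Finset.prod_mul_distrib, Finset.prod_pi_mulSingle', Finset.prod_pi_mulSingle']
  simp

theorem sce16_exists_two_avoid : ∀ a b c : Fin 7, ∃ r s : Fin 7,
    r ≠ s ∧ r ≠ a ∧ r ≠ b ∧ r ≠ c ∧ s ≠ a ∧ s ≠ b ∧ s ≠ c := by
  decide

theorem sce16_exists_one_avoid : ∀ a b : Fin 7, ∃ c : Fin 7, c ≠ a ∧ c ≠ b := by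
  decide

theorem sce16_conj_dg_mono (ε η : Fin 7 → ℤˣ) (d : Perm (Fin 7)) :
    mono (F := F) ε d * dg η * (mono ε d)⁻¹ = dg (η ∘ ⇑d⁻¹) := by
  rw [dg_apply, mono_inv, mono_mul, mono_mul, dg_apply]
  congr 1
  · funext i
    simp only [Pi.mul_apply, Function.comp_apply, mul_one]
    have h1 : d (d⁻¹ i) = i := by simp
    rw [h1, mul_comm (ε i), mul_assoc, Int.units_mul_self, mul_one]
  · simp

theorem sce16_sum_decomp (q : Fin 7) (ε : Fin 7 → ℤˣ) (hε : ∏ i, ε i = 1) :
    ε = ∏ i, (Pi.mulSingle i (ε i) * Pi.mulSingle q (ε i) : Fin 7 → ℤˣ) := by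
  rw [Finset.prod_mul_distrib, Finset.univ_prod_mulSingle]
  have h1 : ∏ i, (Pi.mulSingle q (ε i) : Fin 7 → ℤˣ) = Pi.mulSingle q (∏ i, ε i) :=
    (map_prod (MonoidHom.mulSingle (fun _ : Fin 7 => ℤˣ) q) ε Finset.univ).symm
  rw [h1, hε, Pi.mulSingle_one, mul_one]

theorem Esub_le_of_sc (h2 : (2 : F) ≠ 0) (H : Subgroup (O7 F)) (hM : MA F ≤ H)
    (hS : S0 F ≤ H) (T : Subgroup (O7 F)) (hT : T ≤ S0 F)
    (hsc : ∀ x ∈ T, ∀ g ∈ H, g * x * g⁻¹ ∈ S0 F → g * x * g⁻¹ ∈ T) (hne : T ≠ ⊥) :
    Esub F ≤ T := by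
  classical
  -- T is normal in S0
  have hnorm : ∀ x ∈ T, ∀ g ∈ S0 F, g * x * g⁻¹ ∈ T := fun x hx g hg =>
    hsc x hx g (hS hg) ((S0 F).mul_mem ((S0 F).mul_mem hg (hT hx)) ((S0 F).inv_mem hg))
  -- sign vectors in T
  set W : Subgroup (Fin 7 → ℤˣ) := T.comap (dg (F := F)) with hW
  have memW : ∀ ε : Fin 7 → ℤˣ, ε ∈ W ↔ dg (F := F) ε ∈ T := fun ε => Iff.rfl
  have dgS0 : ∀ ε : Fin 7 → ℤˣ, ∏ i, ε i = 1 → dg (F := F) ε ∈ S0 F := fun ε hε =>
    ⟨ε, 1, hε, Subgroup.one_mem _, rfl⟩
  have prodW : ∀ ε : Fin 7 → ℤˣ, ε ∈ W → ∏ i, ε i = 1 := by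
    intro ε hε
    have h1 : mono (F := F) ε 1 ∈ MS F D8 := hT hε
    exact ((mono_mem_MS h2 D8 ε 1).1 h1).1
  -- closed under even permutations
  have hperm : ∀ σ : Perm (Fin 7), Perm.sign σ = 1 → ∀ ε ∈ W, ε ∘ ⇑σ ∈ W := by
    intro σ hσ ε hε
    have hpm : pm (F := F) σ⁻¹ ∈ H := by
      apply hM
      refine ⟨1, σ⁻¹, by simp, ?_, rfl⟩
      rw [Perm.mem_alternatingGroup, Perm.sign_inv, hσ]
    have h1 := pm_conj_dg (F := F) σ⁻¹ ε
    rw [inv_inv] at h1
    rw [memW, ← h1]
    apply hsc _ hε _ hpm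
    rw [h1]
    apply dgS0
    rw [← prodW ε hε]
    exact Equiv.prod_comp σ ε
  -- a nontrivial element of W
  have hex : ∃ ε ∈ W, ε ≠ 1 := by
    have h1 : ∃ x ∈ T, x ≠ 1 := by
      by_contra hcon
      push Not at hcon
      exact hne ((Subgroup.eq_bot_iff_forall T).2 hcon)
    obtain ⟨x, hxT, hx1⟩ := h1
    obtain ⟨ε, d, hε, hd, rfl⟩ := hT hxT
    by_cases hd1 : d = 1
    · subst hd1
      refine ⟨ε, hxT, ?_⟩
      rintro rfl
      exact hx1 mono_one
    · have h3 : ∃ a, d a ≠ a := by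
        by_contra hcon
        push Not at hcon
        exact hd1 (Equiv.ext hcon)
      obtain ⟨a, ha⟩ := h3
      obtain ⟨c, hca, hcd⟩ := sce16_exists_one_avoid a (d a)
      have hη : dg (F := F) (tv a c) ∈ S0 F := dgS0 _ (sce16_prod_tv a c)
      have h4 : mono (F := F) ε d * dg (tv a c) * (mono ε d)⁻¹ * (dg (tv a c))⁻¹ ∈ T := by
        have h5 := hnorm _ (T.inv_mem hxT) _ hη
        have h6 := T.mul_mem hxT h5
        have h7 : mono (F := F) ε d * (dg (tv a c) * (mono ε d)⁻¹ * (dg (tv a c))⁻¹)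
            = mono (F := F) ε d * dg (tv a c) * (mono ε d)⁻¹ * (dg (tv a c))⁻¹ := by
          group
        rwa [h7] at h6
      rw [sce16_conj_dg_mono, ← map_inv, ← map_mul] at h4
      refine ⟨_, h4, ?_⟩
      intro h8
      have h9 := congrFun h8 (d a)
      have h10 : d⁻¹ (d a) = a := by simp
      simp only [tv, Pi.mul_apply, Function.comp_apply, h10, Pi.inv_apply,
        Pi.one_apply, Pi.mulSingle_eq_same, Pi.mulSingle_eq_of_ne hca.symm,
        Pi.mulSingle_eq_of_ne ha, Pi.mulSingle_eq_of_ne hcd.symm] at h9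
      have h11 : (-1 : ℤˣ) * 1 * (1 * 1)⁻¹ ≠ 1 := by decide
      exact h11 h9
  obtain ⟨ε, hεW, hε1⟩ := hex
  -- some tv p q in W
  have htv : ∃ p q : Fin 7, p ≠ q ∧ tv p q ∈ W := by
    have hprod := prodW ε hεW
    obtain ⟨i, hi⟩ := Function.ne_iff.1 hε1
    have hi' : ε i = -1 := by
      rcases Int.units_eq_one_or (ε i) with h | h
      · exact absurd h hi
      · exact h
    have hj : ∃ j, ε j = 1 := by
      by_contra hcon
      push Not at hcon
      have hall : ∀ j, ε j = -1 := fun j => by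
        rcases Int.units_eq_one_or (ε j) with h | h
        · exact absurd h (hcon j)
        · exact h
      have : ∏ j, ε j = -1 := by
        rw [Finset.prod_congr rfl (fun j _ => hall j), Finset.prod_const]
        decide
      rw [hprod] at this
      revert this
      decide
    obtain ⟨j, hj⟩ := hj
    have hij : i ≠ j := by
      rintro rfl
      rw [hi'] at hj
      revert hj
      decide
    obtain ⟨m, hmi, hmj⟩ := sce16_exists_one_avoid i j
    have hσ : Perm.sign (swap i j * swap j m) = 1 := by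
      rw [Perm.sign_mul, Perm.sign_swap hij, Perm.sign_swap hmj.symm]
      decide
    have h1 := W.mul_mem hεW (hperm _ hσ ε hεW)
    rcases Int.units_eq_one_or (ε m) with hm | hm
    · refine ⟨i, m, hmi.symm, ?_⟩
      convert h1 using 1
      funext x
      simp only [tv, Pi.mul_apply, Function.comp_apply, Perm.mul_apply]
      by_cases hxi : x = i
      · subst hxi
        rw [swap_apply_of_ne_of_ne hij hmi.symm, swap_apply_left, hi', hj,
          Pi.mulSingle_eq_same, Pi.mulSingle_eq_of_ne hmi.symm]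
      · by_cases hxj : x = j
        · subst hxj
          rw [swap_apply_left, swap_apply_of_ne_of_ne hmi hmj, hj, hm,
            Pi.mulSingle_eq_of_ne hxi, Pi.mulSingle_eq_of_ne hmj.symm]
        · by_cases hxm : x = m
          · subst hxm
            rw [swap_apply_right, swap_apply_right, hi', hm,
              Pi.mulSingle_eq_of_ne hxi, Pi.mulSingle_eq_same]
          · rw [swap_apply_of_ne_of_ne hxj hxm, swap_apply_of_ne_of_ne hxi hxj,
              Int.units_mul_self, Pi.mulSingle_eq_of_ne hxi, Pi.mulSingle_eq_of_ne hxm]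
            rfl
    · refine ⟨i, j, hij, ?_⟩
      convert h1 using 1
      funext x
      simp only [tv, Pi.mul_apply, Function.comp_apply, Perm.mul_apply]
      by_cases hxi : x = i
      · subst hxi
        rw [swap_apply_of_ne_of_ne hij hmi.symm, swap_apply_left, hi', hj,
          Pi.mulSingle_eq_same, Pi.mulSingle_eq_of_ne hij]
      · by_cases hxj : x = j
        · subst hxj
          rw [swap_apply_left, swap_apply_of_ne_of_ne hmi hmj, hj, hm,
            Pi.mulSingle_eq_of_ne hxi, Pi.mulSingle_eq_same]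
        · by_cases hxm : x = m
          · subst hxm
            rw [swap_apply_right, swap_apply_right, hi', hm,
              Pi.mulSingle_eq_of_ne hxi, Pi.mulSingle_eq_of_ne hxj]
            rfl
          · rw [swap_apply_of_ne_of_ne hxj hxm, swap_apply_of_ne_of_ne hxi hxj,
              Int.units_mul_self, Pi.mulSingle_eq_of_ne hxi, Pi.mulSingle_eq_of_ne hxj]
            rfl
  obtain ⟨p, q, hpq, hpqW⟩ := htv
  -- all tv i q in W
  have hall : ∀ i, tv i q ∈ W := by
    intro i
    by_cases hiq : i = q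
    · rw [hiq, sce16_tv_self]
      exact W.one_mem
    by_cases hip : i = p
    · rw [hip]
      exact hpqW
    obtain ⟨r, s, hrs, hrp, hri, hrq, hsp, hsi, hsq⟩ := sce16_exists_two_avoid p i q
    have hσ : Perm.sign (swap p i * swap r s) = 1 := by
      rw [Perm.sign_mul, Perm.sign_swap (Ne.symm hip), Perm.sign_swap hrs]
      decide
    have h1 := hperm _ hσ _ hpqW
    have h2 : (swap p i * swap r s) i = p := by
      rw [Perm.mul_apply, swap_apply_of_ne_of_ne hri.symm hsi.symm, swap_apply_right]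
    have h3 : (swap p i * swap r s) q = q := by
      rw [Perm.mul_apply, swap_apply_of_ne_of_ne hrq.symm hsq.symm,
        swap_apply_of_ne_of_ne (Ne.symm hpq) (Ne.symm hiq)]
    have h4 := sce16_tv_comp_perm (swap p i * swap r s) i q
    rw [h2, h3] at h4
    rw [← h4]
    exact h1
  -- every even sign vector is in W
  have hgen : ∀ η : Fin 7 → ℤˣ, ∏ i, η i = 1 → η ∈ W := by
    intro η hη
    rw [sce16_sum_decomp q η hη]
    apply Subgroup.prod_mem
    intro i _
    rcases Int.units_eq_one_or (η i) with h | h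
    · rw [h, Pi.mulSingle_one, Pi.mulSingle_one, mul_one]
      exact W.one_mem
    · rw [h]
      exact hall i
  intro g hg
  obtain ⟨η, hη, rfl⟩ := (mem_Esub g).1 hg
  exact hgen η hη

end Cfsg.Agent.Lib.H13.O7
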