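import Mathlib
import Cfsg.Agent.S0904
import Cfsg.Agent.Lib.H5.Ord.BrGen
import Cfsg.Agent.Lib.H22.O4320O1
import Cfsg.Agent.Lib.H15.O4320O2
import Cfsg.Agent.Lib.H16.NoDegTwo

/-!
# S0983 filler (helper16): no simple group of order 4960 = 2^5 * 5 * 31

`C(P_31) = P_31` (S0904), `|N(P_31)| = 155`, `e = 5`, `t = 6`; Brauer's degree data for the exceptional characters:
`c = 0`, `x = 5`, `ε = 1` and the only solution has a non-exceptional character with `b = 2` of degree `2`; a nonabelian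
simple group of even order has no irreducible character of degree 2 (`H16.no_irr_degree_two`).
-/

set_option autoImplicit false
set_option linter.unusedSectionVars false

namespace Cfsg.Agent.Lib.H16.O983

open Cfsg Cfsg.Agent.Lib.L0 Cfsg.Agent.Lib.L0.FrobTI Cfsg.Agent.Lib.H8 Cfsg.Agent.Lib.H4.Feit
  Cfsg.Agent.Lib.H5 Cfsg.Agent.Lib.H24.BrP
open scoped ComplexConjugate Classical

universe u

/-- `H5.BrGen.gen_data` with the index type `IrrCharacter G` kept (same proof). -/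
theorem gen_data_irr {G : Type u} [Group G] [Finite G] {p e t : ℕ} [Fact p.Prime] (K : Subgroup G)
    (hK : Nat.card K = p) (hC : Subgroup.centralizer (K : Set G) = K)
    (hN : Nat.card (Subgroup.normalizer (K : Set G)) = p * e) (ht : t * e + 1 = p) (ht2 : 2 ≤ t)
    [Fintype (IrrCharacter G)] :
    ∃ (b : IrrCharacter G → ℤ) (d : IrrCharacter G → ℕ) (E : Finset (IrrCharacter G)) (εz c : ℤ)
      (x : ℕ),
      (εz = 1 ∨ εz = -1) ∧ E.card = t ∧ (∀ ψ : IrrCharacter G, (ψ : G → ℂ) 1 = d ψ) ∧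
      (∀ i ∈ E, b i = c ∧ d i = x) ∧
      (∀ ψ : IrrCharacter G, (ψ : G → ℂ) = 1 → ψ ∉ E ∧ b ψ = 1) ∧
      (∑ i, b i ^ 2 = (e : ℤ) + 2 * εz * c) ∧ (∑ i, b i * (d i : ℤ) = εz * x) ∧
      (∀ i, i ∉ E → ∃ m : ℤ, (d i : ℤ) = b i + m * (p : ℤ)) ∧
      (∃ m : ℤ, (x : ℤ) = c + εz * (e : ℤ) + m * (p : ℤ)) := by
  have hp : p.Prime := Fact.out
  haveI : Fintype G := Fintype.ofFinite G
  haveI : Fintype (nz K) := Fintype.ofFinite _
  have hF := frobTI_of_prime_card hK hC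
  have hab := comm_of_prime_card hK
  have hepos : 0 < e := by
    rcases Nat.eq_zero_or_pos e with h0 | h0
    · rw [h0, mul_zero] at ht
      have := hp.two_le
      omega
    · exact h0
  have he : (K.subgroupOf (nz K)).index = e := by
    have h1 := card_nz_eq K
    rw [hK] at h1
    have h2 : Nat.card (nz K) = p * e := hN
    rw [h2, mul_comm] at h1
    exact (Nat.eq_of_mul_eq_mul_right hp.pos h1).symm
  have htc : Nat.card (RelT K) = t := by
    have h1 := card_K_eq hF hab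
    rw [he, hK, ← ht] at h1
    have h2 : Nat.card (RelT K) * e = t * e := by omega
    exact Nat.eq_of_mul_eq_mul_right hepos h2
  obtain ⟨D⟩ := exc_nonempty hF hab
  obtain ⟨εz, c, x, b, d, E, hεz, hEcard, hd, hE, h1, hsq, hdeg, hcong, hx⟩ :=
    exists_data hF hab D (by rw [htc]; exact ht2)
  refine ⟨b, d, E, εz, c, x, hεz, by rw [hEcard, htc], hd, hE, h1, by rw [hsq, he], hdeg, ?_, ?_⟩
  · intro ψ hψ
    obtain ⟨m', hm'⟩ := hcong ψ hψ
    exact ⟨m', by rw [hm', hK]⟩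
  · obtain ⟨m', hm'⟩ := hx
    exact ⟨m', by rw [hm', he, hK]⟩

theorem factorization_4960_31 : (4960 : ℕ).factorization 31 = 1 := by
  have h : (4960 : ℕ) = 31 ^ 1 * 160 := by norm_num
  rw [h, Nat.factorization_mul (by norm_num) (by norm_num),
    Nat.Prime.factorization_pow (by norm_num)]
  simp [Nat.factorization_eq_zero_of_not_dvd]

theorem not_simple_4960 {G : Type*} [Group G] [Finite G] [IsSimpleGroup G] : Nat.card G ≠ 4960 := by
  intro hG
  haveI : Fact (Nat.Prime 31) := ⟨by norm_num⟩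
  haveI : Fact (Nat.Prime 2) := ⟨by norm_num⟩
  haveI : Fintype (IrrCharacter G) := Fintype.ofFinite _
  have hperf : commutator G = ⊤ := commutator_eq_top_of_simple (by rw [hG]; norm_num)
  -- the Sylow 31-subgroup
  obtain ⟨S⟩ : Nonempty (Sylow 31 G) := inferInstance
  have hScard : Nat.card (S : Subgroup G) = 31 := by
    rw [Sylow.card_eq_multiplicity, hG, factorization_4960_31]
    norm_num
  have hCK : Subgroup.centralizer ((S : Subgroup G) : Set G) = (S : Subgroup G) :=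
    Cfsg.Agent.S0904.result 2 5 31 5 1 (by norm_num) (by norm_num) (by norm_num) (by norm_num)
      (by norm_num) (by rw [hG]; norm_num) S
  obtain ⟨r, hr, hN⟩ := Cfsg.Agent.Lib.H22.O4320.card_normalizer_of_self_centralizing
    (S : Subgroup G) (by norm_num : Nat.Prime 31) hScard hCK
  have hmod : Nat.card (Sylow 31 G) % 31 = 1 := card_sylow_modEq_one 31 G
  have hidx : Nat.card (Sylow 31 G) =
      (Subgroup.normalizer ((S : Subgroup G) : Set G)).index := S.card_eq_index_normalizer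
  have hmul := (Subgroup.normalizer ((S : Subgroup G) : Set G)).card_mul_index
  rw [hG, hN, ← hidx] at hmul
  have hr5 : r = 5 := by
    have hrle : r ≤ 30 := Nat.le_of_dvd (by norm_num) hr
    interval_cases r <;> omega
  rw [hr5] at hN
  obtain ⟨b, d, E, εz, c, x, hεz, hEcard, hd, hE, h1, hsq, hdeg, hcong, ⟨mx, hmx⟩⟩ :=
    gen_data_irr (p := 31) (e := 5) (t := 6) (S : Subgroup G) hScard hCK hN (by norm_num)
      (by norm_num)
  -- the trivial character
  set T : IrrCharacter G := ⟨1, Cfsg.Agent.Lib.L0.isIrrCharacter_one⟩ with hT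
  obtain ⟨hTE, hbT⟩ := h1 T rfl
  have hdT : d T = 1 := by
    have := hd T
    rw [hT] at this
    simp only [Pi.one_apply] at this
    exact_mod_cast this.symm
  have hdvd : ∀ ψ : IrrCharacter G, d ψ ∣ 4960 := by
    intro ψ
    have h := Cfsg.Agent.Lib.H23.charDegree_dvd_card (ψ : G → ℂ) ψ.2
    rw [Cfsg.Agent.Lib.H23.charDegree_eq_of_apply_one (hd ψ), hG] at h
    exact h
  have hne1 : ∀ ψ : IrrCharacter G, ψ ≠ T → d ψ ≠ 1 := by
    intro ψ hne hd1'
    apply hne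
    apply Subtype.ext
    apply linear_eq_one_of_perfect hperf _ ψ.2
    rw [hd, hd1']
    simp
  have hsumd : ∑ ψ : IrrCharacter G, d ψ ^ 2 = 4960 := by
    haveI : Fintype G := Fintype.ofFinite G
    have hsum := Cfsg.Agent.Lib.H24.sum_irr_one_sq (G := G)
    have : ((∑ ψ : IrrCharacter G, d ψ ^ 2 : ℕ) : ℂ) = ((4960 : ℕ) : ℂ) := by
      rw [← hG, ← hsum]
      push_cast
      refine Finset.sum_congr rfl fun ψ _ => ?_
      rw [hd]
    exact_mod_cast this
  -- the exceptional degree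
  obtain ⟨ψ₀, hψ₀⟩ : E.Nonempty := by
    rw [← Finset.card_pos, hEcard]; norm_num
  have hψ₀T : ψ₀ ≠ T := fun h => hTE (h ▸ hψ₀)
  have hxdvd : x ∣ 4960 := (hE ψ₀ hψ₀).2 ▸ hdvd ψ₀
  have hx1 : x ≠ 1 := (hE ψ₀ hψ₀).2 ▸ hne1 ψ₀ hψ₀T
  -- splitting the sums
  set R : Finset (IrrCharacter G) := Eᶜ.erase T with hR
  have hTc : T ∈ Eᶜ := Finset.mem_compl.2 hTE
  have hsplitZ : ∀ f : IrrCharacter G → ℤ,
      ∑ ψ, f ψ = ∑ ψ ∈ E, f ψ + (f T + ∑ ψ ∈ R, f ψ) := by
    intro f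
    rw [← Finset.sum_add_sum_compl E f, ← Finset.add_sum_erase Eᶜ f hTc]
  have hsplitN : ∀ f : IrrCharacter G → ℕ,
      ∑ ψ, f ψ = ∑ ψ ∈ E, f ψ + (f T + ∑ ψ ∈ R, f ψ) := by
    intro f
    rw [← Finset.sum_add_sum_compl E f, ← Finset.add_sum_erase Eᶜ f hTc]
  have hRmem : ∀ ψ ∈ R, ψ ≠ T ∧ ψ ∉ E := by
    intro ψ hψ
    rw [hR, Finset.mem_erase, Finset.mem_compl] at hψ
    exact hψ
  have hEb2 : ∑ ψ ∈ E, b ψ ^ 2 = 6 * c ^ 2 := by
    rw [Finset.sum_congr rfl (fun ψ hψ => by rw [(hE ψ hψ).1]), Finset.sum_const, hEcard]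
    simp
  have hEbd : ∑ ψ ∈ E, b ψ * (d ψ : ℤ) = 6 * (c * x) := by
    rw [Finset.sum_congr rfl (fun ψ hψ => by rw [(hE ψ hψ).1, (hE ψ hψ).2]), Finset.sum_const,
      hEcard]
    simp
  have hEd2 : ∑ ψ ∈ E, d ψ ^ 2 = 6 * x ^ 2 := by
    rw [Finset.sum_congr rfl (fun ψ hψ => by rw [(hE ψ hψ).2]), Finset.sum_const, hEcard]
    simp
  have e1 := hsplitZ (fun ψ => b ψ ^ 2)
  have e2 := hsplitZ (fun ψ => b ψ * (d ψ : ℤ))
  have e3 := hsplitN (fun ψ => d ψ ^ 2)
  simp only [hEb2, hEbd, hEd2, hsq, hdeg, hsumd, hbT, hdT] at e1 e2 e3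
  push_cast at e1 e2
  have hSB2nn : 0 ≤ ∑ ψ ∈ R, b ψ ^ 2 := Finset.sum_nonneg fun ψ _ => sq_nonneg _
  have hxle : x ≤ 28 := by
    by_contra hgt
    push Not at hgt
    have : 29 ^ 2 ≤ x ^ 2 := Nat.pow_le_pow_left hgt 2
    omega
  -- `c = 0`
  have hc : c = 0 := by
    have hcases : c = 0 ∨ c = εz := by
      rcases hεz with h | h
      · rw [h] at e1 ⊢
        have h1 : -1 < c := by nlinarith
        have h2 : c < 2 := by nlinarith
        omega
      · rw [h] at e1 ⊢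
        have h1 : -2 < c := by nlinarith
        have h2 : c < 1 := by nlinarith
        omega
    rcases hcases with h0 | h1'
    · exact h0
    · exfalso
      rw [h1'] at e1 e2
      have hz : ∑ ψ ∈ R, b ψ ^ 2 = 0 := by
        rcases hεz with h | h <;> rw [h] at e1 <;> linarith
      have hb0 : ∀ ψ ∈ R, b ψ = 0 := by
        intro ψ hψ
        have := (Finset.sum_eq_zero_iff_of_nonneg (fun k _ => sq_nonneg (b k))).1 hz ψ hψ
        exact pow_eq_zero_iff (two_ne_zero) |>.1 this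
      have hz2 : ∑ ψ ∈ R, b ψ * (d ψ : ℤ) = 0 :=
        Finset.sum_eq_zero fun ψ hψ => by rw [hb0 ψ hψ, zero_mul]
      rw [hz2] at e2
      rcases hεz with h | h <;> rw [h] at e2 <;> omega
  rw [hc] at e1 e2 hmx
  push_cast at hmx
  have hx5 : x = 5 ∧ εz = 1 := by
    rcases hεz with h | h <;> rw [h] at hmx <;> interval_cases x <;> omega
  obtain ⟨hx5', hε1⟩ := hx5
  rw [hx5'] at e2 e3
  rw [hε1] at e1 e2
  have hSB2 : ∑ ψ ∈ R, b ψ ^ 2 = 4 := by linarith
  have hSBD : ∑ ψ ∈ R, b ψ * (d ψ : ℤ) = 4 := by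
    push_cast at e2
    linarith
  have hSD2 : ∑ ψ ∈ R, d ψ ^ 2 = 4809 := by omega
  -- the possible degrees in `R`
  have hRd : ∀ ψ ∈ R, (b ψ = 1 → d ψ = 32) ∧ (b ψ = -1 → False) ∧ (b ψ = 2 → d ψ = 2) ∧
      (b ψ = -2 → False) := by
    intro ψ hψ
    obtain ⟨hψT, hψE⟩ := hRmem ψ hψ
    obtain ⟨m, hm⟩ := hcong ψ hψE
    have h1' := hne1 ψ hψT
    have h2 := hdvd ψ
    have hle : d ψ ≤ 69 := by
      have h3 : d ψ ^ 2 ≤ ∑ φ ∈ R, d φ ^ 2 :=
        Finset.single_le_sum (f := fun φ => d φ ^ 2) (fun φ _ => Nat.zero_le _) hψ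
      rw [hSD2] at h3
      by_contra hgt
      push Not at hgt
      have : 70 ^ 2 ≤ d ψ ^ 2 := Nat.pow_le_pow_left hgt 2
      omega
    obtain ⟨n, hn⟩ : ∃ n, n = d ψ := ⟨_, rfl⟩
    rw [← hn] at hm h1' h2 hle ⊢
    refine ⟨?_, ?_, ?_, ?_⟩ <;> intro hb <;> rw [hb] at hm <;> interval_cases n <;> omega
  -- the nonzero part
  set R' : Finset (IrrCharacter G) := R.filter (fun ψ => b ψ ≠ 0) with hR'
  have hR'sq : ∑ ψ ∈ R', b ψ ^ 2 = 4 := by
    rw [hR', Finset.sum_filter_of_ne, hSB2]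
    intro ψ _ hne0 h0
    apply hne0
    rw [h0]; norm_num
  have hR'bd : ∑ ψ ∈ R', b ψ * (d ψ : ℤ) = 4 := by
    rw [hR', Finset.sum_filter_of_ne, hSBD]
    intro ψ _ hne0 h0
    apply hne0
    rw [h0]; norm_num
  have hR'R : ∀ ψ ∈ R', ψ ∈ R := fun ψ hψ => (Finset.mem_filter.1 hψ).1
  rcases Cfsg.Agent.Lib.H15.O4320.sq_sum_four R' b (fun ψ hψ => (Finset.mem_filter.1 hψ).2) hR'sq with
    ⟨hcard, hpm⟩ | ⟨ψ, hψ, hb2, _⟩
  · -- four characters with `b = 1`, `d = 32`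
    have hall : ∀ ψ ∈ R', b ψ * (d ψ : ℤ) = 32 := by
      intro ψ hψ
      rcases hpm ψ hψ with h | h
      · rw [h, (hRd ψ (hR'R ψ hψ)).1 h]; norm_num
      · exact absurd h (fun h' => (hRd ψ (hR'R ψ hψ)).2.1 h')
    rw [Finset.sum_congr rfl hall, Finset.sum_const, hcard] at hR'bd
    norm_num at hR'bd
  · -- a character of degree 2
    rcases hb2 with h | h
    · have hd2 := (hRd ψ (hR'R ψ hψ)).2.2.1 h
      obtain ⟨t, ht⟩ := exists_prime_orderOf_dvd_card' (G := G) 2 (by rw [hG]; norm_num)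
      exact Cfsg.Agent.Lib.H16.no_irr_degree_two hperf (ψ : G → ℂ) ψ.2
        (by rw [hd ψ, hd2]; norm_num) t ht
    · exact (hRd ψ (hR'R ψ hψ)).2.2.2 h

end Cfsg.Agent.Lib.H16.O983
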