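import Mathlib
import Cfsg.Agent.Lib.H5.Ord.GenTests

/-!
# S0983 filler (helper16): no simple group of order 5880 = 2^3 * 3 * 5 * 7^2

`n_7 ∈ {15, 120}` (`8` dies by `2n ∣ 8!`).  `n_7 = 120`: `N(P) = P` is abelian, Burnside.  `n_7 = 15`:
(1) `P ⊓ R = ⊥` would give `49` distinct Sylow subgroups `g • R`, `g ∈ P`, so `|P ⊓ R| = 7` for all `P ≠ R`;
(2) for `1 ≠ x` in a Sylow subgroup the number `k_x` of Sylow subgroups containing `x` is `≡ 15 (mod 7)` and not `15`
(the core is trivial), so `k_x ∈ {1, 8}`;
(3) the number of triples `(P, R, x)`, `P ≠ R`, `1 ≠ x ∈ P ⊓ R`, is `15 * 14 * 6 = 1260 = ∑_x k_x (k_x - 1)`, and every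
term of the sum is `0` or `56`; but `56 ∤ 1260`.
-/

set_option autoImplicit false
set_option linter.unusedSectionVars false

namespace Cfsg.Agent.Lib.H16.O983

open Subgroup MulAction Cfsg.Agent.Lib.H5 Cfsg.Agent.Lib.H5.SylPrime Cfsg.Agent.Lib.H5.GenTests
open scoped Classical Pointwise

section general

variable {G : Type*} [Group G] [Finite G] {p : ℕ} [Fact p.Prime]

/-- If `P ⊓ R = ⊥` then the Sylow subgroups `g • R`, `g ∈ P`, are pairwise distinct. -/
theorem card_le_card_sylow_of_inf_eq_bot (P R : Sylow p G)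
    (h : (P : Subgroup G) ⊓ (R : Subgroup G) = ⊥) :
    Nat.card (P : Subgroup G) ≤ Nat.card (Sylow p G) := by
  apply Nat.card_le_card_of_injective (fun g : (P : Subgroup G) => (g : G) • R)
  intro g g' hgg
  have hgg' : (g : G) • R = (g' : G) • R := hgg
  have h1 : ((g' : G)⁻¹ * (g : G)) • R = R := by
    rw [mul_smul, hgg', inv_smul_smul]
  rw [Sylow.smul_eq_iff_mem_normalizer] at h1
  have h2 : (g' : G)⁻¹ * (g : G) ∈ (P : Subgroup G) ⊓ normalizer (R : Set G) :=
    ⟨(P : Subgroup G).mul_mem ((P : Subgroup G).inv_mem g'.2) g.2, h1⟩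
  rw [IsPGroup.inf_normalizer_sylow P.2 R, h, Subgroup.mem_bot] at h2
  apply Subtype.ext
  exact (inv_mul_eq_one.mp h2).symm

/-- The number of Sylow `p`-subgroups containing a given `p`-element is `≡ n_p (mod p)`. -/
theorem card_sylow_modEq_card_containing (x : G) (hx : IsPGroup p (zpowers x)) :
    Nat.card (Sylow p G) ≡ Nat.card {R : Sylow p G // x ∈ R} [MOD p] := by
  have h := hx.card_modEq_card_fixedPoints (Sylow p G)
  have heq : (fixedPoints (zpowers x) (Sylow p G)) = {R : Sylow p G | x ∈ R} := by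
    ext R
    rw [hx.sylow_mem_fixedPoints_iff, zpowers_le]
    rfl
  rw [heq] at h
  exact h

/-- An element lying in all Sylow `p`-subgroups of a simple group which is not a `p`-group is `1`. -/
theorem eq_one_of_forall_mem_sylow [IsSimpleGroup G] (hnp : ¬ IsPGroup p G) (x : G)
    (hx : ∀ R : Sylow p G, x ∈ R) : x = 1 := by
  obtain ⟨P⟩ : Nonempty (Sylow p G) := inferInstance
  have hcore : x ∈ (P : Subgroup G).normalCore := by
    intro b
    have h1 : x ∈ ((b⁻¹ • P : Sylow p G) : Subgroup G) := hx (b⁻¹ • P)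
    rw [Sylow.coe_subgroup_smul, Subgroup.mem_pointwise_smul_iff_inv_smul_mem] at h1
    simpa [MulAut.smul_def] using h1
  rcases (Subgroup.normalCore_normal (P : Subgroup G)).eq_bot_or_eq_top with h | h
  · rw [h, Subgroup.mem_bot] at hcore
    exact hcore
  · exfalso
    apply hnp
    have htop : (P : Subgroup G) = ⊤ := top_le_iff.mp (h ▸ Subgroup.normalCore_le _)
    have hP := P.2
    rw [htop] at hP
    exact IsPGroup.of_equiv hP Subgroup.topEquiv

end general

theorem not_simple_5880 {G : Type*} [Group G] [Finite G] [IsSimpleGroup G] : Nat.card G ≠ 5880 := by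
  intro hn
  have hnc : ¬ IsMulCommutative G :=
    not_isMulCommutative_of_card_not_prime (by rw [hn]; norm_num)
  haveI : Fact (Nat.Prime 7) := ⟨by norm_num⟩
  haveI : Fintype G := Fintype.ofFinite G
  haveI : Fintype (Sylow 7 G) := Fintype.ofFinite _
  obtain ⟨P₀⟩ : Nonempty (Sylow 7 G) := inferInstance
  obtain ⟨h1, h2, h3, h4, h5, -, -⟩ := sylow_data hnc hn (p := 7) (k := 2) (m := 120) (by norm_num)
    (by norm_num) (by norm_num) (by norm_num) P₀
  have hPcard : ∀ P : Sylow 7 G, Nat.card (P : Subgroup G) = 49 := by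
    intro P
    have := (sylow_card_and_index P (k := 2) (m := 120) (by rw [hn]; norm_num) (by norm_num)).1
    rw [this]; norm_num
  have hnp : ¬ IsPGroup 7 G := by
    intro h
    obtain ⟨k, hk⟩ := IsPGroup.iff_card.mp h
    rw [hn] at hk
    have h5' : (5 : ℕ) ∣ 7 ^ k := ⟨1176, by rw [← hk]⟩
    have := (Nat.prime_dvd_prime_iff_eq (by norm_num : Nat.Prime 5) (by norm_num : Nat.Prime 7)).mp
      ((by norm_num : Nat.Prime 5).dvd_of_dvd_pow h5')
    omega
  -- the number of Sylow 7-subgroups
  have hn7 : Nat.card (Sylow 7 G) = 15 ∨ Nat.card (Sylow 7 G) = 120 := by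
    have hle : Nat.card (Sylow 7 G) ≤ 120 := Nat.le_of_dvd (by norm_num) h1
    generalize Nat.card (Sylow 7 G) = d at *
    clear h5
    interval_cases d <;> first | omega | (left; rfl) | (right; rfl) | (exfalso; revert h4; decide)
  rcases hn7 with h15 | h120
  swap
  · -- `N(P) = P` abelian
    rw [h120] at h5
    have hNcard : Nat.card (normalizer ((P₀ : Subgroup G) : Set G)) = 49 := by omega
    have hPN : (P₀ : Subgroup G) = normalizer ((P₀ : Subgroup G) : Set G) := by
      apply Subgroup.eq_of_le_of_card_ge le_normalizer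
      rw [hNcard, hPcard]
    have hab : IsMulCommutative (P₀ : Subgroup G) :=
      IsPGroup.isMulCommutative_of_card_eq_prime_sq (p := 7) (by rw [hPcard]; norm_num)
    apply not_normalizer_le_centralizer_of_simple (p := 7) (by rw [hn]; norm_num) hnp P₀
    show normalizer ((P₀ : Subgroup G) : Set G) ≤ centralizer ((P₀ : Subgroup G) : Set G)
    rw [← hPN]
    intro x hx y hy
    have := hab.is_comm.comm (⟨y, hy⟩ : (P₀ : Subgroup G)) ⟨x, hx⟩
    exact congrArg Subtype.val this
  -- `n_7 = 15`
  have hcardS : Fintype.card (Sylow 7 G) = 15 := by rw [← Nat.card_eq_fintype_card, h15]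
  -- (1) `|P ⊓ R| = 7`
  have hinf : ∀ P R : Sylow 7 G, P ≠ R →
      Nat.card ((P : Subgroup G) ⊓ (R : Subgroup G) : Subgroup G) = 7 := by
    intro P R hPR
    have hdvd : Nat.card ((P : Subgroup G) ⊓ (R : Subgroup G) : Subgroup G) ∣ 7 ^ 2 := by
      have := Subgroup.card_dvd_of_le (inf_le_left : (P : Subgroup G) ⊓ (R : Subgroup G) ≤ P)
      rw [hPcard] at this
      exact this
    obtain ⟨i, hi, hcard⟩ := (Nat.dvd_prime_pow (by norm_num : Nat.Prime 7)).1 hdvd
    interval_cases i
    · exfalso
      have hbot : (P : Subgroup G) ⊓ (R : Subgroup G) = ⊥ :=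
        Subgroup.card_eq_one.mp (by rw [hcard]; norm_num)
      have := card_le_card_sylow_of_inf_eq_bot P R hbot
      rw [hPcard, h15] at this
      omega
    · rw [hcard]; norm_num
    · exfalso
      have hle : (P : Subgroup G) ≤ (P : Subgroup G) ⊓ (R : Subgroup G) := by
        have : (P : Subgroup G) ⊓ (R : Subgroup G) = (P : Subgroup G) := by
          apply Subgroup.eq_of_le_of_card_ge inf_le_left
          rw [hcard, hPcard]; norm_num
        rw [this]
      exact hPR (Sylow.ext (P.3 R.2 (hle.trans inf_le_right)).symm)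
  -- (2) `k_x ∈ {1, 8}`
  have hk : ∀ (x : G) (P : Sylow 7 G), x ≠ 1 → x ∈ P →
      (Finset.univ.filter (fun R : Sylow 7 G => x ∈ R)).card = 1 ∨
        (Finset.univ.filter (fun R : Sylow 7 G => x ∈ R)).card = 8 := by
    intro x P hx1 hxP
    have hpg : IsPGroup 7 (zpowers x) := P.2.to_le (zpowers_le.mpr hxP)
    have hmod := card_sylow_modEq_card_containing (p := 7) x hpg
    rw [h15, Nat.card_eq_fintype_card, Fintype.card_subtype] at hmod
    have hle : (Finset.univ.filter (fun R : Sylow 7 G => x ∈ R)).card ≤ 15 := by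
      rw [← hcardS]; exact Finset.card_le_univ _
    have hne : (Finset.univ.filter (fun R : Sylow 7 G => x ∈ R)).card ≠ 15 := by
      intro h
      apply hx1
      apply eq_one_of_forall_mem_sylow (p := 7) hnp x
      intro R
      have huniv : Finset.univ.filter (fun R : Sylow 7 G => x ∈ R) = Finset.univ := by
        apply Finset.eq_univ_of_card
        rw [h, hcardS]
      have : R ∈ Finset.univ.filter (fun R : Sylow 7 G => x ∈ R) := by rw [huniv]; exact Finset.mem_univ _
      exact (Finset.mem_filter.mp this).2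
    have hmod' : 15 % 7 = (Finset.univ.filter (fun R : Sylow 7 G => x ∈ R)).card % 7 := hmod
    generalize (Finset.univ.filter (fun R : Sylow 7 G => x ∈ R)).card = k at *
    interval_cases k <;> omega
  -- (3) the triple count
  set f : Sylow 7 G → Sylow 7 G → G → ℕ := fun P R x =>
    if (P ≠ R ∧ x ≠ 1 ∧ x ∈ P ∧ x ∈ R) then 1 else 0 with hf
  have hA : ∀ P R : Sylow 7 G, ∑ x : G, f P R x = 6 * (if P ≠ R then 1 else 0) := by
    intro P R
    by_cases hPR : P = R
    · simp [hf, hPR]
    · rw [if_pos hPR, mul_one]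
      simp only [hf]
      rw [Finset.sum_boole]
      have hset : Finset.univ.filter (fun x : G => P ≠ R ∧ x ≠ 1 ∧ x ∈ P ∧ x ∈ R) =
          (Finset.univ.filter (fun x : G => x ∈ (P : Subgroup G) ⊓ (R : Subgroup G))).erase 1 := by
        ext x
        simp only [Finset.mem_filter, Finset.mem_univ, true_and, Finset.mem_erase]
        constructor
        · rintro ⟨-, h2, h3, h4⟩
          exact ⟨h2, Subgroup.mem_inf.mpr ⟨h3, h4⟩⟩
        · rintro ⟨h2, h3⟩
          exact ⟨hPR, h2, (Subgroup.mem_inf.mp h3).1, (Subgroup.mem_inf.mp h3).2⟩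
      rw [hset, Finset.card_erase_of_mem (by simp), ← Fintype.card_subtype,
        ← Nat.card_eq_fintype_card]
      have := hinf P R hPR
      simp only [Nat.cast_id]
      rw [show Nat.card {x : G // x ∈ (P : Subgroup G) ⊓ (R : Subgroup G)} =
        Nat.card ((P : Subgroup G) ⊓ (R : Subgroup G) : Subgroup G) from rfl, this]
  have hB : ∀ x : G, 56 ∣ ∑ P : Sylow 7 G, ∑ R : Sylow 7 G, f P R x := by
    intro x
    by_cases hx1 : x = 1
    · simp [hf, hx1]
    · set Ω := Finset.univ.filter (fun R : Sylow 7 G => x ∈ R) with hΩ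
      have hinner : ∀ P : Sylow 7 G, ∑ R : Sylow 7 G, f P R x =
          if x ∈ P then Ω.card - 1 else 0 := by
        intro P
        by_cases hxP : x ∈ P
        · rw [if_pos hxP]
          simp only [hf]
          rw [Finset.sum_boole]
          have hset : Finset.univ.filter (fun R : Sylow 7 G => P ≠ R ∧ x ≠ 1 ∧ x ∈ P ∧ x ∈ R) =
              Ω.erase P := by
            ext R
            simp only [hΩ, Finset.mem_filter, Finset.mem_univ, true_and, Finset.mem_erase]
            constructor
            · rintro ⟨h1, -, -, h4⟩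
              exact ⟨fun h => h1 h.symm, h4⟩
            · rintro ⟨h1, h4⟩
              exact ⟨fun h => h1 h.symm, hx1, hxP, h4⟩
          rw [hset, Finset.card_erase_of_mem (by rw [hΩ]; simp [hxP])]
          simp
        · rw [if_neg hxP]
          apply Finset.sum_eq_zero
          intro R _
          simp [hf, hxP]
      rw [Finset.sum_congr rfl (fun P _ => hinner P), ← Finset.sum_filter, Finset.sum_const,
        smul_eq_mul]
      change 56 ∣ Ω.card * (Ω.card - 1)
      by_cases hΩ0 : Ω.card = 0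
      · rw [hΩ0]; simp
      · obtain ⟨P, hP⟩ := Finset.card_pos.mp (Nat.pos_of_ne_zero hΩ0)
        have hxP : x ∈ P := (Finset.mem_filter.mp hP).2
        rcases hk x P hx1 hxP with h | h
        · rw [← hΩ] at h; rw [h]; norm_num
        · rw [← hΩ] at h; rw [h]
  have htot1 : ∑ P : Sylow 7 G, ∑ R : Sylow 7 G, ∑ x : G, f P R x = 1260 := by
    have : ∀ P : Sylow 7 G, ∑ R : Sylow 7 G, ∑ x : G, f P R x = 84 := by
      intro P
      rw [Finset.sum_congr rfl (fun R _ => hA P R), ← Finset.mul_sum, Finset.sum_boole]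
      have : Finset.univ.filter (fun R : Sylow 7 G => P ≠ R) = Finset.univ.erase P := by
        ext R
        simp only [Finset.mem_filter, Finset.mem_univ, true_and, Finset.mem_erase, and_true]
        exact ⟨fun h h' => h h'.symm, fun h h' => h h'.symm⟩
      rw [this, Finset.card_erase_of_mem (Finset.mem_univ _), Finset.card_univ, hcardS]
      norm_num
    rw [Finset.sum_congr rfl (fun P _ => this P), Finset.sum_const, Finset.card_univ, hcardS]
    norm_num
  have htot2 : 56 ∣ ∑ P : Sylow 7 G, ∑ R : Sylow 7 G, ∑ x : G, f P R x := by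
    have : ∑ P : Sylow 7 G, ∑ R : Sylow 7 G, ∑ x : G, f P R x =
        ∑ x : G, ∑ P : Sylow 7 G, ∑ R : Sylow 7 G, f P R x := by
      rw [Finset.sum_congr rfl (fun P _ => Finset.sum_comm), Finset.sum_comm]
    rw [this]
    exact Finset.dvd_sum fun x _ => hB x
  rw [htot1] at htot2
  omega

end Cfsg.Agent.Lib.H16.O983
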