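import Mathlib

/-!
# An element of order `q + 1` in `SL₂(F)` (Singer cycle to the power `q - 1`)

For helper8's S3452 (request (P1), first part).
-/

namespace Cfsg.Agent.Lib.H16.PGL2Spec

open Matrix

/-- In a finite cyclic group of order `(q - 1) * (q + 1)` a generator to the power `q - 1` has order `q + 1`. -/
theorem orderOf_pow_of_orderOf_eq_mul {G : Type*} [Monoid G] (g : G) (a b : ℕ) (ha : 0 < a)
    (h : orderOf g = a * b) : orderOf (g ^ a) = b := by
  rw [orderOf_pow' g ha.ne', h, Nat.gcd_eq_right (Dvd.intro _ rfl), Nat.mul_div_cancel_left _ ha]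

theorem exists_sl2_orderOf_card_succ {F : Type*} [Field F] [Fintype F] :
    ∃ M : Matrix.SpecialLinearGroup (Fin 2) F, orderOf M = Fintype.card F + 1 := by
  classical
  obtain ⟨p, hp⟩ := CharP.exists F
  have : CharP F p := hp
  have : Fact p.Prime := ⟨CharP.char_is_prime F p⟩
  let K := FiniteField.Extension F p 2
  have hfr : Module.finrank F K = 2 := FiniteField.finrank_extension F p 2
  let b : Module.Basis (Fin 2) F K := Module.finBasisOfFinrankEq F K hfr
  have : Fintype K := Fintype.ofFinite K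
  have hq1 : 1 < Fintype.card F := Fintype.one_lt_card
  set q := Fintype.card F with hq
  have hcardK : Fintype.card K = q ^ 2 := by
    rw [Fintype.card_eq_nat_card, FiniteField.natCard_extension, ← Fintype.card_eq_nat_card]
  have hcardU : Fintype.card Kˣ = (q - 1) * (q + 1) := by
    rw [Fintype.card_units, hcardK]
    have : q ^ 2 = (q - 1) * (q + 1) + 1 := by
      obtain ⟨k, hk⟩ : ∃ k, q = k + 1 := ⟨q - 1, by omega⟩
      rw [hk]; simp; ring
    omega
  obtain ⟨g, hg⟩ := IsCyclic.exists_generator (α := Kˣ)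
  have hog : orderOf g = (q - 1) * (q + 1) := by
    rw [orderOf_eq_card_of_forall_mem_zpowers hg, Nat.card_eq_fintype_card, hcardU]
  have hoh : orderOf (g ^ (q - 1)) = q + 1 :=
    orderOf_pow_of_orderOf_eq_mul g (q - 1) (q + 1) (by omega) hog
  set h : Kˣ := g ^ (q - 1) with hh
  -- the matrix
  have hdet : (Algebra.leftMulMatrix b (h : K)).det = 1 := by
    rw [← Algebra.norm_eq_matrix_det b]
    have hn : Algebra.norm F ((g : K)) ≠ 0 := by
      rw [Ne, Algebra.norm_eq_zero_iff]
      exact g.ne_zero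
    have : ((h : Kˣ) : K) = (g : K) ^ (q - 1) := by simp [hh]
    rw [this, map_pow]
    exact FiniteField.pow_card_sub_one_eq_one _ hn
  let M : Matrix.SpecialLinearGroup (Fin 2) F := ⟨Algebra.leftMulMatrix b (h : K), hdet⟩
  have hM : (M : Matrix (Fin 2) (Fin 2) F) = Algebra.leftMulMatrix b (h : K) := rfl
  refine ⟨M, ?_⟩
  rw [← hoh]
  rw [orderOf_eq_orderOf_iff]
  intro n
  rw [← Units.val_inj (a := h ^ n)]
  have e1 : M ^ n = 1 ↔ ((M ^ n : Matrix.SpecialLinearGroup (Fin 2) F) : Matrix (Fin 2) (Fin 2) F) = 1 := by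
    constructor
    · intro hh1; rw [hh1]; rfl
    · intro hh1; exact Subtype.ext hh1
  rw [e1, Matrix.SpecialLinearGroup.coe_pow, hM, Units.val_pow_eq_pow_val, Units.val_one,
    ← map_pow, ← map_one (Algebra.leftMulMatrix b)]
  exact (Algebra.leftMulMatrix_injective b).eq_iff

end Cfsg.Agent.Lib.H16.PGL2Spec
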