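import Mathlib

/-!
# Powers of `2 × 2` matrices over a finite field: `M ^ p`, `M ^ (q - 1)` or `M ^ (q + 1)` is scalar

For helper8's S3452 (request (P1), second part).
-/

namespace Cfsg.Agent.Lib.H16.PGL2Spec

open Matrix Polynomial

section Split

variable {L : Type*} [Field L]

theorem charpoly_eq_of_root (M : Matrix (Fin 2) (Fin 2) L) (a : L)
    (ha : a ^ 2 - M.trace * a + M.det = 0) :
    M.charpoly = (X - C a) * (X - C (M.trace - a)) := by
  rw [Matrix.charpoly_fin_two]
  have hdet : M.det = a * (M.trace - a) := by linear_combination ha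
  rw [hdet]
  simp only [map_sub, map_mul]
  ring

theorem pow_eq_smul_of_roots (M : Matrix (Fin 2) (Fin 2) L) (a b c : L) (k : ℕ) (hab : a ≠ b)
    (hchar : M.charpoly = (X - C a) * (X - C b)) (ha : a ^ k = c) (hb : b ^ k = c) :
    M ^ k = c • (1 : Matrix (Fin 2) (Fin 2) L) := by
  have hdvd : M.charpoly ∣ X ^ k - C c := by
    rw [hchar]
    refine IsCoprime.mul_dvd (isCoprime_X_sub_C_of_isUnit_sub (sub_ne_zero.2 hab).isUnit) ?_ ?_
    · rw [dvd_iff_isRoot]; simp [ha]
    · rw [dvd_iff_isRoot]; simp [hb]
  obtain ⟨r, hr⟩ := hdvd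
  have h := congrArg (aeval M) hr
  rw [map_mul, Matrix.aeval_self_charpoly, zero_mul] at h
  simp only [map_sub, map_pow, aeval_X, aeval_C] at h
  rw [sub_eq_zero] at h
  rw [h, Algebra.algebraMap_eq_smul_one]

theorem pow_char_eq_smul_of_double_root (p : ℕ) [hp : Fact p.Prime] [CharP L p]
    (M : Matrix (Fin 2) (Fin 2) L) (a : L)
    (hchar : M.charpoly = (X - C a) * (X - C a)) :
    M ^ p = (a ^ p) • (1 : Matrix (Fin 2) (Fin 2) L) := by
  have h := Matrix.aeval_self_charpoly M
  rw [hchar] at h
  simp only [map_mul, map_sub, aeval_X, aeval_C] at h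
  rw [Algebra.algebraMap_eq_smul_one] at h
  set N := M - a • (1 : Matrix (Fin 2) (Fin 2) L) with hN
  have hM : M = N + a • (1 : Matrix (Fin 2) (Fin 2) L) := by rw [hN]; abel
  have hcomm : Commute N (a • (1 : Matrix (Fin 2) (Fin 2) L)) := by
    apply Commute.smul_right
    exact Commute.one_right N
  have hNp : N ^ p = 0 := by
    have h2 : 2 ≤ p := hp.out.two_le
    obtain ⟨k, hk⟩ : ∃ k, p = 2 + k := ⟨p - 2, by omega⟩
    rw [hk, pow_add, pow_two, h, zero_mul]
  rw [hM, add_pow_char_of_commute _ hcomm, hNp, zero_add, _root_.smul_pow, one_pow]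

end Split

section Finite

variable {F : Type*} [Field F]

/-- Scalar descent: if `M.map f` is the scalar matrix `f c`, then `M` is the scalar matrix `c`. -/
theorem eq_smul_one_of_map {L : Type*} [Field L] (f : F →+* L) (A : Matrix (Fin 2) (Fin 2) F) (c : F)
    (h : A.map f = (f c) • (1 : Matrix (Fin 2) (Fin 2) L)) : A = c • (1 : Matrix (Fin 2) (Fin 2) F) := by
  apply Matrix.map_injective f.injective
  show A.map f = (c • (1 : Matrix (Fin 2) (Fin 2) F)).map f
  rw [h]
  ext i j
  fin_cases i <;> fin_cases j <;> simp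

/-- Scalar descent, unknown scalar. -/
theorem exists_eq_smul_one_of_map {L : Type*} [Field L] (f : F →+* L) (A : Matrix (Fin 2) (Fin 2) F) (c : L)
    (h : A.map f = c • (1 : Matrix (Fin 2) (Fin 2) L)) : ∃ c' : F, A = c' • (1 : Matrix (Fin 2) (Fin 2) F) := by
  refine ⟨A 0 0, ?_⟩
  have h00 := congrFun (congrFun h 0) 0
  have h01 := congrFun (congrFun h 0) 1
  have h10 := congrFun (congrFun h 1) 0
  have h11 := congrFun (congrFun h 1) 1
  simp at h00 h01 h10 h11
  have e11 : A 1 1 = A 0 0 := f.injective (h11.trans h00.symm)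
  ext i j
  fin_cases i <;> fin_cases j <;> simp [h01, h10, e11]

theorem pow_scalar_cases [Fintype F] (p : ℕ) [CharP F p] (M : Matrix (Fin 2) (Fin 2) F) (hdet : M.det ≠ 0) :
    (∃ c : F, M ^ p = c • (1 : Matrix (Fin 2) (Fin 2) F)) ∨
      M ^ (Fintype.card F - 1) = 1 ∨
      M ^ (Fintype.card F + 1) = M.det • (1 : Matrix (Fin 2) (Fin 2) F) := by
  classical
  have hp : Fact p.Prime := ⟨CharP.char_is_prime F p⟩
  obtain ⟨k, -, hq⟩ := FiniteField.card F p
  let L := AlgebraicClosure F
  let f : F →+* L := algebraMap F L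
  have : CharP L p := charP_of_injective_algebraMap f.injective p
  set M' : Matrix (Fin 2) (Fin 2) L := M.map f with hM'
  have htr : M'.trace = f M.trace := by
    rw [hM', Matrix.trace_fin_two, Matrix.trace_fin_two]; simp
  have hdt : M'.det = f M.det := by
    rw [hM', Matrix.det_fin_two, Matrix.det_fin_two]; simp
  have hpow : ∀ n : ℕ, (M ^ n).map f = M' ^ n := by
    intro n
    have := map_pow f.mapMatrix M n
    simpa [RingHom.mapMatrix_apply] using this
  -- a root of the characteristic polynomial
  have hdeg : (X ^ 2 - C M'.trace * X + C M'.det : L[X]).degree ≠ 0 := by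
    have : (X ^ 2 - C M'.trace * X + C M'.det : L[X]).degree = 2 := by
      compute_degree!
    rw [this]; norm_num
  obtain ⟨a, ha⟩ := IsAlgClosed.exists_root _ hdeg
  simp only [IsRoot.def, eval_add, eval_sub, eval_pow, eval_X, eval_mul, eval_C] at ha
  set b := M'.trace - a with hb
  have hab : M'.det = a * b := by rw [hb]; linear_combination ha
  have hchar : M'.charpoly = (X - C a) * (X - C b) := charpoly_eq_of_root M' a ha
  have hbroot : b ^ 2 - M'.trace * b + M'.det = 0 := by rw [hab, hb]; ring
  have hdet' : M'.det ≠ 0 := by rw [hdt]; exact (map_ne_zero f).2 hdet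
  have ha0 : a ≠ 0 := by rintro rfl; apply hdet'; rw [hab, zero_mul]
  have hb0 : b ≠ 0 := by intro h; apply hdet'; rw [hab, h, mul_zero]
  -- Frobenius
  have hfix : ∀ c : F, (f c) ^ Fintype.card F = f c := by
    intro c; rw [← map_pow, FiniteField.pow_card]
  have hfrob : ∀ x : L, x ^ 2 - M'.trace * x + M'.det = 0 →
      (x ^ Fintype.card F - a) * (x ^ Fintype.card F - b) = 0 := by
    intro x hx
    have h1 : (x ^ Fintype.card F) ^ 2 - M'.trace * x ^ Fintype.card F + M'.det = 0 := by
      have h2 := congrArg (fun y => y ^ Fintype.card F) hx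
      rw [hq] at h2 ⊢
      rw [add_pow_char_pow, sub_pow_char_pow, mul_pow, ← pow_mul, mul_comm 2, pow_mul,
        zero_pow (pow_ne_zero _ hp.out.ne_zero)] at h2
      rw [htr, hdt] at h2 ⊢
      rw [← hq] at h2 ⊢
      rw [hfix, hfix] at h2
      exact h2
    rw [hab] at h1
    rw [hb] at h1 ⊢
    linear_combination h1
  have hfa := hfrob a ha
  have hfb := hfrob b hbroot
  have hq1 : 1 ≤ Fintype.card F := Fintype.card_pos
  by_cases hne : a = b
  · -- double root
    left
    rw [← hne] at hchar
    have h := pow_char_eq_smul_of_double_root p M' a hchar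
    rw [← hpow] at h
    exact exists_eq_smul_one_of_map f _ _ h
  · right
    have hinj : a ^ Fintype.card F ≠ b ^ Fintype.card F := by
      intro h
      apply hne
      have h3 : (a - b) ^ Fintype.card F = 0 := by
        rw [hq, sub_pow_char_pow, ← hq, h, sub_self]
      exact sub_eq_zero.1 (pow_eq_zero_iff (by omega) |>.1 h3)
    have hca : a ^ Fintype.card F = a ∨ a ^ Fintype.card F = b := by
      rcases mul_eq_zero.1 hfa with h | h
      · left; exact sub_eq_zero.1 h
      · right; exact sub_eq_zero.1 h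
    have hcb : b ^ Fintype.card F = a ∨ b ^ Fintype.card F = b := by
      rcases mul_eq_zero.1 hfb with h | h
      · left; exact sub_eq_zero.1 h
      · right; exact sub_eq_zero.1 h
    rcases hca with h1 | h1 <;> rcases hcb with h2 | h2
    · exact absurd (h1.trans h2.symm) hinj
    · -- both fixed: M ^ (q - 1) = 1
      left
      have e : ∀ x : L, x ≠ 0 → x ^ Fintype.card F = x → x ^ (Fintype.card F - 1) = 1 := by
        intro x hx0 hx
        have : x ^ (Fintype.card F - 1) * x = 1 * x := by
          rw [← pow_succ, Nat.sub_add_cancel hq1, hx, one_mul]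
        exact mul_right_cancel₀ hx0 this
      have h := pow_eq_smul_of_roots M' a b 1 (Fintype.card F - 1) hne hchar (e a ha0 h1) (e b hb0 h2)
      rw [← hpow, ← map_one f] at h
      have := eq_smul_one_of_map f _ _ h
      rw [this, one_smul]
    · -- swapped: M ^ (q + 1) = det
      right
      have ea : a ^ (Fintype.card F + 1) = f M.det := by
        rw [pow_succ, h1, ← hdt, hab, mul_comm]
      have eb : b ^ (Fintype.card F + 1) = f M.det := by
        rw [pow_succ, h2, ← hdt, hab]
      have h := pow_eq_smul_of_roots M' a b (f M.det) (Fintype.card F + 1) hne hchar ea eb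
      rw [← hpow] at h
      exact eq_smul_one_of_map f _ _ h
    · exact absurd (h1.trans h2.symm) hinj

end Finite

end Cfsg.Agent.Lib.H16.PGL2Spec
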