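import Mathlib
import Cfsg.Agent.Lib.H16.PGL2SpecB

/-!
# The spectrum of `PGL₂(F)`, `F` a finite field

For helper8's S3452 (request (P1), second part):
the set of element orders of `GL₂(F) / Z` is `{d | d ∣ p ∨ d ∣ q - 1 ∨ d ∣ q + 1}`.
-/

namespace Cfsg.Agent.Lib.H16.PGL2Spec

open Matrix

section

variable {F : Type*} [Field F]

local notation "G2" => Matrix.GeneralLinearGroup (Fin 2) F

theorem mk_pow_eq_one_iff (g : G2) (k : ℕ) :
    ((g : G2 ⧸ Subgroup.center G2) ^ k = 1) ↔
      ∃ c : F, (g : Matrix (Fin 2) (Fin 2) F) ^ k = c • (1 : Matrix (Fin 2) (Fin 2) F) := by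
  rw [← QuotientGroup.mk_pow, QuotientGroup.eq_one_iff,
    Matrix.GeneralLinearGroup.mem_center_iff_val_mem_range_scalar]
  simp only [Set.mem_range, Units.val_pow_eq_pow_val]
  constructor
  · rintro ⟨c, hc⟩
    exact ⟨c, by rw [← hc, Matrix.scalar_apply, Matrix.smul_one_eq_diagonal]⟩
  · rintro ⟨c, hc⟩
    exact ⟨c, by rw [hc, Matrix.scalar_apply, Matrix.smul_one_eq_diagonal]⟩

end

section Fin

variable {F : Type*} [Field F] [Fintype F]

local notation "G2" => Matrix.GeneralLinearGroup (Fin 2) F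

theorem orderOf_mem (p : ℕ) [CharP F p] (x : G2 ⧸ Subgroup.center G2) :
    orderOf x ∣ p ∨ orderOf x ∣ Fintype.card F - 1 ∨ orderOf x ∣ Fintype.card F + 1 := by
  obtain ⟨g, rfl⟩ := QuotientGroup.mk_surjective x
  have hdet : (g : Matrix (Fin 2) (Fin 2) F).det ≠ 0 :=
    ((Matrix.isUnit_iff_isUnit_det _).1 g.isUnit).ne_zero
  rcases pow_scalar_cases p (g : Matrix (Fin 2) (Fin 2) F) hdet with ⟨c, hc⟩ | h | h
  · left
    exact orderOf_dvd_of_pow_eq_one ((mk_pow_eq_one_iff g p).2 ⟨c, hc⟩)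
  · right; left
    exact orderOf_dvd_of_pow_eq_one ((mk_pow_eq_one_iff g _).2 ⟨1, by rw [h, one_smul]⟩)
  · right; right
    exact orderOf_dvd_of_pow_eq_one ((mk_pow_eq_one_iff g _).2 ⟨_, h⟩)

theorem exists_orderOf_eq_of_dvd {G : Type*} [Group G] (x : G) (hx : 0 < orderOf x) (d : ℕ)
    (hd : d ∣ orderOf x) : ∃ y : G, orderOf y = d := by
  have hd0 : d ≠ 0 := by rintro rfl; rw [zero_dvd_iff] at hd; omega
  have hle : d ≤ orderOf x := Nat.le_of_dvd hx hd
  refine ⟨x ^ (orderOf x / d), ?_⟩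
  rw [orderOf_pow_of_dvd (Nat.div_pos hle (Nat.pos_of_ne_zero hd0)).ne' (Nat.div_dvd_of_dvd hd),
    Nat.div_div_self hd hx.ne']

/-! ### The unipotent element -/

/-- The matrix `[[1, 1], [0, 1]]`. -/
def uMat (F : Type*) [Field F] : Matrix (Fin 2) (Fin 2) F := !![1, 1; 0, 1]

omit [Fintype F] in
theorem uMat_pow (k : ℕ) : (uMat F) ^ k = !![1, (k : F); 0, 1] := by
  induction k with
  | zero => simp [Matrix.one_fin_two]
  | succ k ih =>
    rw [pow_succ, ih, uMat, Matrix.mul_fin_two]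
    simp [add_comm]

omit [Fintype F] in
theorem uMat_det : (uMat F).det ≠ 0 := by
  simp [uMat, Matrix.det_fin_two]

theorem exists_orderOf_eq_char (p : ℕ) [CharP F p] :
    ∃ x : G2 ⧸ Subgroup.center G2, orderOf x = p := by
  have hp : p.Prime := CharP.char_is_prime F p
  let u : G2 := Matrix.GeneralLinearGroup.mkOfDetNeZero (uMat F) uMat_det
  have hu : (u : Matrix (Fin 2) (Fin 2) F) = uMat F := rfl
  refine ⟨(u : G2 ⧸ Subgroup.center G2), ?_⟩
  have key : ∀ k : ℕ, ((u : G2 ⧸ Subgroup.center G2) ^ k = 1) ↔ p ∣ k := by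
    intro k
    rw [mk_pow_eq_one_iff, hu, uMat_pow, ← CharP.cast_eq_zero_iff F p k]
    constructor
    · rintro ⟨c, hc⟩
      have h01 := congrFun (congrFun hc 0) 1
      simpa using h01
    · intro hk
      refine ⟨1, ?_⟩
      rw [hk, one_smul, Matrix.one_fin_two]
  apply Nat.dvd_antisymm
  · exact orderOf_dvd_of_pow_eq_one ((key p).2 dvd_rfl)
  · exact (key _).1 (pow_orderOf_eq_one _)

/-! ### The split torus element -/

/-- The matrix `[[γ, 0], [0, 1]]`. -/
def dMat {F : Type*} [Field F] (γ : F) : Matrix (Fin 2) (Fin 2) F := !![γ, 0; 0, 1]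

omit [Fintype F] in
theorem dMat_pow (γ : F) (k : ℕ) : (dMat γ) ^ k = !![γ ^ k, 0; 0, 1] := by
  induction k with
  | zero => simp [Matrix.one_fin_two]
  | succ k ih =>
    rw [pow_succ, ih, dMat, Matrix.mul_fin_two]
    simp [pow_succ]

theorem exists_orderOf_eq_card_pred :
    ∃ x : G2 ⧸ Subgroup.center G2, orderOf x = Fintype.card F - 1 := by
  classical
  obtain ⟨γ, hγ⟩ := IsCyclic.exists_generator (α := Fˣ)
  have hoγ : orderOf γ = Fintype.card F - 1 := by
    rw [orderOf_eq_card_of_forall_mem_zpowers hγ, Nat.card_eq_fintype_card, Fintype.card_units]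
  have hdet : (dMat (γ : F)).det ≠ 0 := by
    simp [dMat, Matrix.det_fin_two]
  let d : G2 := Matrix.GeneralLinearGroup.mkOfDetNeZero (dMat (γ : F)) hdet
  have hd : (d : Matrix (Fin 2) (Fin 2) F) = dMat (γ : F) := rfl
  refine ⟨(d : G2 ⧸ Subgroup.center G2), ?_⟩
  have key : ∀ k : ℕ, ((d : G2 ⧸ Subgroup.center G2) ^ k = 1) ↔ (Fintype.card F - 1) ∣ k := by
    intro k
    rw [mk_pow_eq_one_iff, hd, dMat_pow, ← hoγ, orderOf_dvd_iff_pow_eq_one, ← Units.val_inj,
      Units.val_pow_eq_pow_val, Units.val_one]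
    constructor
    · rintro ⟨c, hc⟩
      have h00 := congrFun (congrFun hc 0) 0
      have h11 := congrFun (congrFun hc 1) 1
      simp at h00 h11
      rw [h00, ← h11]
    · intro hk
      refine ⟨1, ?_⟩
      rw [hk, one_smul, Matrix.one_fin_two]
  apply Nat.dvd_antisymm
  · exact orderOf_dvd_of_pow_eq_one ((key _).2 dvd_rfl)
  · exact (key _).1 (pow_orderOf_eq_one _)

/-! ### The Singer element -/

theorem exists_orderOf_eq_card_succ (p : ℕ) [CharP F p] :
    ∃ x : G2 ⧸ Subgroup.center G2, orderOf x = Fintype.card F + 1 := by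
  classical
  have hp : Fact p.Prime := ⟨CharP.char_is_prime F p⟩
  obtain ⟨k, -, hqk⟩ := FiniteField.card F p
  let K := FiniteField.Extension F p 2
  have hfr : Module.finrank F K = 2 := FiniteField.finrank_extension F p 2
  let b : Module.Basis (Fin 2) F K := Module.finBasisOfFinrankEq F K hfr
  have : Fintype K := Fintype.ofFinite K
  have hq1 : 1 < Fintype.card F := Fintype.one_lt_card
  set q := Fintype.card F with hq
  have hple : p ≤ q := by
    rw [hqk]
    calc p = p ^ 1 := (pow_one p).symm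
      _ ≤ p ^ (k : ℕ) := Nat.pow_le_pow_right hp.out.pos k.pos
  have hcardK : Fintype.card K = q ^ 2 := by
    rw [Fintype.card_eq_nat_card, FiniteField.natCard_extension, ← Fintype.card_eq_nat_card]
  have hcardU : Fintype.card Kˣ = (q - 1) * (q + 1) := by
    rw [Fintype.card_units, hcardK]
    have : q ^ 2 = (q - 1) * (q + 1) + 1 := by
      obtain ⟨k, hk⟩ : ∃ k, q = k + 1 := ⟨q - 1, by omega⟩
      rw [hk]; simp; ring
    omega
  obtain ⟨g, hg⟩ := IsCyclic.exists_generator (α := Kˣ)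
  have hog : orderOf g = (q - 1) * (q + 1) := by
    rw [orderOf_eq_card_of_forall_mem_zpowers hg, Nat.card_eq_fintype_card, hcardU]
  let φ : K →* Matrix (Fin 2) (Fin 2) F := (Algebra.leftMulMatrix b : K →ₐ[F] Matrix (Fin 2) (Fin 2) F)
  let W : G2 := Units.map φ g
  have hW : (W : Matrix (Fin 2) (Fin 2) F) = Algebra.leftMulMatrix b (g : K) := rfl
  refine ⟨(W : G2 ⧸ Subgroup.center G2), ?_⟩
  have hN : (q + 1) ∣ orderOf (W : G2 ⧸ Subgroup.center G2) := by
    have h1 := pow_orderOf_eq_one (W : G2 ⧸ Subgroup.center G2)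
    rw [mk_pow_eq_one_iff] at h1
    obtain ⟨c, hc⟩ := h1
    set N := orderOf (W : G2 ⧸ Subgroup.center G2) with hNdef
    have h2 : ((g : K)) ^ N = algebraMap F K c := by
      apply Algebra.leftMulMatrix_injective b
      rw [map_pow, ← hW, hc, AlgHom.commutes, Algebra.algebraMap_eq_smul_one]
    have hc0 : c ≠ 0 := by
      rintro rfl
      rw [map_zero] at h2
      exact (pow_ne_zero N g.ne_zero) h2
    have h3 : g ^ (N * (q - 1)) = 1 := by
      rw [← Units.val_inj, Units.val_pow_eq_pow_val, pow_mul, h2, ← map_pow,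
        FiniteField.pow_card_sub_one_eq_one c hc0, map_one, Units.val_one]
    have h4 := orderOf_dvd_of_pow_eq_one h3
    rw [hog, mul_comm N] at h4
    exact Nat.dvd_of_mul_dvd_mul_left (by omega : 0 < q - 1) h4
  have hpos : 0 < orderOf (W : G2 ⧸ Subgroup.center G2) := orderOf_pos _
  rcases orderOf_mem p (W : G2 ⧸ Subgroup.center G2) with h | h | h
  · exfalso
    have h5 := Nat.le_of_dvd hp.out.pos (hN.trans h)
    omega
  · exfalso
    have h5 := Nat.le_of_dvd (by omega) (hN.trans h)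
    omega
  · exact Nat.dvd_antisymm h hN

/-- **The spectrum of `PGL₂(F)`**, `F` a finite field of characteristic `p` with `q` elements:
the element orders are exactly the divisors of `p`, of `q - 1` and of `q + 1`. -/
theorem pgl2_spectrum (p : ℕ) [CharP F p] :
    Set.range (orderOf : Matrix.GeneralLinearGroup (Fin 2) F ⧸
        Subgroup.center (Matrix.GeneralLinearGroup (Fin 2) F) → ℕ) =
      {d : ℕ | d ∣ p ∨ d ∣ Fintype.card F - 1 ∨ d ∣ Fintype.card F + 1} := by
  ext d
  simp only [Set.mem_range, Set.mem_ofPred_eq]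
  constructor
  · rintro ⟨x, rfl⟩
    exact orderOf_mem p x
  · rintro (h | h | h)
    · obtain ⟨x, hx⟩ := exists_orderOf_eq_char (F := F) p
      exact exists_orderOf_eq_of_dvd x (orderOf_pos x) d (hx ▸ h)
    · obtain ⟨x, hx⟩ := exists_orderOf_eq_card_pred (F := F)
      exact exists_orderOf_eq_of_dvd x (orderOf_pos x) d (hx ▸ h)
    · obtain ⟨x, hx⟩ := exists_orderOf_eq_card_succ (F := F) p
      exact exists_orderOf_eq_of_dvd x (orderOf_pos x) d (hx ▸ h)

end Fin

end Cfsg.Agent.Lib.H16.PGL2Spec
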