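import Mathlib
import Cfsg.Prelude.Def_LieClassical
import Cfsg.Agent.Lib.H11.GUCent1
import Cfsg.Agent.Lib.H2.Singer

set_option autoImplicit false

/-!
# An element of order `q^n - 1` in `GU_n(q)`, `n` even

`n = 2c`; a Singer cycle `B` of `GL_c(q²)` acts on a hyperbolic pair of totally isotropic `c`-spaces
as `diag(B, (B*)⁻¹)`.
-/

namespace Cfsg.Agent.Lib.H16.PGU

open Matrix Cfsg.Agent.Lib.H13.AutPSU Cfsg.Agent.Lib.H11.HermNorm Cfsg.Agent.Lib.H11.GUCent

section blk

variable {K : Type*} [Field K] {q : ℕ} (D : UF K q) {c : ℕ}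

/-- the hyperbolic Gram matrix -/
def hyp (K : Type*) [Field K] (c : ℕ) : Matrix (Fin c ⊕ Fin c) (Fin c ⊕ Fin c) K :=
  Matrix.fromBlocks 0 1 1 0

theorem ct_fromBlocks {m l : Type*} (X : Matrix m m K) (Y : Matrix m l K) (Z : Matrix l m K)
    (W : Matrix l l K) :
    ct D (Matrix.fromBlocks X Y Z W) = Matrix.fromBlocks (ct D X) (ct D Z) (ct D Y) (ct D W) := by
  ext i j
  rcases i with i | i <;> rcases j with j | j <;> simp [ct_apply]

theorem ct_hyp : ct D (hyp K c) = hyp K c := by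
  unfold hyp
  rw [ct_fromBlocks, ct_zero, ct_one]

theorem hyp_mul_hyp : hyp K c * hyp K c = 1 := by
  unfold hyp
  rw [Matrix.fromBlocks_multiply]
  simp [Matrix.fromBlocks_one]

/-- `diag(B, (B*)⁻¹)` -/
def blk (B : GL (Fin c) K) : Matrix (Fin c ⊕ Fin c) (Fin c ⊕ Fin c) K :=
  Matrix.fromBlocks (B : Matrix (Fin c) (Fin c) K) 0 0
    (ct D ((B⁻¹ : GL (Fin c) K) : Matrix (Fin c) (Fin c) K))

theorem blk_one : blk D (1 : GL (Fin c) K) = 1 := by
  unfold blk
  rw [inv_one, Units.val_one, ct_one, Matrix.fromBlocks_one]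

theorem blk_mul (B₁ B₂ : GL (Fin c) K) : blk D (B₁ * B₂) = blk D B₁ * blk D B₂ := by
  unfold blk
  rw [Matrix.fromBlocks_multiply, _root_.mul_inv_rev, Units.val_mul, Units.val_mul, ct_mul]
  simp only [Matrix.mul_zero, Matrix.zero_mul, add_zero, zero_add]

theorem ct_blk_hyp (B : GL (Fin c) K) : ct D (blk D B) * hyp K c * blk D B = hyp K c := by
  unfold blk hyp
  rw [ct_fromBlocks, ct_ct, ct_zero, Matrix.fromBlocks_multiply, Matrix.fromBlocks_multiply]
  have h1 : ct D (B : Matrix (Fin c) (Fin c) K) *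
      ct D ((B⁻¹ : GL (Fin c) K) : Matrix (Fin c) (Fin c) K) = 1 := by
    rw [← ct_mul, ← Units.val_mul, inv_mul_cancel, Units.val_one, ct_one]
  have h2 : ((B⁻¹ : GL (Fin c) K) : Matrix (Fin c) (Fin c) K) *
      (B : Matrix (Fin c) (Fin c) K) = 1 := by
    rw [← Units.val_mul, inv_mul_cancel, Units.val_one]
  simp only [Matrix.mul_zero, Matrix.zero_mul, Matrix.mul_one, Matrix.one_mul, add_zero, zero_add,
    h1, h2]

theorem blk_eq_one {B : GL (Fin c) K} (h : blk D B = 1) : B = 1 := by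
  unfold blk at h
  rw [← Matrix.fromBlocks_one, Matrix.fromBlocks_inj] at h
  exact Units.ext h.1

end blk

variable {F : Type*} [Field F] [Fintype F]

/-- **T3**: an element of order `q^n-1` in `GU_n(q)`, `n` even. -/
theorem exists_GU_orderOf_sub_one (q : ℕ) (hF : Fintype.card F = q ^ 2) (n : ℕ) (hn : Even n)
    (hn2 : 2 ≤ n) :
    ∃ A : GL (Fin n) F, A ∈ Cfsg.GU n F q ∧ orderOf A = q ^ n - 1 := by
  classical
  obtain ⟨p, f, hp, hq⟩ := exists_prime_pow' hF
  have : Fact p.Prime := ⟨hp⟩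
  obtain ⟨D, -⟩ : ∃ D : UF F q, D = UF.ofCard hq hF := ⟨_, rfl⟩
  obtain ⟨c, hc⟩ := hn
  have hc1 : 1 ≤ c := by omega
  have : NeZero c := ⟨by omega⟩
  -- the Singer cycle
  obtain ⟨S, hScyc, hScard⟩ := Cfsg.Agent.Lib.H2.Singer.exists_singer F c
  obtain ⟨s, hs⟩ := IsCyclic.exists_generator (α := S)
  have hsord : orderOf (s : GL (Fin c) F) = q ^ n - 1 := by
    rw [Subgroup.orderOf_coe, orderOf_eq_card_of_forall_mem_zpowers hs, hScard, hF, ← pow_mul, hc,
      two_mul]
  -- the norm decomposition of the hyperbolic form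
  obtain ⟨C, Ci, hCCi, hCiC, hC⟩ := exists_norm' D (hyp F c) (hyp F c) (ct_hyp D) hyp_mul_hyp
  let e : Fin c ⊕ Fin c ≃ Fin n := finSumFinEquiv.trans (finCongr hc.symm)
  -- the homomorphism
  let Ψ : GL (Fin c) F →* Matrix (Fin n) (Fin n) F :=
    { toFun := fun B => Matrix.reindex e e (C * blk D B * Ci)
      map_one' := by
        rw [blk_one, Matrix.mul_one, hCCi, reindex_one']
      map_mul' := fun B₁ B₂ => by
        rw [← reindex_mul', blk_mul]
        congr 1
        calc C * (blk D B₁ * blk D B₂) * Ci = C * blk D B₁ * 1 * blk D B₂ * Ci := by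
              simp only [Matrix.mul_one, Matrix.mul_assoc]
          _ = C * blk D B₁ * Ci * (C * blk D B₂ * Ci) := by
              rw [← hCiC]; simp only [Matrix.mul_assoc] }
  have hΨ : Function.Injective Ψ.toHomUnits := by
    rw [injective_iff_map_eq_one]
    intro B hB
    have h1 : Matrix.reindex e e (C * blk D B * Ci) = 1 := by
      have := congrArg Units.val hB
      simpa [Ψ] using this
    have h2 : C * blk D B * Ci = 1 := by
      have := congrArg (Matrix.reindex e.symm e.symm) h1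
      rwa [reindex_symm_reindex, reindex_one'] at this
    apply blk_eq_one D
    calc blk D B = Ci * C * blk D B * (Ci * C) := by rw [hCiC, Matrix.one_mul, Matrix.mul_one]
      _ = Ci * (C * blk D B * Ci) * C := by simp only [Matrix.mul_assoc]
      _ = 1 := by rw [h2, Matrix.mul_one, hCiC]
  refine ⟨Ψ.toHomUnits (s : GL (Fin c) F), ?_, ?_⟩
  · rw [mem_GU_iff_ct (D := D)]
    change ct D (Matrix.reindex e e (C * blk D (s : GL (Fin c) F) * Ci)) *
      Matrix.reindex e e (C * blk D (s : GL (Fin c) F) * Ci) = 1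
    rw [ct_reindex, ← reindex_mul', ct_mul, ct_mul]
    have h3 : ct D Ci * (ct D (blk D (s : GL (Fin c) F)) * ct D C) *
        (C * blk D (s : GL (Fin c) F) * Ci) = 1 := by
      calc ct D Ci * (ct D (blk D (s : GL (Fin c) F)) * ct D C) *
            (C * blk D (s : GL (Fin c) F) * Ci)
          = ct D Ci * (ct D (blk D (s : GL (Fin c) F)) * (ct D C * C) *
              blk D (s : GL (Fin c) F)) * Ci := by simp only [Matrix.mul_assoc]
        _ = ct D Ci * (ct D C * C) * Ci := by rw [hC, ct_blk_hyp]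
        _ = ct D (C * Ci) * (C * Ci) := by rw [ct_mul]; simp only [Matrix.mul_assoc]
        _ = 1 := by rw [hCCi, ct_one, Matrix.one_mul]
    rw [h3, reindex_one']
  · rw [orderOf_injective _ hΨ, hsord]

end Cfsg.Agent.Lib.H16.PGU
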