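import Mathlib
import Cfsg.Agent.Lib.H26.PPearlDefs

set_option autoImplicit false
set_option linter.unusedVariables false
set_option linter.unusedSectionVars false
set_option linter.dupNamespace false

/-!
# S5238, piece COLLECT (helper16, twin): the exact collection formula

`K 0 ≥ K 1 ≥ …` normal subgroups of `T` with `[K a, K b] ≤ K (a+b+2)`, `[K a, e] ≤ K (a+1)` and `x^p ∈ K p` for
`x ∈ K 1`.  Then `(d e)^p ≡ d^p · d_{p-1} · e^p` modulo `K p` for `d ∈ K 0`, `d_j = itc e d j`.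

Route: pass to `T ⧸ K p`; with respect to the single `N`-series `Lam k = K (k - 2)` the sequence
`f m = (d e)^m e^{-m}` is polynomial of level `1` (`D^{j+1} f (m) = e^m d_j e^{-m} ∈ K j = Lam (j+2)`); the binomial model
`F = ∏_i B (b i) i`, `b 0 = 1`, `b (i+1) = d_i`, is polynomial of level `1` too, and a comparison lemma
(`pol_compare`) shows that `F⁻¹ f` is polynomial of level `2`, i.e. polynomial with respect to `K`.  It vanishes at `0, 1`,
so helper9's `expansion` gives `F⁻¹ f (p) ∈ ⟨g ^ (p.choose i) | g ∈ K i, i ≥ 2⟩ = 1`.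
-/

namespace Cfsg.Agent.Lib.H16.PPearl

open Cfsg.Agent.Lib.H26.PPearl
open Cfsg.Agent.Lib.H9.PolySeq
open scoped commutatorElement

section poly

variable {T : Type*} [Group T] {Γ : ℕ → Subgroup T}

/-- the binomial model `n ↦ a 0 ^ C(n,0) * a 1 ^ C(n,1) * ⋯ * a (N-1) ^ C(n,N-1)` -/
def Mdl (a : ℕ → T) : ℕ → (ℕ → T)
  | 0 => 1
  | (N + 1) => Mdl a N * B (a N) N

theorem Mdl_zero (a : ℕ → T) : Mdl a 0 = 1 := rfl

theorem Mdl_succ (a : ℕ → T) (N : ℕ) : Mdl a (N + 1) = Mdl a N * B (a N) N := rfl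

theorem Mdl_succ_apply (a : ℕ → T) (N n : ℕ) :
    Mdl a (N + 1) n = Mdl a N n * a N ^ (n.choose N) := rfl

theorem Mdl_apply_zero (a : ℕ → T) : ∀ N, Mdl a (N + 1) 0 = a 0
  | 0 => by simp [Mdl_succ_apply, Mdl_zero]
  | (N + 1) => by
    rw [Mdl_succ_apply, Mdl_apply_zero a N, Nat.choose_zero_succ, pow_zero, mul_one]

theorem Mdl_apply_one (a : ℕ → T) : ∀ N, Mdl a (N + 2) 1 = a 0 * a 1
  | 0 => by simp [Mdl_succ_apply, Mdl_zero]
  | (N + 1) => by
    rw [Mdl_succ_apply, Mdl_apply_one a N, Nat.choose_eq_zero_of_lt (by omega), pow_zero, mul_one]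

theorem pol_Mdl (hΓ : IsNSeries Γ) {ℓ : ℕ} {a : ℕ → T} (ha : ∀ i, a i ∈ Γ (ℓ + i)) (k : ℕ) :
    ∀ N, Pol Γ k ℓ (Mdl a N)
  | 0 => (Q_all hΓ k).one ℓ
  | (N + 1) => (Q_all hΓ k).mul ℓ _ _ (pol_Mdl hΓ ha k N) (pol_B hΓ k ℓ N (a N) (ha N))

theorem pol_D_Mdl (hΓ : IsNSeries Γ) {ℓ : ℕ} (hℓ : 1 ≤ ℓ) {a : ℕ → T}
    (ha : ∀ i, a i ∈ Γ (ℓ + i)) (k : ℕ) :
    ∀ N, Pol Γ k (ℓ + 2) ((Mdl (fun i => a (i + 1)) N)⁻¹ * D (Mdl a (N + 1))) := by
  intro N
  induction N with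
  | zero =>
    have h1 : Mdl a (0 + 1) = B (a 0) 0 := by
      rw [Mdl_succ, Mdl_zero, one_mul]
    rw [h1, D_B_zero, Mdl_zero, inv_one, one_mul]
    exact (Q_all hΓ k).one _
  | succ N ih =>
    have hQ := Q_all hΓ k
    have e1 : Mdl a (N + 1 + 1) = Mdl a (N + 1) * B (a (N + 1)) (N + 1) := rfl
    have e2 : Mdl (fun i => a (i + 1)) (N + 1) =
        Mdl (fun i => a (i + 1)) N * B (a (N + 1)) N := rfl
    rw [e1, e2, D_mul, D_B_succ]
    have key : (Mdl (fun i => a (i + 1)) N * B (a (N + 1)) N)⁻¹ *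
        (D (Mdl a (N + 1)) * ⁅(D (Mdl a (N + 1)))⁻¹, (B (a (N + 1)) (N + 1))⁻¹⁆ *
          B (a (N + 1)) N) =
        (B (a (N + 1)) N)⁻¹ * (((Mdl (fun i => a (i + 1)) N)⁻¹ * D (Mdl a (N + 1))) *
          ⁅(D (Mdl a (N + 1)))⁻¹, (B (a (N + 1)) (N + 1))⁻¹⁆) * B (a (N + 1)) N := by
      group
    rw [key]
    have hY' : Pol Γ k (ℓ + 1) (B (a (N + 1)) N) := by
      apply pol_B hΓ k (ℓ + 1) N (a (N + 1))
      have := ha (N + 1)
      rwa [show ℓ + (N + 1) = ℓ + 1 + N by omega] at this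
    have hDX : Pol Γ k (ℓ + 1) (D (Mdl a (N + 1))) := (pol_Mdl hΓ ha (k + 1) (N + 1)).2
    have hY : Pol Γ k ℓ (B (a (N + 1)) (N + 1)) := pol_B hΓ k ℓ (N + 1) (a (N + 1)) (ha (N + 1))
    have hc : Pol Γ k (ℓ + 2) ⁅(D (Mdl a (N + 1)))⁻¹, (B (a (N + 1)) (N + 1))⁻¹⁆ :=
      Pol.mono_le hΓ (by omega) (hQ.comm (ℓ + 1) ℓ _ _ (hQ.inv _ _ hDX) (hQ.inv _ _ hY))
    exact Q.conj' hΓ hQ hY' (hQ.mul _ _ _ ih hc)

theorem pol_compare (hΓ : IsNSeries Γ) {ℓ : ℕ} (hℓ : 1 ≤ ℓ) {u v : ℕ → T}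
    (hu : ∀ k, Pol Γ k ℓ u) (hv : ∀ k, Pol Γ k ℓ v)
    (hD : ∀ k, Pol Γ k (ℓ + 2) ((D v)⁻¹ * D u)) (h0 : (v 0)⁻¹ * u 0 ∈ Γ (ℓ + 1)) :
    ∀ k, Pol Γ k (ℓ + 1) (v⁻¹ * u) := by
  have hDh : ∀ k, Pol Γ k (ℓ + 2) (D (v⁻¹ * u)) := by
    intro k
    have hQ := Q_all hΓ k
    rw [D_mul, D_inv]
    have hDv : Pol Γ k (ℓ + 1) (D v) := (hv (k + 1)).2
    have hDu : Pol Γ k (ℓ + 1) (D u) := (hu (k + 1)).2
    have hc1 : Pol Γ k (ℓ + 2) ⁅v, (D v)⁻¹⁆ :=
      Pol.mono_le hΓ (by omega) (hQ.comm ℓ (ℓ + 1) _ _ (hv k) (hQ.inv _ _ hDv))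
    have hc1' : Pol Γ k (ℓ + 1) ⁅v, (D v)⁻¹⁆ := Pol.mono_le hΓ (by omega) hc1
    have hc2 : Pol Γ k (ℓ + 2) ⁅(⁅v, (D v)⁻¹⁆ * (D v)⁻¹)⁻¹, u⁻¹⁆ :=
      Pol.mono_le hΓ (by omega)
        (hQ.comm (ℓ + 1) ℓ _ _ (hQ.inv _ _ (hQ.mul _ _ _ hc1' (hQ.inv _ _ hDv)))
          (hQ.inv _ _ (hu k)))
    have key : ⁅v, (D v)⁻¹⁆ * (D v)⁻¹ * ⁅(⁅v, (D v)⁻¹⁆ * (D v)⁻¹)⁻¹, u⁻¹⁆ * D u =
        ⁅v, (D v)⁻¹⁆ * ((D v)⁻¹ * D u) *
          ((D u)⁻¹ * ⁅(⁅v, (D v)⁻¹⁆ * (D v)⁻¹)⁻¹, u⁻¹⁆ * D u) := by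
      group
    rw [key]
    exact hQ.mul _ _ _ (hQ.mul _ _ _ hc1 (hD k)) (Q.conj' hΓ hQ hDu hc2)
  have hval : ∀ n, (v⁻¹ * u) n ∈ Γ (ℓ + 1) := by
    intro n
    induction n with
    | zero => exact h0
    | succ n ih =>
      have h1 : (v⁻¹ * u) (n + 1) = (v⁻¹ * u) n * D (v⁻¹ * u) n := by
        simp only [D]
        group
      rw [h1]
      exact mul_mem ih (hΓ.anti _ ((hDh 0).mem n))
  intro k
  cases k with
  | zero => exact hval
  | succ k => exact ⟨hval, hDh k⟩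

end poly

section collect

variable {T : Type*} [Group T]

/-- the `N`-series `K 0, K 0, K 0, K 1, K 2, …` -/
def Lam (K : ℕ → Subgroup T) : ℕ → Subgroup T := fun k => K (k - 2)

theorem K_antitone {K : ℕ → Subgroup T} (hanti : ∀ a, K (a + 1) ≤ K a) {a b : ℕ}
    (h : a ≤ b) : K b ≤ K a := by
  induction b, h using Nat.le_induction with
  | base => exact le_rfl
  | succ b _ ih => exact (hanti b).trans ih

theorem isNSeries_Lam {K : ℕ → Subgroup T} (hnorm : ∀ a, (K a).Normal)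
    (hanti : ∀ a, K (a + 1) ≤ K a)
    (hcomm : ∀ a b, ∀ x ∈ K a, ∀ y ∈ K b, x * y * x⁻¹ * y⁻¹ ∈ K (a + b + 2)) :
    IsNSeries (Lam K) where
  normal i := hnorm _
  anti i := by
    show K (i + 1 - 2) ≤ K (i - 2)
    exact K_antitone hanti (by omega)
  comm i j := by
    rw [Subgroup.commutator_le]
    intro x hx y hy
    rw [commutatorElement_def]
    show x * y * x⁻¹ * y⁻¹ ∈ K (i + j - 2)
    exact K_antitone hanti (by omega) (hcomm _ _ x hx y hy)

theorem isNSeries_K {K : ℕ → Subgroup T} (hnorm : ∀ a, (K a).Normal)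
    (hanti : ∀ a, K (a + 1) ≤ K a)
    (hcomm : ∀ a b, ∀ x ∈ K a, ∀ y ∈ K b, x * y * x⁻¹ * y⁻¹ ∈ K (a + b + 2)) :
    IsNSeries K where
  normal i := hnorm _
  anti i := hanti i
  comm i j := by
    rw [Subgroup.commutator_le]
    intro x hx y hy
    rw [commutatorElement_def]
    exact K_antitone hanti (by omega) (hcomm _ _ x hx y hy)

theorem pol_shift {K : ℕ → Subgroup T} (k : ℕ) :
    ∀ (d : ℕ) (h : ℕ → T), Pol (Lam K) k (d + 2) h → Pol K k d h := by
  induction k with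
  | zero =>
    intro d h hp n
    exact hp n
  | succ k ih =>
    intro d h hp
    refine ⟨fun n => hp.1 n, ih (d + 1) (D h) ?_⟩
    have := hp.2
    rwa [show d + 2 + 1 = d + 1 + 2 by omega] at this

/-- the conjugates `e^m d_j e^{-m}` -/
def sq (e d : T) (j : ℕ) : ℕ → T := fun m => e ^ m * itc e d j * (e ^ m)⁻¹

/-- `f m = (d e)^m e^{-m}` -/
def fq (e d : T) : ℕ → T := fun m => (d * e) ^ m * (e ^ m)⁻¹

/-- the coefficients of the model of `fq` -/
def bco (e d : T) : ℕ → T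
  | 0 => 1
  | (i + 1) => itc e d i

theorem D_sq (e d : T) (j : ℕ) : D (sq e d j) = sq e d (j + 1) := by
  funext m
  simp only [D, sq, itc_succ, pow_succ]
  group

theorem D_fq (e d : T) : D (fq e d) = sq e d 0 := by
  funext m
  simp only [D, fq, sq, itc_zero, pow_succ]
  group

theorem collect_bot {p : ℕ} (hp : p.Prime) (K : ℕ → Subgroup T) (e : T)
    (hnorm : ∀ a, (K a).Normal) (hanti : ∀ a, K (a + 1) ≤ K a)
    (hcomm : ∀ a b, ∀ x ∈ K a, ∀ y ∈ K b, x * y * x⁻¹ * y⁻¹ ∈ K (a + b + 2))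
    (hKe : ∀ a, ∀ x ∈ K a, x * e * x⁻¹ * e⁻¹ ∈ K (a + 1))
    (hexp : ∀ x ∈ K 1, x ^ p ∈ K p) (hbot : K p = ⊥)
    (d : T) (hd : d ∈ K 0) :
    (d * e) ^ p = d ^ p * itc e d (p - 1) * e ^ p := by
  have hΛ := isNSeries_Lam hnorm hanti hcomm
  have hK := isNSeries_K hnorm hanti hcomm
  have hp2 := hp.two_le
  -- memberships
  have hitc : ∀ j, itc e d j ∈ K j := by
    intro j
    induction j with
    | zero => exact hd
    | succ j ih =>
      rw [itc_succ]
      have := hKe j (itc e d j)⁻¹ (inv_mem ih)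
      rwa [inv_inv] at this
  have hsq : ∀ j m, sq e d j m ∈ K j := fun j m => (hnorm j).conj_mem _ (hitc j) (e ^ m)
  have hpolsq : ∀ k j, Pol (Lam K) k (j + 2) (sq e d j) := by
    intro k
    induction k with
    | zero =>
      intro j n
      exact hsq j n
    | succ k ih =>
      intro j
      refine ⟨fun n => hsq j n, ?_⟩
      rw [D_sq]
      have := ih (j + 1)
      rwa [show j + 1 + 2 = j + 2 + 1 by omega] at this
  have hfq_mem : ∀ m, fq e d m ∈ K 0 := by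
    intro m
    induction m with
    | zero =>
      simp only [fq, pow_zero, inv_one, mul_one]
      exact one_mem _
    | succ m ih =>
      have h1 : fq e d (m + 1) = fq e d m * sq e d 0 m := by
        have h2 := congrFun (D_fq e d) m
        simp only [D] at h2
        rw [← h2]
        group
      rw [h1]
      exact mul_mem ih (hsq 0 m)
  have hpolfq : ∀ k, Pol (Lam K) k 1 (fq e d) := by
    intro k
    cases k with
    | zero => exact fun n => hfq_mem n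
    | succ k =>
      refine ⟨fun n => hfq_mem n, ?_⟩
      rw [D_fq]
      exact hpolsq k 0
  have hone : ∀ x : T, x ∈ K p → x = 1 := fun x hx => by
    rw [hbot] at hx
    exact Subgroup.mem_bot.1 hx
  have hitc_p : ∀ j, p ≤ j → itc e d j = 1 := fun j hj =>
    hone _ (K_antitone hanti hj (hitc j))
  -- powers with binomial exponents die
  have hchoose : ∀ i, 2 ≤ i → i < p → ∀ g ∈ K (i - 1), g ^ (p.choose i) = 1 := by
    intro i hi hip g hg
    obtain ⟨t, ht⟩ := hp.dvd_choose_self (by omega : i ≠ 0) hip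
    rw [ht, pow_mul']
    exact hone _ (hexp _ (pow_mem (K_antitone hanti (by omega) hg) t))
  -- main recursion
  have hrec : ∀ t j, t + j = p → ∀ k,
      Pol (Lam K) k (j + 3) ((Mdl (fun i => itc e d (i + j)) t)⁻¹ * sq e d j) := by
    intro t
    induction t with
    | zero =>
      intro j hj k
      have h1 : sq e d j = 1 := by
        funext m
        simp only [sq, hitc_p j (by omega), mul_one, mul_inv_cancel, Pi.one_apply]
      rw [h1, Mdl_zero, inv_one, one_mul]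
      exact (Q_all hΛ k).one _
    | succ t ih =>
      intro j hj
      have ih' := ih (j + 1) (by omega)
      have ha : ∀ i, (fun i => itc e d (i + j)) i ∈ Lam K (j + 2 + i) := by
        intro i
        show itc e d (i + j) ∈ K (j + 2 + i - 2)
        rw [show j + 2 + i - 2 = i + j by omega]
        exact hitc _
      have hshift : (fun i => (fun i => itc e d (i + j)) (i + 1)) =
          fun i => itc e d (i + (j + 1)) := by
        funext i
        show itc e d (i + 1 + j) = itc e d (i + (j + 1))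
        congr 1
        omega
      have hM2 : ∀ k, Pol (Lam K) k (j + 2 + 2)
          ((Mdl (fun i => itc e d (i + (j + 1))) t)⁻¹ *
            D (Mdl (fun i => itc e d (i + j)) (t + 1))) := by
        intro k
        have := pol_D_Mdl hΛ (by omega : 1 ≤ j + 2) ha k t
        rwa [hshift] at this
      refine pol_compare hΛ (by omega : 1 ≤ j + 2) (fun k => hpolsq k j)
        (fun k => pol_Mdl hΛ ha k (t + 1)) ?_ ?_
      · intro k
        rw [D_sq]
        have hQ := Q_all hΛ k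
        have e1 : (D (Mdl (fun i => itc e d (i + j)) (t + 1)))⁻¹ * sq e d (j + 1) =
            ((Mdl (fun i => itc e d (i + (j + 1))) t)⁻¹ *
              D (Mdl (fun i => itc e d (i + j)) (t + 1)))⁻¹ *
            ((Mdl (fun i => itc e d (i + (j + 1))) t)⁻¹ * sq e d (j + 1)) := by
          group
        rw [e1]
        exact hQ.mul _ _ _ (hQ.inv _ _ (hM2 k)) (ih' k)
      · rw [Mdl_apply_zero]
        simp only [sq, pow_zero, inv_one, mul_one, one_mul, zero_add, inv_mul_cancel]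
        exact one_mem _
  -- the model of fq
  have hb : ∀ i, bco e d i ∈ Lam K (1 + i) := by
    intro i
    cases i with
    | zero => exact one_mem _
    | succ i =>
      show itc e d i ∈ K (1 + (i + 1) - 2)
      rw [show 1 + (i + 1) - 2 = i by omega]
      exact hitc i
  have hshift0 : (fun i => bco e d (i + 1)) = fun i => itc e d (i + 0) := rfl
  have hr : ∀ k, Pol (Lam K) k (1 + 1) ((Mdl (bco e d) (p + 1))⁻¹ * fq e d) := by
    refine pol_compare hΛ le_rfl hpolfq (fun k => pol_Mdl hΛ hb k (p + 1)) ?_ ?_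
    · intro k
      rw [D_fq]
      have hQ := Q_all hΛ k
      have hM2 := pol_D_Mdl hΛ le_rfl hb k p
      rw [hshift0] at hM2
      have e1 : (D (Mdl (bco e d) (p + 1)))⁻¹ * sq e d 0 =
          ((Mdl (fun i => itc e d (i + 0)) p)⁻¹ * D (Mdl (bco e d) (p + 1)))⁻¹ *
          ((Mdl (fun i => itc e d (i + 0)) p)⁻¹ * sq e d 0) := by
        group
      rw [e1]
      exact hQ.mul _ _ _ (hQ.inv _ _ hM2) (hrec p 0 (by omega) k)
    · rw [Mdl_apply_zero]
      simp only [fq, bco, pow_zero, inv_one, mul_one]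
      exact one_mem _
  have hr' : ∀ k, Pol K k 0 ((Mdl (bco e d) (p + 1))⁻¹ * fq e d) := fun k =>
    pol_shift k 0 _ (hr k)
  have hv : Vanish 2 ((Mdl (bco e d) (p + 1))⁻¹ * fq e d) := by
    intro n hn
    interval_cases n
    · simp only [Pi.mul_apply, Pi.inv_apply, Mdl_apply_zero, fq, bco, pow_zero, inv_one, mul_one]
    · obtain ⟨q, rfl⟩ : ∃ q, p = q + 1 := ⟨p - 1, by omega⟩
      simp only [Pi.mul_apply, Pi.inv_apply, Mdl_apply_one, fq, bco, pow_one, one_mul, itc_zero]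
      group
  have hc : K (p - 1 + 1) = ⊥ := by
    rw [Nat.sub_add_cancel (by omega)]
    exact hbot
  have hW := expansion hK hc p 2 _ (by omega) hr' hv p
  have hWbot : W K 2 p ≤ ⊥ := by
    unfold W
    rw [Subgroup.closure_le]
    rintro y ⟨i, hi, g, hg, rfl⟩
    rw [SetLike.mem_coe, Subgroup.mem_bot]
    by_cases hip : p ≤ i
    · rw [hone g (K_antitone hanti hip hg), one_pow]
    · exact hchoose i hi (by omega) g (K_antitone hanti (by omega) hg)
  have hrp : ((Mdl (bco e d) (p + 1))⁻¹ * fq e d) p = 1 := Subgroup.mem_bot.1 (hWbot hW)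
  -- evaluate the model at p
  have hMp : ∀ N, 2 ≤ N → N ≤ p → Mdl (bco e d) N p = d ^ p := by
    intro N hN
    induction N, hN using Nat.le_induction with
    | base =>
      intro _
      simp only [Mdl_succ_apply, Mdl_zero, bco, Pi.one_apply, one_pow, one_mul, itc_zero,
        Nat.choose_one_right]
    | succ N hN ih =>
      intro hNp
      rw [Mdl_succ_apply, ih (by omega)]
      obtain ⟨N', rfl⟩ : ∃ N', N = N' + 1 := ⟨N - 1, by omega⟩
      have : bco e d (N' + 1) = itc e d N' := rfl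
      rw [this, hchoose (N' + 1) hN (by omega) _ (hitc N'), mul_one]
  have hFp : Mdl (bco e d) (p + 1) p = d ^ p * itc e d (p - 1) := by
    rw [Mdl_succ_apply, hMp p hp2 le_rfl, Nat.choose_self, pow_one]
    obtain ⟨q, rfl⟩ : ∃ q, p = q + 1 := ⟨p - 1, by omega⟩
    rfl
  simp only [Pi.mul_apply, Pi.inv_apply, hFp, fq] at hrp
  have h3 : (d * e) ^ p * (e ^ p)⁻¹ = d ^ p * itc e d (p - 1) := (inv_mul_eq_one.1 hrp).symm
  rw [← h3]
  group

theorem map_itc {T' : Type*} [Group T'] (φ : T →* T') (e d : T) :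
    ∀ j, φ (itc e d j) = itc (φ e) (φ d) j
  | 0 => rfl
  | (j + 1) => by
    rw [itc_succ, itc_succ, map_mul, map_mul, map_mul, map_inv, map_inv, map_itc φ e d j]

theorem collect {T : Type*} [Group T] {p : ℕ} (hp : p.Prime) (K : ℕ → Subgroup T) (e : T)
    (hnorm : ∀ a, (K a).Normal) (hanti : ∀ a, K (a + 1) ≤ K a)
    (hcomm : ∀ a b, ∀ x ∈ K a, ∀ y ∈ K b, x * y * x⁻¹ * y⁻¹ ∈ K (a + b + 2))
    (hKe : ∀ a, ∀ x ∈ K a, x * e * x⁻¹ * e⁻¹ ∈ K (a + 1))
    (hexp : ∀ x ∈ K 1, x ^ p ∈ K p)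
    (d : T) (hd : d ∈ K 0) :
    ((d * e) ^ p)⁻¹ * (d ^ p * itc e d (p - 1) * e ^ p) ∈ K p := by
  haveI := hnorm p
  set π : T →* T ⧸ K p := QuotientGroup.mk' (K p) with hπ
  have hsurj : Function.Surjective π := QuotientGroup.mk'_surjective (K p)
  have h1 := collect_bot hp (fun a => (K a).map π) (π e)
    (fun a => (hnorm a).map π hsurj)
    (fun a => Subgroup.map_mono (hanti a))
    (by
      rintro a b _ ⟨x, hx, rfl⟩ _ ⟨y, hy, rfl⟩
      exact ⟨x * y * x⁻¹ * y⁻¹, hcomm a b x hx y hy, by simp⟩)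
    (by
      rintro a _ ⟨x, hx, rfl⟩
      exact ⟨x * e * x⁻¹ * e⁻¹, hKe a x hx, by simp⟩)
    (by
      rintro _ ⟨x, hx, rfl⟩
      exact ⟨x ^ p, hexp x hx, by simp⟩)
    (by
      show (K p).map (QuotientGroup.mk' (K p)) = ⊥
      exact QuotientGroup.map_mk'_self (K p))
    (π d) ⟨d, hd, rfl⟩
  rw [← map_itc π e d, ← map_mul, ← map_pow, ← map_pow, ← map_pow, ← map_mul, ← map_mul] at h1
  have h2 : π (((d * e) ^ p)⁻¹ * (d ^ p * itc e d (p - 1) * e ^ p)) = 1 := by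
    rw [map_mul, map_inv, h1, inv_mul_cancel]
  rw [hπ, QuotientGroup.mk'_apply, QuotientGroup.eq_one_iff] at h2
  exact h2

end collect

end Cfsg.Agent.Lib.H16.PPearl
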