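import Mathlib
import Cfsg.Prelude.Def_Solvable
import Cfsg.Agent.Lib.H1.PCore
import Cfsg.Agent.Lib.H9.PPrimeCore

/-!
# S4886 farm-out, pieces CHARN and SLEND (helper16)
-/

set_option autoImplicit false

universe u

namespace Cfsg.Agent.Lib.H16.PQ2

open Cfsg

/-- CHARN: `O_q(Y)` and `O_{q'}(Y)` of a normal subgroup `Y ⊴ Γ` are normal in `Γ`. -/
theorem cores_of_normal_normal {Γ : Type u} [Group Γ] [Finite Γ] (q : ℕ) (Y : Subgroup Γ)
    [Y.Normal] : ((pCore q Y).map Y.subtype).Normal ∧ ((pPrimeCore q Y).map Y.subtype).Normal := by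
  haveI h1 : (pCore q ↥Y).Characteristic := Cfsg.Agent.Lib.H1.pCore_characteristic q ↥Y
  haveI h2 : (pPrimeCore q ↥Y).Characteristic := Cfsg.Agent.Lib.H9.pPrimeCore_characteristic q
  exact ⟨ConjAct.normal_of_characteristic_of_normal, ConjAct.normal_of_characteristic_of_normal⟩

/-- SLEND. -/
theorem conj_mem_of_mem_sup {Γ : Type u} [Group Γ] [Finite Γ] (q : ℕ) [Fact q.Prime]
    (S Q M : Subgroup Γ) [M.Normal] (hQ : IsPGroup q Q) (hMq : (Nat.card M).Coprime q)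
    (hQS : ∀ x ∈ Q, ∀ s ∈ S, x * s = s * x)
    (hcent : ∀ x ∈ Q, ∀ m ∈ M ⊓ Subgroup.centralizer (S : Set Γ), x * m = m * x)
    (c : Γ) (hcS : c ∈ Subgroup.centralizer (S : Set Γ))
    (hc : ∀ x ∈ Q, c * x * c⁻¹ ∈ Q ⊔ M) : ∀ x ∈ Q, c * x * c⁻¹ ∈ Q := by
  intro x hx
  obtain ⟨x', hx', m, hm, hxm⟩ := Subgroup.mem_sup_of_normal_right.mp (hc x hx)
  have hQC : ∀ z ∈ Q, z ∈ Subgroup.centralizer (S : Set Γ) := by
    intro z hz
    rw [Subgroup.mem_centralizer_iff]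
    intro s hs
    exact (hQS z hz s hs).symm
  have hyC : c * x * c⁻¹ ∈ Subgroup.centralizer (S : Set Γ) :=
    Subgroup.mul_mem _ (Subgroup.mul_mem _ hcS (hQC x hx)) (Subgroup.inv_mem _ hcS)
  have hmC : m ∈ Subgroup.centralizer (S : Set Γ) := by
    have h1 : m = x'⁻¹ * (c * x * c⁻¹) := by rw [← hxm]; group
    rw [h1]
    exact Subgroup.mul_mem _ (Subgroup.inv_mem _ (hQC x' hx')) hyC
  have hcomm : Commute x' m := hcent x' hx' m ⟨hm, hmC⟩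
  obtain ⟨k₁, hk₁⟩ := hQ ⟨x', hx'⟩
  obtain ⟨k₂, hk₂⟩ := hQ ⟨x, hx⟩
  have hk₁' : x' ^ q ^ k₁ = 1 := by
    have := congrArg Subtype.val hk₁
    simpa using this
  have hk₂' : x ^ q ^ k₂ = 1 := by
    have := congrArg Subtype.val hk₂
    simpa using this
  have hy : (c * x * c⁻¹) ^ (q ^ k₁ * q ^ k₂) = 1 := by
    rw [conj_pow, mul_comm, pow_mul, hk₂', one_pow, mul_one, mul_inv_cancel]
  have hx'n : x' ^ (q ^ k₁ * q ^ k₂) = 1 := by rw [pow_mul, hk₁', one_pow]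
  have hmn : m ^ (q ^ k₁ * q ^ k₂) = 1 := by
    rw [← hxm, hcomm.mul_pow, hx'n, one_mul] at hy
    exact hy
  have hd1 : orderOf m ∣ q ^ k₁ * q ^ k₂ := orderOf_dvd_of_pow_eq_one hmn
  have hd2 : orderOf m ∣ Nat.card M := Subgroup.orderOf_dvd_natCard M hm
  have hcop : (Nat.card M).Coprime (q ^ k₁ * q ^ k₂) :=
    Nat.Coprime.mul_right (Nat.Coprime.pow_right k₁ hMq) (Nat.Coprime.pow_right k₂ hMq)
  have hone : orderOf m = 1 := Nat.eq_one_of_dvd_coprimes hcop hd2 hd1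
  have hm1 : m = 1 := orderOf_eq_one_iff.mp hone
  rw [← hxm, hm1, mul_one]
  exact hx'

end Cfsg.Agent.Lib.H16.PQ2
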