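import Mathlib

/-!
# S4886 farm-out, pieces MINN and ABEL (helper16)
-/

set_option autoImplicit false

namespace Cfsg.Agent.Lib.H16.PQ2

/-- MINN: minimal normal subgroups exist below a nontrivial normal subgroup. -/
theorem exists_minimal_normal_le {G : Type*} [Group G] [Finite G] (K : Subgroup G) [K.Normal]
    (hK : K ≠ ⊥) :
    ∃ N : Subgroup G, N.Normal ∧ N ≠ ⊥ ∧ N ≤ K ∧
      ∀ M : Subgroup G, M.Normal → M ≤ N → M = ⊥ ∨ M = N := by
  classical
  haveI : Fintype (Subgroup G) := Fintype.ofFinite _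
  let F : Finset (Subgroup G) := Finset.univ.filter (fun N => N.Normal ∧ N ≠ ⊥ ∧ N ≤ K)
  have hF : F.Nonempty :=
    ⟨K, by
      simp only [F, Finset.mem_filter, Finset.mem_univ, true_and]
      exact ⟨inferInstance, hK, le_rfl⟩⟩
  obtain ⟨N, hNF, hmin⟩ := Finset.exists_min_image F (fun B => Nat.card ↥B) hF
  have hN : N.Normal ∧ N ≠ ⊥ ∧ N ≤ K := by
    simpa only [F, Finset.mem_filter, Finset.mem_univ, true_and] using hNF
  refine ⟨N, hN.1, hN.2.1, hN.2.2, ?_⟩
  intro M hMn hMN
  by_cases hM : M = ⊥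
  · exact Or.inl hM
  · right
    have hMF : M ∈ F := by
      simp only [F, Finset.mem_filter, Finset.mem_univ, true_and]
      exact ⟨hMn, hM, hMN.trans hN.2.2⟩
    exact Subgroup.eq_of_le_of_card_ge hMN (hmin M hMF)

/-- ABEL: a minimal normal subgroup which is a `p`-group is abelian. -/
theorem comm_of_minimal_normal_pGroup {G : Type*} [Group G] [Finite G] (p : ℕ) [Fact p.Prime]
    (N : Subgroup G) [N.Normal] (hNp : IsPGroup p N)
    (hNmin : ∀ M : Subgroup G, M.Normal → M ≤ N → M = ⊥ ∨ M = N) :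
    ∀ a ∈ N, ∀ b ∈ N, a * b = b * a := by
  have hle : ⁅N, N⁆ ≤ N := Subgroup.commutator_le_left N N
  have hnorm : (⁅N, N⁆ : Subgroup G).Normal := inferInstance
  rcases hNmin _ hnorm hle with h | h
  · intro a ha b hb
    have h1 : N ≤ Subgroup.centralizer (N : Set G) :=
      Subgroup.commutator_eq_bot_iff_le_centralizer.mp h
    have h2 := Subgroup.mem_centralizer_iff.mp (h1 ha) b hb
    exact h2.symm
  · -- `N` perfect and nilpotent: trivial
    by_cases hN1 : Nontrivial ↥N
    · exfalso
      haveI := hN1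
      haveI : Group.IsNilpotent ↥N := hNp.isNilpotent
      haveI : Group.IsSolvable ↥N := inferInstance
      have hlt : commutator ↥N < ⊤ := Group.IsSolvable.commutator_lt_top_of_nontrivial ↥N
      have hmap : (commutator ↥N).map N.subtype = (⊤ : Subgroup ↥N).map N.subtype := by
        rw [Subgroup.map_subtype_commutator, h, ← MonoidHom.range_eq_map, Subgroup.range_subtype]
      have := Subgroup.map_injective (Subgroup.subtype_injective N) hmap
      exact hlt.ne this
    · intro a ha b hb
      rw [not_nontrivial_iff_subsingleton] at hN1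
      have ha1 : (⟨a, ha⟩ : ↥N) = 1 := Subsingleton.elim _ _
      have hb1 : (⟨b, hb⟩ : ↥N) = 1 := Subsingleton.elim _ _
      have ha' : a = 1 := congrArg Subtype.val ha1
      have hb' : b = 1 := congrArg Subtype.val hb1
      rw [ha', hb']

end Cfsg.Agent.Lib.H16.PQ2
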