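import Mathlib
import Cfsg.Prelude.Def_Blocks
import Cfsg.Prelude.Def_Local
import Cfsg.Prelude.Def_Solvable
import Cfsg.Prelude.Def_Characters
import Cfsg.Agent.Lib.L0.CharOps
import Cfsg.Agent.Lib.H26.PSolvableExt

/-!
# S4886 farm-out, piece SL : parametric core (helper16)

`sylow_normal_in_fixed_core` derives (SL) (only `S` normalizes `Y`) from the statement of (SLN)
(`Y` normal in the ambient group), applied in the ambient group `↥(normalizer Y)`.
-/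

set_option autoImplicit false

universe u

namespace Cfsg.Agent.Lib.H16.PQ2

open Cfsg

/-- The statement of SLN, for all ambient groups in universe `u`. -/
def SLNStatement (p q : ℕ) : Prop :=
  ∀ (Γ : Type u) [Group Γ] [Finite Γ] (Y S Q : Subgroup Γ) [Y.Normal],
    IsPGroup p S → (Nat.card Y).Coprime p → IsPSolvable q Y → Q ≤ Y →
    IsPGroup q Q → ¬ q ∣ Q.relIndex Y → (∀ x ∈ Q, ∀ s ∈ S, x * s = s * x) →
    (∀ θ : IrrCharacter Y,
      (∀ s ∈ S, ∀ g g' : Y, (g' : Γ) = s * g * s⁻¹ → (θ : Y → ℂ) g' = (θ : Y → ℂ) g) →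
      ¬ q ∣ charDegree (θ : Y → ℂ)) →
    ∀ c ∈ Y ⊓ Subgroup.centralizer (S : Set Γ), ∀ x ∈ Q, c * x * c⁻¹ ∈ Q

theorem sylow_normal_in_fixed_core (p q : ℕ) (hSLN : SLNStatement.{u} p q)
    {Γ : Type u} [Group Γ] [Finite Γ] (Y S Q : Subgroup Γ)
    (hnorm : ∀ s ∈ S, ∀ y ∈ Y, s * y * s⁻¹ ∈ Y)
    (hS : IsPGroup p S) (hYp : (Nat.card Y).Coprime p) (hYq : IsPSolvable q Y) (hQY : Q ≤ Y)
    (hQ : IsPGroup q Q) (hQsyl : ¬ q ∣ Q.relIndex Y) (hQS : ∀ x ∈ Q, ∀ s ∈ S, x * s = s * x)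
    (hdeg : ∀ θ : IrrCharacter Y,
      (∀ s ∈ S, ∀ g g' : Y, (g' : Γ) = s * g * s⁻¹ → (θ : Y → ℂ) g' = (θ : Y → ℂ) g) →
      ¬ q ∣ charDegree (θ : Y → ℂ)) :
    ∀ c ∈ Y ⊓ Subgroup.centralizer (S : Set Γ), ∀ x ∈ Q, c * x * c⁻¹ ∈ Q := by
  classical
  set N : Subgroup Γ := Subgroup.normalizer (Y : Set Γ) with hN
  have hYN : Y ≤ N := Subgroup.le_normalizer
  have hSN : S ≤ N := by
    intro s hs
    rw [hN, Subgroup.mem_normalizer_iff]
    intro h
    constructor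
    · exact hnorm s hs h
    · intro hh
      have h1 := hnorm s⁻¹ (S.inv_mem hs) _ hh
      have h2 : s⁻¹ * (s * h * s⁻¹) * s⁻¹⁻¹ = h := by group
      rwa [h2] at h1
  haveI hY'n : (Y.subgroupOf N).Normal := Subgroup.normal_in_normalizer
  let e : ↥(Y.subgroupOf N) ≃* ↥Y := Subgroup.subgroupOfEquivOfLe hYN
  have he : ∀ x : ↥(Y.subgroupOf N), ((e x : ↥Y) : Γ) = ((x : ↥N) : Γ) := fun x => rfl
  have hes : ∀ y : ↥Y, (((e.symm y : ↥(Y.subgroupOf N)) : ↥N) : Γ) = (y : Γ) := by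
    intro y
    have := he (e.symm y)
    rw [MulEquiv.apply_symm_apply] at this
    exact this.symm
  have key := hSLN ↥N (Y.subgroupOf N) (S.subgroupOf N) (Q.subgroupOf N)
    hS.comap_subtype
    (by rw [Nat.card_congr e.toEquiv]; exact hYp)
    (Cfsg.Agent.Lib.H26.isPSolvable_of_mulEquiv e.symm hYq)
    (Subgroup.comap_mono hQY)
    hQ.comap_subtype
    (by rw [Subgroup.relIndex_subgroupOf hYN]; exact hQsyl)
    (by
      intro x hx s hs
      apply Subtype.ext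
      exact hQS x.1 (Subgroup.mem_subgroupOf.mp hx) s.1 (Subgroup.mem_subgroupOf.mp hs))
    (by
      intro θ' hinv'
      have hirr : IsIrrCharacter ↥Y ((θ' : ↥(Y.subgroupOf N) → ℂ) ∘ e.symm) :=
        Cfsg.Agent.Lib.L0.isIrrCharacter_comp_of_surjective e.symm.toMonoidHom e.symm.surjective
          θ'.2
      have hd := hdeg ⟨_, hirr⟩ (by
        intro s hs g g' hgg'
        show (θ' : ↥(Y.subgroupOf N) → ℂ) (e.symm g') = (θ' : ↥(Y.subgroupOf N) → ℂ) (e.symm g)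
        refine hinv' ⟨s, hSN hs⟩ (Subgroup.mem_subgroupOf.mpr hs) (e.symm g) (e.symm g') ?_
        apply Subtype.ext
        show (((e.symm g' : ↥(Y.subgroupOf N)) : ↥N) : Γ) =
          s * (((e.symm g : ↥(Y.subgroupOf N)) : ↥N) : Γ) * s⁻¹
        rw [hes, hes, hgg'])
      have hdeq : charDegree (((θ' : ↥(Y.subgroupOf N) → ℂ) ∘ e.symm)) =
          charDegree (θ' : ↥(Y.subgroupOf N) → ℂ) := by
        unfold charDegree
        simp only [Function.comp_apply, map_one]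
      rw [← hdeq]
      exact hd)
  intro c hc x hx
  have hcY : c ∈ Y := (Subgroup.mem_inf.mp hc).1
  have hcS : c ∈ Subgroup.centralizer (S : Set Γ) := (Subgroup.mem_inf.mp hc).2
  have hxN : x ∈ N := hYN (hQY hx)
  have hc' : (⟨c, hYN hcY⟩ : ↥N) ∈
      Y.subgroupOf N ⊓ Subgroup.centralizer ((S.subgroupOf N : Subgroup ↥N) : Set ↥N) := by
    refine Subgroup.mem_inf.mpr ⟨Subgroup.mem_subgroupOf.mpr hcY, ?_⟩
    rw [Subgroup.mem_centralizer_iff]
    intro s hs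
    apply Subtype.ext
    exact Subgroup.mem_centralizer_iff.mp hcS s.1 (Subgroup.mem_subgroupOf.mp hs)
  have := key ⟨c, hYN hcY⟩ hc' ⟨x, hxN⟩ (Subgroup.mem_subgroupOf.mpr hx)
  exact Subgroup.mem_subgroupOf.mp this

end Cfsg.Agent.Lib.H16.PQ2
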