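import Mathlib
import Cfsg.Agent.Lib.H1.CoprimeSylow

/-!
# S4886 farm-out, piece SYLQ (helper16)
-/

set_option autoImplicit false

namespace Cfsg.Agent.Lib.H16.PQ2

/-- SYLQ.  A `p`-group `P₀` normalizing the `p'`-group `Y` and contained in a normal
`q'`-subgroup `B` of `G` centralizes some Sylow `q`-subgroup of `Y`. -/
theorem exists_centralized_sylow {G : Type*} [Group G] [Finite G] (p q : ℕ) [Fact p.Prime]
    [Fact q.Prime] (Y P₀ B : Subgroup G) [B.Normal] (hB : (Nat.card B).Coprime q)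
    (hP₀B : P₀ ≤ B) (hP₀ : IsPGroup p P₀) (hYp : (Nat.card Y).Coprime p)
    (hnorm : ∀ s ∈ P₀, ∀ y ∈ Y, s * y * s⁻¹ ∈ Y) :
    ∃ Q₀ : Subgroup G, Q₀ ≤ Y ∧ IsPGroup q Q₀ ∧ ¬ q ∣ Q₀.relIndex Y ∧
      ∀ x ∈ Q₀, ∀ s ∈ P₀, x * s = s * x := by
  have hq := (Fact.out : q.Prime)
  have hBn : B.Normal := inferInstance
  have hact : Cfsg.Agent.Lib.H1.CoprimeAction P₀ Y := by
    refine ⟨?_, ?_, ?_⟩
    · intro s hs
      rw [Subgroup.mem_normalizer_iff]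
      intro h
      constructor
      · exact hnorm s hs h
      · intro hh
        have h1 := hnorm s⁻¹ (P₀.inv_mem hs) _ hh
        have h2 : s⁻¹ * (s * h * s⁻¹) * s⁻¹⁻¹ = h := by group
        rwa [h2] at h1
    · obtain ⟨k, hk⟩ := IsPGroup.iff_card.mp hP₀
      rw [hk]
      exact Nat.Coprime.pow_left k hYp.symm
    · left
      haveI : Group.IsNilpotent ↥P₀ := hP₀.isNilpotent
      infer_instance
  obtain ⟨Q₀, hQ₀, hQ₀A⟩ := Cfsg.Agent.Lib.H1.coprime_exists_invariant_sylow hact q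
  refine ⟨Q₀, hQ₀.1, hQ₀.isPGroup, ?_, ?_⟩
  · intro hdvd
    have hmul : Nat.card ↥Q₀ * Q₀.relIndex Y = Nat.card ↥Y := by
      have := Subgroup.relIndex_mul_relIndex ⊥ Q₀ Y bot_le hQ₀.1
      rwa [Subgroup.relIndex_bot_left, Subgroup.relIndex_bot_left] at this
    have hYpos : Nat.card ↥Y ≠ 0 := Nat.card_pos.ne'
    have hd : q ^ ((Nat.card ↥Y).factorization q + 1) ∣ Nat.card ↥Y := by
      have h0 : q ^ ((Nat.card ↥Y).factorization q + 1) ∣ Nat.card ↥Q₀ * Q₀.relIndex Y := by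
        rw [hQ₀.2, pow_succ]
        exact Nat.mul_dvd_mul_left _ hdvd
      rwa [hmul] at h0
    exact Nat.pow_succ_factorization_not_dvd hYpos hq hd
  · intro x hx s hs
    have hsN := hQ₀A hs
    have h1 : s * x⁻¹ * s⁻¹ ∈ Q₀ :=
      (Subgroup.mem_normalizer_iff.mp hsN x⁻¹).mp (Q₀.inv_mem hx)
    have hwQ : x * s * x⁻¹ * s⁻¹ ∈ Q₀ := by
      have h2 : x * s * x⁻¹ * s⁻¹ = x * (s * x⁻¹ * s⁻¹) := by group
      rw [h2]
      exact Q₀.mul_mem hx h1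
    have hwB : x * s * x⁻¹ * s⁻¹ ∈ B :=
      B.mul_mem (hBn.conj_mem s (hP₀B hs) x) (B.inv_mem (hP₀B hs))
    have hd1 : orderOf (x * s * x⁻¹ * s⁻¹) ∣ Nat.card ↥Q₀ := Subgroup.orderOf_dvd_natCard Q₀ hwQ
    have hd2 : orderOf (x * s * x⁻¹ * s⁻¹) ∣ Nat.card ↥B := Subgroup.orderOf_dvd_natCard B hwB
    have hcop : (Nat.card ↥B).Coprime (Nat.card ↥Q₀) := by
      rw [hQ₀.2]
      exact Nat.Coprime.pow_right _ hB
    have hone : orderOf (x * s * x⁻¹ * s⁻¹) = 1 := Nat.eq_one_of_dvd_coprimes hcop hd2 hd1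
    have hw1 : x * s * x⁻¹ * s⁻¹ = 1 := orderOf_eq_one_iff.mp hone
    have h3 : x * s = (x * s * x⁻¹ * s⁻¹) * (s * x) := by group
    rw [h3, hw1, one_mul]

end Cfsg.Agent.Lib.H16.PQ2
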