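import Mathlib
import Cfsg.Prelude.Def_Solvable
import Cfsg.Prelude.Def_Transfer
import Cfsg.Agent.Lib.L0.Tate
import Cfsg.Agent.Lib.H1.PGroupBasic
import Cfsg.Agent.Lib.H22.PPrimeCore

/-!
# S4885 farm-out, piece TATE (helper16)
-/

set_option autoImplicit false

namespace Cfsg.Agent.Lib.H16.PQ

open Cfsg

/-- TATE: `N ⊴ G` with `N ∩ P ≤ P'` has a normal `p`-complement, which is characteristic in `N`,
hence inside `O_{p'}(G)`: `|N : N ∩ O_{p'}(G)|` is a power of `p`. -/
theorem relIndex_pPrimeCore_eq_pow {G : Type*} [Group G] [Finite G] (p : ℕ) [Fact p.Prime]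
    (P : Sylow p G) (N : Subgroup G) [N.Normal]
    (h : N ⊓ (P : Subgroup G) ≤ (commutator P).map (P : Subgroup G).subtype) :
    ∃ k : ℕ, (pPrimeCore p G).relIndex N = p ^ k := by
  classical
  have hp := (Fact.out : p.Prime)
  have hN : N.Normal := inferInstance
  have h' : N ⊓ (P : Subgroup G) ≤ (frattini P).map (P : Subgroup G).subtype :=
    h.trans (Subgroup.map_mono (Cfsg.Agent.Lib.H1.isPGroup_commutator_le_frattini P.2))
  obtain ⟨Q, M, hMn, hMQ⟩ := Cfsg.Agent.Lib.L0.tate P N h'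
  obtain ⟨k, hk⟩ := IsPGroup.iff_card.mp Q.2
  have hMidx : M.index = p ^ k := by rw [← hk]; exact hMQ.symm.index_eq_card
  have hMcard : (Nat.card M).Coprime p := by
    have h1 : (Q : Subgroup N).index = Nat.card M := hMQ.index_eq_card
    rw [← h1]
    exact ((Nat.Prime.coprime_iff_not_dvd hp).mpr Q.not_dvd_index).symm
  -- `p'`-elements of `N` lie in `M`
  have hmem : ∀ x : ↥N, (orderOf x).Coprime p → x ∈ M := by
    intro x hx
    haveI := hMn
    have h1 : orderOf (QuotientGroup.mk' M x) ∣ orderOf x := orderOf_map_dvd _ x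
    have h2 : orderOf (QuotientGroup.mk' M x) ∣ p ^ k := by
      rw [← hMidx, Subgroup.index_eq_card]; exact orderOf_dvd_natCard _
    have h3 : orderOf (QuotientGroup.mk' M x) = 1 :=
      (Nat.Coprime.coprime_dvd_left h1 (Nat.Coprime.pow_right k hx)).eq_one_of_dvd h2
    have h4 : QuotientGroup.mk' M x = 1 := orderOf_eq_one_iff.mp h3
    exact (QuotientGroup.eq_one_iff x).mp h4
  have hM'n : (M.map N.subtype).Normal := by
    refine ⟨?_⟩
    rintro _ ⟨m0, hm0, rfl⟩ g
    have hy : g * (m0 : G) * g⁻¹ ∈ N := hN.conj_mem _ m0.2 g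
    refine ⟨⟨_, hy⟩, hmem _ ?_, rfl⟩
    have ho : orderOf (⟨g * (m0 : G) * g⁻¹, hy⟩ : ↥N) = orderOf m0 := by
      rw [← Subgroup.orderOf_coe, ← Subgroup.orderOf_coe m0]
      show orderOf (g * (m0 : G) * g⁻¹) = orderOf (m0 : G)
      exact (MulAut.conj g).orderOf_eq (m0 : G)
    rw [ho]
    exact Nat.Coprime.coprime_dvd_left (Subgroup.orderOf_dvd_natCard M hm0) hMcard
  have hM'card : Nat.card (M.map N.subtype) = Nat.card M :=
    Subgroup.card_map_of_injective (Subgroup.subtype_injective N)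
  have hM'le : M.map N.subtype ≤ pPrimeCore p G :=
    Cfsg.Agent.Lib.H22.le_pPrimeCore p _ hM'n (by rw [hM'card]; exact hMcard)
  have hM'N : M.map N.subtype ≤ N := Subgroup.map_subtype_le M
  have hrel : (M.map N.subtype).relIndex N = p ^ k := by
    rw [← hMidx]
    unfold Subgroup.relIndex
    congr 1
    exact Subgroup.comap_map_eq_self_of_injective (Subgroup.subtype_injective N) M
  have hdvd : (pPrimeCore p G).relIndex N ∣ p ^ k := by
    rw [← hrel, ← Subgroup.inf_relIndex_right (pPrimeCore p G) N]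
    exact Subgroup.relIndex_dvd_of_le_left N (le_inf hM'le hM'N)
  obtain ⟨j, -, hj⟩ := (Nat.dvd_prime_pow hp).mp hdvd
  exact ⟨j, hj⟩

end Cfsg.Agent.Lib.H16.PQ
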