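import Mathlib
import Cfsg.Agent.Lib.H28.PSp4Defs
import Cfsg.Agent.Lib.H12.SL2Syl2

set_option autoImplicit false

/-!
# S5320 piece NQ8 (architect helper28): the quaternion case `|Q| = 8` of a Sylow `2`-subgroup of
`SL₂(q)`: list of elements, commutation up to sign, squares, and `N(Q) = Q ∪ uQ ∪ u²Q`
(adapted from helper12's `Syl2Data.card_normalizer`).
-/

namespace Cfsg.Agent.Lib.H16.PSp4

open Matrix Cfsg.Agent.Lib.H9.SqC Cfsg.Agent.Lib.H28.PSp4 Cfsg.Agent.Lib.H12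

variable {F : Type*} [Field F]

local notation "M2" => Matrix (Fin 2) (Fin 2) F

/-- `w = (1+i)(1+j)` satisfies `w² = 2w - 4` for quaternion units `i, j`. -/
theorem quat_sq (i j : M2) (hii : i * i = -1) (hjj : j * j = -1) (hji : j * i = -(i * j)) :
    ((1 + i) * (1 + j)) * ((1 + i) * (1 + j)) =
      (2 : F) • ((1 + i) * (1 + j)) - (4 : F) • (1 : M2) := by
  have hii' : ∀ z : M2, i * (i * z) = -z := by
    intro z; rw [← mul_assoc, hii, neg_one_mul]
  have hji' : ∀ z : M2, j * (i * z) = -(i * (j * z)) := by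
    intro z; rw [← mul_assoc, hji, neg_mul, mul_assoc]
  have e2 : (2 : F) • ((1 + i) * (1 + j)) = (1 + i) * (1 + j) + (1 + i) * (1 + j) := two_smul _ _
  have e4 : (4 : F) • (1 : M2) = 1 + 1 + 1 + 1 := by
    have : (4 : F) = 1 + 1 + 1 + 1 := by norm_num
    rw [this, add_smul, add_smul, add_smul, one_smul]
  rw [e2, e4]
  simp only [mul_add, add_mul, mul_one, one_mul, mul_assoc, hii, hjj, hji, hii', hji',
    mul_neg, neg_neg]
  abel

/-- `u = (1+i)(1+j)/2` has `u³ = -1`. -/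
theorem quat_cube (h2 : (2 : F) ≠ 0) (i j : M2) (hii : i * i = -1) (hjj : j * j = -1)
    (hji : j * i = -(i * j)) :
    ((2 : F)⁻¹ • ((1 + i) * (1 + j))) * ((2 : F)⁻¹ • ((1 + i) * (1 + j))) *
      ((2 : F)⁻¹ • ((1 + i) * (1 + j))) = -1 := by
  set w : M2 := (1 + i) * (1 + j) with hw
  have hsq : w * w = (2 : F) • w - (4 : F) • (1 : M2) := quat_sq i j hii hjj hji
  have hcube : w * w * w = (-8 : F) • (1 : M2) := by
    rw [hsq, sub_mul, smul_mul_assoc, hsq, smul_mul_assoc, one_mul, smul_sub, smul_smul, smul_smul]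
    have : ((2 : F) * 2) • w - ((2 : F) * 4) • (1 : M2) - (4 : F) • w = (-8 : F) • (1 : M2) := by
      have h4 : (2 : F) * 2 = 4 := by norm_num
      have h8 : (2 : F) * 4 = 8 := by norm_num
      rw [h4, h8, neg_smul]
      abel
    exact this
  rw [smul_mul_smul_comm, smul_mul_smul_comm, hcube, smul_smul]
  have : (2 : F)⁻¹ * (2 : F)⁻¹ * (2 : F)⁻¹ * (-8) = -1 := by
    field_simp
    norm_num
  rw [this, neg_smul, one_smul]

theorem normalizer_Q8 [Fintype F] (hodd : Odd (Fintype.card F)) (Q : Sylow 2 (SL2 F))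
    {x s₀ : SL2 F} (h : Syl2Data (Q : Subgroup (SL2 F)) x s₀)
    (h8 : Nat.card (Q : Subgroup (SL2 F)) = 8) :
    (∀ q ∈ (Q : Subgroup (SL2 F)), q = 1 ∨ q = -1 ∨ q = x ∨ q = -x ∨ q = s₀ ∨ q = -s₀ ∨
      q = x * s₀ ∨ q = -(x * s₀)) ∧
    (∀ a ∈ (Q : Subgroup (SL2 F)), ∀ b ∈ (Q : Subgroup (SL2 F)),
      a * b = b * a ∨ a * b = -(b * a)) ∧
    (∀ q ∈ (Q : Subgroup (SL2 F)), q * q = 1 ∨ q * q = -1) ∧
    ∃ u : SL2 F,
      (u : Matrix (Fin 2) (Fin 2) F) = (2 : F)⁻¹ • ((1 + (x : Matrix (Fin 2) (Fin 2) F)) *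
        (1 + (s₀ : Matrix (Fin 2) (Fin 2) F))) ∧
      u * u * u = -1 ∧
      u ∈ Subgroup.normalizer ((Q : Subgroup (SL2 F)) : Set (SL2 F)) ∧
      ∀ g ∈ Subgroup.normalizer ((Q : Subgroup (SL2 F)) : Set (SL2 F)),
        g ∈ (Q : Subgroup (SL2 F)) ∨ u⁻¹ * g ∈ (Q : Subgroup (SL2 F)) ∨
          u⁻¹ * (u⁻¹ * g) ∈ (Q : Subgroup (SL2 F)) := by
  have h2 : (2 : F) ≠ 0 := two_ne_zero_of_odd hodd
  have ht := h.ht h2
  have hxN := h.nonScalar h2
  have hss : s₀ * s₀ = -1 := mul_self_of_inverts hxN h.sx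
  have hxinv : x⁻¹ = -x := inv_eq_neg_of_mul_self x h.xx
  have hsinv : s₀⁻¹ = -s₀ := inv_eq_neg_of_mul_self s₀ hss
  have hsx' : s₀ * x = -(x * s₀) := by
    calc s₀ * x = (s₀ * x * s₀⁻¹) * s₀ := by group
      _ = -(x * s₀) := by rw [h.sx, hxinv, neg_mul]
  have hii := coe_mul_self_neg_one h.xx
  have hjj := coe_mul_self_neg_one hss
  have hji : (s₀ : M2) * (x : M2) = -((x : M2) * (s₀ : M2)) := by
    rw [← Matrix.SpecialLinearGroup.coe_mul, hsx']
    simp
  have htx := trace_eq_zero_of_mul_self x h.xx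
  have hts := trace_eq_zero_of_mul_self s₀ hss
  obtain ⟨u, hu⟩ : ∃ u : SL2 F, (u : M2) = (2 : F)⁻¹ • ((1 + (x : M2)) * (1 + (s₀ : M2))) :=
    ⟨⟨_, quat_det h2 _ _ x.det_coe s₀.det_coe htx hts⟩, rfl⟩
  have hu1 : u * x = s₀ * u := by
    apply Subtype.ext
    rw [Matrix.SpecialLinearGroup.coe_mul, Matrix.SpecialLinearGroup.coe_mul, hu]
    exact quat_conj₁ _ _ hii hjj hji
  have hu2 : u * s₀ = (x * s₀) * u := by
    apply Subtype.ext
    rw [Matrix.SpecialLinearGroup.coe_mul, Matrix.SpecialLinearGroup.coe_mul,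
      Matrix.SpecialLinearGroup.coe_mul, hu]
    exact quat_conj₂ _ _ hii hjj hji
  have hc1 : u * x * u⁻¹ = s₀ := by rw [hu1]; group
  have hc2 : u * s₀ * u⁻¹ = x * s₀ := by rw [hu2]; group
  have hc1' : u * x⁻¹ * u⁻¹ = s₀⁻¹ := by
    rw [← hc1]; group
  have hc3 : (u * u) * x * (u * u)⁻¹ = x * s₀ := by
    calc (u * u) * x * (u * u)⁻¹ = u * (u * x * u⁻¹) * u⁻¹ := by group
      _ = x * s₀ := by rw [hc1, hc2]
  have hc3' : (u * u) * x⁻¹ * (u * u)⁻¹ = s₀ * x := by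
    calc (u * u) * x⁻¹ * (u * u)⁻¹ = ((u * u) * x * (u * u)⁻¹)⁻¹ := conj_inv_eq _ _
      _ = s₀ * x := by
        rw [hc3, _root_.mul_inv_rev, hxinv, hsinv, neg_mul_neg]
  -- the torus part has order four
  have hcardT : Nat.card ((Q : Subgroup (SL2 F)) ⊓ Subgroup.centralizer ({x} : Set (SL2 F)) :
      Subgroup (SL2 F)) = 4 := by
    have h1 : 2 * Nat.card ((Q : Subgroup (SL2 F)) ⊓ Subgroup.centralizer ({x} : Set (SL2 F)) :
        Subgroup (SL2 F)) = 2 * 4 := (h.card h2).symm.trans h8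
    exact Nat.eq_of_mul_eq_mul_left (by norm_num) h1
  have hT : ∀ t ∈ ((Q : Subgroup (SL2 F)) ⊓ Subgroup.centralizer ({x} : Set (SL2 F)) :
      Subgroup (SL2 F)), t = 1 ∨ t = -1 ∨ t = x ∨ t = x⁻¹ := by
    intro t htT
    have h1 : (⟨t, htT⟩ : ((Q : Subgroup (SL2 F)) ⊓ Subgroup.centralizer ({x} : Set (SL2 F)) :
        Subgroup (SL2 F))) ^ 4 = 1 := by
      rw [← hcardT]
      exact pow_card_eq_one'
    have h3 : t ^ 4 = 1 := by
      have := congrArg Subtype.val h1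
      simpa using this
    have h4 : (t * t) * (t * t) = 1 := by
      rw [← h3]
      norm_num [pow_succ, mul_assoc]
    rcases (sl2_mul_self_eq_one_iff h2 (t * t)).mp h4 with h5 | h5
    · rcases (sl2_mul_self_eq_one_iff h2 t).mp h5 with h6 | h6
      · left; exact h6
      · right; left; exact h6
    · right; right
      apply eq_or_eq_inv_of_trace h2 ht htT.2
      rw [trace_eq_zero_of_mul_self t h5, htx]
  have hdic := h.dic h2
  have hxs : x * s₀ ∈ (Q : Subgroup (SL2 F)) := (Q : Subgroup (SL2 F)).mul_mem h.xS h.sS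
  -- the list
  have hlist : ∀ q ∈ (Q : Subgroup (SL2 F)), q = 1 ∨ q = -1 ∨ q = x ∨ q = -x ∨ q = s₀ ∨
      q = -s₀ ∨ q = x * s₀ ∨ q = -(x * s₀) := by
    intro q hq
    rcases hdic.idx q hq with h1 | h1
    · rcases hT q h1 with h3 | h3 | h3 | h3
      · exact Or.inl h3
      · exact Or.inr (Or.inl h3)
      · exact Or.inr (Or.inr (Or.inl h3))
      · exact Or.inr (Or.inr (Or.inr (Or.inl (by rw [h3, hxinv]))))
    · have hq' : q = s₀ * (s₀⁻¹ * q) := by group
      rcases hT _ h1 with h3 | h3 | h3 | h3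
      · refine Or.inr (Or.inr (Or.inr (Or.inr (Or.inl ?_))))
        rw [hq', h3, mul_one]
      · refine Or.inr (Or.inr (Or.inr (Or.inr (Or.inr (Or.inl ?_)))))
        rw [hq', h3, mul_neg, mul_one]
      · refine Or.inr (Or.inr (Or.inr (Or.inr (Or.inr (Or.inr (Or.inr ?_))))))
        rw [hq', h3, hsx']
      · refine Or.inr (Or.inr (Or.inr (Or.inr (Or.inr (Or.inr (Or.inl ?_))))))
        rw [hq', h3, hxinv, mul_neg, hsx', neg_neg]
  -- squares
  have hxsxs : (x * s₀) * (x * s₀) = -1 := by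
    calc (x * s₀) * (x * s₀) = x * (s₀ * x) * s₀ := by group
      _ = x * (-(x * s₀)) * s₀ := by rw [hsx']
      _ = -((x * x) * (s₀ * s₀)) := by simp only [mul_neg, neg_mul, mul_assoc]
      _ = -1 := by rw [h.xx, hss, neg_mul_neg, mul_one]
  have hsq : ∀ q ∈ (Q : Subgroup (SL2 F)), q * q = 1 ∨ q * q = -1 := by
    intro q hq
    rcases hlist q hq with h3 | h3 | h3 | h3 | h3 | h3 | h3 | h3
    · left; rw [h3, mul_one]
    · left; rw [h3, neg_mul_neg, mul_one]
    · right; rw [h3, h.xx]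
    · right; rw [h3, neg_mul_neg, h.xx]
    · right; rw [h3, hss]
    · right; rw [h3, neg_mul_neg, hss]
    · right; rw [h3, hxsxs]
    · right; rw [h3, neg_mul_neg, hxsxs]
  have hinv : ∀ q ∈ (Q : Subgroup (SL2 F)), q⁻¹ = q ∨ q⁻¹ = -q := by
    intro q hq
    rcases hsq q hq with h3 | h3
    · left; exact inv_eq_of_mul_eq_one_right h3
    · right; exact inv_eq_neg_of_mul_self q h3
  have hcomm : ∀ a ∈ (Q : Subgroup (SL2 F)), ∀ b ∈ (Q : Subgroup (SL2 F)),
      a * b = b * a ∨ a * b = -(b * a) := by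
    intro a ha b hb
    have hab := hsq (a * b) ((Q : Subgroup (SL2 F)).mul_mem ha hb)
    have hba : b * a = a⁻¹ * ((a * b) * (a * b)) * b⁻¹ := by group
    rcases hab with hab | hab <;> rcases hinv a ha with hia | hia <;>
      rcases hinv b hb with hib | hib <;> rw [hab, hia, hib] at hba <;>
      simp only [mul_one, mul_neg, neg_mul, neg_neg] at hba
    · left; exact hba.symm
    · right; rw [hba, neg_neg]
    · right; rw [hba, neg_neg]
    · left; exact hba.symm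
    · right; rw [hba, neg_neg]
    · left; exact hba.symm
    · left; exact hba.symm
    · right; rw [hba, neg_neg]
  have hconjT : ∀ t ∈ ((Q : Subgroup (SL2 F)) ⊓ Subgroup.centralizer ({x} : Set (SL2 F)) :
      Subgroup (SL2 F)), u * t * u⁻¹ ∈ (Q : Subgroup (SL2 F)) := by
    intro t htT
    rcases hT t htT with h1 | h1 | h1 | h1
    · rw [h1]
      have : u * 1 * u⁻¹ = 1 := by group
      rw [this]; exact Subgroup.one_mem _
    · rw [h1, ← h.xx]
      have : u * (x * x) * u⁻¹ = (u * x * u⁻¹) * (u * x * u⁻¹) := by group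
      rw [this, hc1]
      exact (Q : Subgroup (SL2 F)).mul_mem h.sS h.sS
    · rw [h1, hc1]; exact h.sS
    · rw [h1, hc1']; exact (Q : Subgroup (SL2 F)).inv_mem h.sS
  have huN : u ∈ Subgroup.normalizer ((Q : Subgroup (SL2 F)) : Set (SL2 F)) := by
    apply Subgroup.mem_normalizer_fintype
    intro n hn
    rcases hdic.idx n hn with h1 | h1
    · exact hconjT n h1
    · have : u * n * u⁻¹ = (u * s₀ * u⁻¹) * (u * (s₀⁻¹ * n) * u⁻¹) := by group
      rw [this, hc2]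
      exact (Q : Subgroup (SL2 F)).mul_mem hxs (hconjT _ h1)
  have hcube : u * u * u = -1 := by
    apply Subtype.ext
    rw [Matrix.SpecialLinearGroup.coe_mul, Matrix.SpecialLinearGroup.coe_mul, hu]
    rw [quat_cube h2 _ _ hii hjj hji]
    simp
  refine ⟨hlist, hcomm, hsq, u, hu, hcube, huN, ?_⟩
  intro g hgN
  have hyS : g * x * g⁻¹ ∈ (Q : Subgroup (SL2 F)) :=
    (Subgroup.mem_normalizer_iff.mp hgN _).mp h.xS
  have key : ∀ v ∈ Subgroup.normalizer ((Q : Subgroup (SL2 F)) : Set (SL2 F)),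
      (g * x * g⁻¹ = v * x * v⁻¹ ∨ g * x * g⁻¹ = v * x⁻¹ * v⁻¹) →
        v⁻¹ * g ∈ (Q : Subgroup (SL2 F)) := by
    intro v hv hy
    apply h.mem_of_conj h2 (Subgroup.mul_mem _ (Subgroup.inv_mem _ hv) hgN)
    have h1 : v⁻¹ * g * x * (v⁻¹ * g)⁻¹ = v⁻¹ * (g * x * g⁻¹) * v := by group
    rw [h1]
    rcases hy with hy | hy
    · left; rw [hy]; group
    · right; rw [hy]; group
  rcases hdic.idx _ hyS with h1 | h1
  · left
    exact h.mem_of_conj h2 hgN (conj_cases_of_mem h2 ht h1.2)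
  · have hy : g * x * g⁻¹ = s₀ * (s₀⁻¹ * (g * x * g⁻¹)) := by group
    rcases hT _ h1 with h3 | h3 | h3 | h3
    · right; left
      apply key u huN
      left
      rw [hy, h3, hc1, mul_one]
    · right; left
      apply key u huN
      right
      rw [hy, h3, hc1', hsinv, mul_neg, mul_one]
    · right; right
      have := key (u * u) (Subgroup.mul_mem _ huN huN) (Or.inr (by rw [hy, h3, hc3']))
      have h4 : u⁻¹ * (u⁻¹ * g) = (u * u)⁻¹ * g := by group
      rw [h4]; exact this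
    · right; right
      have h5 : s₀ * x⁻¹ = x * s₀ := by
        have : s₀ * x⁻¹ * s₀⁻¹ = x := by
          calc s₀ * x⁻¹ * s₀⁻¹ = (s₀ * x * s₀⁻¹)⁻¹ := by group
            _ = x := by rw [h.sx, inv_inv]
        calc s₀ * x⁻¹ = (s₀ * x⁻¹ * s₀⁻¹) * s₀ := by group
          _ = x * s₀ := by rw [this]
      have := key (u * u) (Subgroup.mul_mem _ huN huN) (Or.inl (by rw [hy, h3, hc3, h5]))
      have h4 : u⁻¹ * (u⁻¹ * g) = (u * u)⁻¹ * g := by group
      rw [h4]; exact this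

end Cfsg.Agent.Lib.H16.PSp4
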