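import Mathlib
import Cfsg.Agent.Lib.H16.PGroupCenter

set_option autoImplicit false
set_option linter.style.haveILetI false

/-!
# S5239 piece CF9 (architect helper22): a group of order `81` with centre of order `3` and an
elementary abelian subgroup of order `27` has a core-free subgroup of order `9`.
-/

namespace Cfsg.Agent.Lib.H16.Pearl

/-- In a finite commutative group of exponent `p`, a nontrivial element is avoided by a subgroup
of index `p` (kernel of a linear functional); `CommGroup` version. -/
theorem exists_index_p_not_mem_comm {A : Type*} [CommGroup A] [Finite A] (p : ℕ) [hp : Fact p.Prime]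
    (hexp : ∀ a : A, a ^ p = 1) (z : A) (hz : z ≠ 1) :
    ∃ K : Subgroup A, z ∉ K ∧ Nat.card A = p * Nat.card K := by
  classical
  haveI iM : Module (ZMod p) (Additive A) := AddCommGroup.zmodModule (n := p) (by
    intro x
    show Additive.ofMul ((Additive.toMul x) ^ p) = 0
    rw [hexp]; rfl)
  have hv : Additive.ofMul z ≠ 0 := by
    intro h
    apply hz
    have : Additive.ofMul z = Additive.ofMul 1 := by rw [h]; rfl
    exact Additive.ofMul.injective this
  have hex := Module.Projective.exists_dual_ne_zero (ZMod p) hv
  obtain ⟨f, hf⟩ := hex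
  let g : A →* Multiplicative (ZMod p) :=
    { toFun := fun a => Multiplicative.ofAdd (f (Additive.ofMul a))
      map_one' := by
        show Multiplicative.ofAdd (f (Additive.ofMul (1 : A))) = 1
        rw [ofMul_one, map_zero]; rfl
      map_mul' := by
        intro a b
        show Multiplicative.ofAdd (f (Additive.ofMul (a * b))) =
          Multiplicative.ofAdd (f (Additive.ofMul a)) * Multiplicative.ofAdd (f (Additive.ofMul b))
        rw [ofMul_mul, map_add]; rfl }
  have hsurj : Function.Surjective g := by
    intro c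
    refine ⟨Additive.toMul ((Multiplicative.toAdd c / f (Additive.ofMul z)) • Additive.ofMul z), ?_⟩
    show Multiplicative.ofAdd (f (Additive.ofMul (Additive.toMul
      ((Multiplicative.toAdd c / f (Additive.ofMul z)) • Additive.ofMul z)))) = c
    rw [ofMul_toMul, map_smul, smul_eq_mul, div_mul_cancel₀ _ hf]
    rfl
  refine ⟨g.ker, ?_, ?_⟩
  · intro hzk
    apply hf
    have h1 : g z = 1 := MonoidHom.mem_ker.mp hzk
    have h2 : Multiplicative.ofAdd (f (Additive.ofMul z)) = Multiplicative.ofAdd 0 := h1
    exact Multiplicative.ofAdd.injective h2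
  · have h1 := Subgroup.index_ker g
    have h2 := Subgroup.card_mul_index g.ker
    have h3 : Nat.card g.range = p := by
      rw [MonoidHom.range_eq_top.mpr hsurj, Subgroup.card_top,
        Nat.card_congr Multiplicative.toAdd, Nat.card_zmod]
    rw [h1, h3] at h2
    rw [← h2, mul_comm]

/-- `Group` version with a commutativity hypothesis. -/
theorem exists_index_p_not_mem {A : Type*} [iG : Group A] [Finite A] (p : ℕ) [hp : Fact p.Prime]
    (hc : ∀ a b : A, a * b = b * a) (hexp : ∀ a : A, a ^ p = 1) (z : A) (hz : z ≠ 1) :
    ∃ K : Subgroup A, z ∉ K ∧ Nat.card A = p * Nat.card K :=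
  @exists_index_p_not_mem_comm A { iG with mul_comm := hc } _ p hp hexp z hz

theorem exists_coreFree_nine {G : Type*} [Group G] [Finite G] (hG : Nat.card G = 81)
    (hZ : Nat.card ↥(Subgroup.center G) = 3) (A : Subgroup G) (hA : Nat.card ↥A = 27)
    (hAab : ∀ a ∈ A, ∀ b ∈ A, a * b = b * a) (hAexp : ∀ a ∈ A, a ^ 3 = 1) :
    ∃ B : Subgroup G, Nat.card ↥B = 9 ∧ B.normalCore = ⊥ := by
  classical
  have : Fact (Nat.Prime 3) := ⟨Nat.prime_three⟩
  have hP : IsPGroup 3 G := IsPGroup.of_card (n := 4) (by rw [hG]; norm_num)
  -- `A` is normal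
  have hidx : A.index = 3 := by
    have := Subgroup.card_mul_index A
    rw [hA, hG] at this
    omega
  have hAn : A.Normal := by
    apply Subgroup.normal_of_index_eq_minFac_card
    rw [hidx, hG]
    norm_num
  have hAne : A ≠ ⊥ := by
    intro h
    rw [h, Subgroup.card_bot] at hA
    omega
  -- a central element of `A`
  obtain ⟨x, hxA, hx1, hxZ⟩ := exists_ne_one_mem_center_of_normal' Nat.prime_three hP A hAne
  -- the centre is generated by `x`
  have hZA : Subgroup.center G ≤ A := by
    intro y hy
    have hx' : (⟨x, hxZ⟩ : Subgroup.center G) ≠ 1 := by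
      intro h
      exact hx1 (congrArg Subtype.val h)
    have := mem_zpowers_of_prime_card (p := 3) hZ hx' (g' := ⟨y, hy⟩)
    obtain ⟨k, hk⟩ := Subgroup.mem_zpowers_iff.mp this
    have hk' : x ^ k = y := by
      have := congrArg Subtype.val hk
      simpa using this
    rw [← hk']
    exact A.zpow_mem hxA k
  -- a subgroup of index three of `A` avoiding `x`
  obtain ⟨K, hxK, hK⟩ := exists_index_p_not_mem (A := ↥A) 3
    (fun a b => Subtype.ext (hAab a a.2 b b.2))
    (fun a => Subtype.ext (by
      rw [Subgroup.coe_pow, Subgroup.coe_one]; exact hAexp a a.2))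
    ⟨x, hxA⟩ (fun h => hx1 (congrArg Subtype.val h))
  have hKc : Nat.card K = 9 := by
    rw [hA] at hK
    omega
  refine ⟨K.map A.subtype, ?_, ?_⟩
  · rw [Subgroup.card_map_of_injective A.subtype_injective, hKc]
  · by_contra hne
    have : (K.map A.subtype).normalCore.Normal := Subgroup.normalCore_normal _
    obtain ⟨y, hyN, hy1, hyZ⟩ := exists_ne_one_mem_center_of_normal' Nat.prime_three hP
      (K.map A.subtype).normalCore hne
    -- `x` is a power of `y`
    have hy' : (⟨y, hyZ⟩ : Subgroup.center G) ≠ 1 := by
      intro h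
      exact hy1 (congrArg Subtype.val h)
    have := mem_zpowers_of_prime_card (p := 3) hZ hy' (g' := ⟨x, hxZ⟩)
    obtain ⟨k, hk⟩ := Subgroup.mem_zpowers_iff.mp this
    have hk' : y ^ k = x := by
      have := congrArg Subtype.val hk
      simpa using this
    have hyB : y ∈ K.map A.subtype := Subgroup.normalCore_le _ hyN
    have hxB : x ∈ K.map A.subtype := by
      rw [← hk']
      exact Subgroup.zpow_mem _ hyB k
    obtain ⟨w, hwK, hw⟩ := hxB
    apply hxK
    have : w = ⟨x, hxA⟩ := Subtype.ext hw
    rw [← this]
    exact hwK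

end Cfsg.Agent.Lib.H16.Pearl
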