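import Mathlib

set_option autoImplicit false

/-!
# S5239 piece SYL9 (architect helper22): a group of order `81` with a core-free subgroup of order `9`
is isomorphic to a Sylow `3`-subgroup of `Sym(9)`.
-/

namespace Cfsg.Agent.Lib.H16.Pearl

theorem factorization_card_perm_nine :
    (Nat.card (Equiv.Perm (Fin 9))).factorization 3 = 4 := by
  have h1 : Nat.card (Equiv.Perm (Fin 9)) = 3 ^ 4 * 4480 := by
    rw [Nat.card_eq_fintype_card, Fintype.card_perm, Fintype.card_fin]
    decide
  rw [h1, Nat.factorization_mul (by norm_num) (by norm_num)]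
  simp only [Finsupp.coe_add, Pi.add_apply]
  rw [Nat.Prime.factorization_pow Nat.prime_three]
  simp only [Finsupp.single_eq_same]
  rw [Nat.factorization_eq_zero_of_not_dvd (by norm_num)]

theorem exists_mulEquiv_sylow_perm_nine {G : Type*} [Group G] [Finite G] (hG : Nat.card G = 81)
    (B : Subgroup G) (hB : Nat.card ↥B = 9) (hcore : B.normalCore = ⊥) :
    ∃ W : Sylow 3 (Equiv.Perm (Fin 9)), Nonempty (G ≃* ↥(W : Subgroup (Equiv.Perm (Fin 9)))) := by
  classical
  let φ : G →* Equiv.Perm (G ⧸ B) := MulAction.toPermHom G (G ⧸ B)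
  have hker : φ.ker = B.normalCore := (Subgroup.normalCore_eq_ker B).symm
  have hinj : Function.Injective φ := by
    rw [← MonoidHom.ker_eq_bot_iff, hker, hcore]
  have hidx : Nat.card (G ⧸ B) = 9 := by
    have := Subgroup.card_eq_card_quotient_mul_card_subgroup B
    rw [hG, hB] at this
    omega
  obtain ⟨e⟩ : Nonempty (G ⧸ B ≃ Fin 9) := ⟨Finite.equivFinOfCardEq hidx⟩
  let ψ : Equiv.Perm (G ⧸ B) ≃* Equiv.Perm (Fin 9) := e.permCongrHom
  let f : G →* Equiv.Perm (Fin 9) := ψ.toMonoidHom.comp φ
  have hf : Function.Injective f := ψ.injective.comp hinj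
  have hcardH : Nat.card f.range = 81 := by
    rw [← hG]
    exact (Nat.card_congr (MonoidHom.ofInjective hf).toEquiv).symm
  refine ⟨Sylow.ofCard f.range (by rw [hcardH, factorization_card_perm_nine]; norm_num),
    ⟨MonoidHom.ofInjective hf⟩⟩

end Cfsg.Agent.Lib.H16.Pearl
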