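import Mathlib
import Cfsg.Agent.Lib.H16.AutIndexTwo

/-! Normal subgroups of generalized quaternion groups of order at least 32 have 2-group
automorphism groups (helper16), in an abstract form. -/

set_option autoImplicit false

namespace Cfsg.Agent.Lib.H16

/-- Let `X` be a finite 2-group with an element `x₀` of order `> 8` generating a subgroup of
index two, such that every element outside `⟨x₀⟩` has order four and inverts `x₀`.  Then every
normal subgroup of `X` has a 2-group as automorphism group. -/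
theorem isPGroup_mulAut_of_normal_of_quaternionLike {X : Type*} [Group X] [Finite X]
    (h2 : IsPGroup 2 X) (x₀ : X) (hcard : Nat.card X = 2 * orderOf x₀) (hord : 8 < orderOf x₀)
    (hy : ∀ y : X, y ∉ Subgroup.zpowers x₀ → orderOf y = 4 ∧ y * x₀ * y⁻¹ = x₀⁻¹)
    (Q : Subgroup X) [hQn : Q.Normal] : IsPGroup 2 (MulAut Q) := by
  have hQ2 : IsPGroup 2 Q := h2.to_subgroup Q
  by_cases hle : Q ≤ Subgroup.zpowers x₀
  · haveI : IsCyclic Q :=
      isCyclic_of_injective (Subgroup.inclusion hle) (Subgroup.inclusion_injective hle)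
    exact isPGroup_mulAut_of_isCyclic hQ2
  · rw [SetLike.not_le_iff_exists] at hle
    obtain ⟨y, hyQ, hyx⟩ := hle
    obtain ⟨hy4, hyinv⟩ := hy y hyx
    -- x₀² ∈ Q
    have hsq : x₀ ^ 2 ∈ Q := by
      have h1 : x₀ * y * x₀⁻¹ ∈ Q := hQn.conj_mem y hyQ x₀
      have h2' : x₀ * y * x₀⁻¹ * y⁻¹ ∈ Q := Q.mul_mem h1 (Q.inv_mem hyQ)
      have h3 : y * x₀⁻¹ * y⁻¹ = x₀ := by
        calc y * x₀⁻¹ * y⁻¹ = (y * x₀ * y⁻¹)⁻¹ := by group
          _ = x₀ := by rw [hyinv, inv_inv]
      have h4 : x₀ * y * x₀⁻¹ * y⁻¹ = x₀ ^ 2 := by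
        calc x₀ * y * x₀⁻¹ * y⁻¹ = x₀ * (y * x₀⁻¹ * y⁻¹) := by group
          _ = x₀ ^ 2 := by rw [h3, pow_two]
      rwa [h4] at h2'
    -- the cyclic subgroup C' = ⟨x₀⟩ ∩ Q of Q
    set C' : Subgroup Q := (Subgroup.zpowers x₀).subgroupOf Q with hC'
    have hidx0 : (Subgroup.zpowers x₀).index = 2 := zpowers_index_two x₀ hcard
    haveI hnorm : (Subgroup.zpowers x₀).Normal := Subgroup.normal_of_index_eq_two hidx0
    have hidx : C'.index = 2 := by
      have h1 : (Subgroup.zpowers x₀).relIndex Q ∣ (Subgroup.zpowers x₀).index :=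
        Subgroup.relIndex_dvd_index_of_normal _ _
      rw [hidx0] at h1
      have h3 : (Subgroup.zpowers x₀).relIndex Q ≠ 1 := by
        intro h
        rw [Subgroup.relIndex_eq_one] at h
        exact hyx (h hyQ)
      have h4 := (Nat.dvd_prime Nat.prime_two).mp h1
      rcases h4 with h4 | h4
      · exact absurd h4 h3
      · exact h4
    have hCcyc : IsCyclic C' := by
      let g : C' →* Subgroup.zpowers x₀ :=
        MonoidHom.codRestrict (Q.subtype.comp C'.subtype) (Subgroup.zpowers x₀)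
          (fun c => Subgroup.mem_subgroupOf.mp c.2)
      apply isCyclic_of_injective g
      intro a b hab
      have := congrArg Subtype.val hab
      exact Subtype.ext (Subtype.ext this)
    obtain ⟨c, hc⟩ := (Subgroup.isCyclic_iff_exists_zpowers_eq_top C').mp hCcyc
    have hcardQ : Nat.card Q = 2 * orderOf c := by
      have h1 := Subgroup.card_mul_index C'
      rw [hidx, ← hc, Nat.card_zpowers] at h1
      omega
    apply isPGroup_mulAut_of_cyclic_index_two hQ2 c hcardQ
    intro g hg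
    have hgx : (g : X) ∉ Subgroup.zpowers x₀ := by
      intro h
      apply hg
      rw [hc]
      exact Subgroup.mem_subgroupOf.mpr h
    have hg4 : orderOf (g : X) = 4 := (hy _ hgx).1
    rw [← Subgroup.orderOf_coe g, hg4]
    intro h4
    -- x₀² ∈ ⟨c⟩
    have hmem : (⟨x₀ ^ 2, hsq⟩ : Q) ∈ Subgroup.zpowers c := by
      rw [hc]
      exact Subgroup.mem_subgroupOf.mpr (Subgroup.pow_mem _ (Subgroup.mem_zpowers x₀) 2)
    obtain ⟨k, hk⟩ := Subgroup.mem_zpowers_iff.mp hmem
    have hc4 : c ^ 4 = 1 := by rw [h4]; exact pow_orderOf_eq_one c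
    have h5 : (⟨x₀ ^ 2, hsq⟩ : Q) ^ 4 = 1 := by
      rw [← hk, ← zpow_natCast, ← zpow_mul, mul_comm, zpow_mul, zpow_natCast, hc4, one_zpow]
    have h6 : (x₀ ^ 2) ^ 4 = 1 := by
      have := congrArg Subtype.val h5
      simpa using this
    rw [← pow_mul] at h6
    have h7 : orderOf x₀ ∣ 8 := orderOf_dvd_of_pow_eq_one h6
    have := Nat.le_of_dvd (by norm_num) h7
    omega

end Cfsg.Agent.Lib.H16
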