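import Mathlib
import Cfsg.Prelude
import Cfsg.Agent.Lib.H16.R2ActB
import Cfsg.Agent.Lib.H16.RankTwoB
import Cfsg.Agent.Lib.H16.CommHom
import Cfsg.Agent.Lib.H16.NarrowC

set_option autoImplicit false

/-!
# Automorphism groups of order prime to `p (p - 1)` of `p`-groups of rank at most two, part E

Case B: the characteristic subgroup `W` (exponent `p`, class two) is nonabelian.  First part:
the structure of `W` (order `p ^ 3`, centre of order `p`).
-/

namespace Cfsg.Agent.Lib.H16.R2A

open scoped commutatorElement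
open Cfsg.Agent.Lib.H16 Cfsg.Agent.Lib.H16.AutAct Cfsg.Agent.Lib.H16.Narrow

universe u

/-- The subgroup generated by commuting elements of order dividing `p` is elementary abelian. -/
theorem elemAb_closure {P : Type u} [Group P] {p : ℕ} {S : Set P} (hS : ∀ y ∈ S, y ^ p = 1)
    (hSS : ∀ x ∈ S, ∀ y ∈ S, x * y = y * x) :
    Cfsg.IsElementaryAbelian p (Subgroup.closure S) := by
  have hBc : IsMulCommutative (Subgroup.closure S) := Subgroup.isMulCommutative_closure hSS
  refine ⟨hBc, ?_⟩
  intro b hb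
  induction hb using Subgroup.closure_induction with
  | mem x hx => exact hS x hx
  | one => exact one_pow _
  | mul x y hx hy hx' hy' =>
    have hc : Commute x y := congrArg Subtype.val
      (hBc.is_comm.comm (⟨x, hx⟩ : Subgroup.closure S) ⟨y, hy⟩)
    rw [hc.mul_pow, hx', hy', one_mul]
  | inv x _ hx => rw [inv_pow, hx, inv_one]

/-- The hypotheses of Case B. -/
structure CaseB (P : Type u) [Group P] (p : ℕ) (𝒳 : Subgroup (MulAut P)) (W : Subgroup P) :
    Prop where
  good : Good P p 𝒳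
  hWchar : W.Characteristic
  hWexp : ∀ w ∈ W, w ^ p = 1
  hWcl : ∀ x ∈ W, ∀ y ∈ W, ∀ z ∈ W, Commute ⁅x, y⁆ z
  hnt : ¬ ∀ x ∈ 𝒳, ∀ w ∈ W, x w = w

namespace CaseB

variable {P : Type u} [Group P] [Finite P] {p : ℕ} [hp : Fact p.Prime]
  {𝒳 : Subgroup (MulAut P)} {W : Subgroup P}

theorem inv (S : CaseB P p 𝒳 W) : Inv 𝒳 W := by
  haveI := S.hWchar
  exact Inv.of_characteristic 𝒳 W

theorem normal (S : CaseB P p 𝒳 W) : W.Normal := by
  haveI := S.hWchar
  infer_instance

theorem comm_mem_zOf (S : CaseB P p 𝒳 W) {a b : P} (ha : a ∈ W) (hb : b ∈ W) :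
    ⁅a, b⁆ ∈ zOf W := by
  rw [mem_zOf]
  refine ⟨?_, fun d hd => ((S.hWcl a ha b hb d hd).eq).symm⟩
  rw [commutatorElement_def]
  exact W.mul_mem (W.mul_mem (W.mul_mem ha hb) (W.inv_mem ha)) (W.inv_mem hb)

/-- The structure of `W`. -/
theorem struct (S : CaseB P p 𝒳 W) {x y : P} (hx : x ∈ W) (hy : y ∈ W) (hxy : x * y ≠ y * x) :
    Nat.card (zOf W) = p ∧ Nat.card (zOf W ⊔ Subgroup.zpowers x : Subgroup P) = p ^ 2 ∧
      Nat.card W = p ^ 3 ∧ (zOf W ⊔ Subgroup.zpowers x) ⊔ Subgroup.zpowers y = W ∧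
      Cfsg.IsElementaryAbelian p (zOf W ⊔ Subgroup.zpowers x : Subgroup P) := by
  have hG := S.good
  set Z : Subgroup P := zOf W with hZ
  set E : Subgroup P := Z ⊔ Subgroup.zpowers x with hE
  have hZW : Z ≤ W := zOf_le W
  have hEW : E ≤ W := sup_le hZW (by rw [Subgroup.zpowers_le]; exact hx)
  have hEcl : E = Subgroup.closure ((Z : Set P) ∪ {x}) := by
    rw [Subgroup.closure_union, Subgroup.closure_eq, ← Subgroup.zpowers_eq_closure]
  have hEel : Cfsg.IsElementaryAbelian p E := by
    rw [hEcl]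
    apply elemAb_closure
    · rintro a (ha | ha)
      · exact S.hWexp a (hZW ha)
      · rw [Set.mem_singleton_iff.mp ha]
        exact S.hWexp x hx
    · rintro a (ha | ha) b (hb | hb)
      · exact (mem_zOf.mp hb).2 a (hZW ha)
      · rw [Set.mem_singleton_iff.mp hb]
        exact ((mem_zOf.mp ha).2 x hx).symm
      · rw [Set.mem_singleton_iff.mp ha]
        exact (mem_zOf.mp hb).2 x hx
      · rw [Set.mem_singleton_iff.mp ha, Set.mem_singleton_iff.mp hb]
  have hEle : Nat.card E ≤ p ^ 2 := hG.hr E hEel.1 hEel.2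
  have hcZ : ⁅x, y⁆ ∈ Z := S.comm_mem_zOf hx hy
  have hc1 : ⁅x, y⁆ ≠ 1 := fun h => hxy (commutatorElement_eq_one_iff_mul_comm.mp h)
  have hZne : Z ≠ ⊥ := by
    intro h
    rw [h, Subgroup.mem_bot] at hcZ
    exact hc1 hcZ
  have hxZ : x ∉ Z := by
    intro h
    exact hxy ((mem_zOf.mp h).2 y hy).symm
  have hxE : x ∈ E := (le_sup_right : Subgroup.zpowers x ≤ E) (Subgroup.mem_zpowers x)
  have hZE : Z < E := lt_of_le_of_ne le_sup_left (fun h => hxZ (h ▸ hxE))
  obtain ⟨a, ha⟩ := IsPGroup.iff_card.mp (hG.hP.to_subgroup Z)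
  obtain ⟨b, hb⟩ := IsPGroup.iff_card.mp (hG.hP.to_subgroup E)
  have hab : a < b := by
    have := RankTwo.card_lt_of_lt hZE
    rw [ha, hb] at this
    exact (Nat.pow_lt_pow_iff_right hp.out.one_lt).mp this
  have hb2 : b ≤ 2 := by
    rw [hb] at hEle
    exact (Nat.pow_le_pow_iff_right hp.out.one_lt).mp hEle
  have ha1 : 1 ≤ a := by
    by_contra h
    have h0 : a = 0 := by omega
    rw [h0, pow_zero] at ha
    exact hZne (Subgroup.card_eq_one.mp ha)
  have ha' : a = 1 := by omega
  have hb' : b = 2 := by omega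
  rw [ha', pow_one] at ha
  rw [hb'] at hb
  have hEmax : ∀ B : Subgroup P, Cfsg.IsElementaryAbelian p B → E ≤ B → B = E := by
    intro B hB hEB
    apply (Subgroup.eq_of_le_of_card_ge hEB _).symm
    rw [hb]
    exact hG.hr B hB.1 hB.2
  have hEcent : E ≤ Subgroup.centralizer ({x} : Set P) := by
    apply sup_le
    · intro z hz
      rw [Subgroup.mem_centralizer_singleton_iff]
      exact ((mem_zOf.mp hz).2 x hx).symm
    · rw [Subgroup.zpowers_le, Subgroup.mem_centralizer_singleton_iff]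
  have hcentE : Subgroup.centralizer ({x} : Set P) ⊓ W = E := by
    apply le_antisymm
    · rintro y' ⟨hy'c, hy'W⟩
      have hy'x : y' * x = x * y' := Subgroup.mem_centralizer_singleton_iff.mp hy'c
      apply mem_of_max E hEel hEmax (S.hWexp y' hy'W)
      have hle : E ≤ Subgroup.centralizer ({y'} : Set P) := by
        apply sup_le
        · intro z hz
          rw [Subgroup.mem_centralizer_singleton_iff]
          exact ((mem_zOf.mp hz).2 y' hy'W).symm
        · rw [Subgroup.zpowers_le, Subgroup.mem_centralizer_singleton_iff]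
          exact hy'x.symm
      intro e he
      exact (Subgroup.mem_centralizer_singleton_iff.mp (hle he)).symm
    · exact le_inf hEcent hEW
  have hrel : (Subgroup.centralizer ({x} : Set P)).relIndex W = p := by
    apply relIndex_centralizer_eq_prime hp.out W Z x ha
    · intro k hk
      exact S.comm_mem_zOf hk hx
    · intro d hd
      exact ((mem_zOf.mp hd).2 x hx).symm
    · intro d hd k hk
      exact ((mem_zOf.mp hd).2 k hk).symm
    · exact ⟨y, hy, fun h => hxy h.symm⟩
  have hWcard : Nat.card W = p ^ 3 := by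
    have h1 := card_inf_mul_relIndex (Subgroup.centralizer ({x} : Set P)) W
    rw [hcentE, hb, hrel] at h1
    rw [← h1]
    ring
  have hyE : y ∉ E := by
    intro h
    have := hEcent h
    rw [Subgroup.mem_centralizer_singleton_iff] at this
    exact hxy this.symm
  have hsup : E ⊔ Subgroup.zpowers y = W := by
    have hle : E ⊔ Subgroup.zpowers y ≤ W := sup_le hEW (by rw [Subgroup.zpowers_le]; exact hy)
    have hyT : y ∈ E ⊔ Subgroup.zpowers y :=
      (le_sup_right : Subgroup.zpowers y ≤ E ⊔ Subgroup.zpowers y) (Subgroup.mem_zpowers y)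
    have hlt : E < E ⊔ Subgroup.zpowers y :=
      lt_of_le_of_ne le_sup_left (fun h => hyE (h ▸ hyT))
    obtain ⟨d, hd⟩ := IsPGroup.iff_card.mp (hG.hP.to_subgroup (E ⊔ Subgroup.zpowers y))
    have h1 := RankTwo.card_lt_of_lt hlt
    rw [hb, hd] at h1
    have h2 : 2 < d := (Nat.pow_lt_pow_iff_right hp.out.one_lt).mp h1
    apply Subgroup.eq_of_le_of_card_ge hle
    rw [hWcard, hd]
    exact Nat.pow_le_pow_right hp.out.pos h2
  exact ⟨ha, hb, hWcard, hsup, hEel⟩

end CaseB

end Cfsg.Agent.Lib.H16.R2A
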