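import Mathlib
import Cfsg.Prelude
import Cfsg.Agent.Lib.H16.R2ActE
import Cfsg.Agent.Lib.H15.RankOne

set_option autoImplicit false

/-!
# Automorphism groups of order prime to `p (p - 1)` of `p`-groups of rank at most two, part F

Case B, second part: `P = W` has order `p ^ 3`.
-/

namespace Cfsg.Agent.Lib.H16.R2A

open scoped commutatorElement
open Cfsg.Agent.Lib.H16 Cfsg.Agent.Lib.H16.AutAct Cfsg.Agent.Lib.H16.Narrow

universe u

namespace CaseB

variable {P : Type u} [Group P] [Finite P] {p : ℕ} [hp : Fact p.Prime]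
  {𝒳 : Subgroup (MulAut P)} {W : Subgroup P}

/-- `Z(W)` is fixed elementwise by `𝒳` and central in `P`. -/
theorem center_fixed (S : CaseB P p 𝒳 W) {x y : P} (hx : x ∈ W) (hy : y ∈ W)
    (hxy : x * y ≠ y * x) :
    (∀ t ∈ 𝒳, ∀ z ∈ zOf W, t z = z) ∧ ∀ z ∈ zOf W, ∀ g : P, z * g = g * z := by
  have := S.normal
  obtain ⟨hZc, -, -, -, -⟩ := S.struct hx hy hxy
  have hfix := S.good.step_bot (zOf_normal W) S.inv.zOf hZc
  exact ⟨hfix, S.good.central_of_fixed (zOf W) hfix⟩

/-- `[W, P] ≤ Z(W)`. -/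
theorem comm_mem (S : CaseB P p 𝒳 W) {x y : P} (hx : x ∈ W) (hy : y ∈ W)
    (hxy : x * y ≠ y * x) : ∀ w ∈ W, ∀ g : P, ⁅w, g⁆ ∈ zOf W := by
  have hWn := S.normal
  have hG := S.good
  obtain ⟨hZc, -, hWc, -, -⟩ := S.struct hx hy hxy
  obtain ⟨hfixZ, -⟩ := S.center_fixed hx hy hxy
  have hZn : (zOf W).Normal := zOf_normal W
  have hZi : Inv 𝒳 (zOf W) := S.inv.zOf
  set Y : Subgroup P :=
    W ⊓ (Subgroup.center (P ⧸ zOf W)).comap (QuotientGroup.mk' (zOf W)) with hY
  have hYn : Y.Normal := inferInstance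
  have hYi : Inv 𝒳 Y :=
    inv_inf S.inv (inv_comap_mk' hZi (Inv.of_characteristic (qAut 𝒳 (zOf W) hZi) _))
  have hYW : Y ≤ W := inf_le_left
  have hZY : zOf W ≤ Y := by
    intro z hz
    refine Subgroup.mem_inf.mpr ⟨zOf_le W hz, ?_⟩
    rw [Subgroup.mem_comap, QuotientGroup.mk'_apply, (QuotientGroup.eq_one_iff z).mpr hz]
    exact Subgroup.one_mem _
  have hxZ : x ∉ zOf W := by
    intro h
    exact hxy ((mem_zOf.mp h).2 y hy).symm
  have hex : ∃ w ∈ Y, w ∉ zOf W := by
    set N : Subgroup (P ⧸ zOf W) := W.map (QuotientGroup.mk' (zOf W)) with hN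
    have hNn : N.Normal :=
      Subgroup.Normal.map hWn (QuotientGroup.mk' (zOf W)) (QuotientGroup.mk'_surjective _)
    have hNne : N ≠ ⊥ := by
      intro h
      have h1 : (QuotientGroup.mk' (zOf W)) x ∈ N := Subgroup.mem_map_of_mem _ hx
      rw [h, Subgroup.mem_bot, QuotientGroup.mk'_apply, QuotientGroup.eq_one_iff] at h1
      exact hxZ h1
    obtain ⟨q, hqN, hq1, hqc⟩ :=
      exists_ne_one_mem_center_of_normal' hp.out (hG.hP.to_quotient (zOf W)) N hNne
    obtain ⟨w, hw, rfl⟩ := hqN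
    refine ⟨w, Subgroup.mem_inf.mpr ⟨hw, hqc⟩, ?_⟩
    intro h
    apply hq1
    rw [QuotientGroup.mk'_apply]
    exact (QuotientGroup.eq_one_iff w).mpr h
  obtain ⟨w₀, hw₀Y, hw₀Z⟩ := hex
  have hZltY : zOf W < Y := lt_of_le_of_ne hZY (fun h => hw₀Z (h ▸ hw₀Y))
  obtain ⟨j, hj⟩ := IsPGroup.iff_card.mp (hG.hP.to_subgroup Y)
  have hj1 : 1 < j := by
    have := RankTwo.card_lt_of_lt hZltY
    rw [hZc, hj] at this
    have h1 : p ^ 1 < p ^ j := by rwa [pow_one]
    exact (Nat.pow_lt_pow_iff_right hp.out.one_lt).mp h1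
  have hj3 : j ≤ 3 := by
    have := Subgroup.card_le_of_le hYW
    rw [hj, hWc] at this
    exact (Nat.pow_le_pow_iff_right hp.out.one_lt).mp this
  have hjne : j ≠ 2 := by
    intro h
    apply S.hnt
    have hfixY := hG.step hZY hZn hYn hZi hYi (by rw [hj, h, hZc, sq]) hfixZ
    apply hG.step hYW hYn hWn hYi S.inv _ hfixY
    rw [hWc, hj, h]
    ring
  have hYeq : Y = W := by
    apply Subgroup.eq_of_le_of_card_ge hYW
    rw [hWc, hj]
    have : j = 3 := by omega
    rw [this]
  intro w hw g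
  have hwY : w ∈ Y := hYeq ▸ hw
  have hwc : ((w : P) : P ⧸ zOf W) ∈ Subgroup.center (P ⧸ zOf W) :=
    (Subgroup.mem_inf.mp hwY).2
  apply (QuotientGroup.eq_one_iff _).mp
  rw [← QuotientGroup.mk'_apply, map_commutatorElement, commutatorElement_eq_one_iff_mul_comm]
  exact (Subgroup.mem_center_iff.mp hwc _).symm

/-- `P = W C_P(W)`. -/
theorem sup_centralizer (S : CaseB P p 𝒳 W) {x y : P} (hx : x ∈ W) (hy : y ∈ W)
    (hxy : x * y ≠ y * x) : W ⊔ Subgroup.centralizer (W : Set P) = ⊤ := by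
  have hWn := S.normal
  have := S.hWchar
  have hG := S.good
  obtain ⟨hZc, -, hWc, hsup, -⟩ := S.struct hx hy hxy
  obtain ⟨-, hcentral⟩ := S.center_fixed hx hy hxy
  have hcm := S.comm_mem hx hy hxy
  set C : Subgroup P := Subgroup.centralizer (W : Set P) with hC
  have hCchar : C.Characteristic := Subgroup.characteristic_centralizer
  have hCn : C.Normal := inferInstance
  have hidx : ∀ w ∈ W, (Subgroup.centralizer ({w} : Set P)).index ≤ p := by
    intro w hw
    have h1 := relIndex_centralizer_dvd_card (⊤ : Subgroup P) (zOf W) w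
      (fun k _ => by
        rw [← commutatorElement_inv]
        exact Subgroup.inv_mem _ (hcm w hw k))
      (fun d hd => hcentral d hd w)
      (fun d hd k _ => hcentral d hd k)
    rw [Subgroup.relIndex_top_right, hZc] at h1
    exact Nat.le_of_dvd hp.out.pos h1
  have hCle : Subgroup.centralizer ({x} : Set P) ⊓ Subgroup.centralizer ({y} : Set P) ≤ C := by
    intro g hg
    obtain ⟨hgx, hgy⟩ := Subgroup.mem_inf.mp hg
    rw [Subgroup.mem_centralizer_singleton_iff] at hgx hgy
    have hle : W ≤ Subgroup.centralizer ({g} : Set P) := by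
      rw [← hsup]
      apply sup_le
      · apply sup_le
        · intro z hz
          rw [Subgroup.mem_centralizer_singleton_iff]
          exact hcentral z hz g
        · rw [Subgroup.zpowers_le, Subgroup.mem_centralizer_singleton_iff]
          exact hgx.symm
      · rw [Subgroup.zpowers_le, Subgroup.mem_centralizer_singleton_iff]
        exact hgy.symm
    rw [hC, Subgroup.mem_centralizer_iff]
    intro h hh
    exact Subgroup.mem_centralizer_singleton_iff.mp (hle hh)
  have hCidx : C.index ≤ p * p := by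
    have h1 : C.index ∣ (Subgroup.centralizer ({x} : Set P) ⊓
        Subgroup.centralizer ({y} : Set P)).index := Subgroup.index_dvd_of_le hCle
    have h2 := Subgroup.index_inf_le (H := Subgroup.centralizer ({x} : Set P))
      (K := Subgroup.centralizer ({y} : Set P))
    have hpos : 0 < (Subgroup.centralizer ({x} : Set P) ⊓
        Subgroup.centralizer ({y} : Set P)).index := by
      apply Nat.pos_of_ne_zero
      exact Subgroup.index_ne_zero_of_finite
    calc C.index ≤ _ := Nat.le_of_dvd hpos h1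
      _ ≤ _ := h2
      _ ≤ p * p := Nat.mul_le_mul (hidx x hx) (hidx y hy)
  have hCW : C ⊓ W = zOf W := by
    rw [inf_comm]
    rfl
  have h1 := card_inf_mul_relIndex C W
  rw [hCW, hZc, hWc] at h1
  have hrel : C.relIndex W = p ^ 2 := by
    have : p * C.relIndex W = p * p ^ 2 := by rw [h1]; ring
    exact Nat.eq_of_mul_eq_mul_left hp.out.pos this
  have h2 : C.relIndex (W ⊔ C) = C.relIndex W := Subgroup.relIndex_sup_right W C
  have h3 := card_inf_mul_relIndex C (W ⊔ C)
  rw [inf_eq_left.mpr (le_sup_right : C ≤ W ⊔ C), h2, hrel] at h3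
  apply Subgroup.eq_top_of_le_card
  rw [← h3, ← Subgroup.card_mul_index C]
  apply Nat.mul_le_mul_left
  rw [sq]
  exact hCidx

/-- The elements of order dividing `p` of `C_P(W)` lie in `Z(W)`. -/
theorem omega_centralizer (S : CaseB P p 𝒳 W) {x y : P} (hx : x ∈ W) (hy : y ∈ W)
    (hxy : x * y ≠ y * x) {u : P} (hu : u ∈ Subgroup.centralizer (W : Set P))
    (hup : u ^ p = 1) : u ∈ zOf W := by
  have hG := S.good
  obtain ⟨-, hEc, -, -, hEel⟩ := S.struct hx hy hxy
  set E : Subgroup P := zOf W ⊔ Subgroup.zpowers x with hE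
  have hEW : E ≤ W := sup_le (zOf_le W) (by rw [Subgroup.zpowers_le]; exact hx)
  have hEmax : ∀ B : Subgroup P, Cfsg.IsElementaryAbelian p B → E ≤ B → B = E := by
    intro B hB hEB
    apply (Subgroup.eq_of_le_of_card_ge hEB _).symm
    rw [hEc]
    exact hG.hr B hB.1 hB.2
  have huE : u ∈ E := by
    apply mem_of_max E hEel hEmax hup
    intro e he
    exact (Subgroup.mem_centralizer_iff.mp hu e (hEW he)).symm
  rw [mem_zOf]
  exact ⟨hEW huE, fun d hd => Subgroup.mem_centralizer_iff.mp hu d hd⟩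

/-- `C_P(W)` is cyclic. -/
theorem cyclic (S : CaseB P p 𝒳 W) {x y : P} (hx : x ∈ W) (hy : y ∈ W)
    (hxy : x * y ≠ y * x) : IsCyclic ↥(Subgroup.centralizer (W : Set P)) := by
  have hG := S.good
  obtain ⟨hZc, -, -, -, -⟩ := S.struct hx hy hxy
  set C : Subgroup P := Subgroup.centralizer (W : Set P) with hC
  have hrk : Cfsg.PRankLE p 1 ↥C := by
    intro A hAc hAe
    have hle : A.map C.subtype ≤ zOf W := by
      rintro _ ⟨a, ha, rfl⟩
      apply S.omega_centralizer hx hy hxy a.2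
      have := hAe a ha
      have h2 := congrArg Subtype.val this
      simpa using h2
    have h1 : Nat.card (A.map C.subtype) = Nat.card A :=
      Subgroup.card_map_of_injective C.subtype_injective
    rw [← h1, pow_one, ← hZc]
    exact Subgroup.card_le_of_le hle
  have hCp : IsPGroup p ↥C := hG.hP.to_subgroup C
  have h1 : IsCyclic ↥(⊤ : Subgroup ↥C) :=
    H15.isCyclic_of_pRankLE_one hG.hp2 hrk (hCp.to_subgroup ⊤)
  exact isCyclic_of_surjective (Subgroup.topEquiv : (⊤ : Subgroup ↥C) ≃* ↥C)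
    (Subgroup.topEquiv : (⊤ : Subgroup ↥C) ≃* ↥C).surjective

/-- `𝒳` fixes `C_P(W)` elementwise. -/
theorem fixes_centralizer (S : CaseB P p 𝒳 W) {x y : P} (hx : x ∈ W) (hy : y ∈ W)
    (hxy : x * y ≠ y * x) :
    ∀ t ∈ 𝒳, ∀ c ∈ Subgroup.centralizer (W : Set P), t c = c := by
  have := S.hWchar
  have hG := S.good
  have hfin : Finite (MulAut P) := finite_mulAut
  set C : Subgroup P := Subgroup.centralizer (W : Set P) with hC
  have hCchar : C.Characteristic := Subgroup.characteristic_centralizer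
  have hCi : Inv 𝒳 C := Inv.of_characteristic 𝒳 C
  have hcyc : IsCyclic ↥C := S.cyclic hx hy hxy
  have hfinA : Finite (MulAut ↥C) := finite_mulAut
  obtain ⟨k, hk⟩ := IsPGroup.iff_card.mp (hG.hP.to_subgroup C)
  intro t ht c hc
  by_cases hk0 : k = 0
  · rw [hk0, pow_zero] at hk
    have hbot : C = ⊥ := Subgroup.card_eq_one.mp hk
    rw [hbot, Subgroup.mem_bot] at hc
    rw [hc, map_one]
  · have hcardA : Nat.card (MulAut ↥C) = p ^ (k - 1) * (p - 1) := by
      rw [IsCyclic.card_mulAut, hk, Nat.totient_prime_pow hp.out (Nat.pos_of_ne_zero hk0)]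
    have hcop : (Nat.card 𝒳).Coprime (Nat.card (MulAut ↥C)) := by
      rw [hcardA]
      exact Nat.Coprime.mul_right (Nat.Coprime.pow_right _ hG.hcop) hG.hcop1
    set ψ : ↥𝒳 →* MulAut ↥C := resAut 𝒳 C hCi with hψ
    have ha : (ψ ⟨t, ht⟩) ^ (Nat.card (MulAut ↥C)) = 1 := pow_card_eq_one'
    have hb : (ψ ⟨t, ht⟩) ^ (Nat.card 𝒳) = 1 := by
      rw [← map_pow, pow_card_eq_one', map_one]
    have h1 : orderOf (ψ ⟨t, ht⟩) = 1 :=
      Nat.eq_one_of_dvd_coprimes hcop (orderOf_dvd_of_pow_eq_one hb)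
        (orderOf_dvd_of_pow_eq_one ha)
    have h2 : ψ ⟨t, ht⟩ = 1 := orderOf_eq_one_iff.mp h1
    have h3 := congrArg (fun β : MulAut ↥C => ((β ⟨c, hc⟩ : ↥C) : P)) h2
    simp only [MulAut.one_apply] at h3
    rw [hψ, resAut_apply] at h3
    exact h3

/-- Case B: `P` has order `p ^ 3`. -/
theorem card (S : CaseB P p 𝒳 W) {x y : P} (hx : x ∈ W) (hy : y ∈ W)
    (hxy : x * y ≠ y * x) : Nat.card P = p ^ 3 := by
  have := S.hWchar
  have hG := S.good
  obtain ⟨-, -, hWc, -, -⟩ := S.struct hx hy hxy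
  have hsup := S.sup_centralizer hx hy hxy
  have hfix := S.fixes_centralizer hx hy hxy
  have hCchar : (Subgroup.centralizer (W : Set P)).Characteristic :=
    Subgroup.characteristic_centralizer
  have hCn : (Subgroup.centralizer (W : Set P)).Normal := inferInstance
  have hle : autComm 𝒳 ≤ W := by
    unfold autComm
    rw [Subgroup.closure_le]
    rintro _ ⟨t, ht, r, rfl⟩
    have hr : r ∈ W ⊔ Subgroup.centralizer (W : Set P) := hsup ▸ Subgroup.mem_top r
    obtain ⟨w, hw, c, hc, rfl⟩ := Subgroup.mem_sup_of_normal_right.mp hr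
    have h1 : t (w * c) * (w * c)⁻¹ = t w * w⁻¹ := by
      rw [map_mul, hfix t ht c hc]
      group
    rw [SetLike.mem_coe, h1]
    exact W.mul_mem (S.inv t ht w hw) (W.inv_mem hw)
  rw [hG.hfull, top_le_iff] at hle
  rw [← hWc, hle, Subgroup.card_top]

end CaseB

end Cfsg.Agent.Lib.H16.R2A
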