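import Mathlib
import Cfsg.Prelude
import Cfsg.Agent.Lib.H16.R2ActD
import Cfsg.Agent.Lib.H16.R2ActF
import Cfsg.Agent.Lib.H16.RankTwo
import Cfsg.Agent.Lib.H1.FpfAction

set_option autoImplicit false

/-!
# Automorphism groups of order prime to `p (p - 1)` of `p`-groups of rank at most two, part G

The main theorem: if `P` is a `p`-group (`p` odd) of rank at most two and `𝒳` is a group of
automorphisms of order prime to `p (p - 1)` with `[P, 𝒳] = P`, then `P` is abelian or has order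
`p ^ 3` (Bender--Glauberman, Theorem 4.18(c)/5.5(c)).
-/

namespace Cfsg.Agent.Lib.H16.R2A

open scoped commutatorElement
open Cfsg.Agent.Lib.H16 Cfsg.Agent.Lib.H16.AutAct Cfsg.Agent.Lib.H16.Narrow

universe u

theorem main_aux (p : ℕ) [hp : Fact p.Prime] : ∀ n : ℕ, ∀ (P : Type u) [Group P] [Finite P]
    (𝒳 : Subgroup (MulAut P)), Nat.card P = n → Good P p 𝒳 →
      ((∀ a b : P, a * b = b * a) ∨ Nat.card P = p ^ 3) := by
  intro n
  induction n using Nat.strong_induction_on with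
  | _ n ih =>
    intro P _ _ 𝒳 hn hG
    have hfin : Finite (MulAut P) := finite_mulAut
    obtain ⟨W, hWc, hWexp, hWcl, hWf⟩ := RankTwo.exists_char_exp hG.hp2 hG.hP
    by_cases htriv : ∀ x ∈ 𝒳, ∀ w ∈ W, x w = w
    · left
      apply hG.comm_of_fix_all
      intro x hx r
      have hx1 : x = 1 :=
        hWf x (Nat.Coprime.coprime_dvd_left (Subgroup.orderOf_dvd_natCard 𝒳 hx) hG.hcop)
          (htriv x hx)
      rw [hx1]
      rfl
    · by_cases hWcomm : ∀ a ∈ W, ∀ b ∈ W, a * b = b * a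
      · left
        have S : CaseA P p 𝒳 W := ⟨hG, hWc, hWexp, hWcomm, htriv⟩
        apply S.comm
        intro Q _ _ 𝒴 hlt hGQ
        exact ih (Nat.card Q) (hn ▸ hlt) Q 𝒴 rfl hGQ
      · right
        push Not at hWcomm
        obtain ⟨x, hx, y, hy, hxy⟩ := hWcomm
        have S : CaseB P p 𝒳 W := ⟨hG, hWc, hWexp, hWcl, htriv⟩
        exact S.card hx hy hxy

theorem main {P : Type u} [Group P] [Finite P] {p : ℕ} [hp : Fact p.Prime]
    {𝒳 : Subgroup (MulAut P)} (hG : Good P p 𝒳) :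
    (∀ a b : P, a * b = b * a) ∨ Nat.card P = p ^ 3 :=
  main_aux p (Nat.card P) P 𝒳 rfl hG

/-- The group-theoretic form: `A` of prime order not dividing `p (p - 1)` normalizing the
`p`-subgroup `R` of rank at most two with `[R, A] = R` and `R` nonabelian forces `|R| = p ^ 3`. -/
theorem card_of_commutator_eq {G : Type u} [Group G] [Finite G] {p : ℕ} [hp : Fact p.Prime]
    (hp2 : p ≠ 2) (R A : Subgroup G) (hR : IsPGroup p R) (hr : Cfsg.PRankLE p 2 R)
    (hA : A ≤ Subgroup.normalizer (R : Set G)) (hAq : (Nat.card A).Prime)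
    (hq : ¬ Nat.card A ∣ p * (p - 1)) (hRA : ⁅R, A⁆ = R) (hnc : ¬ IsMulCommutative R) :
    Nat.card R = p ^ 3 := by
  let ρ : ↥A →* MulAut ↥R := Cfsg.Agent.Lib.H1.conjAutHom hA
  set 𝒳 : Subgroup (MulAut ↥R) := ρ.range with h𝒳
  have hfin : Finite (MulAut ↥R) := finite_mulAut
  have hdvd : Nat.card 𝒳 ∣ Nat.card A := Subgroup.card_range_dvd ρ
  have hqp : ¬ Nat.card A ∣ p := fun h => hq (h.trans (dvd_mul_right p (p - 1)))
  have hqp1 : ¬ Nat.card A ∣ p - 1 := fun h => hq (h.trans (dvd_mul_left (p - 1) p))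
  have hc1 : (Nat.card A).Coprime p := (Nat.Prime.coprime_iff_not_dvd hAq).mpr hqp
  have hc2 : (Nat.card A).Coprime (p - 1) := (Nat.Prime.coprime_iff_not_dvd hAq).mpr hqp1
  have hfull : autComm 𝒳 = ⊤ := by
    rw [eq_top_iff]
    have hle : ⁅R, A⁆ ≤ (autComm 𝒳).map R.subtype := by
      rw [Subgroup.commutator_le]
      intro r hr' a ha
      have h1 : ρ ⟨a, ha⟩ ⟨r, hr'⟩ * (⟨r, hr'⟩ : ↥R)⁻¹ ∈ autComm 𝒳 :=
        mem_autComm (⟨⟨a, ha⟩, rfl⟩ : ρ ⟨a, ha⟩ ∈ 𝒳) _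
      have h2 : ⁅r, a⁆ = (R.subtype (ρ ⟨a, ha⟩ ⟨r, hr'⟩ * (⟨r, hr'⟩ : ↥R)⁻¹))⁻¹ := by
        rw [map_mul, map_inv]
        show ⁅r, a⁆ = (a * r * a⁻¹ * r⁻¹)⁻¹
        rw [commutatorElement_def]
        group
      rw [h2]
      exact Subgroup.inv_mem _ (Subgroup.mem_map_of_mem _ h1)
    rintro ⟨r, hr'⟩ -
    have h3 : r ∈ (autComm 𝒳).map R.subtype := hle (hRA.symm ▸ hr')
    obtain ⟨y, hy, hyr⟩ := h3
    have : y = ⟨r, hr'⟩ := Subtype.ext hyr
    rw [← this]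
    exact hy
  have hG : Good ↥R p 𝒳 :=
    ⟨hp2, hR, hr, Nat.Coprime.coprime_dvd_left hdvd hc1, Nat.Coprime.coprime_dvd_left hdvd hc2,
      hfull⟩
  rcases main hG with h | h
  · exact absurd (⟨⟨h⟩⟩ : IsMulCommutative ↥R) hnc
  · exact h

end Cfsg.Agent.Lib.H16.R2A
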