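import Mathlib
import Cfsg.Agent.Lib.H16.RTWDefs
import Cfsg.Agent.Lib.H16.RTWF2
import Cfsg.Agent.Lib.H1.NilpotentBasic

/-!
# S3174 piece Z4C (helper16): if `Z(W) > Z₃` then `Z₄ ≤ Z(W)`.
-/

set_option autoImplicit false

namespace Cfsg.Agent.Lib.H16.RTW

open scoped commutatorElement

variable {T : Type*} [Group T] [Finite T]

/-- **Z4C**: if `Z(W) > Z₃` then `Z₄ ≤ Z(W)`. -/
theorem ucs4_le_center (c : Ctx T) (u₀ : T) (hu₀ : u₀ ∈ c.W) (hcen : ∀ v ∈ c.W, u₀ * v = v * u₀)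
    (hu₀' : u₀ ∉ Subgroup.upperCentralSeries T 3) :
    ∀ y ∈ Subgroup.upperCentralSeries T 4, y ∈ c.W ∧ ∀ v ∈ c.W, y * v = v * y := by
  haveI := c.hWn
  haveI : Fact (Nat.Prime 2) := ⟨Nat.prime_two⟩
  haveI hnil : Group.IsNilpotent T := c.hT.isNilpotent
  set ZW : Subgroup T := c.W ⊓ Subgroup.centralizer (c.W : Set T) with hZW
  haveI hZWn : ZW.Normal := by
    haveI : (Subgroup.centralizer (c.W : Set T)).Normal := Subgroup.normal_centralizer
    exact Subgroup.normal_inf_normal _ _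
  have hmemZW : ∀ {y : T}, y ∈ ZW ↔ y ∈ c.W ∧ ∀ v ∈ c.W, y * v = v * y := by
    intro y
    rw [hZW, Subgroup.mem_inf, Subgroup.mem_centralizer_iff]
    constructor
    · rintro ⟨h1, h2⟩
      exact ⟨h1, fun v hv => (h2 v hv).symm⟩
    · rintro ⟨h1, h2⟩
      exact ⟨h1, fun v hv => (h2 v hv).symm⟩
  have h3ZW : Subgroup.upperCentralSeries T 3 ≤ ZW := fun x hx =>
    hmemZW.mpr ⟨c.hZW hx, fun v hv => c.commute hx hv⟩
  have hu₀ZW : u₀ ∈ ZW := hmemZW.mpr ⟨hu₀, hcen⟩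
  -- pass to the quotient by `Z₃`
  set π := QuotientGroup.mk' (Subgroup.upperCentralSeries T 3) with hπ
  have hπs : Function.Surjective π := QuotientGroup.mk'_surjective _
  haveI hNn : (ZW.map π).Normal := Subgroup.Normal.map hZWn π hπs
  have hNne : ZW.map π ≠ ⊥ := by
    intro h
    rw [Subgroup.map_eq_bot_iff, hπ, QuotientGroup.ker_mk'] at h
    exact hu₀' (h hu₀ZW)
  have hne := Cfsg.Agent.Lib.H1.normal_inf_center_ne_bot (ZW.map π) hNne
  obtain ⟨⟨y', hy'⟩, hy'1'⟩ := (Subgroup.ne_bot_iff_exists_ne_one).mp hne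
  have hy'1 : y' ≠ 1 := fun h => hy'1' (Subtype.ext h)
  obtain ⟨⟨y, hyZW, hy⟩, hy'Z⟩ := hy'
  -- `y ∈ Z₄`, `y ∉ Z₃`
  have hy4 : y ∈ Subgroup.upperCentralSeries T 4 := by
    rw [show (4 : ℕ) = 3 + 1 from rfl, Subgroup.mem_upperCentralSeries_succ_iff]
    intro t
    have h1 : π t * y' = y' * π t := Subgroup.mem_center_iff.mp hy'Z (π t)
    rw [← hy] at h1
    have h2 : π ⁅y, t⁆ = 1 := by
      rw [commutatorElement_def, map_mul, map_mul, map_mul, map_inv, map_inv, ← h1]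
      group
    rw [hπ] at h2
    exact (QuotientGroup.eq_one_iff _).mp h2
  have hy3 : y ∉ Subgroup.upperCentralSeries T 3 := by
    intro h
    apply hy'1
    rw [← hy, hπ]
    exact (QuotientGroup.eq_one_iff y).mpr h
  -- counting
  set H : Subgroup T := ZW ⊓ Subgroup.upperCentralSeries T 4 with hH
  have h34 : Subgroup.upperCentralSeries T 3 ≤ Subgroup.upperCentralSeries T 4 :=
    Subgroup.upperCentralSeries_mono T (by norm_num)
  have h3H : Subgroup.upperCentralSeries T 3 ≤ H := le_inf h3ZW h34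
  have hyH : y ∈ H := ⟨hyZW, hy4⟩
  have hlt : Nat.card ↥(Subgroup.upperCentralSeries T 3) < Nat.card H := by
    by_contra hle
    push_neg at hle
    have := Subgroup.eq_of_le_of_card_ge h3H hle
    exact hy3 (this ▸ hyH)
  have hd1 : Nat.card ↥(Subgroup.upperCentralSeries T 3) ∣ Nat.card H := Subgroup.card_dvd_of_le h3H
  have hd2 : Nat.card H ∣ Nat.card ↥(Subgroup.upperCentralSeries T 4) :=
    Subgroup.card_dvd_of_le inf_le_right
  rw [c.c3] at hlt hd1
  rw [c.c4] at hd2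
  have hH16 : Nat.card H = 16 := by
    obtain ⟨m, hm⟩ := hd1
    obtain ⟨n, hn⟩ := hd2
    have hn0 : n ≠ 0 := by
      rintro rfl
      simp at hn
    have hm2 : m ≤ 2 := by
      by_contra h
      push_neg at h
      have h24 : 8 * 3 * 1 ≤ 8 * m * n :=
        Nat.mul_le_mul (Nat.mul_le_mul_left 8 h) (Nat.one_le_iff_ne_zero.mpr hn0)
      rw [← hm] at h24
      omega
    have hm1 : 1 < m := by omega
    have : m = 2 := by omega
    omega
  have hHeq : H = Subgroup.upperCentralSeries T 4 :=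
    Subgroup.eq_of_le_of_card_ge inf_le_right (by rw [hH16, c.c4])
  intro x hx
  have hxH : x ∈ H := hHeq ▸ hx
  exact hmemZW.mp hxH.1

end Cfsg.Agent.Lib.H16.RTW
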