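import Mathlib
import Cfsg.Agent.Lib.H16.RTWDefs
import Cfsg.Agent.Lib.H16.RTWZ4C
import Cfsg.Agent.Lib.H25.RTWCOORD
import Cfsg.Agent.Lib.H21.RTWFINB
import Cfsg.Agent.Lib.H13.RTWGEN
import Cfsg.Agent.Lib.H13.RTWFINIDX
import Cfsg.Agent.Lib.H8.RTWF3
import Cfsg.Agent.Lib.H8.RTWFINSQ

/-!
# S3174: assembly of Part D, `Z(W) = Z₃` (helper16)
-/

set_option autoImplicit false

namespace Cfsg.Agent.Lib.H16.RTW

open scoped commutatorElement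
open Cfsg.Agent.Lib.H25.RTW (exists_coord)
open Cfsg.Agent.Lib.H21.RTW (false_of_small_frattini)
open Cfsg.Agent.Lib.H13.RTW (exists_gen relIndex_le_of_mem)
open Cfsg.Agent.Lib.H8.RTW (comm_z_central exists_small_frattini)

variable {T : Type*} [Group T] [Finite T]

/-- **FIN** (assembly). -/
theorem fin_false (c : Ctx T) (k : Coord c)
    (w : T) (hw : w ∈ c.W) (hwM : w ∉ c.M) (hwt : ∀ t : T, t ∉ c.W → t * w * t⁻¹ ∈ c.M)
    (z : T) (hz : k.φ z = ⟨0, 0, 1⟩)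
    (hF3 : ∀ u ∈ c.W, ∀ v ∈ c.W, ⁅⁅u, z⁆, v⁆ ∈ Subgroup.upperCentralSeries T 2) : False := by
  obtain ⟨b, hb⟩ := k.hsurj ⟨0, 1, 0⟩
  obtain ⟨X, hXW, hZX, hX1, hX2, hsq, hcomm⟩ := exists_small_frattini c k w hw z hz b hb hF3
  exact false_of_small_frattini c X hXW hZX
    (relIndex_le_of_mem c k w hw hwM hwt z hz b hb X hXW hZX hX1 hX2) hsq hcomm

/-- **CEN** (assembly of Part D). -/
theorem center_le (c : Ctx T) (u₀ : T) (hu₀ : u₀ ∈ c.W) (hcen : ∀ v ∈ c.W, u₀ * v = v * u₀) :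
    u₀ ∈ Subgroup.upperCentralSeries T 3 := by
  by_contra hu₀'
  obtain ⟨k⟩ := exists_coord c
  have hZ4 := ucs4_le_center c u₀ hu₀ hcen hu₀'
  obtain ⟨w, hw, hwM, hwt⟩ := exists_gen c
  obtain ⟨z, hz⟩ := k.hsurj ⟨0, 0, 1⟩
  exact fin_false c k w hw hwM hwt z hz (comm_z_central c k hZ4 w hw hwM hwt z hz)

end Cfsg.Agent.Lib.H16.RTW
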