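import Mathlib
import Cfsg.Agent.Lib.H16.RTWDefs
import Cfsg.Agent.Lib.H22.DihQuatRecog

/-!
# S3174 piece UTD8: the Heisenberg group over `F₂` is dihedral of order 8 (helper16)
-/

set_option autoImplicit false

namespace Cfsg.Agent.Lib.H16.RTW

open scoped commutatorElement

/-- **UTD8**. -/
theorem ut3_equiv_dihedral : Nonempty (UT3 ≃* DihedralGroup 4) := by
  haveI : NeZero 4 := ⟨by norm_num⟩
  have hr : (⟨1, 1, 0⟩ : UT3) ∈ Subgroup.closure ({(⟨1, 1, 0⟩ : UT3), ⟨1, 0, 0⟩} : Set UT3) :=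
    Subgroup.subset_closure (by simp)
  have hs : (⟨1, 0, 0⟩ : UT3) ∈ Subgroup.closure ({(⟨1, 1, 0⟩ : UT3), ⟨1, 0, 0⟩} : Set UT3) :=
    Subgroup.subset_closure (by simp)
  apply Cfsg.Agent.Lib.H22.dihedral_equiv_of_gens 4 (⟨1, 1, 0⟩ : UT3) ⟨1, 0, 0⟩
  · decide
  · decide
  · decide
  · rw [eq_top_iff]
    intro x _
    obtain ⟨a, b, c⟩ := x
    fin_cases a <;> fin_cases b <;> fin_cases c
    · exact Subgroup.one_mem _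
    · have h : (⟨0, 0, 1⟩ : UT3) = ⟨1, 1, 0⟩ * ⟨1, 1, 0⟩ := by decide
      show (⟨0, 0, 1⟩ : UT3) ∈ _
      rw [h]; exact Subgroup.mul_mem _ hr hr
    · have h : (⟨0, 1, 0⟩ : UT3) = ⟨1, 1, 0⟩ * ⟨1, 0, 0⟩ := by decide
      show (⟨0, 1, 0⟩ : UT3) ∈ _
      rw [h]; exact Subgroup.mul_mem _ hr hs
    · have h : (⟨0, 1, 1⟩ : UT3) = ⟨1, 0, 0⟩ * ⟨1, 1, 0⟩ := by decide
      show (⟨0, 1, 1⟩ : UT3) ∈ _
      rw [h]; exact Subgroup.mul_mem _ hs hr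
    · exact hs
    · have h : (⟨1, 0, 1⟩ : UT3) = ⟨1, 0, 0⟩ * (⟨1, 1, 0⟩ * ⟨1, 1, 0⟩) := by decide
      show (⟨1, 0, 1⟩ : UT3) ∈ _
      rw [h]; exact Subgroup.mul_mem _ hs (Subgroup.mul_mem _ hr hr)
    · exact hr
    · have h : (⟨1, 1, 1⟩ : UT3) = ⟨1, 1, 0⟩ * (⟨1, 1, 0⟩ * ⟨1, 1, 0⟩) := by decide
      show (⟨1, 1, 1⟩ : UT3) ∈ _
      rw [h]; exact Subgroup.mul_mem _ hr (Subgroup.mul_mem _ hr hr)
  · rw [UT3.card_eq]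

end Cfsg.Agent.Lib.H16.RTW
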