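import Cfsg.Agent.Lib.H12.ReeU5

/-!
# REE tori project (architect helper12), batch 5, piece REE-K6 (helper16): the elements of odd order `j`
of `C(a) = ⟨a⟩ × PSL₂(q)` correspond to the elements of order `j` of `PSL₂(q)`.
(Same proof as helper3's `card_odd_centralizer_a`, Lib/H3/ReeF6.)
-/

set_option autoImplicit false

namespace Cfsg.Agent.Lib.H16.Ree

open Cfsg.Agent.Lib.H12.ReeC Cfsg.Agent.Lib.H12.ReeC.RSys

variable {G K : Type*} [Group G] [Field K] {R : RSys G K} [Fintype K] [Finite G]

local notation "PSL2" => Matrix.ProjectiveSpecialLinearGroup (Fin 2) K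

/-- **REE-K6** the elements of odd order `j` of `C(a)` are the `Φ(1, x)` with `x` of order `j` -/
theorem card_order_centralizer_a (R : RSys G K) (j : ℕ) (hj : Odd j) :
    Nat.card {w : G // w * R.a = R.a * w ∧ orderOf w = j} = Nat.card {x : PSL2 // orderOf x = j} := by
  symm
  have hord : ∀ (e : Multiplicative (ZMod 2)) (x : PSL2),
      orderOf (R.Phi (e, x)) = Nat.lcm (orderOf e) (orderOf x) := by
    intro e x
    rw [orderOf_injective R.Phi R.Phi_injective, Prod.orderOf_mk]
  refine Nat.card_congr (Equiv.ofBijective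
    (fun x : {x : PSL2 // orderOf x = j} =>
      (⟨R.Phi (1, x.1), ?_, ?_⟩ : {w : G // w * R.a = R.a * w ∧ orderOf w = j})) ⟨?_, ?_⟩)
  · have h : R.Phi (1, x.1) ∈ Subgroup.centralizer ({R.a} : Set G) := by
      rw [← R.Phi_range]
      exact ⟨_, rfl⟩
    rw [Subgroup.mem_centralizer_singleton_iff] at h
    exact h
  · rw [hord, orderOf_one, Nat.lcm_one_left]
    exact x.2
  · intro x x' h
    have h1 := congrArg Subtype.val h
    have h2 := R.Phi_injective h1
    rw [Prod.mk.injEq] at h2
    exact Subtype.ext h2.2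
  · rintro ⟨w, hw1, hw2⟩
    have hw : w ∈ Subgroup.centralizer ({R.a} : Set G) := by
      rw [Subgroup.mem_centralizer_singleton_iff]
      exact hw1
    obtain ⟨e, x, rfl⟩ := R.mem_centralizer_a w hw
    rw [hord] at hw2
    have hodd : Odd (Nat.lcm (orderOf e) (orderOf x)) := hw2 ▸ hj
    have he : Odd (orderOf e) := Odd.of_dvd_nat hodd (Nat.dvd_lcm_left _ _)
    have he2 : orderOf e ∣ 2 := orderOf_dvd_of_pow_eq_one (by rw [pow_two]; exact z2_sq e)
    have he1 : orderOf e = 1 := by
      rcases (Nat.dvd_prime Nat.prime_two).1 he2 with h | h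
      · exact h
      · rw [h] at he
        exact absurd he (by decide)
    have he' : e = 1 := orderOf_eq_one_iff.1 he1
    subst he'
    rw [orderOf_one, Nat.lcm_one_left] at hw2
    exact ⟨⟨x, hw2⟩, rfl⟩

end Cfsg.Agent.Lib.H16.Ree
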