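import Cfsg.Agent.S0713
import Cfsg.Agent.Lib.H18.AGN1
import Cfsg.Agent.Lib.H13.AGNORM
import Cfsg.Agent.Lib.H5.AGH7

/-!
# S3571 block GR (helper16): primitive subgroups of `S_m` not containing `A_m` miss a large prime

* `exists_prime_window` : for `m ≥ 8` there is a prime `p` with `m/2 < p ≤ m - 3`;
* `isCycle_of_orderOf` : an element of prime order `p > m/2` of `S_m` is a `p`-cycle;
* `exists_prime_not_dvd_of_primitive` : for `m ≥ 5`, `m ≠ 6`, a primitive `H ≤ S_m` not containing `A_m`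
  has order prime to some prime `p` with `m/2 < p ≤ m` (Jordan, landed S0713; `m = 7` by the `core7`
  computation of S4150; `m = 5` by Mathlib's `3`-cycle form of Jordan's theorem).
-/

set_option autoImplicit false

namespace Cfsg.Agent.Lib.H16.S3571PRIM

open Equiv Equiv.Perm

/-- a prime in the window `(m/2, m-3]` -/
theorem exists_prime_window (m : ℕ) (hm : 8 ≤ m) : ∃ p : ℕ, p.Prime ∧ m < 2 * p ∧ p + 3 ≤ m := by
  rcases Nat.lt_or_ge m 17 with h | h
  · by_cases h1 : m ≤ 9
    · exact ⟨5, by norm_num, by omega, by omega⟩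
    by_cases h2 : m ≤ 13
    · exact ⟨7, by norm_num, by omega, by omega⟩
    · exact ⟨11, by norm_num, by omega, by omega⟩
  · obtain ⟨p, q, hp, _, h1, h2, h3⟩ := Cfsg.Agent.Lib.H18.AG.exists_primes_gap m h
    exact ⟨p, hp, h1, by omega⟩

/-- an element of prime order `p > m/2` of `S_m` is a `p`-cycle -/
theorem isCycle_of_orderOf (m p : ℕ) (hp : p.Prime) (hmp : m < 2 * p) (σ : Perm (Fin m))
    (hσ : orderOf σ = p) : σ.IsCycle ∧ σ.support.card = p := by
  have h1 : (orderOf σ).Prime := by rw [hσ]; exact hp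
  have h2 : σ.IsCycle := isCycle_of_prime_order' h1 (by rw [Fintype.card_fin, hσ]; exact hmp)
  exact ⟨h2, by rw [← h2.orderOf, hσ]⟩

/-- Cauchy inside a subgroup of `S_m`, with the cycle shape -/
theorem exists_cycle_of_dvd (m p : ℕ) (hp : p.Prime) (hmp : m < 2 * p)
    (H : Subgroup (Perm (Fin m))) (hd : p ∣ Nat.card ↥H) :
    ∃ σ : Perm (Fin m), σ ∈ H ∧ σ.IsCycle ∧ σ.support.card = p := by
  haveI : Fact p.Prime := ⟨hp⟩
  obtain ⟨h, hh⟩ := exists_prime_orderOf_dvd_card' p hd
  have h1 : orderOf (h : Perm (Fin m)) = p := by rw [Subgroup.orderOf_coe]; exact hh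
  obtain ⟨h2, h3⟩ := isCycle_of_orderOf m p hp hmp _ h1
  exact ⟨h, h.2, h2, h3⟩

/-- **(PRIM)** a primitive subgroup of `S_m` (`m ≥ 5`, `m ≠ 6`) not containing `A_m` has order prime
to some prime in `(m/2, m]`. -/
theorem exists_prime_not_dvd_of_primitive (m : ℕ) (hm : 5 ≤ m) (h6 : m ≠ 6)
    (H : Subgroup (Perm (Fin m))) (hprim : MulAction.IsPreprimitive ↥H (Fin m))
    (hA : ¬ alternatingGroup (Fin m) ≤ H) :
    ∃ p : ℕ, p.Prime ∧ m < 2 * p ∧ p ≤ m ∧ ¬ p ∣ Nat.card ↥H := by
  by_contra hall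
  have hall' : ∀ p : ℕ, p.Prime → m < 2 * p → p ≤ m → p ∣ Nat.card ↥H := by
    intro p hp h1 h2
    by_contra h3
    exact hall ⟨p, hp, h1, h2, h3⟩
  rcases Nat.lt_or_ge m 8 with h8 | h8
  · have hm' : m = 5 ∨ m = 7 := by omega
    rcases hm' with rfl | rfl
    · -- `m = 5`, `p = 3`
      obtain ⟨σ, hσH, hσc, hσ3⟩ := exists_cycle_of_dvd 5 3 (by norm_num) (by norm_num) H
        (hall' 3 (by norm_num) (by norm_num) (by norm_num))
      have h3 : σ.IsThreeCycle := by
        unfold IsThreeCycle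
        rw [hσc.cycleType, hσ3]
      exact hA (alternatingGroup_le_of_isPreprimitive_of_isThreeCycle_mem hprim h3 hσH)
    · -- `m = 7`, `p = 5` and `7`
      obtain ⟨x, hxH, hxc, hx5⟩ := exists_cycle_of_dvd 7 5 (by norm_num) (by norm_num) H
        (hall' 5 (by norm_num) (by norm_num) (by norm_num))
      obtain ⟨y, hyH, hyc, hy7⟩ := exists_cycle_of_dvd 7 7 (by norm_num) (by norm_num) H
        (hall' 7 (by norm_num) (by norm_num) (by norm_num))
      have core7 := Cfsg.Agent.Lib.H13.AG.core_of_normalized 3 (by norm_num) (by norm_num)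
        Cfsg.Agent.Lib.H5.AG.normalized7 x y (by rw [hxc.cycleType, hx5])
        (by rw [hyc.cycleType, hy7])
      apply hA
      rw [← core7, Subgroup.closure_le]
      intro g hg
      rcases hg with rfl | rfl
      · exact hxH
      · exact hyH
  · obtain ⟨p, hp, h1, h2⟩ := exists_prime_window m h8
    obtain ⟨σ, hσH, hσc, hσp⟩ := exists_cycle_of_dvd m p hp h1 H (hall' p hp h1 (by omega))
    exact hA (Cfsg.Agent.S0713.result H hprim hp (by rw [Fintype.card_fin]; exact hm)
      (by rw [Fintype.card_fin]; exact h2) hσc hσp hσH)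

end Cfsg.Agent.Lib.H16.S3571PRIM
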