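import Cfsg.Agent.Lib.H9.S3571Defs
import Cfsg.Agent.Lib.H16.S3571PRIM

/-!
# S3571 block GR (helper16): the pieces `C4a`, `C4b`, `C4c` and `C4` in the exact shapes of `Lib/H9/S3571Defs`

All four are instances of `Lib/H16/S3571PRIM` (Jordan S0713 for `m ≥ 8`, `core7` for `m = 7`, Mathlib's
`3`-cycle Jordan for `m = 5`).
-/

set_option autoImplicit false

namespace Cfsg.Agent.Lib.H16.S3571C4

open Equiv Equiv.Perm Cfsg.Agent.Lib.H9.S3571 Cfsg.Agent.Lib.H16.S3571PRIM

/-- (C4) primitive, `m ≠ 6` -/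
theorem c4 : C4Stmt := fun m H hm h6 hprim hA =>
  exists_prime_not_dvd_of_primitive m hm h6 H hprim hA

/-- (C4a) primitive, `m ≥ 8` -/
theorem c4a : C4aStmt := fun m H hm hprim hA =>
  exists_prime_not_dvd_of_primitive m (by omega) (by omega) H hprim hA

/-- (C4b) degree `5` -/
theorem c4b : C4bStmt := by
  intro H hprim hA hd
  obtain ⟨σ, hσH, hσc, hσ3⟩ := exists_cycle_of_dvd 5 3 (by norm_num) (by norm_num) H hd
  have h3 : σ.IsThreeCycle := by
    unfold IsThreeCycle
    rw [hσc.cycleType, hσ3]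
  exact hA (alternatingGroup_le_of_isPreprimitive_of_isThreeCycle_mem hprim h3 hσH)

/-- (C4c) degree `7` -/
theorem c4c : C4cStmt := by
  intro H hprim hA hd
  -- `7 ∣ |H|` by transitivity
  have htr : MulAction.IsPretransitive ↥H (Fin 7) := hprim.toIsPretransitive
  have h7 : 7 ∣ Nat.card ↥H := by
    have h1 := MulAction.index_stabilizer_of_transitive ↥H (0 : Fin 7)
    rw [Nat.card_eq_fintype_card, Fintype.card_fin] at h1
    have h2 := Subgroup.index_dvd_card (MulAction.stabilizer ↥H (0 : Fin 7))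
    rw [h1] at h2
    exact h2
  obtain ⟨x, hxH, hxc, hx5⟩ := exists_cycle_of_dvd 7 5 (by norm_num) (by norm_num) H hd
  obtain ⟨y, hyH, hyc, hy7⟩ := exists_cycle_of_dvd 7 7 (by norm_num) (by norm_num) H h7
  have core7 := Cfsg.Agent.Lib.H13.AG.core_of_normalized 3 (by norm_num) (by norm_num)
    Cfsg.Agent.Lib.H5.AG.normalized7 x y (by rw [hxc.cycleType, hx5])
    (by rw [hyc.cycleType, hy7])
  apply hA
  rw [← core7, Subgroup.closure_le]
  intro g hg
  rcases hg with rfl | rfl
  · exact hxH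
  · exact hyH

end Cfsg.Agent.Lib.H16.S3571C4
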