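import Mathlib
import Cfsg.Agent.Lib.H9.S3776Defs
import Cfsg.Agent.Lib.H16.S3776LEJ

/-!
# S3776, piece R2 (`J = K`), core: from LEMMA E and R1, without idempotents

`(L)` (= `lej`): for `g ∉ J`, `C_K(g) ≤ V`.  FACT: `{x ∈ J | x² ∈ V} ≤ K`.  (A) `C_J(g) ≤ V`.  (B) `g² ∈ V`
for `g ∉ J`.  (D) `g, h, gh ∉ J` ⇒ `j² ∈ V` for all `j ∈ J`, so `J ≤ K`.  (E) index 2 is impossible: the
squares of the coset `gJ` cover `V ∖ 1`, `N(j) = g⁻¹ j g j` is multiplicative with `(g j)² = g² N(j)`, so some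
`(g j₀)² = 1`, which puts `g` into `V ≤ J`.
-/

set_option autoImplicit false

namespace Cfsg.Agent.Lib.H16.S3776R2Core

open Cfsg.Agent.Lib.H9.S3776

universe u

theorem r2_of : LemEMulStmt.{u} → R1Stmt.{u} → R2Stmt.{u} := by
  intro hE hR1 G E _ _ _ _ φ V K J r j
  have hirr := hR1 G E φ V K J r j
  have L := Cfsg.Agent.Lib.H16.S3776LEJ.lej G E φ V K J hE r j hirr
  have c : Cfsg.Agent.Lib.H16.S3776LEJ.Ctx V K J :=
    ⟨r.fr.mem, r.fr.cen, r.kd.mem, r.ab, r.sq, j.mem⟩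
  have hVmem := r.fr.mem
  have hVcen := r.fr.cen
  have hJmem := j.mem
  have hVK : V ≤ K := r.kd.VK
  have hKJ : K ≤ J := j.KJ
  have hVJ : V ≤ J := hVK.trans hKJ
  have hvv : ∀ v ∈ V, v * v = 1 := fun v hv => by
    have := (hVmem v).1 hv
    rwa [pow_two] at this
  have hVsq : ∀ x : G, x * x = 1 → x ∈ V := fun x hx => (hVmem x).2 (by rw [pow_two]; exact hx)
  -- FACT
  have FACT : ∀ x ∈ J, x ^ 2 ∈ V → x ∈ K := by
    intro x hx hx2
    obtain ⟨z, hz, hzx⟩ := r.sq (x ^ 2) hx2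
    have hxz : x * z = z * x := (hJmem x).1 hx z hz
    have hxz' : z⁻¹ * x = x * z⁻¹ := by
      calc z⁻¹ * x = z⁻¹ * (x * z) * z⁻¹ := by group
        _ = z⁻¹ * (z * x) * z⁻¹ := by rw [hxz]
        _ = x * z⁻¹ := by group
    have h1 : (x * z⁻¹) ^ 2 = 1 := by
      calc (x * z⁻¹) ^ 2 = x * (z⁻¹ * x) * z⁻¹ := by rw [pow_two]; group
        _ = x * (x * z⁻¹) * z⁻¹ := by rw [hxz']
        _ = x ^ 2 * (z ^ 2)⁻¹ := by rw [pow_two, pow_two]; group
        _ = 1 := by rw [hzx, mul_inv_cancel]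
    have h2 : x * z⁻¹ ∈ V := (hVmem _).2 h1
    have h3 : x = (x * z⁻¹) * z := by group
    rw [h3]
    exact K.mul_mem (hVK h2) hz
  -- (A)
  have A : ∀ g : G, g ∉ J → ∀ n : ℕ, ∀ y ∈ J, y * g = g * y → y ^ (2 ^ n) = 1 → y ∈ V := by
    intro g hg n
    induction n with
    | zero =>
      intro y _ _ hy
      rw [pow_zero, pow_one] at hy
      rw [hy]
      exact V.one_mem
    | succ n ih =>
      intro y hyJ hyg hy
      have hy2 : (y ^ 2) ^ (2 ^ n) = 1 := by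
        rw [← pow_mul, ← pow_succ']
        exact hy
      have hy2J : y ^ 2 ∈ J := J.pow_mem hyJ 2
      have hy2g : y ^ 2 * g = g * y ^ 2 := by
        rw [pow_two, mul_assoc, hyg, ← mul_assoc, hyg, mul_assoc]
      have hV2 : y ^ 2 ∈ V := ih (y ^ 2) hy2J hy2g hy2
      have hyK : y ∈ K := FACT y hyJ hV2
      exact L g hg y hyK hyg
  -- (B)
  have B : ∀ g : G, g ∉ J → g * g ∈ V := by
    intro g hg
    obtain ⟨n, hn⟩ := r.hyp.pG (g * g)
    exact A g hg n (g * g) (c.sq_in_J g) (by rw [mul_assoc]) hn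
  have hmulnot : ∀ g : G, g ∉ J → ∀ y ∈ J, g * y ∉ J := by
    intro g hg y hy hgy
    apply hg
    have : g = (g * y) * y⁻¹ := by group
    rw [this]
    exact J.mul_mem hgy (J.inv_mem hy)
  -- `N g y = g⁻¹ y g y ∈ V`
  have NV : ∀ g : G, g ∉ J → ∀ y ∈ J, g⁻¹ * y * g * y ∈ V := by
    intro g hg y hy
    have h1 : (g * y) * (g * y) ∈ V := B (g * y) (hmulnot g hg y hy)
    have h2 : g⁻¹ * y * g * y = (g * g)⁻¹ * ((g * y) * (g * y)) := by group
    rw [h2]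
    exact V.mul_mem (V.inv_mem (B g hg)) h1
  have hconjJ : ∀ g : G, ∀ y ∈ J, g⁻¹ * y * g ∈ J := by
    intro g y hy
    have := j.nor.conj_mem y hy g⁻¹
    rwa [inv_inv] at this
  by_cases hD : ∃ g h : G, g ∉ J ∧ h ∉ J ∧ g * h ∉ J
  · -- (D)
    obtain ⟨g, h, hg, hh, hgh⟩ := hD
    apply le_antisymm _ hKJ
    intro y hy
    apply FACT y hy
    have hy' : g⁻¹ * y * g ∈ J := hconjJ g y hy
    have ha := NV g hg y hy
    have hb := NV h hh (g⁻¹ * y * g) hy'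
    have hc := NV (g * h) hgh y hy
    have hcomm : y * (g⁻¹ * y * g) = (g⁻¹ * y * g) * y := j.ab y hy _ hy'
    have e : y ^ 2 = (h⁻¹ * (g⁻¹ * y * g) * h * (g⁻¹ * y * g))⁻¹ *
        ((g * h)⁻¹ * y * (g * h) * y) * (g⁻¹ * y * g * y) := by
      symm
      calc (h⁻¹ * (g⁻¹ * y * g) * h * (g⁻¹ * y * g))⁻¹ *
            ((g * h)⁻¹ * y * (g * h) * y) * (g⁻¹ * y * g * y)
          = (g⁻¹ * y * g)⁻¹ * (y * (g⁻¹ * y * g)) * y := by group
        _ = (g⁻¹ * y * g)⁻¹ * ((g⁻¹ * y * g) * y) * y := by rw [hcomm]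
        _ = y ^ 2 := by rw [pow_two]; group
    rw [e]
    exact V.mul_mem (V.mul_mem (V.inv_mem hb) hc) ha
  · -- (E)
    exfalso
    push Not at hD
    have hex : ∃ g : G, g ∉ J := by
      by_contra hcon
      push Not at hcon
      exact j.ne (eq_top_iff.2 (fun x _ => hcon x))
    obtain ⟨g, hg⟩ := hex
    have hg2V : g * g ∈ V := B g hg
    have hg2ne : g * g ≠ 1 := fun h => hg (hVJ (hVsq g h))
    have hginv : g⁻¹ ∉ J := fun h => hg (by simpa using J.inv_mem h)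
    -- the squares of the coset `g J` cover `V ∖ 1`
    have cover : ∀ v ∈ V, v ≠ 1 → ∃ y ∈ J, (g * g) * (g⁻¹ * y * g * y) = v := by
      intro v hv hv1
      obtain ⟨e, he⟩ := r.fr.trans (g * g) v hg2V hv hg2ne hv1
      have hx : φ e g ∉ J := by
        intro hx
        apply hg
        have h1 := j.inv e⁻¹ _ hx
        have h2 : φ e⁻¹ (φ e g) = g := by
          rw [map_inv]
          exact MulAut.inv_apply_self _ _ _
        rwa [h2] at h1
      have hy : g⁻¹ * φ e g ∈ J := hD g⁻¹ (φ e g) hginv hx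
      refine ⟨g⁻¹ * φ e g, hy, ?_⟩
      calc (g * g) * (g⁻¹ * (g⁻¹ * φ e g) * g * (g⁻¹ * φ e g)) = φ e g * φ e g := by group
        _ = φ e (g * g) := (map_mul (φ e) g g).symm
        _ = v := he
    -- a nontrivial `v1 ≠ g²`
    have hv1ex : ∃ v1 ∈ V, v1 ≠ 1 ∧ v1 ≠ g * g := by
      obtain ⟨x, y, hx, hy, hxy, hx1, hy1⟩ := r.fr.two
      by_cases hxg : x = g * g
      · refine ⟨y, hy, hy1, ?_⟩
        intro h
        exact hxy (hxg.trans h.symm)
      · exact ⟨x, hx, hx1, hxg⟩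
    obtain ⟨v1, hv1V, hv1ne, hv1g⟩ := hv1ex
    have hv2V : (g * g) * v1 ∈ V := V.mul_mem hg2V hv1V
    have hv2ne : (g * g) * v1 ≠ 1 := by
      intro h
      apply hv1g
      have h1 : (g * g) * ((g * g) * v1) = (g * g) * 1 := by rw [h]
      rw [← mul_assoc, hvv _ hg2V, one_mul, mul_one] at h1
      exact h1
    obtain ⟨y1, hy1, hN1⟩ := cover v1 hv1V hv1ne
    obtain ⟨y2, hy2, hN2⟩ := cover ((g * g) * v1) hv2V hv2ne
    have hN2' : g⁻¹ * y2 * g * y2 = v1 := mul_left_cancel hN2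
    have hcomm : y1 * (g⁻¹ * y2 * g) = (g⁻¹ * y2 * g) * y1 := j.ab y1 hy1 _ (hconjJ g y2 hy2)
    have hprod : (g * (y1 * y2)) * (g * (y1 * y2)) = 1 := by
      calc (g * (y1 * y2)) * (g * (y1 * y2))
          = (g * g) * (g⁻¹ * y1 * g) * ((g⁻¹ * y2 * g) * y1) * y2 := by group
        _ = (g * g) * (g⁻¹ * y1 * g) * (y1 * (g⁻¹ * y2 * g)) * y2 := by rw [hcomm]
        _ = ((g * g) * (g⁻¹ * y1 * g * y1)) * (g⁻¹ * y2 * g * y2) := by group
        _ = v1 * v1 := by rw [hN1, hN2']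
        _ = 1 := hvv v1 hv1V
    have hxV : g * (y1 * y2) ∈ V := hVsq _ hprod
    exact hmulnot g hg (y1 * y2) (J.mul_mem hy1 hy2) (hVJ hxV)

end Cfsg.Agent.Lib.H16.S3776R2Core
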