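import Mathlib
import Cfsg.Agent.Lib.H16.S3776R2Core
import Cfsg.Agent.Lib.H7.S3776LemEM
import Cfsg.Agent.Lib.H12.S3776LemE
import Cfsg.Agent.Lib.H19.S3776R1

/-!
# S3776, piece R2 (`J = K`) in the exact cut shape

`r2 = r2_of (lemem leme) r1`: LEMMA E (helper12's `leme`, helper7's `lemem`) and R1 (helper19's `r1`) plugged
into `Cfsg.Agent.Lib.H16.S3776R2Core.r2_of`.
-/

set_option autoImplicit false

namespace Cfsg.Agent.Lib.H16.S3776R2

open Cfsg.Agent.Lib.H9.S3776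

universe u

/-- **(R2)** -/
theorem r2 : R2Stmt.{u} :=
  Cfsg.Agent.Lib.H16.S3776R2Core.r2_of
    (Cfsg.Agent.H7.S3776LemEM.lemem Cfsg.Agent.Lib.H12.S3776LemE.leme)
    Cfsg.Agent.Lib.H19.S3776R1.r1

example : R2Stmt.{0} := r2

end Cfsg.Agent.Lib.H16.S3776R2
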