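import Cfsg.Agent.Lib.H19.S3797Defs
import Cfsg.Agent.Lib.H1.PGroupBasic
import Cfsg.Agent.S0093
import Cfsg.Agent.S0121

/-!
# S3797, piece CRIT (helper16): a critical subgroup of `Q = O_2(G)` seen inside `G`

`K := H.map Q.subtype` where `H` is the critical subgroup of the 2-group `↥Q` given by the landed
`Cfsg.Agent.S0093.result`; faithfulness of odd-order elements is the landed `Cfsg.Agent.S0121.result`
applied to the automorphism of `↥Q` induced by conjugation.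
-/

set_option autoImplicit false
open scoped commutatorElement

namespace Cfsg.Agent.Lib.H16.S3797Crit

open Cfsg.Agent.Lib.H19.S3797

universe u

theorem crit : CritStmt.{u} := by
  intro G _ _ Q hQn hQ2
  haveI : Fact (Nat.Prime 2) := ⟨Nat.prime_two⟩
  haveI := hQn
  have hQ2' : IsPGroup 2 ↥Q := hQ2
  obtain ⟨H, hHchar, hfr, hcomm, hcent⟩ := Cfsg.Agent.S0093.result (P := ↥Q) (p := 2) hQ2'
  have hH2 : IsPGroup 2 ↥H := hQ2'.to_subgroup H
  -- central elements of `H`: images of the Frattini subgroup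
  have hfr' : ∀ x : ↥H, x ∈ frattini ↥H → ∀ c : ↥Q, c ∈ H → (x : ↥Q) * c = c * (x : ↥Q) := by
    intro x hx c hc
    have h1 : (x : ↥Q) ∈ Subgroup.centralizer (H : Set ↥Q) :=
      hfr (Subgroup.mem_map_of_mem H.subtype hx)
    exact ((Subgroup.mem_centralizer_iff.mp h1) c hc).symm
  have hchar : ∀ (φ : ↥Q ≃* ↥Q) (h : ↥Q), h ∈ H → φ h ∈ H := fun φ h hh =>
    (Subgroup.characteristic_iff_le_comap.mp hHchar φ) hh
  have hmemK : ∀ k : G, k ∈ H.map Q.subtype ↔ ∃ hk : k ∈ Q, (⟨k, hk⟩ : ↥Q) ∈ H := by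
    intro k
    constructor
    · rintro ⟨h, hh, rfl⟩
      exact ⟨h.2, hh⟩
    · rintro ⟨hk, hh⟩
      exact ⟨⟨k, hk⟩, hh, rfl⟩
  refine ⟨H.map Q.subtype, ?_⟩
  refine
    { KQ := Subgroup.map_subtype_le H
      Kn := ?_
      sqc := ?_
      comc := ?_
      KQc := ?_
      selfc := ?_
      faith := ?_ }
  · -- normal
    constructor
    intro k hk g
    obtain ⟨hkQ, hkH⟩ := (hmemK k).mp hk
    have h1 := hchar (MulAut.conjNormal g) ⟨k, hkQ⟩ hkH
    refine (hmemK _).mpr ⟨hQn.conj_mem k hkQ g, ?_⟩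
    have h2 : (MulAut.conjNormal g : ↥Q ≃* ↥Q) ⟨k, hkQ⟩ = ⟨g * k * g⁻¹, hQn.conj_mem k hkQ g⟩ := by
      apply Subtype.ext
      simp [MulAut.conjNormal_apply]
    rw [h2] at h1
    exact h1
  · -- squares are central
    intro k hk c hc
    obtain ⟨hkQ, hkH⟩ := (hmemK k).mp hk
    obtain ⟨hcQ, hcH⟩ := (hmemK c).mp hc
    have hx : (⟨⟨k, hkQ⟩, hkH⟩ : ↥H) ^ 2 ∈ frattini ↥H :=
      Cfsg.Agent.Lib.H1.isPGroup_pow_mem_frattini hH2 _
    have h3 := hfr' _ hx ⟨c, hcQ⟩ hcH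
    have h4 := congrArg (fun z : ↥Q => (z : G)) h3
    simpa using h4
  · -- commutators are central
    intro a ha b hb c hc
    obtain ⟨haQ, haH⟩ := (hmemK a).mp ha
    obtain ⟨hbQ, hbH⟩ := (hmemK b).mp hb
    obtain ⟨hcQ, hcH⟩ := (hmemK c).mp hc
    have hx : ⁅(⟨⟨a, haQ⟩, haH⟩ : ↥H), (⟨⟨b, hbQ⟩, hbH⟩ : ↥H)⁆ ∈ frattini ↥H :=
      Cfsg.Agent.Lib.H1.isPGroup_commutator_le_frattini hH2
        (Subgroup.commutator_mem_commutator (Subgroup.mem_top _) (Subgroup.mem_top _))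
    have h3 := hfr' _ hx ⟨c, hcQ⟩ hcH
    have h4 := congrArg (fun z : ↥Q => (z : G)) h3
    simpa [commutatorElement_def] using h4
  · -- [Q, K] is central in K
    intro k hk q hq c hc
    obtain ⟨hkQ, hkH⟩ := (hmemK k).mp hk
    obtain ⟨hcQ, hcH⟩ := (hmemK c).mp hc
    have h1 : ⁅(⟨k, hkQ⟩ : ↥Q), (⟨q, hq⟩ : ↥Q)⁆ ∈ ⁅H, (⊤ : Subgroup ↥Q)⁆ :=
      Subgroup.commutator_mem_commutator hkH (Subgroup.mem_top _)
    have h2 : ⁅(⟨q, hq⟩ : ↥Q), (⟨k, hkQ⟩ : ↥Q)⁆ ∈ ⁅H, (⊤ : Subgroup ↥Q)⁆ := by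
      rw [← commutatorElement_inv]
      exact Subgroup.inv_mem _ h1
    have h3 : ⁅(⟨q, hq⟩ : ↥Q), (⟨k, hkQ⟩ : ↥Q)⁆ ∈ Subgroup.centralizer (H : Set ↥Q) := (hcomm h2).2
    have h4 := ((Subgroup.mem_centralizer_iff.mp h3) ⟨c, hcQ⟩ hcH).symm
    have h5 := congrArg (fun z : ↥Q => (z : G)) h4
    simpa [commutatorElement_def] using h5
  · -- self-centralising in Q
    intro q hq hcomm'
    have h1 : (⟨q, hq⟩ : ↥Q) ∈ Subgroup.centralizer (H : Set ↥Q) := by
      rw [Subgroup.mem_centralizer_iff]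
      intro h hh
      apply Subtype.ext
      have := hcomm' (h : G) ((hmemK _).mpr ⟨h.2, hh⟩)
      simpa using this.symm
    exact (hmemK q).mpr ⟨hq, hcent h1⟩
  · -- odd-order elements centralising K centralise Q
    intro y hy hyK q hq
    have ha : Nat.Coprime (orderOf (MulAut.conjNormal y : MulAut ↥Q)) 2 := by
      have hdvd : orderOf (MulAut.conjNormal y : MulAut ↥Q) ∣ orderOf y :=
        orderOf_map_dvd (MulAut.conjNormal : G →* MulAut ↥Q) y
      have hodd : Odd (orderOf (MulAut.conjNormal y : MulAut ↥Q)) := by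
        obtain ⟨m, hm⟩ := hdvd
        rw [hm] at hy
        exact (Nat.odd_mul.mp hy).1
      exact Nat.Coprime.symm (Nat.coprime_two_left.mpr hodd)
    have hfix : ∀ x ∈ H, (MulAut.conjNormal y : MulAut ↥Q) x = x := by
      intro x hx
      apply Subtype.ext
      have := hyK (x : G) ((hmemK _).mpr ⟨x.2, hx⟩)
      simpa [MulAut.conjNormal_apply] using this
    have h1 := Cfsg.Agent.S0121.result (G := ↥Q) (p := 2) hQ2' H hHchar hfr hcomm hcent
      (MulAut.conjNormal y) ha hfix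
    have h2 : (MulAut.conjNormal y : MulAut ↥Q) ⟨q, hq⟩ = ⟨q, hq⟩ := by
      rw [h1]; rfl
    have h3 := congrArg (fun z : ↥Q => (z : G)) h2
    simpa [MulAut.conjNormal_apply] using h3

example : CritStmt.{0} := crit

end Cfsg.Agent.Lib.H16.S3797Crit
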