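import Cfsg.Agent.Lib.H15.S3797M1Defs

/-!
# S3797, (M1) sub-piece FIBRE (helper16)

With `κ⁻¹(0) = 0` and all fibres of `κ` over `V ∖ 0` of order `N`: `|U| = 1 + (|V| - 1) N`, and the
Gauss sum of `lam ∘ κ` is `1 - N` for a non-zero additive `lam : V → ZMod 2` (fibrewise summation and the
vanishing of the character sum of `lam`, proved inline by the shift `v ↦ v + v₀`).
-/

set_option autoImplicit false

namespace Cfsg.Agent.Lib.H16.S3797M1Fibre

open Cfsg.Agent.H15.S3797M1

universe u

theorem fibre : FibreStmt.{u} := by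
  intro U V _ _ _ _ κ lam N hκ0 hanis hfib hlam hnz
  classical
  set c : V → ℕ := fun v => (Finset.univ.filter (fun x : U => κ x = v)).card with hc
  have hc0 : c 0 = 1 := by
    have h1 : Finset.univ.filter (fun x : U => κ x = 0) = {0} := by
      ext x
      simp only [Finset.mem_filter, Finset.mem_univ, true_and, Finset.mem_singleton]
      exact ⟨hanis x, fun h => by rw [h, hκ0]⟩
    simp only [hc, h1, Finset.card_singleton]
  have hcv : ∀ v : V, v ≠ 0 → c v = N := by
    intro v hv
    rw [← hfib v hv, Nat.card_eq_fintype_card, Fintype.card_subtype]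
  have hsumc : ∑ v : V, c v = 1 + (Fintype.card V - 1) * N := by
    rw [← Finset.add_sum_erase Finset.univ c (Finset.mem_univ (0 : V)), hc0]
    congr 1
    rw [Finset.sum_congr rfl (fun v hv => hcv v (Finset.ne_of_mem_erase hv)), Finset.sum_const,
      Finset.card_erase_of_mem (Finset.mem_univ _), Finset.card_univ, smul_eq_mul]
  have hU : Fintype.card U = ∑ v : V, c v := by
    rw [← Finset.card_univ]
    exact Finset.card_eq_sum_card_fiberwise (f := κ) (s := Finset.univ) (t := Finset.univ)
      (by intro x _; simp)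
  have hlam0 : lam 0 = 0 := by
    have h := hlam 0 0
    rw [add_zero] at h
    have h2 : lam 0 + 0 = lam 0 + lam 0 := by rw [add_zero]; exact h
    exact (add_left_cancel h2).symm
  have hsgn0 : sgn 0 = 1 := by decide
  have hsgn1 : ∀ a : ZMod 2, sgn (a + 1) = - sgn a := by decide
  have hne1 : ∀ a : ZMod 2, a ≠ 0 → a = 1 := by decide
  have hchar : ∑ v : V, sgn (lam v) = 0 := by
    obtain ⟨v0, hv0⟩ := hnz
    have h1 : ∑ v : V, sgn (lam (v + v0)) = ∑ v : V, sgn (lam v) :=
      Fintype.sum_equiv (Equiv.addRight v0) (fun v => sgn (lam (v + v0))) (fun v => sgn (lam v))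
        (fun v => rfl)
    have h2 : ∑ v : V, sgn (lam (v + v0)) = - ∑ v : V, sgn (lam v) := by
      rw [← Finset.sum_neg_distrib]
      apply Finset.sum_congr rfl
      intro v _
      rw [hlam, hne1 _ hv0, hsgn1]
    rw [h2] at h1
    omega
  have hmain : ∑ x : U, sgn (lam (κ x)) = ∑ v : V, (c v : ℤ) * sgn (lam v) := by
    rw [← Finset.sum_fiberwise Finset.univ κ (fun x => sgn (lam (κ x)))]
    apply Finset.sum_congr rfl
    intro v _
    rw [Finset.sum_congr rfl (g := fun _ => sgn (lam v))
      (fun x hx => by rw [(Finset.mem_filter.mp hx).2]), Finset.sum_const, nsmul_eq_mul]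
  have herase : ∑ v ∈ Finset.univ.erase (0 : V), sgn (lam v) = -1 := by
    have h := Finset.add_sum_erase Finset.univ (fun v => sgn (lam v)) (Finset.mem_univ (0 : V))
    simp only [hchar, hlam0, hsgn0] at h
    omega
  refine ⟨?_, ?_⟩
  · rw [Nat.card_eq_fintype_card, Nat.card_eq_fintype_card, hU, hsumc]
  · rw [hmain, ← Finset.add_sum_erase Finset.univ _ (Finset.mem_univ (0 : V)), hc0, hlam0, hsgn0]
    rw [Finset.sum_congr rfl (g := fun v => (N : ℤ) * sgn (lam v))
      (fun v hv => by rw [hcv v (Finset.ne_of_mem_erase hv)])]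
    rw [← Finset.mul_sum, herase]
    push_cast
    ring

example : FibreStmt.{0} := fibre

end Cfsg.Agent.Lib.H16.S3797M1Fibre
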