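import Cfsg.Agent.Lib.H5.S3797MLDefs

/-!
# S3797, main lemma piece (M4) (helper16): the end game, short route

For a non-identity `g ∈ W` put `T_g x := x + g x` (additive, values in `M = [U,W]`); from
`κ (g x) = κ x` one gets `β (T_g x) x = κ (T_g x)`.
(A) `ker T_g = M`; (B) `range T_g = M` (cardinalities); (C) `T_g = T_h` for two non-identity `g, h`.
Neither the action of `E` nor any orbit count is needed.
-/

set_option autoImplicit false

namespace Cfsg.Agent.Lib.H16.S3797M4

open Cfsg.Agent.Lib.H5.S3797ML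

universe u

theorem m4 : M4Stmt.{u} := by
  intro U V _ _ _ _ κ β W I a b hQ hW _hA hfix hiso hcU hcM _hsurj hker
  -- basic facts in characteristic 2
  have hnegU : ∀ x : U, -x = x := fun x => neg_eq_of_add_eq_zero_left (hQ.two_U x)
  have heqV : ∀ v w : V, v + w = 0 → v = w := by
    intro v w hvw
    have h1 : v = -w := eq_neg_of_add_eq_zero_left hvw
    have h2 : -w = w := neg_eq_of_add_eq_zero_left (hQ.two_V w)
    rw [h1, h2]
  have hβsymm : ∀ x y : U, β x y = β y x := by
    intro x y
    have h1 := hQ.polar x y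
    have h2 := hQ.polar y x
    rw [add_comm y x, h1, add_comm (κ y) (κ x)] at h2
    exact add_left_cancel h2
  have hβaddr : ∀ x y z : U, β x (y + z) = β x y + β x z := by
    intro x y z
    rw [hβsymm x (y + z), hQ.add_left, hβsymm y x, hβsymm z x]
  -- `T_k x = x + k x` lies in `M`
  have hTmem : ∀ k ∈ W, ∀ x : U, x + k x ∈ Mof W := fun k hk x =>
    AddSubgroup.subset_closure ⟨k, hk, x, rfl⟩
  -- the key identity
  have key : ∀ k ∈ W, ∀ x : U, β (x + k x) x = κ (x + k x) := by
    intro k hk x
    have h1 : k x = x + (x + k x) := by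
      rw [← add_assoc, hQ.two_U, zero_add]
    have h2 := hW.pres k hk x
    rw [h1, hQ.polar] at h2
    -- h2 : κ x + κ (x + k x) + β x (x + k x) = κ x
    have h3 : κ x + (κ (x + k x) + β x (x + k x)) = κ x + 0 := by
      rw [← add_assoc, add_zero]; exact h2
    have h4 := add_left_cancel h3
    rw [hβsymm]
    exact (heqV _ _ h4).symm
  -- additivity of `T_k`
  have hTadd : ∀ k ∈ W, ∀ x y : U, (x + y) + k (x + y) = (x + k x) + (y + k y) := by
    intro k hk x y
    rw [hW.add k hk]; abel
  -- (A) the kernel of `T_k` is inside `M` for non-identity `k`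
  have hA' : ∀ k ∈ W, (∃ x : U, k x ≠ x) → ∀ z : U, z + k z = 0 → z ∈ Mof W := by
    intro k hk ⟨x0, hx0⟩ z hz
    have ht0 : x0 + k x0 ≠ 0 := by
      intro h0
      apply hx0
      have h1 : k x0 = -x0 := (neg_eq_of_add_eq_zero_right h0).symm
      rw [h1, hnegU]
    have e1 : (x0 + z) + k (x0 + z) = x0 + k x0 := by
      rw [hTadd k hk, hz, add_zero]
    have k1 := key k hk x0
    have k2 := key k hk (x0 + z)
    rw [e1, hβaddr, k1] at k2
    -- k2 : κ t0 + β t0 z = κ t0
    have h3 : κ (x0 + k x0) + β (x0 + k x0) z = κ (x0 + k x0) + 0 := by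
      rw [add_zero]; exact k2
    exact hker _ (hTmem k hk x0) ht0 z (add_left_cancel h3)
  -- (B) the range of `T_k` is all of `M` for non-identity `k`
  have hB : ∀ k ∈ W, (∃ x : U, k x ≠ x) → ∀ m ∈ Mof W, ∃ y : U, y + k y = m := by
    intro k hk hkne m hm
    let T : U →+ U := AddMonoidHom.mk' (fun x => x + k x) (fun x y => hTadd k hk x y)
    have hker' : T.ker = Mof W := by
      ext z
      rw [AddMonoidHom.mem_ker]
      constructor
      · intro hz
        exact hA' k hk hkne z hz
      · intro hz
        show z + k z = 0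
        rw [hfix z hz k hk, hQ.two_U]
    have hrange_le : T.range ≤ Mof W := by
      rintro _ ⟨x, rfl⟩
      exact hTmem k hk x
    have hVpos : 0 < Nat.card V := Nat.card_pos
    have h1 : Nat.card (Mof W) * Nat.card T.range = Nat.card U := by
      have h2 := AddSubgroup.card_mul_index T.ker
      rw [AddSubgroup.index_ker, hker'] at h2
      exact h2
    have h3 : Nat.card T.range = Nat.card V := by
      rw [hcM, hcU, pow_two] at h1
      exact Nat.eq_of_mul_eq_mul_left hVpos h1
    have h4 : T.range = Mof W :=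
      AddSubgroup.eq_of_le_of_card_ge hrange_le (by rw [h3, hcM])
    have h5 : m ∈ T.range := by rw [h4]; exact hm
    obtain ⟨y, hy⟩ := h5
    exact ⟨y, hy⟩
  -- (C)
  intro g hg h hh hgne hhne x
  by_cases ht' : x + h x = 0
  · have hxM : x ∈ Mof W := hA' h hh hhne x ht'
    rw [hfix x hxM g hg, hfix x hxM h hh]
  · obtain ⟨y, hy⟩ := hB g hg hgne (x + h x) (hTmem h hh x)
    have k1 := key h hh x
    have k2 := key g hg y
    rw [hy] at k2
    -- β t' (x + y) = 0
    have h1 : β (x + h x) (x + y) = 0 := by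
      rw [hβaddr, k1, k2, hQ.two_V]
    have hxy : x + y ∈ Mof W := hker _ (hTmem h hh x) ht' _ h1
    have h2 : (x + y) + g (x + y) = 0 := by
      rw [hfix _ hxy g hg, hQ.two_U]
    rw [hTadd g hg, hy] at h2
    -- h2 : (x + g x) + (x + h x) = 0
    have h3 : x + g x = x + h x := by
      have h4 : x + g x = -(x + h x) := eq_neg_of_add_eq_zero_left h2
      rw [h4, hnegU]
    exact add_left_cancel h3

example : M4Stmt.{0} := m4

end Cfsg.Agent.Lib.H16.S3797M4
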