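import Mathlib
import Cfsg.Agent.Lib.H16.S3814AutCyc

/-!
# S3814 tool pack FROBCYC (helper16)

"`⟨m⟩⟨x⟩` is a Frobenius group with cyclic complement `⟨x⟩` of order `a b`", in the exact
hypothesis shape (`hn`, `hn'`, `hfpf`) of `Cfsg.Agent.Lib.H10.FrobActGen.t1_cyclic`.

* `fpf_zpowers_of_not_commute`: `g` normalising but not centralising `⟨m⟩`, `m` of prime order:
  conjugation by `g` fixes no nontrivial element of `⟨m⟩`.
* `fpf_zpowers_of_parts`: `x` of order `a b`, both prime parts `x ^ b`, `x ^ a` fixed-point-free on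
  a subgroup `K` ⟹ every nontrivial power of `x` is fixed-point-free on `K`.
* `fpf_zpowers_mul`: the same for `x = u * w`.
* `conj_mem_zpowers`: `x` of finite order with `x m x⁻¹ ∈ ⟨m⟩` ⟹ `x` and `x⁻¹` normalise `⟨m⟩`.
* `frobenius_zpowers`: the package for `K = ⟨m⟩`.
-/

set_option autoImplicit false

namespace Cfsg.Agent.Lib.H16.S3814FrobCyc

open Cfsg.Agent.Lib.H16.S3814AutCyc

variable {G : Type*} [Group G]

theorem conj_eq_iff_commute (y k : G) : y * k * y⁻¹ = k ↔ Commute y k := by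
  rw [mul_inv_eq_iff_eq_mul]; exact Iff.rfl

/-- conjugation by `g` fixes no nontrivial element of `⟨m⟩` if `g` normalises but does not
centralise `⟨m⟩` (`m` of prime order). -/
theorem fpf_zpowers_of_not_commute {c : ℕ} (hc : c.Prime) (m g : G) (hm : orderOf m = c)
    (hg : g * m * g⁻¹ ∈ Subgroup.zpowers m) (hnc : ¬ Commute g m) :
    ∀ k ∈ Subgroup.zpowers m, g * k * g⁻¹ = k → k = 1 := by
  have : Fact c.Prime := ⟨hc⟩
  obtain ⟨i, hi⟩ := exists_nat_pow_of_mem_zpowers hc hm hg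
  have hi1 : (i : ZMod c) ≠ 1 := by
    intro h1
    apply hnc
    have h4 : m ^ i = m ^ 1 := by
      rw [pow_eq_pow_iff_zmod hm]; simpa using h1
    rw [pow_one] at h4
    rw [h4] at hi
    exact (conj_eq_iff_commute g m).mp hi
  intro k hk hfix
  obtain ⟨n, rfl⟩ := exists_nat_pow_of_mem_zpowers hc hm hk
  rw [conj_pow_of_conj_eq hi n] at hfix
  have h5 : ((i * n : ℕ) : ZMod c) = (n : ZMod c) := (pow_eq_pow_iff_zmod hm _ _).mp hfix
  have h6 : ((i : ZMod c) - 1) * (n : ZMod c) = 0 := by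
    push_cast at h5
    rw [sub_mul, h5, one_mul, sub_self]
  rcases mul_eq_zero.mp h6 with h7 | h7
  · exact absurd (sub_eq_zero.mp h7) hi1
  · have : m ^ n = m ^ 0 := by
      rw [pow_eq_pow_iff_zmod hm]; simpa using h7
    simpa using this

/-- `x` of order `a b`: if both prime parts `x ^ b` (order `a`) and `x ^ a` (order `b`) are
fixed-point-free on the subgroup `K`, so is every nontrivial power of `x`. -/
theorem fpf_zpowers_of_parts {a b : ℕ} (ha : a.Prime) (hb : b.Prime) (hab : a ≠ b)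
    (K : Subgroup G) (x : G) (hx : orderOf x = a * b)
    (hfa : ∀ k ∈ K, x ^ b * k * (x ^ b)⁻¹ = k → k = 1)
    (hfb : ∀ k ∈ K, x ^ a * k * (x ^ a)⁻¹ = k → k = 1) :
    ∀ y ∈ Subgroup.zpowers x, y ≠ 1 → ∀ k ∈ K, y * k * y⁻¹ = k → k = 1 := by
  have hfin : IsOfFinOrder x := by
    rw [← orderOf_pos_iff, hx]; exact Nat.mul_pos ha.pos hb.pos
  have hcop : a.Coprime b := (Nat.coprime_primes ha hb).mpr hab
  have hoa : orderOf (x ^ b) = a := by
    rw [orderOf_pow_of_dvd hb.ne_zero (by rw [hx]; exact dvd_mul_left b a), hx,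
      Nat.mul_div_cancel _ hb.pos]
  have hob : orderOf (x ^ a) = b := by
    rw [orderOf_pow_of_dvd ha.ne_zero (by rw [hx]; exact dvd_mul_right a b), hx,
      Nat.mul_div_cancel_left _ ha.pos]
  intro y hy hy1 k hk hfix
  obtain ⟨n, rfl⟩ := (hfin.mem_powers_iff_mem_zpowers).mpr hy
  have hcomm : Commute (x ^ n) k := (conj_eq_iff_commute _ _).mp hfix
  have hnot : ¬ (a ∣ n ∧ b ∣ n) := by
    rintro ⟨h1, h2⟩
    apply hy1
    have : a * b ∣ n := hcop.mul_dvd_of_dvd_of_dvd h1 h2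
    rw [← hx] at this
    exact orderOf_dvd_iff_pow_eq_one.mp this
  by_cases h1 : a ∣ n
  · have h2 : ¬ b ∣ n := fun h => hnot ⟨h1, h⟩
    -- use the b-part
    have hc2 : n.Coprime (orderOf (x ^ a)) := by
      rw [hob]; exact ((Nat.Prime.coprime_iff_not_dvd hb).mpr h2).symm
    obtain ⟨j, hj⟩ := exists_pow_eq_self_of_coprime hc2
    have h3 : Commute (x ^ a) k := by
      rw [← hj]
      apply Commute.pow_left
      have : (x ^ a) ^ n = (x ^ n) ^ a := by rw [← pow_mul, ← pow_mul, mul_comm]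
      rw [this]
      exact hcomm.pow_left a
    exact hfb k hk ((conj_eq_iff_commute _ _).mpr h3)
  · have hc2 : n.Coprime (orderOf (x ^ b)) := by
      rw [hoa]; exact ((Nat.Prime.coprime_iff_not_dvd ha).mpr h1).symm
    obtain ⟨j, hj⟩ := exists_pow_eq_self_of_coprime hc2
    have h3 : Commute (x ^ b) k := by
      rw [← hj]
      apply Commute.pow_left
      have : (x ^ b) ^ n = (x ^ n) ^ b := by rw [← pow_mul, ← pow_mul, mul_comm]
      rw [this]
      exact hcomm.pow_left b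
    exact hfa k hk ((conj_eq_iff_commute _ _).mpr h3)

/-- the same for `x = u * w` with commuting `u`, `w` of different prime orders. -/
theorem fpf_zpowers_mul {a b : ℕ} (ha : a.Prime) (hb : b.Prime) (hab : a ≠ b)
    (K : Subgroup G) (u w : G) (hu : orderOf u = a) (hw : orderOf w = b) (huw : Commute u w)
    (hfu : ∀ k ∈ K, u * k * u⁻¹ = k → k = 1)
    (hfw : ∀ k ∈ K, w * k * w⁻¹ = k → k = 1) :
    ∀ y ∈ Subgroup.zpowers (u * w), y ≠ 1 → ∀ k ∈ K, y * k * y⁻¹ = k → k = 1 := by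
  have hcop : a.Coprime b := (Nat.coprime_primes ha hb).mpr hab
  have hx : orderOf (u * w) = a * b := by
    rw [huw.orderOf_mul_eq_mul_orderOf_of_coprime (by rw [hu, hw]; exact hcop), hu, hw]
  have hub : (u * w) ^ b = u ^ b := by
    rw [huw.mul_pow, ← hw, pow_orderOf_eq_one, mul_one]
  have hwa : (u * w) ^ a = w ^ a := by
    rw [huw.mul_pow, ← hu, pow_orderOf_eq_one, one_mul]
  apply fpf_zpowers_of_parts ha hb hab K (u * w) hx
  · intro k hk hfix
    rw [hub] at hfix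
    have hc2 : b.Coprime (orderOf u) := by rw [hu]; exact hcop.symm
    obtain ⟨j, hj⟩ := exists_pow_eq_self_of_coprime hc2
    have h3 : Commute u k := by
      rw [← hj]
      exact ((conj_eq_iff_commute _ _).mp hfix).pow_left j
    exact hfu k hk ((conj_eq_iff_commute _ _).mpr h3)
  · intro k hk hfix
    rw [hwa] at hfix
    have hc2 : a.Coprime (orderOf w) := by rw [hw]; exact hcop
    obtain ⟨j, hj⟩ := exists_pow_eq_self_of_coprime hc2
    have h3 : Commute w k := by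
      rw [← hj]
      exact ((conj_eq_iff_commute _ _).mp hfix).pow_left j
    exact hfw k hk ((conj_eq_iff_commute _ _).mpr h3)

/-- powers of `x` keep `⟨m⟩` invariant. -/
theorem conj_pow_mem_zpowers (m x : G) (h : x * m * x⁻¹ ∈ Subgroup.zpowers m) (n : ℕ) :
    ∀ k ∈ Subgroup.zpowers m, x ^ n * k * (x ^ n)⁻¹ ∈ Subgroup.zpowers m := by
  have h1 : ∀ k ∈ Subgroup.zpowers m, x * k * x⁻¹ ∈ Subgroup.zpowers m := by
    intro k hk
    obtain ⟨i, rfl⟩ := Subgroup.mem_zpowers_iff.mp hk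
    rw [← conj_zpow]
    exact Subgroup.zpow_mem _ h i
  induction n with
  | zero => intro k hk; simpa using hk
  | succ n ih =>
    intro k hk
    have : x ^ (n + 1) * k * (x ^ (n + 1))⁻¹ = x * (x ^ n * k * (x ^ n)⁻¹) * x⁻¹ := by
      rw [pow_succ']; group
    rw [this]
    exact h1 _ (ih k hk)

/-- `x` of finite order with `x m x⁻¹ ∈ ⟨m⟩`: both `x` and `x⁻¹` normalise `⟨m⟩`. -/
theorem conj_mem_zpowers (m x : G) (hx : IsOfFinOrder x)
    (h : x * m * x⁻¹ ∈ Subgroup.zpowers m) :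
    (∀ k ∈ Subgroup.zpowers m, x * k * x⁻¹ ∈ Subgroup.zpowers m) ∧
    (∀ k ∈ Subgroup.zpowers m, x⁻¹ * k * x ∈ Subgroup.zpowers m) := by
  refine ⟨fun k hk => by simpa using conj_pow_mem_zpowers m x h 1 k hk, fun k hk => ?_⟩
  have hpos : 0 < orderOf x := hx.orderOf_pos
  have hinv : x⁻¹ = x ^ (orderOf x - 1) := by
    rw [inv_eq_iff_mul_eq_one, ← pow_succ', Nat.sub_add_cancel hpos, pow_orderOf_eq_one]
  have := conj_pow_mem_zpowers m x h (orderOf x - 1) k hk
  rw [← hinv, inv_inv] at this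
  exact this

/-- in particular `x ∈ N(⟨m⟩)`. -/
theorem mem_normalizer_zpowers (m x : G) (hx : IsOfFinOrder x)
    (h : x * m * x⁻¹ ∈ Subgroup.zpowers m) :
    x ∈ Subgroup.normalizer (Subgroup.zpowers m : Set G) := by
  obtain ⟨h1, h2⟩ := conj_mem_zpowers m x hx h
  rw [Subgroup.mem_normalizer_iff]
  intro k
  refine ⟨fun hk => h1 k hk, fun hk => ?_⟩
  have := h2 _ hk
  have e : x⁻¹ * (x * k * x⁻¹) * x = k := by group
  rwa [e] at this

/-- **the package for `K = ⟨m⟩`**: `m` of prime order `c`, `x` of order `a b` normalising `⟨m⟩`,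
neither prime part of `x` centralises `m`: the three hypotheses `hn`, `hn'`, `hfpf` of
`Cfsg.Agent.Lib.H10.FrobActGen.t1_cyclic` for `K = zpowers m`. -/
theorem frobenius_zpowers {a b c : ℕ} (ha : a.Prime) (hb : b.Prime) (hc : c.Prime) (hab : a ≠ b)
    (m x : G) (hm : orderOf m = c) (hx : orderOf x = a * b)
    (hxm : x * m * x⁻¹ ∈ Subgroup.zpowers m)
    (hna : ¬ Commute (x ^ b) m) (hnb : ¬ Commute (x ^ a) m) :
    (∀ k ∈ Subgroup.zpowers m, x * k * x⁻¹ ∈ Subgroup.zpowers m) ∧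
    (∀ k ∈ Subgroup.zpowers m, x⁻¹ * k * x ∈ Subgroup.zpowers m) ∧
    (∀ y ∈ Subgroup.zpowers x, y ≠ 1 → ∀ k ∈ Subgroup.zpowers m, y * k * y⁻¹ = k → k = 1) := by
  have hfin : IsOfFinOrder x := by
    rw [← orderOf_pos_iff, hx]; exact Nat.mul_pos ha.pos hb.pos
  obtain ⟨h1, h2⟩ := conj_mem_zpowers m x hfin hxm
  refine ⟨h1, h2, ?_⟩
  apply fpf_zpowers_of_parts ha hb hab (Subgroup.zpowers m) x hx
  · exact fpf_zpowers_of_not_commute hc m (x ^ b) hm
      (conj_pow_mem_zpowers m x hxm b m (Subgroup.mem_zpowers m)) hna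
  · exact fpf_zpowers_of_not_commute hc m (x ^ a) hm
      (conj_pow_mem_zpowers m x hxm a m (Subgroup.mem_zpowers m)) hnb

end Cfsg.Agent.Lib.H16.S3814FrobCyc
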