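import Mathlib
import Cfsg.Agent.Lib.H27.S3814C1Defs
import Cfsg.Agent.Lib.H1.CoprimeAction
import Cfsg.Agent.Lib.H1.CoprimeAbelian
import Cfsg.Agent.Lib.H1.Complement
import Cfsg.Agent.Lib.H1.Misc
import Cfsg.Agent.Lib.H10.FrobActGen
import Cfsg.Agent.Lib.H16.S3814FrobCyc

/-!
# S3814, Case 1, piece (13) A5 (helper16, twin)

For commuting `u, w ∈ X` of orders `t, t'`: `M = C_M(u) C_M(w)`.

`M₁ := [M, ⟨u⟩]`, `M₂ := [M₁, ⟨w⟩]`; coprime action on the abelian `M`: `M = C_M(u) M₁`,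
`M₁ = C_{M₁}(w) M₂`, `u` is fixed-point-free on `M₁ ⊇ M₂`, `w` on `M₂`; so `⟨u w⟩` is semiregular on
`M₂` (`Lib/H16/S3814FrobCyc.fpf_zpowers_mul`), `u w` is fixed-point-free on `V` (`KFacts.n1`), and
T1 with cyclic complement (`Lib/H10/FrobActGen.t1_cyclic`) makes `M₂` centralise `V`; `K` is
faithful, so `M₂ = 1` and `M₁ ≤ C_M(w)`.
-/

set_option autoImplicit false

namespace Cfsg.Agent.Lib.H16.S3814C1A5

open Cfsg.Agent.H7.S3814Defs Cfsg.Agent.H27.S3814C1
open Cfsg.Agent.Lib.H16.S3814FrobCyc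
open scoped commutatorElement

universe u

variable {G : Type u} [Group G]

/-- conjugation by `g` keeps `⁅H, A⁆` if it keeps `H` and `A`. -/
theorem conj_commutator_mem (H A : Subgroup G) (g : G) (hgH : ∀ h ∈ H, g * h * g⁻¹ ∈ H)
    (hgA : ∀ a ∈ A, g * a * g⁻¹ ∈ A) : ∀ n ∈ ⁅H, A⁆, g * n * g⁻¹ ∈ ⁅H, A⁆ := by
  intro n hn
  rw [Subgroup.commutator_def] at hn
  refine Subgroup.closure_induction (p := fun x _ => g * x * g⁻¹ ∈ ⁅H, A⁆) ?_ ?_ ?_ ?_ hn
  · rintro x ⟨h, hh, a, ha, rfl⟩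
    have : g * ⁅h, a⁆ * g⁻¹ = ⁅g * h * g⁻¹, g * a * g⁻¹⁆ := by
      simp only [commutatorElement_def]; group
    rw [this]
    exact Subgroup.commutator_mem_commutator (hgH h hh) (hgA a ha)
  · simp
  · intro x y _ _ hx hy
    have : g * (x * y) * g⁻¹ = (g * x * g⁻¹) * (g * y * g⁻¹) := by group
    rw [this]
    exact Subgroup.mul_mem _ hx hy
  · intro x _ hx
    have : g * x⁻¹ * g⁻¹ = (g * x * g⁻¹)⁻¹ := by group
    rw [this]
    exact Subgroup.inv_mem _ hx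

/-- coprime Fitting decomposition for a cyclic group `⟨g⟩` acting on an abelian subgroup `M`. -/
theorem fitting_cyclic [Finite G] (M : Subgroup G) (hMc : ∀ a ∈ M, ∀ b ∈ M, a * b = b * a)
    (g : G) (hgM : g ∈ Subgroup.normalizer (M : Set G))
    (hcop : (orderOf g).Coprime (Nat.card M)) :
    ⁅M, Subgroup.zpowers g⁆ ≤ M ∧
    (∀ m ∈ M, ∃ m₁ ∈ M, ∃ m₂ ∈ ⁅M, Subgroup.zpowers g⁆, m = m₁ * m₂ ∧ g * m₁ = m₁ * g) ∧
    (∀ n ∈ ⁅M, Subgroup.zpowers g⁆, g * n * g⁻¹ = n → n = 1) := by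
  have hMC : IsMulCommutative M := ⟨⟨fun a b => Subtype.ext (hMc a a.2 b b.2)⟩⟩
  have hUM : Subgroup.zpowers g ≤ Subgroup.normalizer (M : Set G) :=
    Subgroup.zpowers_le.mpr hgM
  have hcard : Nat.card (Subgroup.zpowers g) = orderOf g := Nat.card_zpowers g
  have hcop' : (Nat.card (Subgroup.zpowers g)).Coprime (Nat.card M) := by rw [hcard]; exact hcop
  have hCA : Cfsg.Agent.Lib.H1.CoprimeAction (Subgroup.zpowers g) M :=
    ⟨hUM, hcop', Or.inr (Cfsg.Agent.Lib.H1.isSolvable_of_isMulCommutative M)⟩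
  have hle : ⁅M, Subgroup.zpowers g⁆ ≤ M := hCA.commutator_le
  refine ⟨hle, ?_, ?_⟩
  · intro m hm
    have hm' : m ∈ ⁅M, Subgroup.zpowers g⁆ ⊔
        (M ⊓ Subgroup.centralizer (Subgroup.zpowers g : Set G)) := by
      rw [Cfsg.Agent.Lib.H1.coprime_commutator_sup_centralizer hCA]; exact hm
    have hY : M ⊓ Subgroup.centralizer (Subgroup.zpowers g : Set G) ≤
        Subgroup.normalizer ((⁅M, Subgroup.zpowers g⁆ : Subgroup G) : Set G) :=
      inf_le_left.trans (Subgroup.normalizer_commutator_ge_left M (Subgroup.zpowers g))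
    obtain ⟨x, hx, y, hy, rfl⟩ := Cfsg.Agent.Lib.H1.mem_sup_of_le_normalizer hY hm'
    obtain ⟨hyM, hyC⟩ := Subgroup.mem_inf.mp hy
    refine ⟨y, hyM, x, hx, hMc x (hle hx) y hyM, ?_⟩
    exact (Subgroup.mem_centralizer_iff.mp hyC) g (Subgroup.mem_zpowers g)
  · intro n hn hfix
    have hcomm : Commute g n := (conj_eq_iff_commute g n).mp hfix
    have hnC : n ∈ Subgroup.centralizer (Subgroup.zpowers g : Set G) := by
      rw [Subgroup.mem_centralizer_iff]
      intro a ha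
      obtain ⟨i, rfl⟩ := Subgroup.mem_zpowers_iff.mp ha
      exact (hcomm.zpow_left i).eq
    have hbot := Cfsg.Agent.Lib.H1.coprime_abelian_centralizer_inf_commutator hUM hcop'
    have : n ∈ (M ⊓ Subgroup.centralizer (Subgroup.zpowers g : Set G)) ⊓
        ⁅M, Subgroup.zpowers g⁆ :=
      Subgroup.mem_inf.mpr ⟨Subgroup.mem_inf.mpr ⟨hle hn, hnC⟩, hn⟩
    rw [hbot] at this
    exact Subgroup.mem_bot.mp this

/-- **PIECE A5.** -/
theorem a5 : A5Stmt.{u} := by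
  intro G _ σ p V K c M X t t' h u hu w hw huw ou ow
  have hfin : Finite G := h.c0.cex.fin
  have ht : t.Prime := h.c0.cex.prime t h.oth.ht
  have ht' : t'.Prime := h.c0.cex.prime t' h.oth.ht'
  have hp : p.Prime := h.c0.cex.prime p h.c0.shape.hp
  have hc : c.Prime := h.c0.hc
  have hXK : X ≤ K := h.compl.le
  have hMn := h.c0.hMn
  have hMK := h.c0.hMK
  obtain ⟨hMcomm, hMexp⟩ := h.c0.hMe
  have : Fact c.Prime := ⟨hc⟩
  have hMp : IsPGroup c M := by
    intro m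
    refine ⟨1, ?_⟩
    rw [pow_one]
    exact Subtype.ext (by rw [Subgroup.coe_pow, hMexp m m.2]; rfl)
  obtain ⟨nM, hnM⟩ := IsPGroup.iff_card.mp hMp
  -- cards of subgroups of M are powers of c
  have card_le : ∀ D : Subgroup G, D ≤ M → ∃ j : ℕ, Nat.card D = c ^ j := by
    intro D hD
    have hdvd : Nat.card D ∣ c ^ nM := hnM ▸ Subgroup.card_dvd_of_le hD
    obtain ⟨j, -, hj⟩ := (Nat.dvd_prime_pow hc).mp hdvd
    exact ⟨j, hj⟩
  have huN : u ∈ Subgroup.normalizer (M : Set G) := hMn (hXK hu)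
  have hwN : w ∈ Subgroup.normalizer (M : Set G) := hMn (hXK hw)
  have hcopu : (orderOf u).Coprime (Nat.card M) := by
    rw [ou, hnM]
    exact Nat.Coprime.pow_right nM ((Nat.coprime_primes ht hc).mpr h.oth.tc)
  -- step 1
  obtain ⟨hM1le, hdec1, hfpf_u⟩ := fitting_cyclic M hMcomm u huN hcopu
  set M1 : Subgroup G := ⁅M, Subgroup.zpowers u⁆ with hM1
  have hM1comm : ∀ a ∈ M1, ∀ b ∈ M1, a * b = b * a :=
    fun a ha b hb => hMcomm a (hM1le ha) b (hM1le hb)
  -- w normalises M1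
  have conj_of_normalizer : ∀ (g : G) (D : Subgroup G), g ∈ Subgroup.normalizer (D : Set G) →
      ∀ d ∈ D, g * d * g⁻¹ ∈ D := fun g D hg d hd =>
    (Subgroup.mem_normalizer_iff.mp hg d).mp hd
  have hwU : ∀ a ∈ Subgroup.zpowers u, w * a * w⁻¹ ∈ Subgroup.zpowers u := by
    intro a ha
    obtain ⟨i, rfl⟩ := Subgroup.mem_zpowers_iff.mp ha
    have hc' : Commute w (u ^ i) := (show Commute w u from huw.symm).zpow_right i
    rw [(conj_eq_iff_commute _ _).mpr hc']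
    exact Subgroup.zpow_mem _ (Subgroup.mem_zpowers u) i
  have hwN1 : w ∈ Subgroup.normalizer (M1 : Set G) :=
    Subgroup.mem_normalizer_fintype (fun n hn =>
      conj_commutator_mem M (Subgroup.zpowers u) w (conj_of_normalizer w M hwN) hwU n hn)
  have huN1 : u ∈ Subgroup.normalizer (M1 : Set G) :=
    Subgroup.normalizer_commutator_ge_right M (Subgroup.zpowers u) (Subgroup.mem_zpowers u)
  obtain ⟨j1, hj1⟩ := card_le M1 hM1le
  have hcopw : (orderOf w).Coprime (Nat.card M1) := by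
    rw [ow, hj1]
    exact Nat.Coprime.pow_right j1 ((Nat.coprime_primes ht' hc).mpr h.oth.t'c)
  -- step 2
  obtain ⟨hM2le, hdec2, hfpf_w⟩ := fitting_cyclic M1 hM1comm w hwN1 hcopw
  set M2 : Subgroup G := ⁅M1, Subgroup.zpowers w⁆ with hM2
  have hM2M : M2 ≤ M := hM2le.trans hM1le
  -- u, w normalise M2
  have huW : ∀ a ∈ Subgroup.zpowers w, u * a * u⁻¹ ∈ Subgroup.zpowers w := by
    intro a ha
    obtain ⟨i, rfl⟩ := Subgroup.mem_zpowers_iff.mp ha
    have hc' : Commute u (w ^ i) := (show Commute u w from huw).zpow_right i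
    rw [(conj_eq_iff_commute _ _).mpr hc']
    exact Subgroup.zpow_mem _ (Subgroup.mem_zpowers w) i
  have huN2 : u ∈ Subgroup.normalizer (M2 : Set G) :=
    Subgroup.mem_normalizer_fintype (fun n hn =>
      conj_commutator_mem M1 (Subgroup.zpowers w) u (conj_of_normalizer u M1 huN1) huW n hn)
  have hwN2 : w ∈ Subgroup.normalizer (M2 : Set G) :=
    Subgroup.normalizer_commutator_ge_right M1 (Subgroup.zpowers w) (Subgroup.mem_zpowers w)
  have hxN2 : u * w ∈ Subgroup.normalizer (M2 : Set G) := Subgroup.mul_mem _ huN2 hwN2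
  -- T1
  have hVn := h.c0.shape.normal
  obtain ⟨hVcomm, hVexp⟩ := h.c0.shape.elem
  have huwK : u * w ∈ K := K.mul_mem (hXK hu) (hXK hw)
  have hcoptt' : t.Coprime t' := (Nat.coprime_primes ht ht').mpr h.oth.tt'
  have ho_uw : orderOf (u * w) = t * t' := by
    rw [(show Commute u w from huw).orderOf_mul_eq_mul_orderOf_of_coprime (by rw [ou, ow]; exact hcoptt'),
      ou, ow]
  have hfpfV : Fpf (u * w) V :=
    h.c0.kf.n1 (u * w) huwK t h.oth.ht t' h.oth.ht' h.oth.tp h.oth.t'p h.oth.tt'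
      (by rw [ho_uw])
  obtain ⟨j2, hj2⟩ := card_le M2 hM2M
  have hcent : ∀ k ∈ M2, ∀ v ∈ V, k * v = v * k := by
    apply Cfsg.Agent.Lib.H10.FrobActGen.t1_cyclic M2 V (u * w) (isOfFinOrder_of_finite _) hVcomm
    · intro k _ v hv; exact hVn.conj_mem v hv k
    · intro v hv; exact hVn.conj_mem v hv (u * w)
    · intro v hv
      have := hVn.conj_mem v hv (u * w)⁻¹
      rwa [inv_inv] at this
    · intro k hk; exact conj_of_normalizer (u * w) M2 hxN2 k hk
    · intro k hk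
      have := conj_of_normalizer (u * w)⁻¹ M2 (Subgroup.inv_mem _ hxN2) k hk
      rwa [inv_inv] at this
    · apply fpf_zpowers_mul ht ht' h.oth.tt' M2 u w ou ow huw
      · intro k hk hfix; exact hfpf_u k (hM2le hk) hfix
      · intro k hk hfix; exact hfpf_w k hk hfix
    · intro v hv hvc
      rw [hj2] at hvc
      have h1 : v ^ p = 1 := hVexp v hv
      have h3 := pow_gcd_eq_one.mpr ⟨hvc, h1⟩
      have hcp : (c ^ j2).Coprime p :=
        Nat.Coprime.pow_left j2 ((Nat.coprime_primes hc hp).mpr h.oth.cp)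
      rw [Nat.Coprime.gcd_eq_one hcp, pow_one] at h3
      exact h3
    · intro v hv hfix
      exact hfpfV v hv ((conj_eq_iff_commute _ _).mp hfix).eq
  have hM2bot : ∀ k ∈ M2, k = 1 := fun k hk =>
    h.c0.shape.faithful k (hMK (hM2M hk)) (hcent k hk)
  -- M1 ≤ C(w)
  have hM1w : ∀ n ∈ M1, w * n = n * w := by
    intro n hn
    obtain ⟨n₁, _, n₂, hn₂, rfl, hwn₁⟩ := hdec2 n hn
    rw [hM2bot n₂ hn₂, mul_one]
    exact hwn₁
  intro m hm
  obtain ⟨m₁, hm₁, m₂, hm₂, rfl, hum₁⟩ := hdec1 m hm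
  exact ⟨m₁, hm₁, m₂, hM1le hm₂, rfl, hum₁, hM1w m₂ hm₂⟩

example : A5Stmt.{0} := a5

end Cfsg.Agent.Lib.H16.S3814C1A5
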