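import Mathlib
import Cfsg.Agent.Lib.H27.S3814C1Defs
import Cfsg.Agent.Lib.H4.S3814NSyl
import Cfsg.Agent.Lib.H16.S3814AutCyc

/-!
# S3814, Case 1, piece (16) A8 : `t' ∣ t - 1` (helper16)

`E' = C_{t'} × C_{t'} ≤ X` acts coprimely on `M ≠ 1`: coprime generation (helper4's
`rank2_fixed`, from S0058) gives `x ∈ E'` of order `t'` and `n ∈ M`, `n ≠ 1`, commuting.  `x` does
not centralise `u0` (else `u0 n x` has order `t c t'`, against (N)); `x` normalises `⟨u0⟩` (A7):
`Lib/H16/S3814AutCyc.dvd_pred_of_not_commute`.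
-/

set_option autoImplicit false

namespace Cfsg.Agent.Lib.H16.S3814C1A8

open Cfsg.Agent.H7.S3814Defs Cfsg.Agent.H27.S3814C1
open Cfsg.Agent.Lib.H16.S3814AutCyc

universe u

/-- **PIECE A8.** -/
theorem a8 : A8Stmt.{u} := by
  intro G _ σ p V K c M X t t' u0 h a7
  have hfin : Finite G := h.c1.c0.cex.fin
  have ht : t.Prime := h.c1.c0.cex.prime t h.c1.oth.ht
  have ht' : t'.Prime := h.c1.c0.cex.prime t' h.c1.oth.ht'
  have hc : c.Prime := h.c1.c0.hc
  have hXK : X ≤ K := h.c1.compl.le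
  have hMn := h.c1.c0.hMn
  obtain ⟨hMcomm, hMexp⟩ := h.c1.c0.hMe
  -- M ≠ ⊥
  have hMne : M ≠ ⊥ := by
    intro hM
    have h2 := h.c1.c0.hM2
    rw [hM, Subgroup.card_bot] at h2
    have : c ^ 2 ≤ 1 := Nat.le_of_dvd Nat.one_pos h2
    have h3 : 1 < c ^ 2 := Nat.one_lt_pow (by norm_num) hc.one_lt
    omega
  -- |M| coprime to t'
  have hMp : IsPGroup c M := by
    intro m
    refine ⟨1, ?_⟩
    rw [pow_one]
    exact Subtype.ext (by rw [Subgroup.coe_pow, hMexp m m.2]; rfl)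
  have hcop : (Nat.card M).Coprime t' := by
    have : Fact c.Prime := ⟨hc⟩
    obtain ⟨n, hn⟩ := IsPGroup.iff_card.mp hMp
    rw [hn]
    exact Nat.Coprime.pow_left n ((Nat.coprime_primes hc ht').mpr h.c1.oth.t'c.symm)
  obtain ⟨e₁, he₁X, e₂, he₂X, ho1, ho2, hcomm, hni⟩ := h.c1.xr2'
  obtain ⟨x, hxcl, hox, n, hnM, hn1, hnx⟩ :=
    Cfsg.Agent.Lib.H4.S3814NSyl.rank2_fixed ht' M hMne hcop e₁ e₂ ho1 ho2 hcomm hni
      (hMn (hXK he₁X)) (hMn (hXK he₂X))
  have hxX : x ∈ X := by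
    have hle : Subgroup.closure ({e₂, e₁} : Set G) ≤ X := by
      rw [Subgroup.closure_le]
      intro y hy
      rcases hy with rfl | hy
      · exact he₂X
      · rw [Set.mem_singleton_iff] at hy; subst hy; exact he₁X
    exact hle hxcl
  have : Fact c.Prime := ⟨hc⟩
  have hon : orderOf n = c := orderOf_eq_prime (hMexp n hnM) hn1
  -- x does not centralise u0
  have hnc : ¬ Commute x u0 := by
    intro hxu
    have hun : Commute u0 n := h.cu0 n hnM
    have hnx' : Commute n x := hnx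
    have hcop1 : (orderOf u0).Coprime (orderOf n) := by
      rw [h.ou0, hon]; exact (Nat.coprime_primes ht hc).mpr h.c1.oth.tc
    have ho_un : orderOf (u0 * n) = t * c := by
      rw [hun.orderOf_mul_eq_mul_orderOf_of_coprime hcop1, h.ou0, hon]
    have hcomm2 : Commute (u0 * n) x := Commute.mul_left hxu.symm hnx'
    have hcop2 : (orderOf (u0 * n)).Coprime (orderOf x) := by
      rw [ho_un, hox]
      exact Nat.Coprime.mul_left ((Nat.coprime_primes ht ht').mpr h.c1.oth.tt')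
        ((Nat.coprime_primes hc ht').mpr h.c1.oth.t'c.symm)
    have ho3 : orderOf (u0 * n * x) = t * c * t' := by
      rw [hcomm2.orderOf_mul_eq_mul_orderOf_of_coprime hcop2, ho_un, hox]
    exact h.c1.c0.cex.notriple t h.c1.oth.ht c h.c1.oth.hc t' h.c1.oth.ht' h.c1.oth.tc
      h.c1.oth.t'c.symm h.c1.oth.tt' (u0 * n * x) ho3
  exact dvd_pred_of_not_commute ht' ht u0 x h.ou0 hox (a7 x (hXK hxX)) hnc

example : A8Stmt.{0} := a8

end Cfsg.Agent.Lib.H16.S3814C1A8
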