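import Mathlib
import Cfsg.Agent.Lib.H27.S3814C1Defs
import Cfsg.Agent.Lib.H16.S3814AutCyc

/-!
# S3814, Case 1, piece (17) E1 (helper16)

`E' = C_{t'} × C_{t'} ≤ X` normalises `⟨u0⟩` (A7) and `Aut(C_t)` is cyclic, so some `e₁ ∈ E'` of
order `t'` centralises `u0` (`Lib/H16/S3814AutCyc.exists_orderOf_eq_commute`); `u0 e₁` is a
`tt'`-element, so `Ctx2.mix` gives `Fpf e₁ M`.
-/

set_option autoImplicit false

namespace Cfsg.Agent.Lib.H16.S3814C1E1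

open Cfsg.Agent.H7.S3814Defs Cfsg.Agent.H27.S3814C1
open Cfsg.Agent.Lib.H16.S3814AutCyc

universe u

/-- **PIECE E1 (A10).** -/
theorem e1 : E1Stmt.{u} := by
  intro G _ σ p V K c M X t t' u0 h a7
  have ht : t.Prime := h.c1.c0.cex.prime t h.c1.oth.ht
  have ht' : t'.Prime := h.c1.c0.cex.prime t' h.c1.oth.ht'
  have hXK : X ≤ K := h.c1.compl.le
  obtain ⟨e₁, he₁X, e₂, he₂X, ho1, ho2, hcomm, hni⟩ := h.c1.xr2'
  obtain ⟨e, ⟨s, k, rfl⟩, hoe, hce⟩ :=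
    exists_orderOf_eq_commute ht' ht u0 e₂ e₁ h.ou0 ho2 ho1 (show Commute e₂ e₁ from hcomm.symm)
      hni (a7 e₂ (hXK he₂X)) (a7 e₁ (hXK he₁X))
  have heX : e₂ ^ s * e₁ ^ k ∈ X := X.mul_mem (X.pow_mem he₂X s) (X.pow_mem he₁X k)
  refine ⟨e₂ ^ s * e₁ ^ k, heX, hoe, hce.eq, ?_⟩
  exact (h.mix u0 h.hu0 (e₂ ^ s * e₁ ^ k) heX hce.eq.symm h.ou0 hoe).2

example : E1Stmt.{0} := e1

end Cfsg.Agent.Lib.H16.S3814C1E1
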