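import Mathlib
import Cfsg.Agent.Lib.H8.S3814MPDefs
import Cfsg.Agent.Lib.H9.CoprimeGeneration
import Cfsg.Agent.Lib.H1.Misc
import Cfsg.Agent.Lib.H24.S3814F2E
import Cfsg.Agent.Lib.H16.S3814FrobCyc

/-!
# S3814, block (MP), piece (K3c) (helper16)

Pure group theory: `T = ⟨c, d⟩ = C_s × C_s` normalising `A = ⟨a, b⟩ = C_r × C_r` (`r ≠ s` primes)
such that every `y ≠ 1` of `T` centralises some `e ≠ 1` of `A` is not faithful on `A`.

Proof: assume faithful.  `C_A(c) = ⟨e₁⟩` is a line.  By coprime generation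
(`Lib.H9.le_of_centralizers_le`) some `y₂ = c ^ i * d` has `C_A(y₂) ⊄ C_A(c)`, so
`C_A(y₂) = ⟨e₂⟩`, `A = ⟨e₁⟩ × ⟨e₂⟩`, both lines `T`-invariant, `c` fixed-point-free on `⟨e₂⟩`,
`y₂` fixed-point-free on `⟨e₁⟩`; then `c * y₂ ≠ 1` centralises no `e ≠ 1` of `A`.
-/

set_option autoImplicit false

namespace Cfsg.Agent.Lib.H16.S3814MPK3c

open Cfsg.Agent.H7.S3814Defs Cfsg.Agent.Lib.H8.S3814MP
open Cfsg.Agent.Lib.H16.S3814AutCyc Cfsg.Agent.Lib.H16.S3814FrobCyc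

universe u

variable {G : Type u} [Group G] [Finite G]

/-- structure of `closure {a, b}` for a rank-2 pair. -/
theorem closure_pair_facts {t : ℕ} (ht : t.Prime) {a b : G} (p : IsRank2Pair t a b) :
    (∀ e ∈ Subgroup.closure ({a, b} : Set G), ∀ f ∈ Subgroup.closure ({a, b} : Set G),
      e * f = f * e) ∧
    (∀ e ∈ Subgroup.closure ({a, b} : Set G), e ^ t = 1) ∧
    Nat.card (Subgroup.closure ({a, b} : Set G)) = t ^ 2 ∧
    (∀ e ∈ Subgroup.closure ({a, b} : Set G), ∃ i j : ℕ, e = b ^ i * a ^ j) := by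
  obtain ⟨hoa, hob, hab, hbna⟩ := p
  obtain ⟨E, hEel, hEcard, -, hbE, haE, hEform⟩ :=
    Cfsg.Agent.Lib.H24.S3814F2E.exists_subgroup ht b a hob hoa (show Commute b a from hab.symm) hbna
  have haC : a ∈ Subgroup.closure ({a, b} : Set G) := Subgroup.subset_closure (by simp)
  have hbC : b ∈ Subgroup.closure ({a, b} : Set G) := Subgroup.subset_closure (by simp)
  have hEq : Subgroup.closure ({a, b} : Set G) = E := by
    apply le_antisymm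
    · rw [Subgroup.closure_le]
      rintro x hx
      rcases hx with rfl | hx
      · exact haE
      · rw [Set.mem_singleton_iff] at hx; subst hx; exact hbE
    · intro e he
      obtain ⟨i, j, rfl⟩ := hEform e he
      exact Subgroup.mul_mem _ (Subgroup.pow_mem _ hbC i) (Subgroup.pow_mem _ haC j)
  rw [hEq]
  obtain ⟨hcomm, hexp⟩ := hEel
  refine ⟨?_, hexp, hEcard, hEform⟩
  intro e he f hf
  have := hcomm.is_comm.comm ⟨e, he⟩ ⟨f, hf⟩
  exact congrArg Subtype.val this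

/-- two independent elements of a `C_r × C_r` generate it. -/
theorem gen2 {r : ℕ} (hr : r.Prime) (A : Subgroup G)
    (hAexp : ∀ e ∈ A, e ^ r = 1) (hAcard : Nat.card A = r ^ 2)
    (hAcomm : ∀ e ∈ A, ∀ f ∈ A, e * f = f * e)
    (e₁ e₂ : G) (h1 : e₁ ∈ A) (h2 : e₂ ∈ A) (hne : e₁ ≠ 1) (hni : e₂ ∉ Subgroup.zpowers e₁) :
    ∀ e ∈ A, ∃ i j : ℕ, e = e₂ ^ i * e₁ ^ j := by
  have : Fact r.Prime := ⟨hr⟩
  have ho1 : orderOf e₁ = r := orderOf_eq_prime (hAexp e₁ h1) hne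
  have hne2 : e₂ ≠ 1 := by
    rintro rfl
    exact hni (Subgroup.one_mem _)
  have ho2 : orderOf e₂ = r := orderOf_eq_prime (hAexp e₂ h2) hne2
  obtain ⟨E, -, hEcard, -, h2E, h1E, hEform⟩ :=
    Cfsg.Agent.Lib.H24.S3814F2E.exists_subgroup hr e₂ e₁ ho2 ho1
      (show Commute e₂ e₁ from hAcomm e₂ h2 e₁ h1) hni
  have hle : E ≤ A := by
    intro e he
    obtain ⟨i, j, rfl⟩ := hEform e he
    exact Subgroup.mul_mem _ (Subgroup.pow_mem _ h2 i) (Subgroup.pow_mem _ h1 j)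
  have hEA : E = A := Subgroup.eq_of_le_of_card_ge hle (by rw [hAcard, hEcard])
  intro e he
  rw [← hEA] at he
  exact hEform e he

/-- the pure group theory core of (K3c). -/
theorem k3c_core {r s : ℕ} (hr : r.Prime) (hs : s.Prime) (hrs : r ≠ s) {a b c d : G}
    (pab : IsRank2Pair r a b) (pcd : IsRank2Pair s c d)
    (nca : c * a * c⁻¹ ∈ Subgroup.closure ({a, b} : Set G))
    (ncb : c * b * c⁻¹ ∈ Subgroup.closure ({a, b} : Set G))
    (nda : d * a * d⁻¹ ∈ Subgroup.closure ({a, b} : Set G))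
    (ndb : d * b * d⁻¹ ∈ Subgroup.closure ({a, b} : Set G))
    (hK3a : ∀ y ∈ Subgroup.closure ({c, d} : Set G), y ≠ 1 →
      ∃ e ∈ Subgroup.closure ({a, b} : Set G), e ≠ 1 ∧ y * e = e * y) :
    ∃ y ∈ Subgroup.closure ({c, d} : Set G), y ≠ 1 ∧
      ∀ e ∈ Subgroup.closure ({a, b} : Set G), y * e = e * y := by
  classical
  have : Fact r.Prime := ⟨hr⟩
  have : Fact s.Prime := ⟨hs⟩
  obtain ⟨hAcomm, hAexp, hAcard, hAform⟩ := closure_pair_facts hr pab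
  obtain ⟨hTcomm, hTexp, hTcard, hTform⟩ := closure_pair_facts hs pcd
  obtain ⟨hoc, hod, hcd, hdnc⟩ := pcd
  set A : Subgroup G := Subgroup.closure ({a, b} : Set G) with hA
  set T : Subgroup G := Subgroup.closure ({c, d} : Set G) with hT
  have haA : a ∈ A := Subgroup.subset_closure (by simp)
  have hbA : b ∈ A := Subgroup.subset_closure (by simp)
  have hcT : c ∈ T := Subgroup.subset_closure (by simp)
  have hdT : d ∈ T := Subgroup.subset_closure (by simp)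
  -- T normalises A
  have conj_gen : ∀ g : G, g * a * g⁻¹ ∈ A → g * b * g⁻¹ ∈ A → ∀ e ∈ A, g * e * g⁻¹ ∈ A := by
    intro g hga hgb e he
    obtain ⟨i, j, rfl⟩ := hAform e he
    have : g * (b ^ i * a ^ j) * g⁻¹ = (g * b * g⁻¹) ^ i * (g * a * g⁻¹) ^ j := by
      rw [conj_pow, conj_pow]; group
    rw [this]
    exact A.mul_mem (A.pow_mem hgb i) (A.pow_mem hga j)
  have hcN : c ∈ Subgroup.normalizer (A : Set G) :=
    Subgroup.mem_normalizer_fintype (fun n hn => conj_gen c nca ncb n hn)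
  have hdN : d ∈ Subgroup.normalizer (A : Set G) :=
    Subgroup.mem_normalizer_fintype (fun n hn => conj_gen d nda ndb n hn)
  have hTN : T ≤ Subgroup.normalizer (A : Set G) := by
    rw [hT, Subgroup.closure_le]
    rintro x hx
    rcases hx with rfl | hx
    · exact hcN
    · rw [Set.mem_singleton_iff] at hx; subst hx; exact hdN
  have hnorm : ∀ y ∈ T, ∀ e ∈ A, y * e * y⁻¹ ∈ A := fun y hy e he =>
    (Subgroup.mem_normalizer_iff.mp (hTN hy) e).mp he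
  by_contra hcon
  push_neg at hcon
  -- faithful
  have hfaith : ∀ y ∈ T, y ≠ 1 → ∃ e ∈ A, y * e ≠ e * y := hcon
  have hc1 : c ≠ 1 := by
    intro h
    rw [h, orderOf_one] at hoc
    exact hs.one_lt.ne hoc
  have hcs : c ^ s = 1 := by rw [← hoc]; exact pow_orderOf_eq_one c
  have hds : d ^ s = 1 := by rw [← hod]; exact pow_orderOf_eq_one d
  -- the line lemma
  have line : ∀ y ∈ T, y ≠ 1 → ∀ e₀ ∈ A, e₀ ≠ 1 → y * e₀ = e₀ * y →
      ∀ f ∈ A, y * f = f * y → f ∈ Subgroup.zpowers e₀ := by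
    intro y hy hy1 e₀ he₀ he₀1 hye₀ f hf hyf
    by_contra hfn
    obtain ⟨e, heA, hye⟩ := hfaith y hy hy1
    apply hye
    obtain ⟨i, j, rfl⟩ := gen2 hr A hAexp hAcard hAcomm e₀ f he₀ hf he₀1 hfn e heA
    have h1 : Commute y (f ^ i) := (show Commute y f from hyf).pow_right i
    have h2 : Commute y (e₀ ^ j) := (show Commute y e₀ from hye₀).pow_right j
    exact (h1.mul_right h2).eq
  -- e₁
  obtain ⟨e₁, he₁A, he₁1, hce₁⟩ := hK3a c hcT hc1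
  have ho1 : orderOf e₁ = r := orderOf_eq_prime (hAexp e₁ he₁A) he₁1
  -- coprime generation
  have hsolvT : Group.IsSolvable T := by
    have : IsMulCommutative T := ⟨⟨fun x y => Subtype.ext (hTcomm x x.2 y y.2)⟩⟩
    exact Cfsg.Agent.Lib.H1.isSolvable_of_isMulCommutative T
  have hcopTA : (Nat.card T).Coprime (Nat.card A) := by
    rw [hTcard, hAcard]
    exact Nat.Coprime.pow 2 2 ((Nat.coprime_primes hs hr).mpr hrs.symm)
  have hCA : Cfsg.Agent.Lib.H1.CoprimeAction T A := ⟨hTN, hcopTA, Or.inl hsolvT⟩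
  have hAs : (Nat.card A).Coprime s := by
    rw [hAcard]
    exact Nat.Coprime.pow_left 2 ((Nat.coprime_primes hr hs).mpr hrs)
  set L : Subgroup G := A ⊓ Subgroup.centralizer {c} with hL
  have hnotle : ¬ A ≤ L := by
    intro hle
    obtain ⟨e, heA, hce⟩ := hfaith c hcT hc1
    have := (Subgroup.mem_inf.mp (hle heA)).2
    rw [Subgroup.mem_centralizer_singleton_iff] at this
    exact hce this.symm
  have hex : ∃ i : ℕ, ¬ A ⊓ Subgroup.centralizer {c ^ i * d} ≤ L := by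
    by_contra hall
    push_neg at hall
    exact hnotle (Cfsg.Agent.Lib.H9.le_of_centralizers_le hCA hAs hcT hdT hcd hcs hds le_rfl hall)
  obtain ⟨i, hi⟩ := hex
  obtain ⟨e₂, he₂, he₂L⟩ := SetLike.not_le_iff_exists.mp hi
  have he₂A : e₂ ∈ A := (Subgroup.mem_inf.mp he₂).1
  have hy₂e₂ : (c ^ i * d) * e₂ = e₂ * (c ^ i * d) := by
    have := (Subgroup.mem_inf.mp he₂).2
    rw [Subgroup.mem_centralizer_singleton_iff] at this
    exact this.symm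
  have hce₂ : ¬ c * e₂ = e₂ * c := by
    intro h
    apply he₂L
    refine Subgroup.mem_inf.mpr ⟨he₂A, ?_⟩
    rw [Subgroup.mem_centralizer_singleton_iff]
    exact h.symm
  set y₂ : G := c ^ i * d with hy₂
  have hy₂T : y₂ ∈ T := T.mul_mem (T.pow_mem hcT i) hdT
  have hy₂1 : y₂ ≠ 1 := by
    intro h
    apply hdnc
    have : d = (c ^ i)⁻¹ := eq_inv_of_mul_eq_one_right h
    rw [this]
    exact Subgroup.inv_mem _ (Subgroup.pow_mem _ (Subgroup.mem_zpowers c) i)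
  have hcy₂ : Commute c y₂ :=
    ((Commute.refl c).pow_right i).mul_right (show Commute c d from hcd)
  have he₂1 : e₂ ≠ 1 := by
    rintro rfl
    exact hce₂ (by simp)
  have ho2 : orderOf e₂ = r := orderOf_eq_prime (hAexp e₂ he₂A) he₂1
  -- e₂ ∉ ⟨e₁⟩
  have he₂n : e₂ ∉ Subgroup.zpowers e₁ := by
    intro h
    obtain ⟨k, rfl⟩ := Subgroup.mem_zpowers_iff.mp h
    exact hce₂ ((show Commute c e₁ from hce₁).zpow_right k).eq
  have hform : ∀ e ∈ A, ∃ i j : ℕ, e = e₂ ^ i * e₁ ^ j :=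
    gen2 hr A hAexp hAcard hAcomm e₁ e₂ he₁A he₂A he₁1 he₂n
  -- (b) y₂ does not centralise e₁
  have hy₂e₁ : ¬ y₂ * e₁ = e₁ * y₂ := by
    intro h
    obtain ⟨e, heA, hye⟩ := hfaith y₂ hy₂T hy₂1
    apply hye
    obtain ⟨k, l, rfl⟩ := hform e heA
    have h1 : Commute y₂ (e₂ ^ k) := (show Commute y₂ e₂ from hy₂e₂).pow_right k
    have h2 : Commute y₂ (e₁ ^ l) := (show Commute y₂ e₁ from h).pow_right l
    exact (h1.mul_right h2).eq
  -- (c3), (c4): the lines are invariant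
  have hc_e₂ : c * e₂ * c⁻¹ ∈ Subgroup.zpowers e₂ := by
    apply line y₂ hy₂T hy₂1 e₂ he₂A he₂1 hy₂e₂ _ (hnorm c hcT e₂ he₂A)
    have h1 : Commute y₂ c := hcy₂.symm
    have h2 : Commute y₂ e₂ := hy₂e₂
    exact ((h1.mul_right h2).mul_right h1.inv_right).eq
  have hy₂_e₁ : y₂ * e₁ * y₂⁻¹ ∈ Subgroup.zpowers e₁ := by
    apply line c hcT hc1 e₁ he₁A he₁1 hce₁ _ (hnorm y₂ hy₂T e₁ he₁A)
    have h1 : Commute c y₂ := hcy₂
    have h2 : Commute c e₁ := hce₁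
    exact ((h1.mul_right h2).mul_right h1.inv_right).eq
  -- fixed-point-freeness on the lines
  have fpf_c := fpf_zpowers_of_not_commute hr e₂ c ho2 hc_e₂ (fun h => hce₂ h.eq)
  have fpf_y₂ := fpf_zpowers_of_not_commute hr e₁ y₂ ho1 hy₂_e₁ (fun h => hy₂e₁ h.eq)
  -- (d) the element y = c * y₂
  have hyT : c * y₂ ∈ T := T.mul_mem hcT hy₂T
  have hy1 : c * y₂ ≠ 1 := by
    intro h
    apply hy₂e₁
    have : y₂ = c⁻¹ := eq_inv_of_mul_eq_one_right h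
    rw [this]
    exact ((show Commute c e₁ from hce₁).inv_left).eq
  obtain ⟨e, heA, he1, hye⟩ := hK3a (c * y₂) hyT hy1
  obtain ⟨k, l, rfl⟩ := hform e heA
  -- p = e₂ ^ k, q = e₁ ^ l
  have hp2 : e₂ ^ k ∈ Subgroup.zpowers e₂ := Subgroup.pow_mem _ (Subgroup.mem_zpowers e₂) k
  have hq1 : e₁ ^ l ∈ Subgroup.zpowers e₁ := Subgroup.pow_mem _ (Subgroup.mem_zpowers e₁) l
  have hp' : c * e₂ ^ k * c⁻¹ ∈ Subgroup.zpowers e₂ := by
    rw [← conj_pow]; exact Subgroup.pow_mem _ hc_e₂ k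
  have hq' : y₂ * e₁ ^ l * y₂⁻¹ ∈ Subgroup.zpowers e₁ := by
    rw [← conj_pow]; exact Subgroup.pow_mem _ hy₂_e₁ l
  -- y₂ commutes with p, c commutes with q'
  have hy₂p : Commute y₂ (e₂ ^ k) := (show Commute y₂ e₂ from hy₂e₂).pow_right k
  have hcz1 : ∀ z ∈ Subgroup.zpowers e₁, Commute c z := by
    intro z hz
    obtain ⟨n, rfl⟩ := Subgroup.mem_zpowers_iff.mp hz
    exact (show Commute c e₁ from hce₁).zpow_right n
  have hcq' : Commute c (y₂ * e₁ ^ l * y₂⁻¹) := hcz1 _ hq'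
  -- the conjugate of e by y
  have hconj : (c * y₂) * (e₂ ^ k * e₁ ^ l) * (c * y₂)⁻¹
      = (c * e₂ ^ k * c⁻¹) * (y₂ * e₁ ^ l * y₂⁻¹) := by
    have e1 : (c * y₂) * (e₂ ^ k * e₁ ^ l) * (c * y₂)⁻¹
        = c * (y₂ * e₂ ^ k * y₂⁻¹) * (y₂ * e₁ ^ l * y₂⁻¹) * c⁻¹ := by group
    have e2 : y₂ * e₂ ^ k * y₂⁻¹ = e₂ ^ k := (conj_eq_iff_commute _ _).mpr hy₂p
    rw [e1, e2]
    have e3 : c * e₂ ^ k * (y₂ * e₁ ^ l * y₂⁻¹) * c⁻¹
        = (c * e₂ ^ k * c⁻¹) * (c * (y₂ * e₁ ^ l * y₂⁻¹) * c⁻¹) := by group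
    rw [e3, (conj_eq_iff_commute _ _).mpr hcq']
  have hfix : (c * y₂) * (e₂ ^ k * e₁ ^ l) * (c * y₂)⁻¹ = e₂ ^ k * e₁ ^ l :=
    (conj_eq_iff_commute _ _).mpr hye
  rw [hconj] at hfix
  -- u := p⁻¹ p' = q q'⁻¹
  have hu : (e₂ ^ k)⁻¹ * (c * e₂ ^ k * c⁻¹) = e₁ ^ l * (y₂ * e₁ ^ l * y₂⁻¹)⁻¹ := by
    have : (e₂ ^ k)⁻¹ * ((c * e₂ ^ k * c⁻¹) * (y₂ * e₁ ^ l * y₂⁻¹)) * (y₂ * e₁ ^ l * y₂⁻¹)⁻¹
        = (e₂ ^ k)⁻¹ * (e₂ ^ k * e₁ ^ l) * (y₂ * e₁ ^ l * y₂⁻¹)⁻¹ := by rw [hfix]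
    have l1 : (e₂ ^ k)⁻¹ * ((c * e₂ ^ k * c⁻¹) * (y₂ * e₁ ^ l * y₂⁻¹)) * (y₂ * e₁ ^ l * y₂⁻¹)⁻¹
        = (e₂ ^ k)⁻¹ * (c * e₂ ^ k * c⁻¹) := by group
    have l2 : (e₂ ^ k)⁻¹ * (e₂ ^ k * e₁ ^ l) * (y₂ * e₁ ^ l * y₂⁻¹)⁻¹
        = e₁ ^ l * (y₂ * e₁ ^ l * y₂⁻¹)⁻¹ := by group
    rw [l1, l2] at this
    exact this
  have hu2 : (e₂ ^ k)⁻¹ * (c * e₂ ^ k * c⁻¹) ∈ Subgroup.zpowers e₂ :=
    Subgroup.mul_mem _ (Subgroup.inv_mem _ hp2) hp'
  have hu1 : (e₂ ^ k)⁻¹ * (c * e₂ ^ k * c⁻¹) ∈ Subgroup.zpowers e₁ := by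
    rw [hu]
    exact Subgroup.mul_mem _ hq1 (Subgroup.inv_mem _ hq')
  have hu_one : (e₂ ^ k)⁻¹ * (c * e₂ ^ k * c⁻¹) = 1 :=
    fpf_c _ hu2 ((conj_eq_iff_commute _ _).mpr (hcz1 _ hu1))
  have hp_fix : c * e₂ ^ k * c⁻¹ = e₂ ^ k := by
    have := congrArg (fun z => e₂ ^ k * z) hu_one
    simpa using this
  have hp_one : e₂ ^ k = 1 := fpf_c _ hp2 hp_fix
  have hq_fix : y₂ * e₁ ^ l * y₂⁻¹ = e₁ ^ l := by
    rw [hp_fix] at hfix
    exact mul_left_cancel hfix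
  have hq_one : e₁ ^ l = 1 := fpf_y₂ _ hq1 hq_fix
  apply he1
  rw [hp_one, hq_one, one_mul]

/-- **PIECE K3C.** -/
theorem k3c : K3cStmt.{u} := by
  intro G _ _ r s V W X h a b c d ctx hK3a
  exact k3c_core h.hr h.hs h.hrs ctx.pab ctx.pcd ctx.nca ctx.ncb ctx.nda ctx.ndb hK3a

example : K3cStmt.{0} := k3c

end Cfsg.Agent.Lib.H16.S3814MPK3c
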