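import Cfsg.Agent.Lib.H10.S4415BadDefs

/-!
# S4415 BAD block (helper16): `P1Stmt` and `FLStmt` in the exact shapes of `Lib/H10/S4415BadDefs`

* `p1 : P1Stmt` : in a `b`-invariant splitting `W = U₁ ⊕ U₂`, `b` is trivial on `U₁` or on `U₂`;
* `fl : FLStmt` : an odd-order `3'`-element `y` of `R<b>` commuting with `b` is trivial
  (explicit coordinates in the basis `e₀, e₁, e₂, e₃` of `Dim4`).
-/

set_option autoImplicit false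

namespace Cfsg.Agent.Lib.H16.S4415FL

open Cfsg.Agent.Lib.H10.S4415

variable {S E : Type*} [Group S] [AddCommGroup E] [Module (ZMod 3) E]

/-- `3 w = 0` -/
theorem three_zero (w : E) : w + w + w = 0 := by
  have h := ZModModule.char_nsmul_eq_zero 3 w
  rw [← h]
  abel

/-- `(3 : ZMod 3) • w = 0` -/
theorem three_smul_zero (w : E) : (3 : ZMod 3) • w = 0 := by
  have h : (3 : ZMod 3) = 0 := by decide
  rw [h, zero_smul]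

/-- a scalar of `ZMod 3` is `0`, `1` or `-1` -/
theorem zmod3_cases (a : ZMod 3) : a = 0 ∨ a = 1 ∨ a = -1 := by
  revert a
  decide

/-- an odd power equal to `1` forces the scalar to be `1` -/
theorem zmod3_odd_pow (c : ZMod 3) (m : ℕ) (hm : Odd m) (h : c ^ m = 1) : c = 1 := by
  rcases zmod3_cases c with rfl | rfl | rfl
  · obtain ⟨k, rfl⟩ := hm
    rw [zero_pow (by omega)] at h
    exact absurd h (by decide)
  · rfl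
  · rw [Odd.neg_one_pow hm] at h
    exact absurd h (by decide)

/-- powers of a map acting as `v ↦ c v + x` with `x` fixed -/
theorem pow_scalar (T : E →ₗ[ZMod 3] E) {v x : E} (c : ZMod 3) (hv : T v = c • v + x)
    (hx : T x = x) (k : ℕ) : ∃ j : ZMod 3, (T ^ k) v = c ^ k • v + j • x := by
  induction k with
  | zero => exact ⟨0, by simp⟩
  | succ k ih =>
    obtain ⟨j, hj⟩ := ih
    refine ⟨c ^ k + j, ?_⟩
    rw [pow_succ', Module.End.mul_apply, hj, map_add, map_smul, map_smul, hv, hx, pow_succ]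
    module

/-- powers of a map acting as `v ↦ v + x` with `x` fixed -/
theorem pow_shift (T : E →ₗ[ZMod 3] E) {v x : E} (hv : T v = v + x) (hx : T x = x) (k : ℕ) :
    (T ^ k) v = v + (k : ZMod 3) • x := by
  induction k with
  | zero => simp
  | succ k ih =>
    rw [pow_succ', Module.End.mul_apply, ih, map_add, map_smul, hv, hx, Nat.cast_succ]
    module

/-- the shift lemma: `T v = v + x`, `T x = x`, `T ^ m = 1` with `m` prime to `3` force `x = 0` -/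
theorem shift_zero (T : E →ₗ[ZMod 3] E) (m : ℕ) (hm : m.Coprime 3) (hT : T ^ m = 1) {v x : E}
    (hv : T v = v + x) (hx : T x = x) : x = 0 := by
  have h := pow_shift T hv hx m
  rw [hT, Module.End.one_apply] at h
  have h2 : (m : ZMod 3) • x = 0 := by
    have h3 : v + (m : ZMod 3) • x = v + 0 := by rw [add_zero]; exact h.symm
    exact add_left_cancel h3
  have hm0 : (m : ZMod 3) ≠ 0 := by
    intro h0
    rw [ZMod.natCast_eq_zero_iff] at h0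
    have h1 := Nat.Coprime.eq_one_of_dvd hm.symm h0
    omega
  exact (smul_eq_zero.1 h2).resolve_left hm0

section QD

variable {ρ : Representation (ZMod 3) S E} {R : Subgroup S} {b : S} {W : Submodule (ZMod 3) E}
  {x₁ x₂ x₃ : S} {e₁ e₂ e₃ : E}

/-- `u = e₁ + e₂ + e₃ ≠ 0` -/
theorem u_ne (hQ : QData ρ R b W x₁ x₂ x₃ e₁ e₂ e₃) : e₁ + e₂ + e₃ ≠ 0 := by
  intro h
  have h1 : ρ x₁ (e₁ + e₂ + e₃) = e₁ - e₂ - e₃ := by
    rw [map_add, map_add, hQ.x₁e₁, hQ.x₁e₂, hQ.x₁e₃]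
    abel
  rw [h, map_zero] at h1
  have h2 : e₁ + e₁ = 0 := by
    have h3 : e₁ + e₁ = (e₁ + e₂ + e₃) + (e₁ - e₂ - e₃) := by abel
    rw [h3, h, ← h1, add_zero]
  have h3 := three_zero e₁
  rw [h2, zero_add] at h3
  exact hQ.e₁ne h3

/-- coordinates of `N w = b w - w` and `N² w` for `w ∈ W` -/
theorem N_coords (hQ : QData ρ R b W x₁ x₂ x₃ e₁ e₂ e₃) {w : E} (hw : w ∈ W) :
    ∃ c₁ c₂ c₃ : ZMod 3,
      ρ b w - w = c₁ • (e₂ - e₁) + c₂ • (e₃ - e₂) + c₃ • (e₁ - e₃) ∧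
      ρ b (ρ b w - w) - (ρ b w - w) = (c₁ + c₂ + c₃) • (e₁ + e₂ + e₃) := by
  obtain ⟨w₀, _, c₁, c₂, c₃, hdec, _, _, _, hbw₀⟩ := hQ.decomp w hw
  have hb1 : ρ b w = w₀ + c₁ • e₂ + c₂ • e₃ + c₃ • e₁ := by
    rw [hdec, map_add, map_add, map_add, map_smul, map_smul, map_smul, hbw₀, hQ.be₁, hQ.be₂,
      hQ.be₃]
  have hN : ρ b w - w = c₁ • (e₂ - e₁) + c₂ • (e₃ - e₂) + c₃ • (e₁ - e₃) := by
    rw [hb1, hdec]
    module
  refine ⟨c₁, c₂, c₃, hN, ?_⟩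
  rw [hN, map_add, map_add, map_smul, map_smul, map_smul, map_sub, map_sub, map_sub, hQ.be₁,
    hQ.be₂, hQ.be₃]
  have h3 := three_smul_zero (c₁ • e₂ + c₂ • e₃ + c₃ • e₁)
  have h4 : c₁ • (e₃ - e₂) + c₂ • (e₁ - e₃) + c₃ • (e₂ - e₁) -
      (c₁ • (e₂ - e₁) + c₂ • (e₃ - e₂) + c₃ • (e₁ - e₃)) =
      (c₁ + c₂ + c₃) • (e₁ + e₂ + e₃) - (3 : ZMod 3) • (c₁ • e₂ + c₂ • e₃ + c₃ • e₁) := by
    module
  rw [h4, h3, sub_zero]

/-- half of `P1`: if `u ∈ U₁` then `b` is trivial on `U₂` -/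
theorem p1_aux (hQ : QData ρ R b W x₁ x₂ x₃ e₁ e₂ e₃) (U₁ U₂ : Submodule (ZMod 3) E)
    (hinf : U₁ ⊓ U₂ = ⊥) (hU₂W : U₂ ≤ W) (hU₂ : ∀ v ∈ U₂, ρ b v ∈ U₂)
    (hu : e₁ + e₂ + e₃ ∈ U₁) : ∀ v ∈ U₂, ρ b v = v := by
  intro v hv
  obtain ⟨c₁, c₂, c₃, hN, hN2⟩ := N_coords hQ (hU₂W hv)
  have hNv : ρ b v - v ∈ U₂ := U₂.sub_mem (hU₂ v hv) hv
  have hN2v : ρ b (ρ b v - v) - (ρ b v - v) ∈ U₂ := U₂.sub_mem (hU₂ _ hNv) hNv
  have hzero : ∀ t : E, t ∈ U₁ → t ∈ U₂ → t = 0 := by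
    intro t h1 h2
    have h3 : t ∈ U₁ ⊓ U₂ := ⟨h1, h2⟩
    rw [hinf] at h3
    exact (Submodule.mem_bot _).1 h3
  have hk : c₁ + c₂ + c₃ = 0 := by
    have h1 : (c₁ + c₂ + c₃) • (e₁ + e₂ + e₃) = 0 :=
      hzero _ (U₁.smul_mem _ hu) (hN2 ▸ hN2v)
    exact (smul_eq_zero.1 h1).resolve_right (u_ne hQ)
  have hc₃ : c₃ = -c₁ - c₂ := by
    have h1 : c₃ = (c₁ + c₂ + c₃) - c₁ - c₂ := by ring
    rw [h1, hk, zero_sub]
  have hN' : ρ b v - v = (c₁ - c₂) • (e₁ + e₂ + e₃) := by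
    rw [hN, hc₃]
    have h3 := three_smul_zero (c₂ • e₃ - c₁ • e₁)
    have h4 : c₁ • (e₂ - e₁) + c₂ • (e₃ - e₂) + (-c₁ - c₂) • (e₁ - e₃) =
        (c₁ - c₂) • (e₁ + e₂ + e₃) + (3 : ZMod 3) • (c₂ • e₃ - c₁ • e₁) := by
      module
    rw [h4, h3, add_zero]
  have h0 : ρ b v - v = 0 := hzero _ (hN' ▸ U₁.smul_mem _ hu) hNv
  exact sub_eq_zero.1 h0

end QD

/-- **(P1)** in a `b`-invariant splitting of `W`, `b` is trivial on one summand. -/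
theorem p1 : P1Stmt := by
  intro S _ _ E _ _ _ ρ R b W x₁ x₂ x₃ e₁ e₂ e₃ hQ U₁ U₂ hinf hsup hU₁ hU₂
  have hU₁W : U₁ ≤ W := hsup ▸ le_sup_left
  have hU₂W : U₂ ≤ W := hsup ▸ le_sup_right
  -- split `e₁`
  have he₁ : e₁ ∈ U₁ ⊔ U₂ := by rw [hsup]; exact hQ.e₁W
  obtain ⟨a₁, ha₁, a₂, ha₂, hsum⟩ := Submodule.mem_sup.1 he₁
  obtain ⟨p₁, p₂, p₃, _, hp⟩ := N_coords hQ (hU₁W ha₁)
  obtain ⟨q₁, q₂, q₃, _, hq⟩ := N_coords hQ (hU₂W ha₂)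
  have hNa₁ : ρ b a₁ - a₁ ∈ U₁ := U₁.sub_mem (hU₁ a₁ ha₁) ha₁
  have hN2a₁ : ρ b (ρ b a₁ - a₁) - (ρ b a₁ - a₁) ∈ U₁ := U₁.sub_mem (hU₁ _ hNa₁) hNa₁
  have hNa₂ : ρ b a₂ - a₂ ∈ U₂ := U₂.sub_mem (hU₂ a₂ ha₂) ha₂
  have hN2a₂ : ρ b (ρ b a₂ - a₂) - (ρ b a₂ - a₂) ∈ U₂ := U₂.sub_mem (hU₂ _ hNa₂) hNa₂
  -- `N² e₁ = u`
  have hue : ρ b (ρ b e₁ - e₁) - (ρ b e₁ - e₁) = e₁ + e₂ + e₃ := by
    rw [hQ.be₁, map_sub, hQ.be₂, hQ.be₁]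
    have h3 := three_zero e₂
    have h4 : e₃ - e₂ - (e₂ - e₁) = e₁ + e₂ + e₃ - (e₂ + e₂ + e₂) := by abel
    rw [h4, h3, sub_zero]
  have hadd : ρ b (ρ b e₁ - e₁) - (ρ b e₁ - e₁) =
      (ρ b (ρ b a₁ - a₁) - (ρ b a₁ - a₁)) + (ρ b (ρ b a₂ - a₂) - (ρ b a₂ - a₂)) := by
    rw [← hsum]
    simp only [map_add, map_sub]
    abel
  rw [hue, hp, hq, ← add_smul] at hadd
  by_cases hk : p₁ + p₂ + p₃ = 0
  · -- then `u = N² a₂ ∈ U₂`, so `b` is trivial on `U₁`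
    left
    have hu : e₁ + e₂ + e₃ ∈ U₂ := by
      rw [hk, zero_add] at hadd
      rw [hadd, ← hq]
      exact hN2a₂
    exact p1_aux hQ U₂ U₁ (by rw [inf_comm]; exact hinf) hU₁W hU₁ hu
  · -- then `u` is a multiple of `N² a₁ ∈ U₁`, so `b` is trivial on `U₂`
    right
    have hu : e₁ + e₂ + e₃ ∈ U₁ := by
      have h1 : e₁ + e₂ + e₃ = (p₁ + p₂ + p₃)⁻¹ • ((p₁ + p₂ + p₃) • (e₁ + e₂ + e₃)) := by
        rw [smul_smul, inv_mul_cancel₀ hk, one_smul]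
      rw [h1, ← hp]
      exact U₁.smul_mem _ hN2a₁
    exact p1_aux hQ U₁ U₂ hinf hU₂W hU₂ hu

/-- **(FL)** an odd-order `3'`-element of `R<b>` commuting with `b` is trivial. -/
theorem fl : FLStmt := by
  intro S _ _ E _ _ _ ρ R b W x₁ x₂ x₃ e₀ e₁ e₂ e₃ hL hQ hD y hy hby hodd hcop
  -- `T = ρ y`, `T ^ m = 1`
  have hTm : (ρ y) ^ orderOf y = 1 := by
    rw [← map_pow, pow_orderOf_eq_one, map_one]
  -- `T` commutes with `ρ b`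
  have hcomm : ∀ v : E, ρ y (ρ b v) = ρ b (ρ y v) := by
    intro v
    have h1 : ρ (b * y) = ρ (y * b) := by rw [hby]
    rw [map_mul, map_mul] at h1
    have h2 := LinearMap.congr_fun h1 v
    rw [Module.End.mul_apply, Module.End.mul_apply] at h2
    exact h2.symm
  have hTW : ∀ w ∈ W, ρ y w ∈ W := hL.W_inv y hy
  have hune : e₁ + e₂ + e₃ ≠ 0 := u_ne hQ
  -- coordinates
  obtain ⟨a₀, a₁, a₂, a₃, ha⟩ := hD.span (ρ y e₁) (hTW e₁ hQ.e₁W)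
  obtain ⟨d₀, d₁, d₂, d₃, hd⟩ := hD.span (ρ y e₀) (hTW e₀ hD.e₀W)
  have hTe₂ : ρ y e₂ = a₀ • e₀ + a₁ • e₂ + a₂ • e₃ + a₃ • e₁ := by
    rw [← hQ.be₁, hcomm, ha, map_add, map_add, map_add, map_smul, map_smul, map_smul, map_smul,
      hD.be₀, hQ.be₁, hQ.be₂, hQ.be₃]
  have hTe₃ : ρ y e₃ = a₀ • e₀ + a₁ • e₃ + a₂ • e₁ + a₃ • e₂ := by
    rw [← hQ.be₂, hcomm, hTe₂, map_add, map_add, map_add, map_smul, map_smul, map_smul, map_smul,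
      hD.be₀, hQ.be₁, hQ.be₂, hQ.be₃]
  -- `T u = λ u`, hence `T u = u`
  have hTu0 : ρ y (e₁ + e₂ + e₃) = (a₁ + a₂ + a₃) • (e₁ + e₂ + e₃) + 0 := by
    rw [map_add, map_add, ha, hTe₂, hTe₃, add_zero]
    have h3 := three_smul_zero (a₀ • e₀)
    have h4 : a₀ • e₀ + a₁ • e₁ + a₂ • e₂ + a₃ • e₃ + (a₀ • e₀ + a₁ • e₂ + a₂ • e₃ + a₃ • e₁) +
        (a₀ • e₀ + a₁ • e₃ + a₂ • e₁ + a₃ • e₂) =
        (a₁ + a₂ + a₃) • (e₁ + e₂ + e₃) + (3 : ZMod 3) • (a₀ • e₀) := by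
      module
    rw [h4, h3, add_zero]
  have hlam : a₁ + a₂ + a₃ = 1 := by
    obtain ⟨j, hj⟩ := pow_scalar (ρ y) (a₁ + a₂ + a₃) hTu0 (map_zero _) (orderOf y)
    rw [hTm, Module.End.one_apply, smul_zero, add_zero] at hj
    have h1 : ((a₁ + a₂ + a₃) ^ orderOf y - 1) • (e₁ + e₂ + e₃) = 0 := by
      rw [sub_smul, one_smul, ← hj, sub_self]
    have h2 := (smul_eq_zero.1 h1).resolve_right hune
    exact zmod3_odd_pow _ _ hodd (sub_eq_zero.1 h2)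
  have hTu : ρ y (e₁ + e₂ + e₃) = e₁ + e₂ + e₃ := by
    rw [hTu0, hlam, one_smul, add_zero]
  -- `T e₀ = d₀ e₀ + d u`
  have hd' : d₃ = d₁ ∧ d₁ = d₂ := by
    have h1 : ρ b (ρ y e₀) = ρ y e₀ := by rw [← hcomm, hD.be₀]
    rw [hd, map_add, map_add, map_add, map_smul, map_smul, map_smul, map_smul,
      hD.be₀, hQ.be₁, hQ.be₂, hQ.be₃] at h1
    have h2 : (0 : ZMod 3) • e₀ + (d₃ - d₁) • e₁ + (d₁ - d₂) • e₂ + (d₂ - d₃) • e₃ = 0 := by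
      have h3 : (0 : ZMod 3) • e₀ + (d₃ - d₁) • e₁ + (d₁ - d₂) • e₂ + (d₂ - d₃) • e₃ =
          (d₀ • e₀ + d₁ • e₂ + d₂ • e₃ + d₃ • e₁) - (d₀ • e₀ + d₁ • e₁ + d₂ • e₂ + d₃ • e₃) := by
        module
      rw [h3, h1, sub_self]
    obtain ⟨_, h31, h12, _⟩ := hD.indep _ _ _ _ h2
    exact ⟨sub_eq_zero.1 h31, sub_eq_zero.1 h12⟩
  obtain ⟨h31, h12⟩ := hd'
  have hTe₀0 : ρ y e₀ = d₀ • e₀ + d₁ • (e₁ + e₂ + e₃) := by
    rw [hd, h31, ← h12]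
    module
  have hxfix : ρ y (d₁ • (e₁ + e₂ + e₃)) = d₁ • (e₁ + e₂ + e₃) := by
    rw [map_smul, hTu]
  have hd₀ : d₀ = 1 := by
    obtain ⟨j, hj⟩ := pow_scalar (ρ y) d₀ hTe₀0 hxfix (orderOf y)
    rw [hTm, Module.End.one_apply] at hj
    have h1 : (d₀ ^ orderOf y - 1) • e₀ + (j * d₁) • e₁ + (j * d₁) • e₂ + (j * d₁) • e₃ = 0 := by
      have h2 : (d₀ ^ orderOf y - 1) • e₀ + (j * d₁) • e₁ + (j * d₁) • e₂ + (j * d₁) • e₃ =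
          (d₀ ^ orderOf y • e₀ + j • d₁ • (e₁ + e₂ + e₃)) - e₀ := by
        module
      rw [h2, ← hj, sub_self]
    obtain ⟨h0, _⟩ := hD.indep _ _ _ _ h1
    exact zmod3_odd_pow _ _ hodd (sub_eq_zero.1 h0)
  have hTe₀ : ρ y e₀ = e₀ := by
    have h1 : ρ y e₀ = e₀ + d₁ • (e₁ + e₂ + e₃) := by rw [hTe₀0, hd₀, one_smul]
    have h2 := shift_zero (ρ y) (orderOf y) hcop hTm h1 hxfix
    rw [h1, h2, add_zero]
  -- `T (e₂ - e₁) = (e₂ - e₁) + (a₂ - a₃) u`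
  have hTd : ρ y (e₂ - e₁) = (e₂ - e₁) + (a₂ - a₃) • (e₁ + e₂ + e₃) := by
    rw [map_sub, ha, hTe₂]
    have h3 := three_smul_zero (a₃ • e₁ - a₂ • e₂)
    have h4 : a₀ • e₀ + a₁ • e₂ + a₂ • e₃ + a₃ • e₁ - (a₀ • e₀ + a₁ • e₁ + a₂ • e₂ + a₃ • e₃) =
        (e₂ - e₁) + (a₂ - a₃) • (e₁ + e₂ + e₃) + (1 - (a₁ + a₂ + a₃)) • (e₁ - e₂) +
          (3 : ZMod 3) • (a₃ • e₁ - a₂ • e₂) := by
      module
    rw [h4, h3, hlam, sub_self, zero_smul, add_zero, add_zero]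
  have ha23 : a₂ = a₃ := by
    have hx : ρ y ((a₂ - a₃) • (e₁ + e₂ + e₃)) = (a₂ - a₃) • (e₁ + e₂ + e₃) := by
      rw [map_smul, hTu]
    have h2 := shift_zero (ρ y) (orderOf y) hcop hTm hTd hx
    exact sub_eq_zero.1 ((smul_eq_zero.1 h2).resolve_right hune)
  -- `T e₁ = e₁ + x`, `x = a₀ e₀ + a₂ u` fixed
  have hTe₁ : ρ y e₁ = e₁ := by
    have h1 : ρ y e₁ = e₁ + (a₀ • e₀ + a₂ • (e₁ + e₂ + e₃)) := by
      rw [ha, ← ha23]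
      have h3 := three_smul_zero (a₂ • e₁)
      have h4 : a₀ • e₀ + a₁ • e₁ + a₂ • e₂ + a₂ • e₃ =
          e₁ + (a₀ • e₀ + a₂ • (e₁ + e₂ + e₃)) + ((a₁ + a₂ + a₂) - 1) • e₁ -
            (3 : ZMod 3) • (a₂ • e₁) := by
        module
      have hlam' : a₁ + a₂ + a₂ = 1 := by rw [← hlam, ha23]
      rw [h4, h3, hlam', sub_self, zero_smul, add_zero, sub_zero]
    have hx : ρ y (a₀ • e₀ + a₂ • (e₁ + e₂ + e₃)) = a₀ • e₀ + a₂ • (e₁ + e₂ + e₃) := by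
      rw [map_add, map_smul, map_smul, hTe₀, hTu]
    have h2 := shift_zero (ρ y) (orderOf y) hcop hTm h1 hx
    rw [h1, h2, add_zero]
  have hTe₂' : ρ y e₂ = e₂ := by
    rw [← hQ.be₁, hcomm, hTe₁]
  have hTe₃' : ρ y e₃ = e₃ := by
    rw [← hQ.be₂, hcomm, hTe₂']
  -- `T = 1` on `W`
  apply hL.faithful y hy
  intro w hw
  obtain ⟨c₀, c₁, c₂, c₃, hc⟩ := hD.span w hw
  rw [hc, map_add, map_add, map_add, map_smul, map_smul, map_smul, map_smul, hTe₀, hTe₁, hTe₂',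
    hTe₃']

end Cfsg.Agent.Lib.H16.S4415FL
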