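import Cfsg.Agent.Lib.H16.S4415G5e
import Cfsg.Agent.Lib.H6.S4415G5P
import Cfsg.Agent.Lib.H20.S4415G5D

/-!
# S4415 GOOD block (helper16): `n = 4`, part (c) and the assembly `four : FourStmt`

* `conj_act` : conjugating a diagonal action;
* `exists_diag` : from `MonoFrame.nonscalar` and `2`-transitivity, for `i ≠ j` a diagonal element of `R`
  with `-1` at `i` and `+1` at `j`;
* `exists_neg` : `z = -1` lies in `R`;
* `four : FourStmt` from `xs_four` (mine), helper6's `frame_V4 / frame_R_transitive /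
  frame_two_transitive` and helper20's `four_of_frame_xs`.
-/

set_option autoImplicit false

namespace Cfsg.Agent.Lib.H16.S4415G5F

open Cfsg.Agent.Lib.H10.S4415 (LinCtx QData RB IsNeg XS NormBy normBy_R)
open Cfsg.Agent.Lib.H24.S4415G (MonoFrame phi_mul phi_one f_ne_zero eq_zero_of_eq_neg FourStmt)
open Cfsg.Agent.Lib.H16.S4415G5e

universe u v

variable {S : Type u} {E : Type v} [Group S] [AddCommGroup E] [Module (ZMod 3) E]
variable {ρ : Representation (ZMod 3) S E} {R : Subgroup S} {b : S} {W : Submodule (ZMod 3) E}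

/-- conjugating a diagonal action -/
theorem conj_act {n : ℕ} {f : Fin n → E} {φ : ↥(RB R b) → Equiv.Perm (Fin n)}
    (hM : MonoFrame ρ R b W f φ) (g a : ↥(RB R b)) (k : Fin n) (c : ZMod 3)
    (h : ρ (a : S) (f k) = c • f k) :
    ρ ((g * a * g⁻¹ : ↥(RB R b)) : S) (f (φ g k)) = c • f (φ g k) := by
  have hs := sgn_spec hM g k
  have hss := sgn_sq (ρ := ρ) (f := f) (φ := φ) g k
  have h1 : f (φ g k) = sgn ρ f φ g k • ρ (g : S) (f k) := by
    rw [hs, smul_smul, hss, one_smul]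
  have h2 : ρ ((g⁻¹ : ↥(RB R b)) : S) (ρ (g : S) (f k)) = f k := by
    rw [Subgroup.coe_inv, ← Module.End.mul_apply, ← map_mul, inv_mul_cancel, map_one,
      Module.End.one_apply]
  calc ρ ((g * a * g⁻¹ : ↥(RB R b)) : S) (f (φ g k))
      = ρ (g : S) (ρ (a : S) (ρ ((g⁻¹ : ↥(RB R b)) : S) (f (φ g k)))) := by
        rw [Subgroup.coe_mul, Subgroup.coe_mul, map_mul, map_mul, Module.End.mul_apply,
          Module.End.mul_apply]
    _ = ρ (g : S) (ρ (a : S) (sgn ρ f φ g k • f k)) := by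
        rw [h1, map_smul, h2]
    _ = (sgn ρ f φ g k * c * sgn ρ f φ g k) • f (φ g k) := by
        rw [map_smul, h, map_smul, map_smul, hs, smul_smul, smul_smul]
    _ = c • f (φ g k) := by
        rw [mul_comm (sgn ρ f φ g k) c, mul_assoc, hss, mul_one]

section Four

variable {f : Fin 4 → E} {φ : ↥(RB R b) → Equiv.Perm (Fin 4)}

/-- (c)(ii) the separating diagonal elements -/
theorem exists_diag [Finite S] (hL : LinCtx ρ R b W) (hM : MonoFrame ρ R b W f φ)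
    (h2tr : ∀ i j k l : Fin 4, i ≠ j → k ≠ l → ∃ g : ↥(RB R b), φ g i = k ∧ φ g j = l) :
    ∀ i j : Fin 4, i ≠ j → ∃ a : ↥(RB R b), (a : S) ∈ R ∧ φ a = 1 ∧
      ρ (a : S) (f i) = -f i ∧ ρ (a : S) (f j) = f j := by
  intro i j hij
  obtain ⟨a₀, ha₀R, ha₀1, i₀, j₀, hi₀, hj₀⟩ := hM.nonscalar
  have hne : j₀ ≠ i₀ := by
    intro h
    rw [h, hi₀] at hj₀
    exact f_ne_zero hM i₀ (eq_zero_of_eq_neg hj₀)
  obtain ⟨g, hg1, hg2⟩ := h2tr j₀ i₀ i j hne hij
  refine ⟨g * a₀ * g⁻¹, ?_, ?_, ?_, ?_⟩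
  · have h1 := normBy_R hL.b_norm (g : S) g.2 (a₀ : S) ha₀R
    rw [Subgroup.coe_mul, Subgroup.coe_mul, Subgroup.coe_inv]
    exact h1
  · rw [phi_mul hM, phi_mul hM, ha₀1, mul_one, ← phi_mul hM, mul_inv_cancel, phi_one hM]
  · have h1 := conj_act hM g a₀ j₀ (-1) (by rw [hj₀, neg_smul, one_smul])
    rw [hg1, neg_smul, one_smul] at h1
    exact h1
  · have h1 := conj_act hM g a₀ i₀ 1 (by rw [hi₀, one_smul])
    rw [hg2, one_smul] at h1
    exact h1

set_option synthInstance.maxHeartbeats 400000 in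
set_option synthInstance.maxSize 1024 in
theorem sign_split_aux : ∀ s0 s1 s2 s3 : ZMod 3, s0 * s0 = 1 → s1 * s1 = 1 → s2 * s2 = 1 →
    s3 * s3 = 1 → s0 * s1 * s2 * s3 = 1 →
    (∃ i : Fin 4, ![s0, s1, s2, s3] i = 1) → (∃ j : Fin 4, ![s0, s1, s2, s3] j = -1) →
    ∃ p q : Fin 4, p ≠ q ∧ ![s0, s1, s2, s3] p = -1 ∧ ![s0, s1, s2, s3] q = -1 ∧
      ∀ k, k ≠ p → k ≠ q → ![s0, s1, s2, s3] k = 1 := by
  decide

/-- a sign vector with product `1`, a `+1` and a `-1` has exactly two `-1` -/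
theorem sign_split (s : Fin 4 → ZMod 3) (hs : ∀ k, s k * s k = 1)
    (hP : s 0 * s 1 * s 2 * s 3 = 1) (i₀ j₀ : Fin 4) (hi : s i₀ = 1) (hj : s j₀ = -1) :
    ∃ p q : Fin 4, p ≠ q ∧ s p = -1 ∧ s q = -1 ∧ ∀ k, k ≠ p → k ≠ q → s k = 1 := by
  have hv : ∀ k, ![s 0, s 1, s 2, s 3] k = s k := by
    intro k
    fin_cases k <;> rfl
  obtain ⟨p, q, hpq, hp, hq, hr⟩ := sign_split_aux (s 0) (s 1) (s 2) (s 3) (hs 0) (hs 1) (hs 2)
    (hs 3) hP ⟨i₀, by rw [hv]; exact hi⟩ ⟨j₀, by rw [hv]; exact hj⟩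
  refine ⟨p, q, hpq, ?_, ?_, ?_⟩
  · rw [← hv]; exact hp
  · rw [← hv]; exact hq
  · intro k h1 h2
    rw [← hv]
    exact hr k h1 h2

/-- the complement of a pair in `Fin 4` -/
theorem compl_pair : ∀ p q : Fin 4, p ≠ q → ∃ p' q' : Fin 4, p' ≠ q' ∧ p' ≠ p ∧ p' ≠ q ∧
    q' ≠ p ∧ q' ≠ q ∧ ∀ k, k = p ∨ k = q ∨ k = p' ∨ k = q' := by
  decide

/-- (c)(i) `z = -1` lies in `R` -/
theorem exists_neg [Finite S] (hL : LinCtx ρ R b W) (hM : MonoFrame ρ R b W f φ)
    (h2tr : ∀ i j k l : Fin 4, i ≠ j → k ≠ l → ∃ g : ↥(RB R b), φ g i = k ∧ φ g j = l) :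
    ∃ z ∈ R, IsNeg ρ W z := by
  obtain ⟨a₀, ha₀R, ha₀1, i₀, j₀, hi₀, hj₀⟩ := hM.nonscalar
  have hact : ∀ k, ρ (a₀ : S) (f k) = sgn ρ f φ a₀ k • f k := by
    intro k
    have h1 := sgn_spec hM a₀ k
    rw [ha₀1, Equiv.Perm.one_apply] at h1
    exact h1
  have hsi : sgn ρ f φ a₀ i₀ = 1 := by
    have h1 := hact i₀
    rw [hi₀] at h1
    have h2 : (1 : ZMod 3) • f i₀ = sgn ρ f φ a₀ i₀ • f i₀ := by rw [one_smul]; exact h1
    exact (smul_f_cancel hM h2).symm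
  have hsj : sgn ρ f φ a₀ j₀ = -1 := by
    have h1 := hact j₀
    rw [hj₀] at h1
    have h2 : (-1 : ZMod 3) • f j₀ = sgn ρ f φ a₀ j₀ • f j₀ := by
      rw [neg_smul, one_smul]; exact h1
    exact (smul_f_cancel hM h2).symm
  have hP := prodSgn_R hL hM a₀ ha₀R
  unfold prodSgn at hP
  rw [Fin.prod_univ_four] at hP
  obtain ⟨p, q, hpq, hsp, hsq, hrest⟩ := sign_split (sgn ρ f φ a₀)
    (fun k => sgn_sq a₀ k) hP i₀ j₀ hsi hsj
  obtain ⟨p', q', hp'q', hp'p, hp'q, hq'p, hq'q, hall⟩ := compl_pair p q hpq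
  have hsp' : sgn ρ f φ a₀ p' = 1 := hrest p' hp'p hp'q
  have hsq' : sgn ρ f φ a₀ q' = 1 := hrest q' hq'p hq'q
  obtain ⟨g, hgp, hgq⟩ := h2tr p q p' q' hpq hp'q'
  obtain ⟨a', ha'⟩ : ∃ a' : ↥(RB R b), a' = g * a₀ * g⁻¹ := ⟨_, rfl⟩
  have ha'R : (a' : S) ∈ R := by
    have h1 := normBy_R hL.b_norm (g : S) g.2 (a₀ : S) ha₀R
    rw [ha', Subgroup.coe_mul, Subgroup.coe_mul, Subgroup.coe_inv]
    exact h1
  have hA : ∀ m, ρ (a' : S) (f (φ g m)) = sgn ρ f φ a₀ m • f (φ g m) := by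
    intro m
    rw [ha']
    exact conj_act hM g a₀ m _ (hact m)
  -- `a'` fixes `f p` and `f q`
  have hfix : ∀ k, (k = p ∨ k = q) → ρ (a' : S) (f k) = f k := by
    intro k hk
    obtain ⟨m, hm⟩ := (φ g).surjective k
    have hm' : m = p' ∨ m = q' := by
      rcases hall m with h | h | h | h
      · exfalso
        rw [h, hgp] at hm
        rcases hk with hk | hk
        · exact hp'p (hm.trans hk)
        · exact hp'q (hm.trans hk)
      · exfalso
        rw [h, hgq] at hm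
        rcases hk with hk | hk
        · exact hq'p (hm.trans hk)
        · exact hq'q (hm.trans hk)
      · exact Or.inl h
      · exact Or.inr h
    have hs1 : sgn ρ f φ a₀ m = 1 := by
      rcases hm' with h | h
      · rw [h]; exact hsp'
      · rw [h]; exact hsq'
    have h1 := hA m
    rw [hm, hs1, one_smul] at h1
    exact h1
  have hneg' : ρ (a' : S) (f p') = -f p' := by
    have h1 := hA p
    rw [hgp, hsp, neg_smul, one_smul] at h1
    exact h1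
  have hneg'' : ρ (a' : S) (f q') = -f q' := by
    have h1 := hA q
    rw [hgq, hsq, neg_smul, one_smul] at h1
    exact h1
  refine ⟨(a₀ : S) * (a' : S), R.mul_mem ha₀R ha'R, ?_⟩
  have hbasis : ∀ k, ρ ((a₀ : S) * (a' : S)) (f k) = -f k := by
    intro k
    rw [map_mul, Module.End.mul_apply]
    rcases hall k with h | h | h | h
    · rw [h, hfix p (Or.inl rfl), hact p, hsp, neg_smul, one_smul]
    · rw [h, hfix q (Or.inr rfl), hact q, hsq, neg_smul, one_smul]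
    · rw [h, hneg', map_neg, hact p', hsp', one_smul]
    · rw [h, hneg'', map_neg, hact q', hsq', one_smul]
  intro w hw
  have hEq : Set.EqOn (ρ ((a₀ : S) * (a' : S))) (-1 : Module.End (ZMod 3) E) (Set.range f) := by
    rintro _ ⟨k, rfl⟩
    rw [hbasis k, LinearMap.neg_apply, Module.End.one_apply]
  have h1 := LinearMap.eqOn_span hEq (hM.span w hw)
  rw [h1, LinearMap.neg_apply, Module.End.one_apply]

end Four

/-- **G5** `FourStmt`: four lines give the extraspecial group of order `32`. -/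
theorem four : FourStmt.{u, v} := by
  intro S _ _ E _ _ _ ρ R b W x₁ x₂ x₃ e₁ e₂ e₃ f φ hL hQ hM
  have h2tr := Cfsg.Agent.Lib.H6.S4415G5P.frame_two_transitive hL hM
  obtain ⟨z, hzR, hz⟩ := exists_neg hL hM h2tr
  have hXS : XS z R := xs_four hL hM (Cfsg.Agent.Lib.H6.S4415G5P.frame_V4 hL hM)
    (exists_diag hL hM h2tr) (Cfsg.Agent.Lib.H6.S4415G5P.frame_R_transitive hL hM) z hzR hz
  exact Cfsg.Agent.Lib.H20.S4415G5D.four_of_frame_xs hL hQ hM z hz hXS

end Cfsg.Agent.Lib.H16.S4415G5F
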