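import Cfsg.Agent.Lib.H24.S4415GD
import Cfsg.Agent.Lib.H10.S4415BadDefs

/-!
# S4415 GOOD block (helper16): sign cocycle of a monomial frame and the `XS` part of `n = 4`

* `sgn`, `sgn_spec`, `sgn_mul`, `prodSgn`, `prodSgn_mul`, `prodSgn_R` (any `n`):
  `ρ g (f i) = sgn g i • f (φ g i)`, the product of the signs is multiplicative and trivial on
  `R = [R, b]`;
* `eq_of_act` : two elements of `R<b>` acting in the same way on the frame are equal (faithful);
* `comm_of_sq` : pure group theory, commutators from squares;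
* `xs_four` : for `n = 4`, `φ(R) ≤ V₄`, enough diagonal elements and `R` transitive on the lines,
  `R` is `XS z R` (`z = -1`).
-/

set_option autoImplicit false

namespace Cfsg.Agent.Lib.H16.S4415G5e

open Cfsg.Agent.Lib.H10.S4415 Cfsg.Agent.Lib.H24.S4415G

variable {S E : Type*} [Group S] [AddCommGroup E] [Module (ZMod 3) E]
variable {ρ : Representation (ZMod 3) S E} {R : Subgroup S} {b : S} {W : Submodule (ZMod 3) E}
  {n : ℕ} {f : Fin n → E} {φ : ↥(RB R b) → Equiv.Perm (Fin n)}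

/-- a square root of `1` in `ZMod 3` is `±1` -/
theorem zmod3_pm (c : ZMod 3) (h : c * c = 1) : c = 1 ∨ c = -1 := by
  revert c
  decide

/-- four signs with product `1` -/
theorem sign_lemma (p q r s : ZMod 3) (hp : p * p = 1) (hq : q * q = 1) (hr : r * r = 1)
    (hs : s * s = 1) (h : p * q * r * s = 1) :
    p * q = r * s ∧ p * r = q * s ∧ p * s = q * r := by
  revert p q r s
  decide

open Classical in
/-- the sign of `g` at `i` : `ρ g (f i) = sgn g i • f (φ g i)` -/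
noncomputable def sgn (ρ : Representation (ZMod 3) S E) (f : Fin n → E)
    (φ : ↥(RB R b) → Equiv.Perm (Fin n)) (g : ↥(RB R b)) (i : Fin n) : ZMod 3 :=
  if ρ (g : S) (f i) = f (φ g i) then 1 else -1

theorem sgn_spec (hM : MonoFrame ρ R b W f φ) (g : ↥(RB R b)) (i : Fin n) :
    ρ (g : S) (f i) = sgn ρ f φ g i • f (φ g i) := by
  unfold sgn
  split_ifs with h
  · rw [one_smul]
    exact h
  · rcases hM.mono g i with h1 | h1
    · exact absurd h1 h
    · rw [neg_smul, one_smul]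
      exact h1

theorem sgn_sq (g : ↥(RB R b)) (i : Fin n) : sgn ρ f φ g i * sgn ρ f φ g i = 1 := by
  unfold sgn
  split_ifs
  · exact one_mul 1
  · rw [neg_mul_neg, one_mul]

theorem sgn_ne_zero (g : ↥(RB R b)) (i : Fin n) : sgn ρ f φ g i ≠ 0 := by
  intro h
  have h1 := sgn_sq (ρ := ρ) (f := f) (φ := φ) g i
  rw [h, zero_mul] at h1
  exact zero_ne_one h1

/-- cancel a frame vector -/
theorem smul_f_cancel (hM : MonoFrame ρ R b W f φ) {c c' : ZMod 3} {j : Fin n}
    (h : c • f j = c' • f j) : c = c' := by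
  have h1 : (c - c') • f j = 0 := by rw [sub_smul, h, sub_self]
  exact sub_eq_zero.1 ((smul_eq_zero.1 h1).resolve_right (f_ne_zero hM j))

/-- the cocycle rule -/
theorem sgn_mul (hM : MonoFrame ρ R b W f φ) (g h : ↥(RB R b)) (i : Fin n) :
    sgn ρ f φ (g * h) i = sgn ρ f φ h i * sgn ρ f φ g (φ h i) := by
  have h1 := sgn_spec hM (g * h) i
  have h2 : ρ ((g * h : ↥(RB R b)) : S) (f i) =
      (sgn ρ f φ h i * sgn ρ f φ g (φ h i)) • f (φ g (φ h i)) := by
    rw [Subgroup.coe_mul, map_mul, Module.End.mul_apply, sgn_spec hM h i, map_smul,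
      sgn_spec hM g (φ h i), smul_smul]
  rw [h2, phi_mul hM g h, Equiv.Perm.mul_apply] at h1
  exact (smul_f_cancel hM h1).symm

/-- the product of the signs -/
noncomputable def prodSgn (ρ : Representation (ZMod 3) S E) (f : Fin n → E)
    (φ : ↥(RB R b) → Equiv.Perm (Fin n)) (g : ↥(RB R b)) : ZMod 3 :=
  ∏ i, sgn ρ f φ g i

theorem prodSgn_mul (hM : MonoFrame ρ R b W f φ) (g h : ↥(RB R b)) :
    prodSgn ρ f φ (g * h) = prodSgn ρ f φ g * prodSgn ρ f φ h := by
  unfold prodSgn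
  have h1 : ∀ i, sgn ρ f φ (g * h) i = sgn ρ f φ h i * sgn ρ f φ g (φ h i) := sgn_mul hM g h
  rw [Finset.prod_congr rfl (fun i _ => h1 i), Finset.prod_mul_distrib,
    Equiv.prod_comp (φ h) (fun j => sgn ρ f φ g j), mul_comm]

theorem prodSgn_one (hM : MonoFrame ρ R b W f φ) : prodSgn ρ f φ 1 = 1 := by
  have h1 := prodSgn_mul hM 1 1
  rw [mul_one] at h1
  have h2 : prodSgn ρ f φ (1 : ↥(RB R b)) * prodSgn ρ f φ 1 = 1 := by
    unfold prodSgn
    rw [← Finset.prod_mul_distrib]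
    exact Finset.prod_eq_one (fun i _ => sgn_sq 1 i)
  rw [← h1] at h2
  exact h2

/-- the product of the signs as a monoid hom -/
noncomputable def prodHom (hM : MonoFrame ρ R b W f φ) : ↥(RB R b) →* ZMod 3 where
  toFun := prodSgn ρ f φ
  map_one' := prodSgn_one hM
  map_mul' := prodSgn_mul hM

/-- the product of the signs is trivial on `R = [R, b]` -/
theorem prodSgn_R (hL : LinCtx ρ R b W) (hM : MonoFrame ρ R b W f φ) (r : ↥(RB R b))
    (hr : (r : S) ∈ R) : prodSgn ρ f φ r = 1 := by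
  have hle : ⁅R, Subgroup.zpowers b⁆ ≤ ((prodHom hM).ker).map (RB R b).subtype := by
    rw [Subgroup.commutator_le]
    intro g₁ hg₁ g₂ hg₂
    have hg₁' : g₁ ∈ RB R b := R_le_RB R b hg₁
    have hg₂' : g₂ ∈ RB R b :=
      (le_sup_right : Subgroup.zpowers b ≤ R ⊔ Subgroup.zpowers b) hg₂
    refine ⟨(⟨g₁, hg₁'⟩ : ↥(RB R b)) * ⟨g₂, hg₂'⟩ * (⟨g₁, hg₁'⟩ : ↥(RB R b))⁻¹ *
      (⟨g₂, hg₂'⟩ : ↥(RB R b))⁻¹, ?_, ?_⟩
    · rw [SetLike.mem_coe, MonoidHom.mem_ker, map_mul, map_mul, map_mul]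
      have e1 : (prodHom hM) ⟨g₁, hg₁'⟩ * (prodHom hM) (⟨g₁, hg₁'⟩ : ↥(RB R b))⁻¹ = 1 := by
        rw [← map_mul, mul_inv_cancel, map_one]
      have e2 : (prodHom hM) ⟨g₂, hg₂'⟩ * (prodHom hM) (⟨g₂, hg₂'⟩ : ↥(RB R b))⁻¹ = 1 := by
        rw [← map_mul, mul_inv_cancel, map_one]
      calc (prodHom hM) ⟨g₁, hg₁'⟩ * (prodHom hM) ⟨g₂, hg₂'⟩ *
            (prodHom hM) (⟨g₁, hg₁'⟩ : ↥(RB R b))⁻¹ * (prodHom hM) (⟨g₂, hg₂'⟩ : ↥(RB R b))⁻¹
          = ((prodHom hM) ⟨g₁, hg₁'⟩ * (prodHom hM) (⟨g₁, hg₁'⟩ : ↥(RB R b))⁻¹) *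
            ((prodHom hM) ⟨g₂, hg₂'⟩ * (prodHom hM) (⟨g₂, hg₂'⟩ : ↥(RB R b))⁻¹) := by ring
        _ = 1 := by rw [e1, e2, mul_one]
    · rw [commutatorElement_def]
      rfl
  have hr' : (r : S) ∈ ⁅R, Subgroup.zpowers b⁆ := by rw [hL.R_comm]; exact hr
  obtain ⟨y, hy, hyr⟩ := hle hr'
  have hyr' : y = r := Subtype.ext hyr
  rw [← hyr']
  exact hy

/-- two elements of `R<b>` with the same action on `W` are equal -/
theorem eq_of_actW (hL : LinCtx ρ R b W) (g h : ↥(RB R b))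
    (H : ∀ w ∈ W, ρ (g : S) w = ρ (h : S) w) : g = h := by
  have h1 : ((h⁻¹ * g : ↥(RB R b)) : S) = 1 := by
    apply hL.faithful _ (h⁻¹ * g).2
    intro w hw
    rw [Subgroup.coe_mul, map_mul, Module.End.mul_apply, H w hw, ← Module.End.mul_apply,
      ← map_mul, Subgroup.coe_inv, inv_mul_cancel, map_one, Module.End.one_apply]
  have h2 : h⁻¹ * g = 1 := Subtype.ext h1
  exact (inv_mul_eq_one.1 h2).symm

/-- two elements of `R<b>` with the same action on the frame are equal -/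
theorem eq_of_act (hL : LinCtx ρ R b W) (hM : MonoFrame ρ R b W f φ) (g h : ↥(RB R b))
    (H : ∀ i, ρ (g : S) (f i) = ρ (h : S) (f i)) : g = h := by
  apply eq_of_actW hL
  intro w hw
  have hEq : Set.EqOn (ρ (g : S)) (ρ (h : S)) (Set.range f) := by
    rintro _ ⟨i, rfl⟩
    exact H i
  exact LinearMap.eqOn_span hEq (hM.span w hw)

/-- commutators from squares (pure group theory) -/
theorem comm_of_sq {G : Type*} [Group G] (z : G) (X : Subgroup G) (hz2 : z * z = 1)
    (hzc : ∀ g ∈ X, g * z = z * g) (hsq : ∀ g ∈ X, g * g = 1 ∨ g * g = z) :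
    ∀ g ∈ X, ∀ h ∈ X, g * h * g⁻¹ * h⁻¹ = 1 ∨ g * h * g⁻¹ * h⁻¹ = z := by
  have key : ∀ g ∈ X, ∃ e : G, (e = 1 ∨ e = z) ∧ g⁻¹ = g * e := by
    intro g hg
    rcases hsq g hg with h | h
    · exact ⟨1, Or.inl rfl, by rw [mul_one]; exact (mul_eq_one_iff_eq_inv.1 h).symm⟩
    · refine ⟨z, Or.inr rfl, inv_eq_of_mul_eq_one_right ?_⟩
      rw [← mul_assoc, h, hz2]
  have hcomm : ∀ e : G, (e = 1 ∨ e = z) → ∀ h ∈ X, e * h = h * e := by
    intro e he h hh
    rcases he with he | he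
    · rw [he, one_mul, mul_one]
    · rw [he]
      exact (hzc h hh).symm
  have hprod : ∀ e₁ e₂ : G, (e₁ = 1 ∨ e₁ = z) → (e₂ = 1 ∨ e₂ = z) →
      (e₁ * e₂ = 1 ∨ e₁ * e₂ = z) := by
    intro e₁ e₂ h₁ h₂
    rcases h₁ with h₁ | h₁ <;> rcases h₂ with h₂ | h₂ <;> rw [h₁, h₂]
    · exact Or.inl (one_mul 1)
    · exact Or.inr (one_mul z)
    · exact Or.inr (mul_one z)
    · exact Or.inl hz2
  intro g hg h hh
  obtain ⟨eg, heg, hginv⟩ := key g hg
  obtain ⟨eh, heh, hhinv⟩ := key h hh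
  have hgh : g * h * (g * h) = 1 ∨ g * h * (g * h) = z := hsq _ (X.mul_mem hg hh)
  have e1 : g * h * g⁻¹ * h⁻¹ = (g * h * (g * h)) * (eg * eh) := by
    rw [hginv, hhinv]
    have := hcomm eg heg h hh
    calc g * h * (g * eg) * (h * eh) = g * h * g * (eg * h) * eh := by group
      _ = g * h * g * (h * eg) * eh := by rw [this]
      _ = g * h * (g * h) * (eg * eh) := by group
  rw [e1]
  exact hprod _ _ hgh (hprod _ _ heg heh)

section Four

variable {f : Fin 4 → E} {φ : ↥(RB R b) → Equiv.Perm (Fin 4)}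

/-- the three double transpositions of `Fin 4` -/
def v1 : Equiv.Perm (Fin 4) := Equiv.swap 0 1 * Equiv.swap 2 3
/-- the three double transpositions of `Fin 4` -/
def v2 : Equiv.Perm (Fin 4) := Equiv.swap 0 2 * Equiv.swap 1 3
/-- the three double transpositions of `Fin 4` -/
def v3 : Equiv.Perm (Fin 4) := Equiv.swap 0 3 * Equiv.swap 1 2

theorem v1_val : v1 0 = 1 ∧ v1 1 = 0 ∧ v1 2 = 3 ∧ v1 3 = 2 := by decide
theorem v2_val : v2 0 = 2 ∧ v2 1 = 3 ∧ v2 2 = 0 ∧ v2 3 = 1 := by decide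
theorem v3_val : v3 0 = 3 ∧ v3 1 = 2 ∧ v3 2 = 1 ∧ v3 3 = 0 := by decide

/-- a fixed-point-free involution of `Fin 4` is a double transposition -/
theorem v4_cases (σ : Equiv.Perm (Fin 4)) (h2 : σ ^ 2 = 1) (hfp : ∀ x, σ x ≠ x) :
    σ = v1 ∨ σ = v2 ∨ σ = v3 := by
  revert σ
  decide

/-- squares: if `g` acts on the frame with `g² f i = t f i`, `t = ±1`, then `g² ∈ {1, z}` -/
theorem sq_aux (hL : LinCtx ρ R b W) (hM : MonoFrame ρ R b W f φ) (z : S) (hzR : z ∈ R)
    (hz : IsNeg ρ W z) (g : ↥(RB R b)) (t : ZMod 3) (ht : t = 1 ∨ t = -1)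
    (hσ : ∀ i, φ g (φ g i) = i)
    (hconst : ∀ i, sgn ρ f φ g i * sgn ρ f φ g (φ g i) = t) :
    (g : S) * g = 1 ∨ (g : S) * g = z := by
  have hact : ∀ i, ρ ((g * g : ↥(RB R b)) : S) (f i) = t • f i := by
    intro i
    rw [sgn_spec hM (g * g) i, sgn_mul hM, phi_mul hM, Equiv.Perm.mul_apply, hσ, hconst]
  rcases ht with ht | ht
  · left
    have h1 : g * g = 1 := by
      apply eq_of_act hL hM
      intro i
      rw [hact, ht, one_smul, Subgroup.coe_one, map_one, Module.End.one_apply]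
    have h2 := congrArg (Subtype.val : ↥(RB R b) → S) h1
    rw [Subgroup.coe_mul, Subgroup.coe_one] at h2
    exact h2
  · right
    have h1 : g * g = ⟨z, R_le_RB R b hzR⟩ := by
      apply eq_of_act hL hM
      intro i
      rw [hact, ht, neg_smul, one_smul]
      exact (hz (f i) (hM.fW i)).symm
    have h2 := congrArg (Subtype.val : ↥(RB R b) → S) h1
    rw [Subgroup.coe_mul] at h2
    exact h2

/-- **(e)** the `XS` structure of `R` for `n = 4`. -/
theorem xs_four (hL : LinCtx ρ R b W) (hM : MonoFrame ρ R b W f φ)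
    (hV4 : ∀ r : ↥(RB R b), (r : S) ∈ R → (φ r) ^ 2 = 1 ∧ (φ r = 1 ∨ ∀ x, φ r x ≠ x))
    (hdiag : ∀ i j : Fin 4, i ≠ j → ∃ a : ↥(RB R b), (a : S) ∈ R ∧ φ a = 1 ∧
      ρ (a : S) (f i) = -f i ∧ ρ (a : S) (f j) = f j)
    (htr : ∀ i j : Fin 4, ∃ r : ↥(RB R b), (r : S) ∈ R ∧ φ r i = j)
    (z : S) (hzR : z ∈ R) (hz : IsNeg ρ W z) : XS z R := by
  have hzRB : z ∈ RB R b := R_le_RB R b hzR
  -- squares
  have hsq : ∀ g ∈ R, g * g = 1 ∨ g * g = z := by
    intro g hg
    obtain ⟨g', hg'⟩ : ∃ g' : ↥(RB R b), (g' : S) = g := ⟨⟨g, R_le_RB R b hg⟩, rfl⟩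
    have hg'R : (g' : S) ∈ R := by rw [hg']; exact hg
    rw [← hg']
    obtain ⟨h2, h1⟩ := hV4 g' hg'R
    have hP := prodSgn_R hL hM g' hg'R
    unfold prodSgn at hP
    rw [Fin.prod_univ_four] at hP
    have q0 := sgn_sq (ρ := ρ) (f := f) (φ := φ) g' 0
    have q1 := sgn_sq (ρ := ρ) (f := f) (φ := φ) g' 1
    have q2 := sgn_sq (ρ := ρ) (f := f) (φ := φ) g' 2
    have q3 := sgn_sq (ρ := ρ) (f := f) (φ := φ) g' 3
    obtain ⟨e1, e2, e3⟩ := sign_lemma _ _ _ _ q0 q1 q2 q3 hP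
    rcases h1 with h1 | h1
    · refine sq_aux hL hM z hzR hz g' 1 (Or.inl rfl) ?_ ?_
      · intro i
        rw [h1]
        rfl
      · intro i
        rw [h1, Equiv.Perm.one_apply]
        exact sgn_sq g' i
    · rcases v4_cases (φ g') h2 h1 with h | h | h
      · obtain ⟨w0, w1, w2, w3⟩ := v1_val
        refine sq_aux hL hM z hzR hz g' (sgn ρ f φ g' 0 * sgn ρ f φ g' 1)
          (zmod3_pm _ (by rw [mul_mul_mul_comm, q0, q1, one_mul])) ?_ ?_
        · intro i
          rw [h]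
          revert i
          decide
        · intro i
          rw [h]
          fin_cases i
          · show sgn ρ f φ g' 0 * sgn ρ f φ g' (v1 0) = _
            rw [w0]
          · show sgn ρ f φ g' 1 * sgn ρ f φ g' (v1 1) = _
            rw [w1, mul_comm]
          · show sgn ρ f φ g' 2 * sgn ρ f φ g' (v1 2) = _
            rw [w2, e1]
          · show sgn ρ f φ g' 3 * sgn ρ f φ g' (v1 3) = _
            rw [w3, mul_comm, e1]
      · obtain ⟨w0, w1, w2, w3⟩ := v2_val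
        refine sq_aux hL hM z hzR hz g' (sgn ρ f φ g' 0 * sgn ρ f φ g' 2)
          (zmod3_pm _ (by rw [mul_mul_mul_comm, q0, q2, one_mul])) ?_ ?_
        · intro i
          rw [h]
          revert i
          decide
        · intro i
          rw [h]
          fin_cases i
          · show sgn ρ f φ g' 0 * sgn ρ f φ g' (v2 0) = _
            rw [w0]
          · show sgn ρ f φ g' 1 * sgn ρ f φ g' (v2 1) = _
            rw [w1, e2]
          · show sgn ρ f φ g' 2 * sgn ρ f φ g' (v2 2) = _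
            rw [w2, mul_comm]
          · show sgn ρ f φ g' 3 * sgn ρ f φ g' (v2 3) = _
            rw [w3, mul_comm, e2]
      · obtain ⟨w0, w1, w2, w3⟩ := v3_val
        refine sq_aux hL hM z hzR hz g' (sgn ρ f φ g' 0 * sgn ρ f φ g' 3)
          (zmod3_pm _ (by rw [mul_mul_mul_comm, q0, q3, one_mul])) ?_ ?_
        · intro i
          rw [h]
          revert i
          decide
        · intro i
          rw [h]
          fin_cases i
          · show sgn ρ f φ g' 0 * sgn ρ f φ g' (v3 0) = _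
            rw [w0]
          · show sgn ρ f φ g' 1 * sgn ρ f φ g' (v3 1) = _
            rw [w1, e3]
          · show sgn ρ f φ g' 2 * sgn ρ f φ g' (v3 2) = _
            rw [w2, mul_comm, e3]
          · show sgn ρ f φ g' 3 * sgn ρ f φ g' (v3 3) = _
            rw [w3, mul_comm]
  -- `z` is an involution, central, nontrivial
  have hz2 : z * z = 1 := by
    apply hL.faithful _ ((RB R b).mul_mem hzRB hzRB)
    intro w hw
    rw [map_mul, Module.End.mul_apply, hz w hw, map_neg, hz w hw, neg_neg]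
  have hzc : ∀ g ∈ R, g * z = z * g := by
    intro g hg
    have hgRB : g ∈ RB R b := R_le_RB R b hg
    have h1 : (⟨g, hgRB⟩ * ⟨z, hzRB⟩ : ↥(RB R b)) = ⟨z, hzRB⟩ * ⟨g, hgRB⟩ := by
      apply eq_of_actW hL
      intro w hw
      rw [Subgroup.coe_mul, Subgroup.coe_mul, map_mul, map_mul, Module.End.mul_apply,
        Module.End.mul_apply]
      show ρ g (ρ z w) = ρ z (ρ g w)
      rw [hz w hw, map_neg, hz _ (hL.W_inv g hgRB w hw)]
    exact congrArg (Subtype.val : ↥(RB R b) → S) h1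
  have hzne : z ≠ 1 := by
    intro h1
    have h2 := hz (f 0) (hM.fW 0)
    rw [h1, map_one, Module.End.one_apply] at h2
    exact f_ne_zero hM 0 (eq_zero_of_eq_neg h2)
  refine ⟨hzR, hzne, hz2, hzc, hsq, comm_of_sq z R hz2 hzc hsq, ?_, ?_⟩
  · -- centre
    intro g hg hcen
    obtain ⟨g', hg'⟩ : ∃ g' : ↥(RB R b), (g' : S) = g := ⟨⟨g, R_le_RB R b hg⟩, rfl⟩
    -- `φ g' = 1`
    have hfix : ∀ i, φ g' i = i := by
      intro i
      by_contra hne
      obtain ⟨a, haR, ha1, hai, haj⟩ := hdiag i (φ g' i) (fun h => hne h.symm)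
      have hc : g' * a = a * g' := by
        apply Subtype.ext
        rw [Subgroup.coe_mul, Subgroup.coe_mul, hg']
        exact hcen _ haR
      have h1 : ρ ((g' * a : ↥(RB R b)) : S) (f i) = -(sgn ρ f φ g' i • f (φ g' i)) := by
        rw [Subgroup.coe_mul, map_mul, Module.End.mul_apply, hai, map_neg, sgn_spec hM g' i]
      have h2 : ρ ((a * g' : ↥(RB R b)) : S) (f i) = sgn ρ f φ g' i • f (φ g' i) := by
        rw [Subgroup.coe_mul, map_mul, Module.End.mul_apply, sgn_spec hM g' i, map_smul, haj]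
      rw [hc, h2] at h1
      have h3 := eq_zero_of_eq_neg h1
      rcases smul_eq_zero.1 h3 with h4 | h4
      · exact sgn_ne_zero g' i h4
      · exact f_ne_zero hM _ h4
    -- the signs are constant
    have hconst : ∀ i j, sgn ρ f φ g' i = sgn ρ f φ g' j := by
      intro i j
      obtain ⟨r, hrR, hrij⟩ := htr i j
      have hc : g' * r = r * g' := by
        apply Subtype.ext
        rw [Subgroup.coe_mul, Subgroup.coe_mul, hg']
        exact hcen _ hrR
      have h1 := sgn_mul hM g' r i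
      have h2 := sgn_mul hM r g' i
      rw [hc, h2, hfix i, hrij] at h1
      -- `s_g i * s_r i = s_r i * s_g j`
      have h3 : sgn ρ f φ r i * (sgn ρ f φ g' i * sgn ρ f φ r i) =
          sgn ρ f φ r i * (sgn ρ f φ r i * sgn ρ f φ g' j) := by rw [h1]
      rw [mul_comm (sgn ρ f φ g' i), ← mul_assoc, ← mul_assoc, sgn_sq, one_mul, one_mul] at h3
      exact h3
    have hact : ∀ i, ρ (g' : S) (f i) = sgn ρ f φ g' 0 • f i := by
      intro i
      rw [sgn_spec hM g' i, hfix i, hconst i 0]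
    rcases zmod3_pm _ (sgn_sq (ρ := ρ) (f := f) (φ := φ) g' 0) with h0 | h0
    · left
      have h1 : g' = 1 := by
        apply eq_of_act hL hM
        intro i
        rw [hact, h0, one_smul, Subgroup.coe_one, map_one, Module.End.one_apply]
      rw [← hg', h1, Subgroup.coe_one]
    · right
      have h1 : g' = ⟨z, hzRB⟩ := by
        apply eq_of_act hL hM
        intro i
        rw [hact, h0, neg_smul, one_smul]
        exact (hz (f i) (hM.fW i)).symm
      rw [← hg', h1]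
  · -- big
    obtain ⟨a, haR, _, ha0, ha1⟩ := hdiag 0 1 (by decide)
    refine ⟨(a : S), haR, ?_, ?_⟩
    · intro h1
      rw [h1, map_one, Module.End.one_apply] at ha0
      exact f_ne_zero hM 0 (eq_zero_of_eq_neg ha0)
    · intro h1
      rw [h1, hz (f 1) (hM.fW 1)] at ha1
      exact f_ne_zero hM 1 (eq_zero_of_eq_neg ha1.symm)

end Four

end Cfsg.Agent.Lib.H16.S4415G5e
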