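import Mathlib

/-!
# S4415: the linear algebra of `N = f - 1` (helper16)

`f` a linear map of order dividing `3` on a finite `ZMod 3`-space `E = E₀ ⊕ E₁`, trivial on `E₁`, with a single
Jordan block of size `3` on `E₀` (`|E₀| = 27`).  With `N v = f v - v`:

* `N_cube`, `N_sq_apply` : `N³ = 0`, `N² v = v + f v + f (f v)`;
* `exists_jordan` : there are `x₀ x₁ x₂` with `N x₀ = x₁`, `N x₁ = x₂ ≠ 0`, `N x₂ = 0`, and every `N w` is a combination
  of `x₁, x₂`, every `N² w` a multiple of `x₂`;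
* `P1` : in an `f`-invariant splitting `E = U ⊕ U'`, `f` is trivial on `U` or on `U'`;
* `three_cycle` : three independent subspaces permuted cyclically by `f` are lines.
-/

set_option autoImplicit false

open Module

namespace Cfsg.Agent.Lib.H16.S4415LA

variable {E : Type*} [AddCommGroup E] [Module (ZMod 3) E]

/-- `3 w = 0` -/
theorem three_zero (w : E) : w + w + w = 0 := by
  have h := ZModModule.char_nsmul_eq_zero 3 w
  rw [← h]
  abel

/-- `N² v = v + f v + f (f v)` in characteristic `3` -/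
theorem N_sq_apply (f : E →ₗ[ZMod 3] E) (v : E) :
    f (f v - v) - (f v - v) = v + f v + f (f v) := by
  have h := three_zero (f v)
  rw [map_sub]
  have h2 : f (f v) - f v - (f v - v) = v + f v + f (f v) - (f v + f v + f v) := by abel
  rw [h2, h, sub_zero]

/-- `N³ = 0` -/
theorem N_cube (f : E →ₗ[ZMod 3] E) (hf3 : ∀ v, f (f (f v)) = v) (v : E) :
    f (f (f v - v) - (f v - v)) - (f (f v - v) - (f v - v)) = 0 := by
  rw [N_sq_apply f v, map_add, map_add, hf3 v]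
  abel

/-- a scalar of `ZMod 3` is `0`, `1` or `-1` -/
theorem zmod3_cases (a : ZMod 3) : a = 0 ∨ a = 1 ∨ a = -1 := by
  revert a
  decide

/-- a nonzero scalar of `ZMod 3` is its own inverse -/
theorem zmod3_mul_self (a : ZMod 3) (ha : a ≠ 0) : a * a = 1 := by
  revert a
  decide

section Jordan

variable [Finite E] (f : E →ₗ[ZMod 3] E) (hf3 : ∀ v, f (f (f v)) = v)
  (E₀ E₁ : Submodule (ZMod 3) E) (hE01' : E₀ ⊔ E₁ = ⊤)
  (hE1 : ∀ v ∈ E₁, f v = v) (hE0inv : ∀ v ∈ E₀, f v ∈ E₀) (hE0 : Nat.card ↥E₀ = 27)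
  (hind : ∃ v ∈ E₀, f (f v - v) - (f v - v) ≠ 0)

include hf3 hE01' hE1 hE0inv hE0 hind

/-- The Jordan chain `x₀, x₁ = N x₀, x₂ = N x₁ ≠ 0`, `N x₂ = 0`, spanning the images of `N` and `N²`. -/
theorem exists_jordan :
    ∃ x₀ x₁ x₂ : E, x₀ ∈ E₀ ∧ f x₀ - x₀ = x₁ ∧ f x₁ - x₁ = x₂ ∧ x₂ ≠ 0 ∧ f x₂ - x₂ = 0 ∧
      (∀ w : E, ∃ a b : ZMod 3, f w - w = a • x₁ + b • x₂) ∧
      (∀ w : E, ∃ a : ZMod 3, f (f w - w) - (f w - w) = a • x₂) := by
  classical
  obtain ⟨x₀, hx₀, hne⟩ := hind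
  have hN3 := N_cube f hf3 x₀
  obtain ⟨x₁, hx₁def⟩ : ∃ x₁ : E, x₁ = f x₀ - x₀ := ⟨_, rfl⟩
  obtain ⟨x₂, hx₂def⟩ : ∃ x₂ : E, x₂ = f x₁ - x₁ := ⟨_, rfl⟩
  rw [← hx₁def, ← hx₂def] at hne hN3
  have hx₁ : x₁ ∈ E₀ := by rw [hx₁def]; exact E₀.sub_mem (hE0inv x₀ hx₀) hx₀
  have hx₂ : x₂ ∈ E₀ := by rw [hx₂def]; exact E₀.sub_mem (hE0inv _ hx₁) hx₁
  have e1 : f x₀ = x₀ + x₁ := by rw [hx₁def]; abel
  have e2 : f x₁ = x₁ + x₂ := by rw [hx₂def]; abel
  have e3 : f x₂ = x₂ := sub_eq_zero.1 hN3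
  -- N of a combination
  have hNcomb : ∀ (p q r : ZMod 3),
      f (p • x₀ + q • x₁ + r • x₂) - (p • x₀ + q • x₁ + r • x₂) = p • x₁ + q • x₂ := by
    intro p q r
    simp only [map_add, map_smul, e1, e2, e3, smul_add]
    abel
  -- finrank E₀ = 3
  have hfr : finrank (ZMod 3) ↥E₀ = 3 := by
    have h := Module.natCard_eq_pow_finrank (K := ZMod 3) (V := ↥E₀)
    rw [hE0, Nat.card_eq_fintype_card, ZMod.card] at h
    have h27 : (27 : ℕ) = 3 ^ 3 := by norm_num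
    rw [h27] at h
    exact (Nat.pow_right_injective (by norm_num : 2 ≤ 3) h).symm
  -- the three vectors are linearly independent in E₀
  set b : Fin 3 → ↥E₀ := ![⟨x₀, hx₀⟩, ⟨x₁, hx₁⟩, ⟨x₂, hx₂⟩] with hb
  have hli : LinearIndependent (ZMod 3) b := by
    rw [Fintype.linearIndependent_iff]
    intro c hc
    rw [Fin.sum_univ_three] at hc
    have hc' : c 0 • x₀ + c 1 • x₁ + c 2 • x₂ = 0 := by
      have := congrArg (Subtype.val : ↥E₀ → E) hc
      simpa [hb] using this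
    have h1 : c 0 • x₁ + c 1 • x₂ = 0 := by
      rw [← hNcomb (c 0) (c 1) (c 2), hc', map_zero, sub_zero]
    have h2 : c 0 • x₂ = 0 := by
      have h := hNcomb 0 (c 0) (c 1)
      rw [zero_smul, zero_add, zero_smul, zero_add, h1, map_zero, sub_zero] at h
      exact h.symm
    have hc0 : c 0 = 0 := (smul_eq_zero.1 h2).resolve_right hne
    rw [hc0, zero_smul, zero_add] at h1 hc'
    have hc1 : c 1 = 0 := (smul_eq_zero.1 h1).resolve_right hne
    rw [hc1, zero_smul, zero_add] at hc'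
    have hc2 : c 2 = 0 := (smul_eq_zero.1 hc').resolve_right hne
    intro i
    fin_cases i
    · exact hc0
    · exact hc1
    · exact hc2
  have hspan : Submodule.span (ZMod 3) (Set.range b) = ⊤ :=
    hli.span_eq_top_of_card_eq_finrank' (by rw [Fintype.card_fin, hfr])
  -- every element of E₀ is a combination
  have hcomb : ∀ e ∈ E₀, ∃ p q r : ZMod 3, e = p • x₀ + q • x₁ + r • x₂ := by
    intro e he
    have hmem : (⟨e, he⟩ : ↥E₀) ∈ Submodule.span (ZMod 3) (Set.range b) := by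
      rw [hspan]
      exact Submodule.mem_top
    obtain ⟨c, hc⟩ := (Submodule.mem_span_range_iff_exists_fun (ZMod 3)).1 hmem
    rw [Fin.sum_univ_three] at hc
    refine ⟨c 0, c 1, c 2, ?_⟩
    have := congrArg (Subtype.val : ↥E₀ → E) hc
    simpa [hb] using this.symm
  -- N on a general vector
  have hNw : ∀ w : E, ∃ a c : ZMod 3, f w - w = a • x₁ + c • x₂ := by
    intro w
    have hw : w ∈ E₀ ⊔ E₁ := by rw [hE01']; exact Submodule.mem_top
    obtain ⟨e₀, he₀, e₁, he₁, rfl⟩ := Submodule.mem_sup.1 hw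
    obtain ⟨p, q, r, hpqr⟩ := hcomb e₀ he₀
    refine ⟨p, q, ?_⟩
    have h1 : f (e₀ + e₁) - (e₀ + e₁) = f e₀ - e₀ := by
      rw [map_add, hE1 e₁ he₁]
      abel
    rw [h1, hpqr]
    exact hNcomb p q r
  refine ⟨x₀, x₁, x₂, hx₀, hx₁def.symm, hx₂def.symm, hne, hN3, hNw, ?_⟩
  intro w
  obtain ⟨a, c, hac⟩ := hNw w
  refine ⟨a, ?_⟩
  rw [hac]
  have h := hNcomb 0 a c
  rw [zero_smul, zero_add, zero_smul, zero_add] at h
  exact h

/-- **P1**: in an `f`-invariant splitting `E = U ⊕ U'`, `f` is trivial on one of the two summands. -/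
theorem P1 (U U' : Submodule (ZMod 3) E) (hUU : U ⊓ U' = ⊥) (hUU' : U ⊔ U' = ⊤)
    (hU : ∀ v ∈ U, f v ∈ U) (hU' : ∀ v ∈ U', f v ∈ U') :
    (∀ v ∈ U, f v = v) ∨ (∀ v ∈ U', f v = v) := by
  obtain ⟨x₀, x₁, x₂, -, h01, h12, hx₂, hNx₂, hN, hN2⟩ :=
    exists_jordan f hf3 E₀ E₁ hE01' hE1 hE0inv hE0 hind
  -- key: if `p ∈ V` (an invariant subspace) has `N² p ≠ 0` then `range N ≤ V`
  have key : ∀ V : Submodule (ZMod 3) E, (∀ v ∈ V, f v ∈ V) → ∀ p ∈ V,
      f (f p - p) - (f p - p) ≠ 0 → ∀ w : E, f w - w ∈ V := by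
    intro V hV p hp hpne w
    have hNp : f p - p ∈ V := V.sub_mem (hV p hp) hp
    have hN2p : f (f p - p) - (f p - p) ∈ V := V.sub_mem (hV _ hNp) hNp
    obtain ⟨a, c, hac⟩ := hN p
    have h2 : f (f p - p) - (f p - p) = a • x₂ := by
      rw [hac]
      simp only [map_add, map_smul]
      have e1 : f x₁ = x₁ + x₂ := by rw [← h12]; abel
      have e2 : f x₂ = x₂ := by rwa [sub_eq_zero] at hNx₂
      rw [e1, e2]
      simp only [smul_add]
      abel
    have ha : a ≠ 0 := by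
      rintro rfl
      rw [zero_smul] at h2
      exact hpne h2
    have hx₂V : x₂ ∈ V := by
      have h3 : x₂ = a • (a • x₂) := by rw [smul_smul, zmod3_mul_self a ha, one_smul]
      rw [h3, ← h2]
      exact V.smul_mem a hN2p
    have hx₁V : x₁ ∈ V := by
      have h3 : a • x₁ = (f p - p) - c • x₂ := by rw [hac]; abel
      have h4 : x₁ = a • (a • x₁) := by rw [smul_smul, zmod3_mul_self a ha, one_smul]
      rw [h4, h3]
      exact V.smul_mem a (V.sub_mem hNp (V.smul_mem c hx₂V))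
    obtain ⟨a', c', hw⟩ := hN w
    rw [hw]
    exact V.add_mem (V.smul_mem a' hx₁V) (V.smul_mem c' hx₂V)
  -- split x₀
  have hx₀ : x₀ ∈ U ⊔ U' := by rw [hUU']; exact Submodule.mem_top
  obtain ⟨p, hp, p', hp', hpp⟩ := Submodule.mem_sup.1 hx₀
  have hsum : (f (f p - p) - (f p - p)) + (f (f p' - p') - (f p' - p')) = x₂ := by
    rw [← h12, ← h01, ← hpp]
    simp only [map_add, map_sub]
    abel
  by_cases h1 : f (f p - p) - (f p - p) = 0
  · -- then N² p' ≠ 0, range N ≤ U', so f trivial on U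
    have h2 : f (f p' - p') - (f p' - p') ≠ 0 := by
      intro h
      rw [h1, h, add_zero] at hsum
      exact hx₂ hsum.symm
    left
    intro v hv
    have h3 : f v - v ∈ U' := key U' hU' p' hp' h2 v
    have h4 : f v - v ∈ U := U.sub_mem (hU v hv) hv
    have h5 : f v - v ∈ U ⊓ U' := ⟨h4, h3⟩
    rw [hUU, Submodule.mem_bot] at h5
    exact sub_eq_zero.1 h5
  · right
    intro v hv
    have h3 : f v - v ∈ U := key U hU p hp h1 v
    have h4 : f v - v ∈ U' := U'.sub_mem (hU' v hv) hv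
    have h5 : f v - v ∈ U ⊓ U' := ⟨h3, h4⟩
    rw [hUU, Submodule.mem_bot] at h5
    exact sub_eq_zero.1 h5

/-- **3-cycle lemma**: if `f` maps `L₁ → L₂ → L₃ → L₁` and the three subspaces are independent, then any two vectors
of `L₁` are proportional. -/
theorem three_cycle (L₁ L₂ L₃ : Submodule (ZMod 3) E)
    (hindep : ∀ a ∈ L₁, ∀ b ∈ L₂, ∀ c ∈ L₃, a + b + c = 0 → a = 0)
    (h12 : ∀ v ∈ L₁, f v ∈ L₂) (h23 : ∀ v ∈ L₂, f v ∈ L₃) :
    ∀ v ∈ L₁, v ≠ 0 → ∀ w ∈ L₁, ∃ c : ZMod 3, w = c • v := by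
  obtain ⟨x₀, x₁, x₂, -, -, -, hx₂, -, -, hN2⟩ :=
    exists_jordan f hf3 E₀ E₁ hE01' hE1 hE0inv hE0 hind
  -- N² is injective on L₁
  have hinj : ∀ u ∈ L₁, f (f u - u) - (f u - u) = 0 → u = 0 := by
    intro u hu h
    rw [N_sq_apply] at h
    exact hindep u hu (f u) (h12 u hu) (f (f u)) (h23 _ (h12 u hu)) h
  intro v hv hv0 w hw
  obtain ⟨a, ha⟩ := hN2 v
  obtain ⟨c, hc⟩ := hN2 w
  have ha0 : a ≠ 0 := by
    rintro rfl
    rw [zero_smul] at ha
    exact hv0 (hinj v hv ha)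
  refine ⟨c * a, ?_⟩
  have hu : w - (c * a) • v ∈ L₁ := L₁.sub_mem hw (L₁.smul_mem _ hv)
  have h0 : f (f (w - (c * a) • v) - (w - (c * a) • v)) - (f (w - (c * a) • v) - (w - (c * a) • v)) = 0 := by
    have e : f (f (w - (c * a) • v) - (w - (c * a) • v)) - (f (w - (c * a) • v) - (w - (c * a) • v)) =
        (f (f w - w) - (f w - w)) - (c * a) • (f (f v - v) - (f v - v)) := by
      simp only [map_sub, map_smul, smul_sub]
      abel
    rw [e, ha, hc, smul_smul, mul_assoc, zmod3_mul_self a ha0, mul_one, sub_self]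
  exact sub_eq_zero.1 (hinj _ hu h0)

/-- the 3-cycle lemma, dimension form -/
theorem three_cycle_finrank (L₁ L₂ L₃ : Submodule (ZMod 3) E)
    (hindep : ∀ a ∈ L₁, ∀ b ∈ L₂, ∀ c ∈ L₃, a + b + c = 0 → a = 0)
    (h12 : ∀ v ∈ L₁, f v ∈ L₂) (h23 : ∀ v ∈ L₂, f v ∈ L₃) :
    finrank (ZMod 3) ↥L₁ ≤ 1 := by
  have h := three_cycle f hf3 E₀ E₁ hE01' hE1 hE0inv hE0 hind L₁ L₂ L₃ hindep h12 h23
  rw [finrank_le_one_iff]
  by_cases hbot : ∀ v ∈ L₁, v = 0
  · refine ⟨0, fun w => ⟨0, ?_⟩⟩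
    rw [smul_zero]
    exact Subtype.ext (hbot w w.2).symm
  · push Not at hbot
    obtain ⟨v, hv, hv0⟩ := hbot
    refine ⟨⟨v, hv⟩, fun w => ?_⟩
    obtain ⟨c, hc⟩ := h v hv hv0 w w.2
    exact ⟨c, Subtype.ext hc.symm⟩

end Jordan

end Cfsg.Agent.Lib.H16.S4415LA
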