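import Cfsg.Agent.Lib.H1.S77.Hyp

/-!
# S0429, piece (L5): `hl5 : HI2 G v0 → HL5 G v0`

For a block vertex `b`, a mate `z` of `b` and a neighbour `c` of `b` among the block vertices:
either `c ~ z` and the blocks of `c`, `z` are disjoint, or `c ≁ z` and they meet in two points.
Pure counting (blueprint `tools/blueprints/S0429.md`).
-/

set_option autoImplicit false
set_option linter.unusedSectionVars false
open Cfsg

namespace Cfsg.Agent.Lib.H16.S77

open Cfsg.Agent.Lib.H1.S77 Finset

section
variable {V : Type*} [Fintype V] [DecidableEq V] {G : SimpleGraph V} [DecidableRel G.Adj]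
variable {v0 : V}

/-- data of a proper mate -/
theorem l5_mate {b z : V} (hz : z ∈ cls G v0 b) (hzb : z ≠ b) :
    z ∈ nB G v0 ∧ ¬ G.Adj b z ∧ Disjoint (blk G v0 b) (blk G v0 z) := by
  rcases mem_cls.mp hz with ⟨h1, h2 | h2⟩
  · exact absurd h2 hzb
  · exact ⟨h1, h2.1, h2.2⟩

/-- (i) the blocks of the 12 neighbours of `b` meet the block of a mate `z` in 16 points in total -/
theorem l5_sum (hG : G.IsSRGWith 77 16 0 4) {b z : V} (hb : b ∈ nB G v0)
    (hz : z ∈ cls G v0 b) (hzb : z ≠ b) :
    ∑ c ∈ (nB G v0).filter (fun c => G.Adj b c), (blk G v0 c ∩ blk G v0 z).card = 16 := by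
  obtain ⟨hzB, hnbz, hdis⟩ := l5_mate hz hzb
  have h1 : ∀ c ∈ (nB G v0).filter (fun c => G.Adj b c), (blk G v0 c ∩ blk G v0 z).card
      = ((blk G v0 z).bipartiteAbove (fun c a => a ∈ blk G v0 c) c).card := by
    intro c _
    rw [Finset.bipartiteAbove, Finset.filter_mem_eq_inter, Finset.inter_comm]
  rw [Finset.sum_congr rfl h1, Finset.sum_card_bipartiteAbove_eq_sum_card_bipartiteBelow]
  have h2 : ∀ a ∈ blk G v0 z,
      (((nB G v0).filter (fun c => G.Adj b c)).bipartiteBelow
        (fun c a => a ∈ blk G v0 c) a).card = 4 := by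
    intro a ha
    have haz := mem_blk.mp ha
    have haA : a ∈ nA G v0 := mem_nA.mpr haz.2
    have hab : a ≠ b := fun h => nA_nB_disjoint haA (h ▸ hb)
    have hnab : ¬ G.Adj a b := by
      intro h
      have : a ∈ blk G v0 b := mem_blk.mpr ⟨h.symm, haz.2⟩
      exact Finset.disjoint_left.mp hdis this ha
    have h3 : ((nB G v0).filter (fun c => G.Adj b c)).bipartiteBelow
          (fun c a => a ∈ blk G v0 c) a
        = G.neighborFinset a ∩ G.neighborFinset b := by
      ext c
      rw [Finset.bipartiteBelow, Finset.mem_filter, Finset.mem_filter, mem_blk, Finset.mem_inter,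
        SimpleGraph.mem_neighborFinset, SimpleGraph.mem_neighborFinset]
      constructor
      · rintro ⟨⟨-, hbc⟩, hca, -⟩
        exact ⟨hca.symm, hbc⟩
      · rintro ⟨hac, hbc⟩
        refine ⟨⟨mem_nB.mpr ⟨?_, ?_⟩, hbc⟩, hac.symm, haz.2⟩
        · rintro rfl
          exact (mem_nB.mp hb).2 hbc.symm
        · intro h0c
          exact indep hG haA (mem_nA.mpr h0c) hac
    rw [h3]
    exact nadj_common hG hab hnab
  rw [Finset.sum_congr rfl h2, Finset.sum_const, card_blk hG hzB]
  rfl

/-- (ii) exactly four of the 12 neighbours of `b` are adjacent to the mate `z` -/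
theorem l5_adj_count (hG : G.IsSRGWith 77 16 0 4) {b z : V} (hb : b ∈ nB G v0)
    (hz : z ∈ cls G v0 b) (hzb : z ≠ b) :
    (((nB G v0).filter (fun c => G.Adj b c)).filter (fun c => G.Adj c z)).card = 4 := by
  obtain ⟨hzB, hnbz, hdis⟩ := l5_mate hz hzb
  have h3 : ((nB G v0).filter (fun c => G.Adj b c)).filter (fun c => G.Adj c z)
      = G.neighborFinset b ∩ G.neighborFinset z := by
    ext c
    rw [Finset.mem_filter, Finset.mem_filter, Finset.mem_inter,
      SimpleGraph.mem_neighborFinset, SimpleGraph.mem_neighborFinset]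
    constructor
    · rintro ⟨⟨-, hbc⟩, hcz⟩
      exact ⟨hbc, hcz.symm⟩
    · rintro ⟨hbc, hzc⟩
      refine ⟨⟨mem_nB.mpr ⟨?_, ?_⟩, hbc⟩, hzc.symm⟩
      · rintro rfl
        exact (mem_nB.mp hb).2 hbc.symm
      · intro h0c
        have h1 : c ∈ blk G v0 b := mem_blk.mpr ⟨hbc, h0c⟩
        have h2 : c ∈ blk G v0 z := mem_blk.mpr ⟨hzc, h0c⟩
        exact Finset.disjoint_left.mp hdis h1 h2
  rw [h3]
  exact nadj_common hG (fun h => hzb h.symm) hnbz

/-- (L5) pure counting -/
theorem hl5 (hG : G.IsSRGWith 77 16 0 4) (h2 : HI2 G v0) : HL5 G v0 := by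
  intro b hb c hc hbc z hz hzb
  obtain ⟨hzB, hnbz, hdis⟩ := l5_mate hz hzb
  by_cases hcz : G.Adj c z
  · left
    refine ⟨hcz, ?_⟩
    rw [Finset.card_eq_zero, ← Finset.disjoint_iff_inter_eq_empty]
    exact disjoint_of_adj hG hcz
  · right
    refine ⟨hcz, ?_⟩
    set Cb := (nB G v0).filter (fun c => G.Adj b c) with hCb
    have hsum := l5_sum hG hb hz hzb
    have hcnt := l5_adj_count hG hb hz hzb
    have hCbcard : Cb.card = 12 := card_adj_nB hG hb
    -- split the sum
    have hsplit := Finset.sum_filter_add_sum_filter_not Cb (fun c => G.Adj c z)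
      (fun c => (blk G v0 c ∩ blk G v0 z).card)
    have hzero : ∑ c ∈ Cb.filter (fun c => G.Adj c z), (blk G v0 c ∩ blk G v0 z).card = 0 := by
      apply Finset.sum_eq_zero
      intro c' hc'
      rw [Finset.card_eq_zero, ← Finset.disjoint_iff_inter_eq_empty]
      exact disjoint_of_adj hG (Finset.mem_filter.mp hc').2
    have hrest : ∑ c ∈ Cb.filter (fun c => ¬ G.Adj c z), (blk G v0 c ∩ blk G v0 z).card = 16 := by
      rw [hzero, zero_add] at hsplit
      rw [hsplit]
      exact hsum
    have hcard8 : (Cb.filter (fun c => ¬ G.Adj c z)).card = 8 := by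
      have := Finset.card_filter_add_card_filter_not (s := Cb) (fun c => G.Adj c z)
      rw [hcnt, hCbcard] at this
      omega
    have hle : ∀ c' ∈ Cb.filter (fun c => ¬ G.Adj c z), (blk G v0 c' ∩ blk G v0 z).card ≤ 2 := by
      intro c' hc'
      have hc'1 := Finset.mem_filter.mp hc'
      have hc'2 := Finset.mem_filter.mp hc'1.1
      have hne : z ≠ c' := by
        rintro rfl
        exact hnbz hc'2.2
      exact h2 c' hc'2.1 z hzB hne
    have hcmem : c ∈ Cb.filter (fun c => ¬ G.Adj c z) :=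
      Finset.mem_filter.mpr ⟨Finset.mem_filter.mpr ⟨hc, hbc⟩, hcz⟩
    by_contra hne2
    have hlt : (blk G v0 c ∩ blk G v0 z).card < 2 := lt_of_le_of_ne (hle c hcmem) hne2
    have := Finset.sum_lt_sum (s := Cb.filter (fun c => ¬ G.Adj c z))
      (f := fun c => (blk G v0 c ∩ blk G v0 z).card) (g := fun _ => 2) hle ⟨c, hcmem, hlt⟩
    rw [hrest, Finset.sum_const, hcard8] at this
    simp at this

end

end Cfsg.Agent.Lib.H16.S77
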