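import Mathlib
import Cfsg.Agent.Lib.L0.SFDefs

/-!
S4130-G1 (helper16): Knoche.  A finite `p`-group all of whose conjugacy class sizes are squarefree has
`|P'| ∣ p`.  Self-contained (contains its own proof of the class-two statement F1).

Proof: `P' ≤ Z(P)`, so `g ↦ x g x⁻¹ g⁻¹` is a homomorphism with kernel `C_P(x)` and image `A_x` of order `p`
(`x` non-central).  If `[x,g] ≠ 1` then `A_x = A_g` (two groups of order `p` sharing a non-trivial element); for
non-central `x, y` there is `g` with `[x,g] ≠ 1 ≠ [y,g]`, so all `A_x` coincide and `P' = A_x`.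
-/

set_option autoImplicit false

namespace Cfsg.Agent.Lib.H16.SF

open Cfsg.Agent.Lib.L0.SF

section General

variable {G : Type*} [Group G]

/-- In a group whose commutators are central, `g ↦ x g x⁻¹ g⁻¹` is a homomorphism. -/
def g1Hom (hZ : ∀ a b : G, a * b * a⁻¹ * b⁻¹ ∈ Subgroup.center G) (x : G) : G →* G where
  toFun g := x * g * x⁻¹ * g⁻¹
  map_one' := by simp
  map_mul' g k := by
    have hc := Subgroup.mem_center_iff.1 (hZ x k)
    calc x * (g * k) * x⁻¹ * (g * k)⁻¹
        = x * g * x⁻¹ * ((x * k * x⁻¹ * k⁻¹) * g⁻¹) := by group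
      _ = x * g * x⁻¹ * (g⁻¹ * (x * k * x⁻¹ * k⁻¹)) := by rw [← hc g⁻¹]
      _ = x * g * x⁻¹ * g⁻¹ * (x * k * x⁻¹ * k⁻¹) := by group

theorem g1Hom_apply (hZ : ∀ a b : G, a * b * a⁻¹ * b⁻¹ ∈ Subgroup.center G) (x g : G) :
    g1Hom hZ x g = x * g * x⁻¹ * g⁻¹ := rfl

theorem g1Hom_ker (hZ : ∀ a b : G, a * b * a⁻¹ * b⁻¹ ∈ Subgroup.center G) (x : G) :
    (g1Hom hZ x).ker = Subgroup.centralizer ({x} : Set G) := by
  ext g
  rw [MonoidHom.mem_ker, g1Hom_apply, Subgroup.mem_centralizer_singleton_iff]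
  constructor
  · intro h
    have : x * g = (x * g * x⁻¹ * g⁻¹) * (g * x) := by group
    rw [this, h, one_mul]
  · intro h
    have : x * g * x⁻¹ * g⁻¹ = (x * g) * (g * x)⁻¹ := by group
    rw [this, h, mul_inv_cancel]

/-- A subgroup of prime order lies in every subgroup containing one of its non-trivial elements. -/
theorem g1_le_of_card_prime {p : ℕ} [Fact p.Prime] {H K : Subgroup G} (hH : Nat.card H = p) {c : G}
    (hcH : c ∈ H) (hcK : c ∈ K) (hc : c ≠ 1) : H ≤ K := by
  intro h hh
  have htop := zpowers_eq_top_of_prime_card (G := H) hH (g := ⟨c, hcH⟩)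
    (by intro h1; exact hc (congrArg Subtype.val h1))
  have hmem : (⟨h, hh⟩ : H) ∈ Subgroup.zpowers (⟨c, hcH⟩ : H) := by rw [htop]; trivial
  obtain ⟨k, hk⟩ := Subgroup.mem_zpowers_iff.1 hmem
  have hk' : c ^ k = h := by simpa using congrArg Subtype.val hk
  rw [← hk']
  exact K.zpow_mem hcK k

end General

variable {P : Type*} [Group P] [Finite P] {p : ℕ} [Fact p.Prime]

/-- In a `p`-group with squarefree class sizes every class has size `1` or `p`. -/
theorem g1_index_dvd (hP : IsPGroup p P) (h : SFClass P) (x : P) :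
    (Subgroup.centralizer ({x} : Set P)).index ∣ p := by
  obtain ⟨n, hn⟩ := hP.index (Subgroup.centralizer ({x} : Set P))
  have hsq := h x
  rw [hn] at hsq ⊢
  rcases Nat.eq_zero_or_pos n with rfl | hpos
  · simp
  · have h2 := (Nat.squarefree_pow_iff (Fact.out : p.Prime).ne_one hpos.ne').1 hsq
    rw [h2.2, pow_one]

/-- Every centraliser contains the commutator subgroup. -/
theorem g1_commutator_le_centralizer (hP : IsPGroup p P) (h : SFClass P) (x : P) :
    commutator P ≤ Subgroup.centralizer ({x} : Set P) := by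
  have hd := g1_index_dvd hP h x
  rcases (Nat.dvd_prime (Fact.out : p.Prime)).1 hd with h1 | hp
  · rw [Subgroup.index_eq_one.1 h1]; exact le_top
  · obtain ⟨n, hn⟩ := (IsPGroup.iff_card (p := p) (G := P)).1 hP
    have hn0 : n ≠ 0 := by
      rintro rfl
      have h3 : (Subgroup.centralizer ({x} : Set P)).index ∣ Nat.card P := Subgroup.index_dvd_card _
      rw [hn, hp, pow_zero] at h3
      exact (Fact.out : p.Prime).one_lt.ne' (Nat.dvd_one.1 h3)
    have hmin : (Nat.card P).minFac = p := by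
      rw [hn]; exact (Fact.out : p.Prime).pow_minFac hn0
    have hnorm : (Subgroup.centralizer ({x} : Set P)).Normal :=
      Subgroup.normal_of_index_eq_minFac_card (by rw [hp, hmin])
    have hcq : Nat.card (P ⧸ Subgroup.centralizer ({x} : Set P)) = p := by
      rw [← Subgroup.index_eq_card, hp]
    have hcyc : IsCyclic (P ⧸ Subgroup.centralizer ({x} : Set P)) := isCyclic_of_prime_card hcq
    rw [commutator_eq_closure, Subgroup.closure_le]
    rintro c ⟨a, b, rfl⟩
    rw [SetLike.mem_coe, ← QuotientGroup.eq_one_iff, commutatorElement_def]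
    have hcomm := IsCyclic.commGroup.mul_comm (a : P ⧸ Subgroup.centralizer ({x} : Set P)) (b : P ⧸ Subgroup.centralizer ({x} : Set P))
    rw [QuotientGroup.mk_mul, QuotientGroup.mk_mul, QuotientGroup.mk_mul, QuotientGroup.mk_inv,
      QuotientGroup.mk_inv, hcomm, mul_inv_cancel_right, mul_inv_cancel]

/-- (= S4130-F1) the class is at most two. -/
theorem g1_commutator_le_center (hP : IsPGroup p P) (h : SFClass P) :
    commutator P ≤ Subgroup.center P := by
  intro c hc
  rw [Subgroup.mem_center_iff]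
  intro x
  have h1 := g1_commutator_le_centralizer hP h x hc
  rw [Subgroup.mem_centralizer_singleton_iff] at h1
  exact h1.symm

theorem g1_comm_mem_center (hP : IsPGroup p P) (h : SFClass P) (a b : P) :
    a * b * a⁻¹ * b⁻¹ ∈ Subgroup.center P := by
  apply g1_commutator_le_center hP h
  rw [commutator_eq_closure]
  exact Subgroup.subset_closure ⟨a, b, rfl⟩

/-- The image of `g ↦ [x,g]` has order `p` as soon as some `[x,g] ≠ 1`. -/
theorem g1_card_range (hP : IsPGroup p P) (h : SFClass P) {x g : P}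
    (hne : x * g * x⁻¹ * g⁻¹ ≠ 1) : Nat.card (g1Hom (g1_comm_mem_center hP h) x).range = p := by
  rw [← Subgroup.index_ker, g1Hom_ker]
  rcases (Nat.dvd_prime (Fact.out : p.Prime)).1 (g1_index_dvd hP h x) with h1 | hp
  · exfalso
    have h2 : g ∈ Subgroup.centralizer ({x} : Set P) := by
      rw [Subgroup.index_eq_one.1 h1]; trivial
    rw [← g1Hom_ker (g1_comm_mem_center hP h), MonoidHom.mem_ker, g1Hom_apply] at h2
    exact hne h2
  · exact hp

/-- `[x,g] ≠ 1` forces `[x,P] = [g,P]`. -/
theorem g1_range_eq (hP : IsPGroup p P) (h : SFClass P) {x g : P}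
    (hne : x * g * x⁻¹ * g⁻¹ ≠ 1) :
    (g1Hom (g1_comm_mem_center hP h) x).range = (g1Hom (g1_comm_mem_center hP h) g).range := by
  have hne' : g * x * g⁻¹ * x⁻¹ ≠ 1 := by
    intro h1
    apply hne
    have : x * g * x⁻¹ * g⁻¹ = (g * x * g⁻¹ * x⁻¹)⁻¹ := by group
    rw [this, h1, inv_one]
  have hx := g1_card_range hP h hne
  have hg := g1_card_range hP h hne'
  have hcx : x * g * x⁻¹ * g⁻¹ ∈ (g1Hom (g1_comm_mem_center hP h) x).range := ⟨g, rfl⟩
  have hcg : x * g * x⁻¹ * g⁻¹ ∈ (g1Hom (g1_comm_mem_center hP h) g).range := by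
    have h1 : (g * x * g⁻¹ * x⁻¹)⁻¹ ∈ (g1Hom (g1_comm_mem_center hP h) g).range :=
      Subgroup.inv_mem _ ⟨x, rfl⟩
    have : x * g * x⁻¹ * g⁻¹ = (g * x * g⁻¹ * x⁻¹)⁻¹ := by group
    rw [this]; exact h1
  exact le_antisymm (g1_le_of_card_prime hx hcx hcg hne) (g1_le_of_card_prime hg hcg hcx hne)

/-- **S4130-G1** (Knoche). -/
theorem SFClass.card_commutator_dvd_of_isPGroup {P : Type*} [Group P] [Finite P] {p : ℕ} [Fact p.Prime]
    (hP : IsPGroup p P) (h : SFClass P) : Nat.card (commutator P) ∣ p := by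
  have hZ := g1_comm_mem_center hP h
  by_cases hab : ∀ a b : P, a * b * a⁻¹ * b⁻¹ = 1
  · have hbot : commutator P = ⊥ := by
      rw [eq_bot_iff, commutator_eq_closure, Subgroup.closure_le]
      rintro c ⟨a, b, rfl⟩
      rw [SetLike.mem_coe, Subgroup.mem_bot, commutatorElement_def]
      exact hab a b
    rw [hbot, Subgroup.card_bot]
    exact one_dvd p
  · push Not at hab
    obtain ⟨x0, g0, h0⟩ := hab
    have hA := g1_card_range hP h h0
    have hle : commutator P ≤ (g1Hom hZ x0).range := by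
      rw [commutator_eq_closure, Subgroup.closure_le]
      rintro c ⟨a, b, rfl⟩
      rw [SetLike.mem_coe, commutatorElement_def]
      by_cases hab1 : a * b * a⁻¹ * b⁻¹ = 1
      · rw [hab1]; exact Subgroup.one_mem _
      · -- find `g` with `[a,g] ≠ 1` and `[x0,g] ≠ 1`
        have hex : ∃ g : P, a * g * a⁻¹ * g⁻¹ ≠ 1 ∧ x0 * g * x0⁻¹ * g⁻¹ ≠ 1 := by
          by_cases h1 : x0 * b * x0⁻¹ * b⁻¹ = 1
          · by_cases h2 : a * g0 * a⁻¹ * g0⁻¹ = 1
            · refine ⟨b * g0, ?_, ?_⟩
              · have e := (g1Hom hZ a).map_mul b g0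
                rw [g1Hom_apply, g1Hom_apply, g1Hom_apply, h2, mul_one] at e
                rw [e]; exact hab1
              · have e := (g1Hom hZ x0).map_mul b g0
                rw [g1Hom_apply, g1Hom_apply, g1Hom_apply, h1, one_mul] at e
                rw [e]; exact h0
            · exact ⟨g0, h2, h0⟩
          · exact ⟨b, hab1, h1⟩
        obtain ⟨g, hag, hxg⟩ := hex
        have e1 := g1_range_eq hP h hag
        have e2 := g1_range_eq hP h hxg
        rw [e2, ← e1]
        exact ⟨b, rfl⟩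
    have := Subgroup.card_dvd_of_le hle
    rwa [hA] at this

end Cfsg.Agent.Lib.H16.SF
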