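import Mathlib
import Cfsg.Agent.Lib.H11.SHCSG
import Cfsg.Agent.Lib.H12.SHGLUEA
import Cfsg.Agent.Lib.H15.SHCSB
import Cfsg.Agent.Lib.H6.SHPCASEB
import Cfsg.Agent.Lib.H8.SHENDBq3

/-!
# S3016 (odd-`p` Shult), CASE B group-side theorem for `q = |H| = 3` (helper16)

Twin of the `q = 3` group side, obtained from helper6's landed `Cfsg.Agent.Lib.H6.SHP.caseB_p` (which is written
for a general `q = |H|`): the rank bound `hEV` is replaced by the average of the pointwise Lemma-Q3 bound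
`2 Re χ(a) - χ(1) ≤ Re χ(a · g b g⁻¹)` over the bad pairs (hypothesis `hpt`; the bad pairs are `p`-regular by
`H11.SH.cs_master`), block orthogonality `1` vs `a` gives `∑ d f = 0`, and helper8's `H8.SHp.endb_q3` ends.
-/

set_option autoImplicit false

namespace Cfsg.Agent.Lib.H16.SHQ3B

open Cfsg Cfsg.Agent.Lib.H6.SHP

variable {G : Type*} [Group G]

/-- **CASE B, `|H| = 3`** (group side), from the pointwise bound `hpt`. -/
theorem caseB3_of_pt [Finite G] {p : ℕ} [Fact p.Prime]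
    (M : Ideal AlgInt) (hM : IsPModular p M) (H : Subgroup G)
    (hHp : IsPGroup p H)
    (hloc : Cfsg.Agent.Lib.H11.SH.LocData p H (principalBlock M G))
    (hncl : Subgroup.normalClosure (H : Set G) = ⊤)
    (htr : Cfsg.Agent.Lib.H12.SH.TransN H)
    (hq : Nat.card ↥H = 3)
    (hpt : ∀ χ : G → ℂ, IsCharacter G χ → ∀ a b g : G, a ∈ H → a ≠ 1 → b ∈ H →
      ¬ p ∣ orderOf (a * (g * b * g⁻¹)) →
      2 * (χ a).re - (χ 1).re ≤ (χ (a * (g * b * g⁻¹))).re) :
    False := by
  classical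
  have hp : p.Prime := Fact.out
  letI : Fintype G := Fintype.ofFinite G
  letI : Fintype ↥(Subgroup.normalizer (H : Set G)) := Fintype.ofFinite _
  letI : Fintype ↥H := Fintype.ofFinite _
  have hHne : H ≠ ⊥ := by
    intro h
    rw [h] at hq
    simp at hq
  obtain ⟨a, ha, horder⟩ := exists_orderOf_eq_prime hHp hHne
  have ha1 : a ≠ 1 := by
    rintro rfl
    rw [orderOf_one] at horder
    exact hp.one_lt.ne horder
  have hpow : ∀ x ∈ H, x ^ p = 1 := pow_eq_one_of_transN ha horder ha1 htr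
  have hai : a⁻¹ ∈ H := H.inv_mem ha
  have hai1 : a⁻¹ ≠ 1 := inv_ne_one.2 ha1
  have hN : ∀ n ∈ Subgroup.normalizer (H : Set G), ∀ h ∈ H, n * h * n⁻¹ ∈ H :=
    fun n hn h hh => Cfsg.Agent.Lib.H11.SH.conj_mem_of_mem_normalizer hn hh
  have htr' : ∀ b ∈ H, b ≠ 1 → ∃ n ∈ Subgroup.normalizer (H : Set G), n * a * n⁻¹ = b :=
    fun b hb hb1 => htr b hb a ha hb1 ha1
  have hNC := Cfsg.Agent.Lib.H15.SH.card_N_eq (N := Subgroup.normalizer (H : Set G)) hN ha ha1 htr'
  set C : ℕ := (Finset.univ.filter (fun n : ↥(Subgroup.normalizer (H : Set G)) =>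
      (n : G) * a * (n : G)⁻¹ = a)).card with hC
  have hCpos : 0 < C := Finset.card_pos.2 ⟨1, by simp⟩
  -- an element of `N` inverting `a`
  obtain ⟨n₀, hn₀N, hn₀⟩ := htr' a⁻¹ hai hai1
  have hn₀' : n₀⁻¹ * a⁻¹ * n₀ = a := by
    rw [← hn₀]
    group
  -- the inverting coset has `C` elements
  have hCinv : ∀ u : ↥(Subgroup.normalizer (H : Set G)),
      (Finset.univ.filter (fun n : ↥(Subgroup.normalizer (H : Set G)) =>
        ((u * n : ↥(Subgroup.normalizer (H : Set G))) : G) * a *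
          ((u * n : ↥(Subgroup.normalizer (H : Set G))) : G)⁻¹ = a⁻¹)).card = C := by
    intro u
    rw [hC]
    refine Finset.card_bij
      (fun n _ => (⟨n₀, hn₀N⟩ : ↥(Subgroup.normalizer (H : Set G)))⁻¹ * (u * n)) ?_ ?_ ?_
    · intro n hn
      simp only [Finset.mem_filter, Finset.mem_univ, true_and] at hn ⊢
      have h1 : (((⟨n₀, hn₀N⟩ : ↥(Subgroup.normalizer (H : Set G)))⁻¹ * (u * n) :
          ↥(Subgroup.normalizer (H : Set G))) : G) * a *
          (((⟨n₀, hn₀N⟩ : ↥(Subgroup.normalizer (H : Set G)))⁻¹ * (u * n) :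
          ↥(Subgroup.normalizer (H : Set G))) : G)⁻¹ =
          n₀⁻¹ * (((u * n : ↥(Subgroup.normalizer (H : Set G))) : G) * a *
            ((u * n : ↥(Subgroup.normalizer (H : Set G))) : G)⁻¹) * n₀ := by
        simp only [Subgroup.coe_mul, Subgroup.coe_inv]
        group
      rw [h1, hn, hn₀']
    · intro n1 _ n2 _ h
      exact mul_left_cancel (mul_left_cancel h)
    · intro m hm'
      simp only [Finset.mem_filter, Finset.mem_univ, true_and] at hm'
      refine ⟨u⁻¹ * ((⟨n₀, hn₀N⟩ : ↥(Subgroup.normalizer (H : Set G))) * m), ?_, by group⟩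
      simp only [Finset.mem_filter, Finset.mem_univ, true_and]
      rw [mul_inv_cancel_left]
      simp only [Subgroup.coe_mul]
      have h2 : n₀ * (m : G) * a * (n₀ * (m : G))⁻¹ = n₀ * ((m : G) * a * (m : G)⁻¹) * n₀⁻¹ := by
        group
      rw [h2, hm', hn₀]
  obtain ⟨ν, hν, hbad, hm⟩ := Cfsg.Agent.Lib.H11.SH.cs_master hloc
  -- characters
  have hchar : ∀ χ : IrrCharacter G, IsCharacter G (χ : G → ℂ) :=
    fun χ => Cfsg.Agent.Lib.L0.isCharacter_of_irr χ.2
  choose f hfpos hf using fun χ : IrrCharacter G => Cfsg.Agent.Lib.H24.irr_one_eq χ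
  have hcf : ∀ (χ : IrrCharacter G) (x n : G), (χ : G → ℂ) (n * x * n⁻¹) = (χ : G → ℂ) x :=
    fun χ x n => Cfsg.Agent.Lib.H24.isClassFunction_irr χ x n
  have hconst0 : ∀ (χ : IrrCharacter G), ∀ b ∈ H, b ≠ 1 → (χ : G → ℂ) b = (χ : G → ℂ) a := by
    intro χ b hb hb1
    obtain ⟨n, -, hn⟩ := htr' b hb hb1
    rw [← hn, hcf]
  have hq1 : 1 ≤ Nat.card ↥H := Nat.card_pos
  -- the sum over `H`
  have hsumH : ∀ χ : IrrCharacter G, ∃ m : ℕ,
      (Nat.card ↥H : ℂ) * (χ : G → ℂ) a + ((f χ : ℂ) - (χ : G → ℂ) a) = (Nat.card ↥H : ℂ) * (m : ℂ) := by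
    intro χ
    obtain ⟨m, hm1⟩ := Cfsg.Agent.Lib.H12.SH.mult (hchar χ) H (1 : ↥H →* ℂˣ)
    refine ⟨m, ?_⟩
    have h1 : ∑ b : ↥H, (χ : G → ℂ) b * (starRingEnd ℂ) (((1 : ↥H →* ℂˣ) b : ℂˣ) : ℂ) =
        (Nat.card ↥H : ℂ) * (χ : G → ℂ) a + ((f χ : ℂ) - (χ : G → ℂ) a) := by
      have h2 : ∀ b : ↥H, (χ : G → ℂ) b * (starRingEnd ℂ) (((1 : ↥H →* ℂˣ) b : ℂˣ) : ℂ) =
          (χ : G → ℂ) a + (if b = 1 then (f χ : ℂ) - (χ : G → ℂ) a else 0) := by
        intro b
        simp only [MonoidHom.one_apply, Units.val_one, map_one, mul_one]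
        by_cases hb : b = 1
        · rw [if_pos hb, hb, Subgroup.coe_one, hf χ]
          ring
        · rw [if_neg hb, add_zero]
          exact hconst0 χ b b.2 (fun h => hb (Subtype.ext h))
      rw [Finset.sum_congr rfl (fun b _ => h2 b), Finset.sum_add_distrib, Finset.sum_const,
        Finset.card_univ, nsmul_eq_mul, Finset.sum_ite_eq' Finset.univ (1 : ↥H),
        if_pos (Finset.mem_univ _), Nat.card_eq_fintype_card]
    rw [← h1, hm1, Nat.card_eq_fintype_card]
  -- rationality and integrality of `χ a`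
  have hint : ∀ χ : IrrCharacter G, ∃ d : ℤ, (χ : G → ℂ) a = (d : ℂ) := by
    intro χ
    obtain ⟨m, hm1⟩ := hsumH χ
    have hq1' : ((Nat.card ↥H : ℂ) - 1) ≠ 0 := by
      have h5 : (1 : ℝ) < (Nat.card ↥H : ℝ) := by
        have : 1 < Nat.card ↥H := by omega
        exact_mod_cast this
      intro h
      have h6 : ((Nat.card ↥H : ℝ) : ℂ) = ((1 : ℝ) : ℂ) := by
        push_cast
        linear_combination h
      have h7 : (Nat.card ↥H : ℝ) = 1 := by exact_mod_cast h6
      linarith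
    have hval : (χ : G → ℂ) a =
        ((((Nat.card ↥H : ℤ) * (m : ℤ) - (f χ : ℤ) : ℤ) : ℚ) / (((Nat.card ↥H : ℤ) - 1 : ℤ) : ℚ) : ℚ) := by
      push_cast
      rw [eq_div_iff hq1']
      linear_combination hm1
    exact int_of_integral_rat (Cfsg.Agent.Lib.L0.isCharacter_isIntegral (hchar χ) a) _ hval
  choose d hd using hint
  have hconst : ∀ (χ : IrrCharacter G), ∀ b ∈ H, b ≠ 1 → (χ : G → ℂ) b = (d χ : ℂ) := by
    intro χ b hb hb1
    rw [hconst0 χ b hb hb1, hd]
  -- the bad pairs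
  set P : G → ↥(Subgroup.normalizer (H : Set G)) → Prop :=
    fun g n => a * (ν g * ((n : G) * a * (n : G)⁻¹) * (ν g)⁻¹) = 1 with hPdef
  set w : G → ↥(Subgroup.normalizer (H : Set G)) → G :=
    fun g n => a * (g * ((n : G) * a * (n : G)⁻¹) * g⁻¹) with hwdef
  set S : IrrCharacter G → ℂ :=
    fun χ => ∑ g : G, ∑ n : ↥(Subgroup.normalizer (H : Set G)),
      if P g n then (χ : G → ℂ) (w g n) else 0 with hSdef
  have hPiff : ∀ g n, P g n ↔
      ((⟨ν g, hν g⟩ * n : ↥(Subgroup.normalizer (H : Set G))) : G) * a *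
        ((⟨ν g, hν g⟩ * n : ↥(Subgroup.normalizer (H : Set G))) : G)⁻¹ = a⁻¹ := by
    intro g n
    have h1 : ((⟨ν g, hν g⟩ * n : ↥(Subgroup.normalizer (H : Set G))) : G) * a *
        ((⟨ν g, hν g⟩ * n : ↥(Subgroup.normalizer (H : Set G))) : G)⁻¹ =
        ν g * ((n : G) * a * (n : G)⁻¹) * (ν g)⁻¹ := by
      simp only [Subgroup.coe_mul]
      group
    rw [h1]
    show a * (ν g * ((n : G) * a * (n : G)⁻¹) * (ν g)⁻¹) = 1 ↔ _
    constructor
    · intro h
      exact eq_inv_of_mul_eq_one_right h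
    · intro h
      rw [h, mul_inv_cancel]
  have hcount : ∀ g, (Finset.univ.filter (fun n : ↥(Subgroup.normalizer (H : Set G)) => P g n)).card = C := by
    intro g
    rw [← hCinv ⟨ν g, hν g⟩]
    congr 1
    apply Finset.filter_congr
    intro n _
    exact hPiff g n
  -- the real quantities
  set R : IrrCharacter G → ℝ := fun χ =>
    ((Nat.card ↥H : ℝ) - 1) * (d χ : ℝ) ^ 2 / (f χ : ℝ) - ((Nat.card ↥H : ℝ) - 2) * (d χ : ℝ) with hRdef
  have hGpos : (0 : ℝ) < (Nat.card G : ℝ) := by exact_mod_cast (Nat.card_pos (α := G))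
  have hCposR : (0 : ℝ) < (C : ℝ) := by exact_mod_cast hCpos
  have hGC : (0 : ℝ) < (Nat.card G : ℝ) * (C : ℝ) := mul_pos hGpos hCposR
  -- the good sum
  have hgood : ∀ χ : IrrCharacter G,
      ∑ n : ↥(Subgroup.normalizer (H : Set G)),
        (if a * ((n : G) * a * (n : G)⁻¹) ≠ 1 then
          (χ : G → ℂ) (a * ((n : G) * a * (n : G)⁻¹)) else 0) =
      (d χ : ℂ) * ((Fintype.card ↥(Subgroup.normalizer (H : Set G)) : ℂ) - (C : ℂ)) := by
    intro χ
    have h1 : ∀ n : ↥(Subgroup.normalizer (H : Set G)),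
        (if a * ((n : G) * a * (n : G)⁻¹) ≠ 1 then
          (χ : G → ℂ) (a * ((n : G) * a * (n : G)⁻¹)) else 0) =
        (d χ : ℂ) - (if (((1 : ↥(Subgroup.normalizer (H : Set G))) * n :
            ↥(Subgroup.normalizer (H : Set G))) : G) * a *
            (((1 : ↥(Subgroup.normalizer (H : Set G))) * n :
            ↥(Subgroup.normalizer (H : Set G))) : G)⁻¹ = a⁻¹ then (d χ : ℂ) else 0) := by
      intro n
      rw [one_mul]
      by_cases h : a * ((n : G) * a * (n : G)⁻¹) = 1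
      · have h4 : (n : G) * a * (n : G)⁻¹ = a⁻¹ := eq_inv_of_mul_eq_one_right h
        rw [if_neg (not_not.2 h), if_pos h4, sub_self]
      · have h4 : ¬ (n : G) * a * (n : G)⁻¹ = a⁻¹ := by
          intro h5
          apply h
          rw [h5, mul_inv_cancel]
        rw [if_pos h, if_neg h4, sub_zero]
        exact hconst χ _ (H.mul_mem ha (hN n n.2 a ha)) h
    rw [Finset.sum_congr rfl (fun n _ => h1 n), Finset.sum_sub_distrib, Finset.sum_const,
      Finset.card_univ, nsmul_eq_mul, ← Finset.sum_filter, Finset.sum_const, nsmul_eq_mul,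
      hCinv 1]
    ring
  -- the structure equation
  have hS : ∀ χ ∈ principalBlock M G,
      S χ = (((Nat.card G : ℝ) * (C : ℝ) * R χ : ℝ) : ℂ) := by
    intro χ hχ
    have h : (Nat.card ↥(Subgroup.normalizer (H : Set G)) : ℂ) *
        ((Nat.card G : ℂ) * (χ : G → ℂ) a * (χ : G → ℂ) a / (χ : G → ℂ) 1) =
        (Nat.card G : ℂ) * ∑ n : ↥(Subgroup.normalizer (H : Set G)),
          (if a * ((n : G) * a * (n : G)⁻¹) ≠ 1 then
            (χ : G → ℂ) (a * ((n : G) * a * (n : G)⁻¹)) else 0) + S χ := hm χ hχ a ha a ha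
    rw [hgood χ, hd χ, hf χ, Nat.card_eq_fintype_card (α := ↥(Subgroup.normalizer (H : Set G))),
      hNC] at h
    have hf0 : (f χ : ℂ) ≠ 0 := by exact_mod_cast (hfpos χ).ne'
    have hf0R : (f χ : ℝ) ≠ 0 := by exact_mod_cast (hfpos χ).ne'
    simp only [hRdef]
    push_cast [Nat.cast_sub hq1] at h ⊢
    field_simp
    field_simp at h
    linear_combination (-1 : ℂ) * h
  -- counting the bad pairs against a constant
  have hcountsum : ∀ c : ℝ, ∑ g : G, ∑ n : ↥(Subgroup.normalizer (H : Set G)),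
      (if P g n then c else 0) = c * ((Nat.card G : ℝ) * (C : ℝ)) := by
    intro c
    have h1 : ∀ g : G, ∑ n : ↥(Subgroup.normalizer (H : Set G)), (if P g n then c else 0) =
        (C : ℝ) * c := by
      intro g
      rw [← Finset.sum_filter, Finset.sum_const, hcount g, nsmul_eq_mul]
    rw [Finset.sum_congr rfl (fun g _ => h1 g), Finset.sum_const, Finset.card_univ, nsmul_eq_mul,
      Nat.card_eq_fintype_card]
    ring
  -- the averaged Lemma-Q3 bound
  have hQ3 : ∀ χ ∈ principalBlock M G, 2 * (d χ : ℝ) - (f χ : ℝ) ≤ R χ := by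
    intro χ hχ
    have hre : (S χ).re = ∑ g : G, ∑ n : ↥(Subgroup.normalizer (H : Set G)),
        (if P g n then ((χ : G → ℂ) (w g n)).re else 0) := by
      simp only [hSdef, Complex.re_sum]
      refine Finset.sum_congr rfl (fun g _ => Finset.sum_congr rfl (fun n _ => ?_))
      split_ifs <;> simp
    set E : ℝ := 2 * (d χ : ℝ) - (f χ : ℝ) with hE
    have hterm : ∀ (g : G) (n : ↥(Subgroup.normalizer (H : Set G))),
        (if P g n then E else 0) ≤
          (if P g n then ((χ : G → ℂ) (w g n)).re else 0) := by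
      intro g n
      split_ifs with hP
      · have hreg := hbad g a ha _ (hN n n.2 a ha) hP
        have h := hpt (χ : G → ℂ) (hchar χ) a ((n : G) * a * (n : G)⁻¹) g ha ha1
          (hN n n.2 a ha) hreg
        rw [hd χ, hf χ] at h
        simp only [Complex.intCast_re, Complex.natCast_re] at h
        show E ≤ ((χ : G → ℂ) (a * (g * ((n : G) * a * (n : G)⁻¹) * g⁻¹))).re
        rw [hE]
        exact h
      · exact le_refl _
    have h1 : E * ((Nat.card G : ℝ) * (C : ℝ)) ≤ (S χ).re := by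
      rw [hre, ← hcountsum]
      exact Finset.sum_le_sum (fun g _ => Finset.sum_le_sum (fun n _ => hterm g n))
    rw [hS χ hχ, Complex.ofReal_re] at h1
    have h2 : E * ((Nat.card G : ℝ) * (C : ℝ)) ≤ R χ * ((Nat.card G : ℝ) * (C : ℝ)) := by linarith
    exact le_of_mul_le_mul_right h2 hGC
  -- block orthogonality
  have hfin : (principalBlock M G).Finite := Set.toFinite _
  have hORTH : ∑ χ ∈ hfin.toFinset, (d χ : ℝ) * R χ = 0 := by
    have h1 : ∑ χ ∈ hfin.toFinset, ((d χ : ℂ) * S χ) = 0 := by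
      simp only [hSdef, Finset.mul_sum]
      rw [Finset.sum_comm]
      refine Finset.sum_eq_zero (fun g _ => ?_)
      rw [Finset.sum_comm]
      refine Finset.sum_eq_zero (fun n _ => ?_)
      by_cases hP : P g n
      · simp only [if_pos hP]
        have hreg := hbad g a ha _ (hN n n.2 a ha) hP
        have h2 := Cfsg.Agent.Lib.H11.SH.sum_block_regular M hM _ a hreg
          ⟨1, by rw [pow_one]; exact horder⟩ ha1
        rw [finsum_mem_eq_finite_toFinset_sum _ hfin] at h2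
        rw [← h2]
        refine Finset.sum_congr rfl (fun χ _ => ?_)
        rw [hconst χ a⁻¹ hai hai1]
        ring
      · simp only [if_neg hP, mul_zero, Finset.sum_const_zero]
    have h2 : ∀ χ ∈ hfin.toFinset, ((d χ : ℂ) * S χ) =
        (((d χ : ℝ) * ((Nat.card G : ℝ) * (C : ℝ) * R χ) : ℝ) : ℂ) := by
      intro χ hχ
      rw [hS χ ((Set.Finite.mem_toFinset hfin).1 hχ)]
      push_cast
      ring
    rw [Finset.sum_congr rfl h2, ← Complex.ofReal_sum] at h1
    have h3 : ∑ χ ∈ hfin.toFinset, (d χ : ℝ) * ((Nat.card G : ℝ) * (C : ℝ) * R χ) = 0 := by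
      exact_mod_cast h1
    have h4 : ((Nat.card G : ℝ) * (C : ℝ)) * ∑ χ ∈ hfin.toFinset, (d χ : ℝ) * R χ = 0 := by
      rw [Finset.mul_sum, ← h3]
      refine Finset.sum_congr rfl (fun χ _ => by ring)
    exact (mul_eq_zero.1 h4).resolve_left hGC.ne'
  -- the class-sum identity in the ENDB form
  have hCS : ∀ χ : IrrCharacter G, ((Nat.card ↥H : ℝ) - 1) * (d χ : ℝ) ^ 2 =
      (f χ : ℝ) * (((Nat.card ↥H : ℝ) - 2) * (d χ : ℝ) + R χ) := by
    intro χ
    have hf0R : (f χ : ℝ) ≠ 0 := by exact_mod_cast (hfpos χ).ne'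
    simp only [hRdef]
    field_simp
    ring
  -- `d ≤ f`
  have hdle : ∀ χ : IrrCharacter G, d χ ≤ (f χ : ℤ) := by
    intro χ
    have h := Cfsg.Agent.Lib.L0.isCharacter_norm_le (hchar χ) a
    rw [hd χ, hf χ] at h
    have h1 : ‖((d χ : ℤ) : ℂ)‖ = |(d χ : ℝ)| := by
      rw [← Complex.ofReal_intCast, Complex.norm_real, Real.norm_eq_abs]
    have h2 : ‖((f χ : ℕ) : ℂ)‖ = (f χ : ℝ) := by
      rw [← Complex.ofReal_natCast, Complex.norm_real, Real.norm_eq_abs, abs_of_nonneg (Nat.cast_nonneg _)]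
    rw [h1, h2] at h
    have h3 : (d χ : ℝ) ≤ (f χ : ℝ) := le_trans (le_abs_self _) h
    exact_mod_cast h3
  -- the trivial character
  set i₀ : IrrCharacter G := Cfsg.Agent.Lib.H24.trivialIrr G with hi₀def
  have hi₀ : i₀ ∈ principalBlock M G := by
    intro x
    refine ⟨0, 1, M.zero_mem, ?_, ?_⟩
    · intro h1
      exact hM.2.1.ne_top ((Ideal.eq_top_iff_one M).2 h1)
    · have hc : ((i₀ : IrrCharacter G) : G → ℂ) = fun _ => (1 : ℂ) := rfl
      rw [hc, sub_self]
      simp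
  have hd0 : d i₀ = 1 := by
    have h := hd i₀
    have hc : ((i₀ : IrrCharacter G) : G → ℂ) a = 1 := rfl
    rw [hc] at h
    exact_mod_cast h.symm
  have hf0 : f i₀ = 1 := by
    have h := hf i₀
    have hc : ((i₀ : IrrCharacter G) : G → ℂ) 1 = 1 := rfl
    rw [hc] at h
    exact_mod_cast h.symm
  -- `d ≠ f` off the trivial character
  have hdf : ∀ χ : IrrCharacter G, χ ≠ i₀ → d χ ≠ (f χ : ℤ) := by
    intro χ hne heq
    apply hne
    have hconst1 : ∀ b ∈ H, (χ : G → ℂ) b = (χ : G → ℂ) 1 := by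
      intro b hb
      by_cases hb1 : b = 1
      · rw [hb1]
      · rw [hconst χ b hb hb1, hf χ, heq]
        push_cast
        rfl
    have h := Cfsg.Agent.Lib.H12.SH.ker χ.2 H hncl hconst1
    exact Subtype.ext h
  -- block orthogonality `1` vs `a`
  have hone : ∑ χ ∈ hfin.toFinset, (d χ : ℝ) * (f χ : ℝ) = 0 := by
    have hreg1 : ¬ p ∣ orderOf (1 : G) := by
      rw [orderOf_one]
      exact fun h => hp.one_lt.ne' (Nat.dvd_one.1 h)
    have h2 := Cfsg.Agent.Lib.H11.SH.sum_block_regular M hM (1 : G) a hreg1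
      ⟨1, by rw [pow_one]; exact horder⟩ ha1
    rw [finsum_mem_eq_finite_toFinset_sum _ hfin] at h2
    have h3 : ∀ χ ∈ hfin.toFinset, (χ : G → ℂ) 1 * (χ : G → ℂ) a⁻¹ =
        (((d χ : ℝ) * (f χ : ℝ) : ℝ) : ℂ) := by
      intro χ _
      rw [hconst χ a⁻¹ hai hai1, hf χ]
      push_cast
      ring
    rw [Finset.sum_congr rfl h3, ← Complex.ofReal_sum] at h2
    exact_mod_cast h2
  refine Cfsg.Agent.Lib.H8.SHp.endb_q3 hfin.toFinset i₀
    ((Set.Finite.mem_toFinset hfin).2 hi₀) d (fun χ => (f χ : ℤ)) R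
    ?_ hd0 ?_ ?_ ?_ ?_ hORTH ?_
  · intro χ _
    exact_mod_cast hfpos χ
  · show ((f i₀ : ℕ) : ℤ) = 1
    rw [hf0]
    rfl
  · intro χ _ hne
    exact lt_of_le_of_ne (hdle χ) (hdf χ hne)
  · intro χ _
    have h := hCS χ
    rw [hq] at h
    push_cast at h ⊢
    linear_combination h
  · intro χ hχ
    have h := hQ3 χ ((Set.Finite.mem_toFinset hfin).1 hχ)
    push_cast
    exact h
  · push_cast
    exact hone

end Cfsg.Agent.Lib.H16.SHQ3B
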