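import Cfsg.Agent.Lib.H16.SHQ3REP

/-!
# Lemma Q3 under the name of the architect's cut (S3016, piece Q3-REP; helper16)
-/

set_option autoImplicit false

namespace Cfsg.Agent.Lib.H16.SHQ3

/-- Lemma Q3, name and binders of the S3016 architect cut -/
theorem char_ge_of_coset_const {G : Type*} [Group G] [Finite G] (χ : G → ℂ)
    (hχ : Cfsg.IsCharacter G χ) (L : Subgroup G) (a : G) (hnorm : ∀ l ∈ L, a * l * a⁻¹ ∈ L)
    (hconst : ∀ l ∈ L, χ (a * l) = χ a) (y : G) (hy : y ∈ L) :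
    2 * (χ a).re - (χ 1).re ≤ (χ y).re :=
  q3_rep χ hχ L a hnorm hconst y hy

end Cfsg.Agent.Lib.H16.SHQ3
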