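import Cfsg.Agent.Lib.H16.SHQ3B
import Cfsg.Agent.Lib.H16.SHQ3REPsig
import Cfsg.Agent.Lib.H9.SHQ3PT
import Cfsg.Agent.Lib.H26.SH16Min

/-!
# S3016, CASE B with `|H| = 3`: the statement `CaseB3Stmt` of the architect's cut (helper16)

`caseB3_of_pt` (group side) + helper9's landed `q3_pointwise` + Lemma Q3 (`char_ge_of_coset_const`).
-/

set_option autoImplicit false

universe u

namespace Cfsg.Agent.Lib.H16.SHQ3B

open Cfsg

/-- CASE B with `|H| = 3`, binders of the architect's cut -/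
theorem caseB3 {G : Type*} [Group G] [Finite G] (M : Ideal AlgInt) (hM : IsPModular 3 M)
    (H : Subgroup G) (hH3 : IsPGroup 3 H) (hHab : IsMulCommutative H)
    (hcl : Cfsg.IsExtremelyClosed H)
    (hloc : Cfsg.Agent.Lib.H11.SH.LocData 3 H (principalBlock M G))
    (hncl : Subgroup.normalClosure (H : Set G) = ⊤) (htr : Cfsg.Agent.Lib.H12.SH.TransN H)
    (hq : Nat.card H = 3) : False :=
  haveI : Fact (Nat.Prime 3) := ⟨Nat.prime_three⟩
  caseB3_of_pt M hM H hH3 hloc hncl htr hq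
    (fun χ hχ a b g ha ha1 hb hcop =>
      Cfsg.Agent.Lib.H9.SHp.q3_pointwise hH3 hHab hcl hq
        (fun χ hχ L a hn hc y hy =>
          Cfsg.Agent.Lib.H16.SHQ3.char_ge_of_coset_const χ hχ L a hn hc y hy)
        χ hχ a b g ha ha1 hb hcop)

/-- `CaseB3Stmt` of `Lib/H26/SH16Min.lean` -/
theorem caseB3Stmt : Cfsg.Agent.Lib.H26.SH16.CaseB3Stmt.{u} :=
  fun _ _ _ M hM H hH3 hHab hcl hloc hncl htr hq => caseB3 M hM H hH3 hHab hcl hloc hncl htr hq

end Cfsg.Agent.Lib.H16.SHQ3B
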