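import Mathlib

set_option autoImplicit false

/-!
# The exceptional Schur multiplier of `Sz(8)` (helper16): definitions

* `NCoc G A`: normalized 2-cocycles of `G` with values in `A` (trivial action);
* `CExt Φ`: the central extension of `G` by `A` defined by `Φ`;
* `FCoc G Ω B`: `B`-valued 1-cocycles of a `G`-set `Ω` (e.g. the cocycle of a section of
  `G → G/B`), and the induced (transferred) 2-cocycle `indCoc`;
* `BGrp F`: the model `F × F × Fˣ` of the Borel subgroup of `Sz(8)`, and the polynomial `ft`.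
-/

namespace Cfsg.Agent.Lib.H16.SZ8

open scoped commutatorElement

universe u v w x

/-- normalized 2-cocycles with values in an additive commutative group (trivial action) -/
structure NCoc (G : Type u) (A : Type v) [Group G] [AddCommGroup A] where
  toFun : G → G → A
  coc : ∀ x y z, toFun x y + toFun (x * y) z = toFun y z + toFun x (y * z)
  one_left : ∀ x, toFun 1 x = 0
  one_right : ∀ x, toFun x 1 = 0

/-- the central extension defined by a normalized 2-cocycle -/
structure CExt {G : Type u} {A : Type v} [Group G] [AddCommGroup A] (Φ : NCoc G A) where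
  fst : G
  snd : A

namespace CExt

variable {G : Type u} {A : Type v} [Group G] [AddCommGroup A] {Φ : NCoc G A}

theorem ext' {x y : CExt Φ} (h1 : x.fst = y.fst) (h2 : x.snd = y.snd) : x = y := by
  cases x; cases y; simp only at h1 h2; subst h1; subst h2; rfl

instance : Mul (CExt Φ) := ⟨fun x y => ⟨x.fst * y.fst, x.snd + y.snd + Φ.toFun x.fst y.fst⟩⟩

instance : One (CExt Φ) := ⟨⟨1, 0⟩⟩

instance : Inv (CExt Φ) := ⟨fun x => ⟨x.fst⁻¹, -x.snd - Φ.toFun x.fst⁻¹ x.fst⟩⟩

@[simp] theorem mul_fst (x y : CExt Φ) : (x * y).fst = x.fst * y.fst := rfl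

@[simp] theorem mul_snd (x y : CExt Φ) :
    (x * y).snd = x.snd + y.snd + Φ.toFun x.fst y.fst := rfl

@[simp] theorem one_fst : (1 : CExt Φ).fst = 1 := rfl

@[simp] theorem one_snd : (1 : CExt Φ).snd = 0 := rfl

@[simp] theorem inv_fst (x : CExt Φ) : (x⁻¹).fst = x.fst⁻¹ := rfl

@[simp] theorem inv_snd (x : CExt Φ) : (x⁻¹).snd = -x.snd - Φ.toFun x.fst⁻¹ x.fst := rfl

instance : Group (CExt Φ) :=
  Group.ofLeftAxioms
    (fun x y z => by
      apply ext'
      · simp only [mul_fst, mul_assoc]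
      · simp only [mul_snd, mul_fst]
        have := Φ.coc x.fst y.fst z.fst
        calc x.snd + y.snd + Φ.toFun x.fst y.fst + z.snd + Φ.toFun (x.fst * y.fst) z.fst
            = x.snd + y.snd + z.snd + (Φ.toFun x.fst y.fst + Φ.toFun (x.fst * y.fst) z.fst) := by
              abel
          _ = x.snd + y.snd + z.snd + (Φ.toFun y.fst z.fst + Φ.toFun x.fst (y.fst * z.fst)) := by
              rw [this]
          _ = x.snd + (y.snd + z.snd + Φ.toFun y.fst z.fst) + Φ.toFun x.fst (y.fst * z.fst) := by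
              abel)
    (fun x => by
      apply ext'
      · simp only [mul_fst, one_fst, one_mul]
      · simp only [mul_snd, one_fst, one_snd, Φ.one_left, zero_add, add_zero])
    (fun x => by
      apply ext'
      · simp only [mul_fst, inv_fst, inv_mul_cancel, one_fst]
      · simp only [mul_snd, inv_fst, inv_snd, one_snd]
        abel)

/-- the projection onto `G` -/
def proj : CExt Φ →* G where
  toFun := fst
  map_one' := rfl
  map_mul' _ _ := rfl

@[simp] theorem proj_apply (x : CExt Φ) : proj x = x.fst := rfl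

theorem proj_surjective : Function.Surjective (proj : CExt Φ →* G) := fun g => ⟨⟨g, 0⟩, rfl⟩

theorem mem_ker_proj {x : CExt Φ} : x ∈ (proj : CExt Φ →* G).ker ↔ x.fst = 1 := Iff.rfl

theorem ker_proj_le_center : (proj : CExt Φ →* G).ker ≤ Subgroup.center (CExt Φ) := by
  intro x hx
  rw [mem_ker_proj] at hx
  rw [Subgroup.mem_center_iff]
  intro y
  apply ext'
  · simp only [mul_fst, hx, mul_one, one_mul]
  · simp only [mul_snd, hx, Φ.one_left, Φ.one_right]
    abel

/-- the commutator of the standard lifts of two commuting elements -/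
theorem commutatorElement_mk_zero {g g' : G} (hc : g * g' = g' * g) :
    ⁅(⟨g, 0⟩ : CExt Φ), (⟨g', 0⟩ : CExt Φ)⁆ =
      (⟨1, Φ.toFun g g' - Φ.toFun g' g⟩ : CExt Φ) := by
  have key : (⟨g, 0⟩ : CExt Φ) * ⟨g', 0⟩ =
      (⟨1, Φ.toFun g g' - Φ.toFun g' g⟩ : CExt Φ) * ((⟨g', 0⟩ : CExt Φ) * ⟨g, 0⟩) := by
    apply ext'
    · simp only [mul_fst, one_mul, hc]
    · simp only [mul_snd, mul_fst, Φ.one_left]
      abel
  rw [commutatorElement_def, key]
  group

/-- the underlying type is a product -/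
def equivProd : CExt Φ ≃ G × A where
  toFun x := (x.fst, x.snd)
  invFun p := ⟨p.1, p.2⟩
  left_inv x := by cases x; rfl
  right_inv p := by cases p; rfl

instance [Finite G] [Finite A] : Finite (CExt Φ) := Finite.of_equiv _ equivProd.symm

end CExt

/-- `B`-valued 1-cocycles of a `G`-set `Ω` -/
structure FCoc (G : Type u) (Ω : Type w) (B : Type x) [Group G] [MulAction G Ω] [Group B] where
  c : G → Ω → B
  c_mul : ∀ g g' p, c (g * g') p = c g (g' • p) * c g' p

section ind

variable {G : Type u} {Ω : Type w} {B : Type x} {A : Type v} [Group G] [MulAction G Ω]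
  [Group B] [AddCommGroup A]

theorem FCoc.c_one (c : FCoc G Ω B) (p : Ω) : c.c 1 p = 1 := by
  have := c.c_mul 1 1 p
  rw [one_mul, one_smul] at this
  exact left_eq_mul.mp this

variable [Fintype Ω]

/-- the induced (transferred) 2-cocycle -/
def indCoc (c : FCoc G Ω B) (φ : NCoc B A) : NCoc G A where
  toFun g g' := ∑ p, φ.toFun (c.c g (g' • p)) (c.c g' p)
  coc g g' g'' := by
    have e1 : ∑ p, φ.toFun (c.c g (g' • p)) (c.c g' p) =
        ∑ p, φ.toFun (c.c g (g' • g'' • p)) (c.c g' (g'' • p)) :=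
      (Equiv.sum_comp (MulAction.toPerm g'')
        (fun p => φ.toFun (c.c g (g' • p)) (c.c g' p))).symm
    rw [e1, ← Finset.sum_add_distrib, ← Finset.sum_add_distrib]
    refine Finset.sum_congr rfl fun p _ => ?_
    rw [c.c_mul g g' (g'' • p), c.c_mul g' g'' p, mul_smul]
    exact φ.coc _ _ _
  one_left g := by
    refine Finset.sum_eq_zero fun p _ => ?_
    rw [c.c_one, φ.one_left]
  one_right g := by
    refine Finset.sum_eq_zero fun p _ => ?_
    rw [c.c_one, φ.one_right]

/-- the induced cocycle at a pair `(g, g')` where `g'` fixes `p₀` and has trivial cocycle away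
from `p₀` -/
theorem indCoc_apply_of_fixed (c : FCoc G Ω B) (φ : NCoc B A) (p₀ : Ω) (g g' : G)
    (hfix : g' • p₀ = p₀) (h1 : ∀ p, p ≠ p₀ → c.c g' p = 1) :
    (indCoc c φ).toFun g g' = φ.toFun (c.c g p₀) (c.c g' p₀) := by
  classical
  show ∑ p, φ.toFun (c.c g (g' • p)) (c.c g' p) = _
  rw [Finset.sum_eq_single p₀]
  · rw [hfix]
  · intro p _ hp
    rw [h1 p hp, φ.one_right]
  · intro h
    exact absurd (Finset.mem_univ _) h

end ind

/-- the model of the Borel subgroup of `Sz(8)`: triples `(a, c, k)` standing for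
`tt a c * dd k` -/
structure BGrp (F : Type u) [Field F] where
  a : F
  c : F
  k : Fˣ

namespace BGrp

variable {F : Type u} [Field F]

theorem ext' {x y : BGrp F} (h1 : x.a = y.a) (h2 : x.c = y.c) (h3 : x.k = y.k) : x = y := by
  cases x; cases y; simp only at h1 h2 h3; subst h1; subst h2; subst h3; rfl

instance : Mul (BGrp F) :=
  ⟨fun x y => ⟨x.a + x.k * y.a, x.c + (x.k : F) ^ 5 * y.c + x.a ^ 4 * (x.k * y.a), x.k * y.k⟩⟩

instance : One (BGrp F) := ⟨⟨0, 0, 1⟩⟩

instance : Inv (BGrp F) :=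
  ⟨fun x => ⟨-((x.k⁻¹ : Fˣ) : F) * x.a,
    -(((x.k⁻¹ : Fˣ) : F) ^ 5 * x.c) - (-((x.k⁻¹ : Fˣ) : F) * x.a) ^ 4 * (((x.k⁻¹ : Fˣ) : F) * x.a),
    x.k⁻¹⟩⟩

@[simp] theorem mul_a (x y : BGrp F) : (x * y).a = x.a + x.k * y.a := rfl

@[simp] theorem mul_c (x y : BGrp F) :
    (x * y).c = x.c + (x.k : F) ^ 5 * y.c + x.a ^ 4 * (x.k * y.a) := rfl

@[simp] theorem mul_k (x y : BGrp F) : (x * y).k = x.k * y.k := rfl

@[simp] theorem one_a : (1 : BGrp F).a = 0 := rfl

@[simp] theorem one_c : (1 : BGrp F).c = 0 := rfl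

@[simp] theorem one_k : (1 : BGrp F).k = 1 := rfl

instance [CharP F 2] : Group (BGrp F) :=
  Group.ofLeftAxioms
    (fun x y z => by
      have h2 : (2 : F) = 0 := CharTwo.two_eq_zero
      apply ext'
      · simp only [mul_a, mul_k, Units.val_mul]
        ring
      · simp only [mul_c, mul_a, mul_k, Units.val_mul]
        linear_combination ((2 * x.a ^ 3 * ((x.k : F) * y.a) + 3 * x.a ^ 2 * ((x.k : F) * y.a) ^ 2
          + 2 * x.a * ((x.k : F) * y.a) ^ 3) * ((x.k : F) * y.k * z.a)) * h2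
      · simp only [mul_k, mul_assoc])
    (fun x => by
      apply ext'
      · simp only [mul_a, one_a, one_k, Units.val_one, one_mul, zero_add]
      · simp only [mul_c, one_a, one_c, one_k, Units.val_one]
        ring
      · simp only [mul_k, one_k, one_mul])
    (fun x => by
      apply ext'
      · show -((x.k⁻¹ : Fˣ) : F) * x.a + ((x.k⁻¹ : Fˣ) : F) * x.a = 0
        ring
      · show -(((x.k⁻¹ : Fˣ) : F) ^ 5 * x.c) -
            (-((x.k⁻¹ : Fˣ) : F) * x.a) ^ 4 * (((x.k⁻¹ : Fˣ) : F) * x.a) +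
            ((x.k⁻¹ : Fˣ) : F) ^ 5 * x.c +
            (-((x.k⁻¹ : Fˣ) : F) * x.a) ^ 4 * (((x.k⁻¹ : Fˣ) : F) * x.a) = 0
        ring
      · show x.k⁻¹ * x.k = 1
        exact inv_mul_cancel _)

end BGrp

/-- the polynomial 2-cocycle on the Sylow 2-subgroup `{(a, c)}` of `Sz(8)`, values in `(F, +)`:
`ft a a' c'` is the value at the pair `((a, c), (a', c'))` (it does not depend on `c`) -/
def ft {F : Type u} [Field F] (a a' c' : F) : F :=
  a ^ 4 * c' ^ 2 + a ^ 2 * c' + a ^ 5 * a' ^ 2 + a * a' ^ 6 + a ^ 3 * a' ^ 4 + a ^ 2 * a' ^ 5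

/-- the 2-cocycle on the Borel model -/
def phiBFun {F : Type u} [Field F] (x y : BGrp F) : F :=
  ft x.a (x.k * y.a) ((x.k : F) ^ 5 * y.c)

end Cfsg.Agent.Lib.H16.SZ8
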