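import Mathlib
import Cfsg.Agent.Lib.H16.SZ8Defs

set_option autoImplicit false

/-!
# S2112, piece BCOC (helper16): the polynomial 2-cocycle on the Borel model of `Sz(8)`
-/

namespace Cfsg.Agent.Lib.H16.SZ8

universe u

variable {F : Type u} [Field F] [CharP F 2]

/-- the polynomial `ft` is a 2-cocycle on `U = {(a, c)}`, `(a,c)(a',c') = (a+a', c+c'+a⁴a')` -/
theorem ft_coc (h8 : ∀ x : F, x ^ 8 = x) (a a' c' a'' c'' : F) :
    ft a a' c' + ft (a + a') a'' c'' = ft a' a'' c'' + ft a (a' + a'') (c' + c'' + a' ^ 4 * a'') := by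
  have h2 : (2 : F) = 0 := CharTwo.two_eq_zero
  unfold ft
  linear_combination (-a ^ 4 * a'' ^ 2) * h8 a' +
    (-2 * a * a' * a'' ^ 5 + a * a' * c'' - 6 * a * a' ^ 2 * a'' ^ 4 - 10 * a * a' ^ 3 * a'' ^ 3
      + 2 * a * a' ^ 3 * c'' ^ 2 - 5 * a * a' ^ 4 * a'' ^ 2 - 3 * a * a' ^ 5 * a''
      - a ^ 2 * a' * a'' ^ 4 - 5 * a ^ 2 * a' ^ 2 * a'' ^ 3 + 3 * a ^ 2 * a' ^ 2 * c'' ^ 2
      - 3 * a ^ 2 * a' ^ 4 * a'' - 2 * a ^ 3 * a' * a'' ^ 3 + 2 * a ^ 3 * a' * c'' ^ 2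
      + 2 * a ^ 3 * a' ^ 2 * a'' ^ 2 - 2 * a ^ 3 * a' ^ 3 * a'' + 2 * a ^ 4 * a' * a'' ^ 2
      - a ^ 4 * a' ^ 4 * a'' * c' - a ^ 4 * a' ^ 4 * a'' * c'' - a ^ 4 * c' * c''
      - a ^ 5 * a' * a'') * h2

omit [CharP F 2] in
/-- torus invariance -/
theorem ft_scale (k a a' c' : F) (hk : k ^ 7 = 1) : ft (k * a) (k * a') (k ^ 5 * c') = ft a a' c' := by
  unfold ft
  linear_combination (a ^ 4 * c' ^ 2 * (k ^ 7 + 1) + a ^ 2 * c' + a ^ 5 * a' ^ 2 + a * a' ^ 6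
    + a ^ 3 * a' ^ 4 + a ^ 2 * a' ^ 5) * hk

omit [CharP F 2] in
theorem units_pow_seven (h8 : ∀ x : F, x ^ 8 = x) (k : Fˣ) : (k : F) ^ 7 = 1 := by
  have h := h8 (k : F)
  have hk0 : (k : F) ≠ 0 := k.ne_zero
  apply mul_left_cancel₀ hk0
  linear_combination h

/-- the cocycle identity on the Borel model -/
theorem phiBFun_coc (h8 : ∀ x : F, x ^ 8 = x) (x y z : BGrp F) :
    phiBFun x y + phiBFun (x * y) z = phiBFun y z + phiBFun x (y * z) := by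
  have e1 := ft_coc h8 x.a ((x.k : F) * y.a) ((x.k : F) ^ 5 * y.c) ((x.k : F) * ((y.k : F) * z.a))
    ((x.k : F) ^ 5 * ((y.k : F) ^ 5 * z.c))
  have e2 := ft_scale (x.k : F) y.a ((y.k : F) * z.a) ((y.k : F) ^ 5 * z.c) (units_pow_seven h8 x.k)
  simp only [phiBFun, BGrp.mul_a, BGrp.mul_c, BGrp.mul_k, Units.val_mul]
  have a1 : (x.k : F) * (y.k : F) * z.a = (x.k : F) * ((y.k : F) * z.a) := by ring
  have a2 : ((x.k : F) * (y.k : F)) ^ 5 * z.c = (x.k : F) ^ 5 * ((y.k : F) ^ 5 * z.c) := by ring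
  have a3 : (x.k : F) * (y.a + (y.k : F) * z.a) = (x.k : F) * y.a + (x.k : F) * ((y.k : F) * z.a) := by
    ring
  have a4 : (x.k : F) ^ 5 * (y.c + (y.k : F) ^ 5 * z.c + y.a ^ 4 * ((y.k : F) * z.a)) =
      (x.k : F) ^ 5 * y.c + (x.k : F) ^ 5 * ((y.k : F) ^ 5 * z.c) +
        ((x.k : F) * y.a) ^ 4 * ((x.k : F) * ((y.k : F) * z.a)) := by ring
  rw [a1, a2, a3, a4, e1, e2]

omit [CharP F 2] in
theorem phiBFun_one_left (x : BGrp F) : phiBFun 1 x = 0 := by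
  simp [phiBFun, ft]

omit [CharP F 2] in
theorem phiBFun_one_right (x : BGrp F) : phiBFun x 1 = 0 := by
  simp [phiBFun, ft]

/-- the normalized 2-cocycle on the Borel model -/
def phiB (h8 : ∀ x : F, x ^ 8 = x) : NCoc (BGrp F) F where
  toFun := phiBFun
  coc := phiBFun_coc h8
  one_left := phiBFun_one_left
  one_right := phiBFun_one_right

@[simp] theorem phiB_toFun (h8 : ∀ x : F, x ^ 8 = x) (x y : BGrp F) :
    (phiB h8).toFun x y = phiBFun x y := rfl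

end Cfsg.Agent.Lib.H16.SZ8
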