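import Mathlib
import Cfsg.Prelude.Def_KGroupFacts
import Cfsg.Agent.Lib.H16.SZ8BCOC
import Cfsg.Agent.Lib.H2.SzMult2
import Cfsg.Agent.Lib.H9.SZ8FC
import Cfsg.Agent.Lib.H6.SZ8PERF
import Cfsg.Agent.Lib.H6.SZ8CORE

set_option autoImplicit false

/-!
# S2112, assembly EXIST (helper16): a stem extension of `Sz(8)` whose kernel has more than two elements
-/

namespace Cfsg.Agent.Lib.H16.SZ8

open scoped commutatorElement
open Matrix Cfsg Projectivization MulAction
open Cfsg.Agent.Lib.H2.Sz Cfsg.Agent.Lib.H2.Stem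

universe u

theorem exists_stem_card_gt_two {F : Type u} [Field F] [Fintype F]
    (hF : Fintype.card F = 2 ^ (2 * 1 + 1)) :
    ∃ (Γ : Type u) (_ : Group Γ) (_ : Finite Γ) (σ : Γ →* Sz F 1),
      Cfsg.IsStemExtension σ ∧ 2 < Nat.card σ.ker := by
  classical
  have h : Fld F 1 := fld_of_card hF
  have : CharP F 2 := h.charP
  have h8 : ∀ x : F, x ^ 8 = x := by
    intro x
    have := FiniteField.pow_card x
    rw [hF] at this
    exact this
  obtain ⟨c, p₀, hfix, hc0, hc1⟩ := Cfsg.Agent.Lib.H9.SZ8.exists_fcoc h hF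
  let _ : Fintype (orbit (Sz F 1) (pinf : Projectivization F (Fin 4 → F))) := Fintype.ofFinite _
  have hstem := Cfsg.Agent.Lib.H6.SZ8.isStem_commutator_restrict (CExt.proj : CExt (indCoc c (phiB h8)) →* Sz F 1)
    CExt.proj_surjective CExt.ker_proj_le_center (Cfsg.Agent.Lib.H6.SZ8.commutator_Sz_eq_top le_rfl hF)
  refine ⟨↥(commutator (CExt (indCoc c (phiB h8)))), inferInstance, inferInstance,
    (CExt.proj : CExt (indCoc c (phiB h8)) →* Sz F 1).comp
      (commutator (CExt (indCoc c (phiB h8)))).subtype, hstem, ?_⟩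
  -- the values of the commutator pairing
  have hval : ∀ t : F, (indCoc c (phiB h8)).toFun (tt h 1 0) (tt h 0 t) -
      (indCoc c (phiB h8)).toFun (tt h 0 t) (tt h 1 0) = t ^ 2 + t := by
    intro t
    rw [indCoc_apply_of_fixed c (phiB h8) p₀ _ _ (hfix 0 t) (hc1 0 t),
      indCoc_apply_of_fixed c (phiB h8) p₀ _ _ (hfix 1 0) (hc1 1 0), hc0, hc0]
    simp [phiBFun, ft]
  have hcomm : ∀ t : F, tt h 1 0 * tt h 0 t = tt h 0 t * tt h 1 0 := fun t => tt_t0_comm h 1 0 t
  have hmem : ∀ t : F, (⟨1, t ^ 2 + t⟩ : CExt (indCoc c (phiB h8))) ∈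
      commutator (CExt (indCoc c (phiB h8))) := by
    intro t
    rw [← hval t, ← CExt.commutatorElement_mk_zero (hcomm t), commutator_def]
    exact Subgroup.commutator_mem_commutator (Subgroup.mem_top _) (Subgroup.mem_top _)
  -- the kernel elements
  let z : F → ((CExt.proj : CExt (indCoc c (phiB h8)) →* Sz F 1).comp
      (commutator (CExt (indCoc c (phiB h8)))).subtype).ker :=
    fun t => ⟨⟨⟨1, t ^ 2 + t⟩, hmem t⟩, rfl⟩
  have hz : ∀ t s : F, z t = z s → t ^ 2 + t = s ^ 2 + s := by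
    intro t s hts
    have h1 := congrArg Subtype.val (congrArg Subtype.val hts)
    exact congrArg CExt.snd h1
  obtain ⟨t, ht0, ht1, -, -⟩ := exists_not_mem_four h le_rfl hF 0 1 0 0
  obtain ⟨s, hs0, hs1, hst, hst1⟩ := exists_not_mem_four h le_rfl hF 0 1 t (t + 1)
  have h2 : (2 : F) = 0 := CharTwo.two_eq_zero
  have key : ∀ u v : F, u ^ 2 + u = v ^ 2 + v → u = v ∨ u = v + 1 := by
    intro u v huv
    have e : (u + v) * (u + v + 1) = 0 := by
      linear_combination huv + (u * v + v ^ 2 + v) * h2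
    rcases mul_eq_zero.1 e with e1 | e1
    · exact Or.inl (h.eq_of_add_eq_zero e1)
    · right
      apply h.eq_of_add_eq_zero
      rw [← e1]
      ring
  have : Fintype ((CExt.proj : CExt (indCoc c (phiB h8)) →* Sz F 1).comp
      (commutator (CExt (indCoc c (phiB h8)))).subtype).ker := Fintype.ofFinite _
  rw [Nat.card_eq_fintype_card, ← Finset.card_univ, Finset.two_lt_card_iff]
  refine ⟨z 0, z t, z s, Finset.mem_univ _, Finset.mem_univ _, Finset.mem_univ _, ?_, ?_, ?_⟩
  · intro e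
    rcases key _ _ (hz _ _ e) with e1 | e1
    · exact ht0 e1.symm
    · exact ht1 (by linear_combination (-1 : F) * e1 - h2)
  · intro e
    rcases key _ _ (hz _ _ e) with e1 | e1
    · exact hs0 e1.symm
    · exact hs1 (by linear_combination (-1 : F) * e1 - h2)
  · intro e
    rcases key _ _ (hz _ _ e) with e1 | e1
    · exact hst e1.symm
    · exact hst1 (by linear_combination (-1 : F) * e1 - h2)

end Cfsg.Agent.Lib.H16.SZ8
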