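import Mathlib

set_option autoImplicit false

/-!
# S2112, piece K0CARD (helper16, twin): an invariant biadditive pairing on the field of order 8
-/

namespace Cfsg.Agent.Lib.H16.SZ8

theorem card_closure_le_four {F : Type*} [Field F] [Fintype F] [CharP F 2] (hF : Fintype.card F = 8)
    {Γ : Type*} [Group Γ] (δ : F → F → Γ) (hcen : ∀ x y, δ x y ∈ Subgroup.center Γ)
    (hadd₁ : ∀ x x' y, δ (x + x') y = δ x y * δ x' y)
    (hadd₂ : ∀ x y y', δ x (y + y') = δ x y * δ x y')
    (hinv : ∀ k : F, k ≠ 0 → ∀ x y, δ (k * x) (k * k ^ 4 * y) = δ x y)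
    (hself : δ 1 1 = 1) :
    Nat.card (Subgroup.closure {z : Γ | ∃ x y : F, z = δ x y}) ≤ 4 ∧
      ∀ z ∈ Subgroup.closure {z : Γ | ∃ x y : F, z = δ x y}, z * z = 1 := by
  classical
  have _ := hcen
  have h00 : ∀ y, δ 0 y = 1 := by
    intro y
    have := hadd₁ 0 0 y
    rw [add_zero] at this
    exact left_eq_mul.mp this
  have h10 : ∀ x, δ x 0 = 1 := by
    intro x
    have := hadd₂ x 0 0
    rw [add_zero] at this
    exact left_eq_mul.mp this
  let Ψ : Multiplicative F →* Γ :=
    { toFun := fun t => δ 1 (Multiplicative.toAdd t)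
      map_one' := h10 1
      map_mul' := fun a b => hadd₂ 1 _ _ }
  have hΨ : ∀ t : F, Ψ (Multiplicative.ofAdd t) = δ 1 t := fun t => rfl
  have hδ : ∀ x y, δ x y ∈ Ψ.range := by
    intro x y
    by_cases hx : x = 0
    · subst hx
      rw [h00]
      exact one_mem _
    · have hx5 : x * x ^ 4 ≠ 0 := mul_ne_zero hx (pow_ne_zero _ hx)
      have := hinv x hx 1 ((x * x ^ 4)⁻¹ * y)
      rw [mul_one, ← mul_assoc, mul_inv_cancel₀ hx5, one_mul] at this
      rw [this]
      exact ⟨Multiplicative.ofAdd _, rfl⟩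
  have hle : Subgroup.closure {z : Γ | ∃ x y : F, z = δ x y} ≤ Ψ.range := by
    rw [Subgroup.closure_le]
    rintro _ ⟨x, y, rfl⟩
    exact hδ x y
  have hsq : ∀ z ∈ Ψ.range, z * z = 1 := by
    rintro _ ⟨t, rfl⟩
    rw [← map_mul]
    have : t * t = 1 := by
      apply Multiplicative.toAdd.injective
      rw [toAdd_mul, toAdd_one]
      exact CharTwo.add_self_eq_zero _
    rw [this, map_one]
  have hcard : Nat.card Ψ.range ≤ 4 := by
    have h1 : Nat.card Ψ.ker * Nat.card Ψ.range = 8 := by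
      rw [← Subgroup.index_ker, Subgroup.card_mul_index, Nat.card_eq_fintype_card,
        Fintype.card_multiplicative]
      exact hF
    have h2 : 1 < Nat.card Ψ.ker := by
      rw [Finite.one_lt_card_iff_nontrivial]
      refine ⟨⟨1, ⟨Multiplicative.ofAdd (1 : F), ?_⟩, ?_⟩⟩
      · rw [MonoidHom.mem_ker, hΨ, hself]
      · intro h
        have := congrArg (fun w : Ψ.ker => Multiplicative.toAdd (w : Multiplicative F)) h
        simp only [OneMemClass.coe_one, toAdd_one, toAdd_ofAdd] at this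
        exact zero_ne_one this
    have h3 : 2 * Nat.card Ψ.range ≤ 8 := by
      calc 2 * Nat.card Ψ.range ≤ Nat.card Ψ.ker * Nat.card Ψ.range :=
            Nat.mul_le_mul_right _ h2
        _ = 8 := h1
    omega
  refine ⟨(Subgroup.card_le_of_le hle).trans hcard, fun z hz => hsq z (hle hz)⟩

end Cfsg.Agent.Lib.H16.SZ8
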