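import Mathlib
import Cfsg.Prelude.Def_KGroupFacts
import Cfsg.Agent.Lib.H16.SZ8K0CARD
import Cfsg.Agent.Lib.H3.SZ8MULTB
import Cfsg.Agent.Lib.H21.SZ8DELTA
import Cfsg.Agent.Lib.H9.SZ8QUOTa
import Cfsg.Agent.Lib.H6.SZ8KLEIN

set_option autoImplicit false

/-!
# S2112, assembly UPPER (helper16): the kernel of every finite stem extension of `Sz(8)` is a
quotient of `C2 x C2`
-/

namespace Cfsg.Agent.Lib.H16.SZ8

open scoped commutatorElement
open Matrix Cfsg Projectivization MulAction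
open Cfsg.Agent.Lib.H2.Sz Cfsg.Agent.Lib.H2.Stem

theorem exists_surjective_ker {F : Type*} [Field F] [Fintype F]
    (hF : Fintype.card F = 2 ^ (2 * 1 + 1))
    {Γ : Type*} [Group Γ] [Finite Γ] (σ : Γ →* Sz F 1) (hst : Cfsg.IsStemExtension σ) :
    ∃ π : Multiplicative (ZMod 2 × ZMod 2) →* σ.ker, Function.Surjective π := by
  obtain ⟨hσ, hK, hK'⟩ := hst
  have h : Fld F 1 := fld_of_card hF
  have : CharP F 2 := h.charP
  have hle : σ.ker ≤ Subgroup.closure {z : Γ | ∃ x y : F, z = cc σ hσ (tt h x 0) (t0 h y)} :=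
    Cfsg.Agent.Lib.H9.SZ8.ker_le_closure_cc_of h σ hσ hK hK' (fun σ' hσ' hc hd hB =>
      Cfsg.Agent.Lib.H3.SZ8.stem_ker_eq_bot_of_stepB h σ' hσ' hc le_rfl hF hd hB)
  have hcen : ∀ x y : F, cc σ hσ (tt h x 0) (t0 h y) ∈ Subgroup.center Γ :=
    fun x y => cc_central σ hσ hK (tt_t0_comm h x 0 y)
  have hF8 : Fintype.card F = 8 := by rw [hF]; norm_num
  have hinv : ∀ k : F, k ≠ 0 → ∀ x y : F,
      cc σ hσ (tt h (k * x) 0) (t0 h (k * k ^ 4 * y)) = cc σ hσ (tt h x 0) (t0 h y) := by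
    intro k hk x y
    exact Cfsg.Agent.Lib.H21.SZ8.cc_tt_t0_scale h σ hσ hK le_rfl hF k hk x y
  have hself : cc σ hσ (tt h 1 0) (t0 h 1) = 1 := by
    have := Cfsg.Agent.Lib.H21.SZ8.cc_tt_t0_self h σ hσ hK (1 : F)
    have e : θ 1 (1 : F) * 1 = 1 := by simp [θ]
    rwa [e] at this
  obtain ⟨hc4, hsq⟩ := Cfsg.Agent.Lib.H16.SZ8.card_closure_le_four hF8 (fun x y : F => cc σ hσ (tt h x 0) (t0 h y)) hcen
    (Cfsg.Agent.Lib.H21.SZ8.cc_tt_t0_add_left h σ hσ hK le_rfl hF)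
    (Cfsg.Agent.Lib.H21.SZ8.cc_tt_t0_add_right h σ hσ hK) hinv hself
  have hge : Subgroup.closure {z : Γ | ∃ x y : F, z = cc σ hσ (tt h x 0) (t0 h y)} ≤ σ.ker := by
    rw [Subgroup.closure_le]
    rintro _ ⟨x, y, rfl⟩
    show cc σ hσ (tt h x 0) (t0 h y) ∈ σ.ker
    rw [MonoidHom.mem_ker, map_cc, commutatorElement_eq_one_iff_mul_comm]
    exact tt_t0_comm h x 0 y
  have h2 : ∀ x : σ.ker, x * x = 1 := fun x => Subtype.ext (hsq x.1 (hle x.2))
  have hc : Nat.card σ.ker ≤ 4 := by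
    have : Nat.card σ.ker ≤
        Nat.card (Subgroup.closure {z : Γ | ∃ x y : F, z = cc σ hσ (tt h x 0) (t0 h y)}) :=
      Subgroup.card_le_of_le hle
    exact this.trans hc4
  exact Cfsg.Agent.Lib.H6.SZ8.exists_surjective_of_card_le_four h2 hc

end Cfsg.Agent.Lib.H16.SZ8
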