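import Mathlib
import Cfsg.Agent.Lib.H20.SigCDefs

/-!
# S1299 farm-out, piece CHAR : a proper characteristic subgroup with quotient of prime
exponent in a nontrivial solvable group (helper16)
-/

set_option autoImplicit false

namespace Cfsg.Agent.Lib.H20.SigC

open Cfsg
open scoped commutatorElement

universe u

variable {G : Type u} [Group G] [Finite G]

/-- Generators of `K' K^r`. -/
def charGen (K : Subgroup G) (r : ℕ) : Set G :=
  {g | (∃ x ∈ K, ∃ y ∈ K, g = ⁅x, y⁆) ∨ ∃ x ∈ K, g = x ^ r}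

theorem exists_char_prime_quot (K : Subgroup G) (hK : Group.IsSolvable ↥K) (hK1 : K ≠ ⊥) :
    ∃ (r : ℕ) (H : Subgroup G), r.Prime ∧ H ≤ K ∧ H ≠ K ∧
      (∀ g : G, g ∈ Subgroup.normalizer (K : Set G) → ∀ h ∈ H, g * h * g⁻¹ ∈ H) ∧
      ∀ x ∈ K, x ^ r ∈ H := by
  classical
  haveI : Group.IsSolvable ↥K := hK
  haveI : Nontrivial ↥K := (Subgroup.nontrivial_iff_ne_bot K).mpr hK1
  have hlt : commutator ↥K < ⊤ := Group.IsSolvable.commutator_lt_top_of_nontrivial ↥K
  haveI : Finite (Abelianization ↥K) := inferInstanceAs (Finite (↥K ⧸ commutator ↥K))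
  have hcardQ : Nat.card (Abelianization ↥K) ≠ 1 := by
    intro h
    have h2 : (commutator ↥K).index = 1 := h
    exact hlt.ne (Subgroup.index_eq_one.mp h2)
  obtain ⟨r, hr, hrd⟩ := Nat.exists_prime_and_dvd hcardQ
  haveI : Fact r.Prime := ⟨hr⟩
  obtain ⟨q, hq⟩ := exists_prime_orderOf_dvd_card' r hrd
  let f : Abelianization ↥K →* Abelianization ↥K := powMonoidHom r
  have hfns : ¬ Function.Surjective f := by
    intro hs
    have hinj : Function.Injective f := Finite.injective_iff_surjective.mpr hs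
    have h1 : f q = f 1 := by
      simp only [f, powMonoidHom_apply, one_pow]
      rw [← hq]; exact pow_orderOf_eq_one q
    have hq1 : q = 1 := hinj h1
    rw [hq1, orderOf_one] at hq
    exact hr.one_lt.ne hq
  let π : ↥K →* Abelianization ↥K := Abelianization.of
  let N : Subgroup ↥K := f.range.comap π
  let N' : Subgroup G := N.map K.subtype
  let H : Subgroup G := Subgroup.closure (charGen K r)
  have hHK : H ≤ K := by
    rw [Subgroup.closure_le]
    rintro g (⟨x, hx, y, hy, rfl⟩ | ⟨x, hx, rfl⟩)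
    · exact K.mul_mem (K.mul_mem (K.mul_mem hx hy) (K.inv_mem hx)) (K.inv_mem hy)
    · exact K.pow_mem hx r
  have hHN : H ≤ N' := by
    rw [Subgroup.closure_le]
    rintro g (⟨x, hx, y, hy, rfl⟩ | ⟨x, hx, rfl⟩)
    · refine ⟨⁅(⟨x, hx⟩ : ↥K), ⟨y, hy⟩⁆, ?_, rfl⟩
      show π ⁅_, _⁆ ∈ f.range
      rw [map_commutatorElement, commutatorElement_eq_one_iff_commute.mpr (Commute.all _ _)]
      exact f.range.one_mem
    · refine ⟨(⟨x, hx⟩ : ↥K) ^ r, ?_, rfl⟩
      show π (_ ^ r) ∈ f.range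
      rw [map_pow]
      exact ⟨π ⟨x, hx⟩, rfl⟩
  have hne : H ≠ K := by
    intro hEq
    apply hfns
    intro z
    obtain ⟨k, rfl⟩ := QuotientGroup.mk'_surjective _ z
    have hkK : (k : G) ∈ H := by rw [hEq]; exact k.2
    have hkN' : (k : G) ∈ N' := hHN hkK
    obtain ⟨n, hn, hnk⟩ := hkN'
    have hnk' : n = k := Subtype.ext hnk
    subst hnk'
    exact hn
  have hinv : ∀ g : G, g ∈ Subgroup.normalizer (K : Set G) → ∀ h ∈ H, g * h * g⁻¹ ∈ H := by
    intro g hg h hh
    have hgK : ∀ x ∈ K, g * x * g⁻¹ ∈ K := fun x hx =>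
      (Subgroup.mem_normalizer_iff.mp hg x).mp hx
    induction hh using Subgroup.closure_induction with
    | mem h hh =>
      rcases hh with ⟨x, hx, y, hy, rfl⟩ | ⟨x, hx, rfl⟩
      · apply Subgroup.subset_closure
        left
        refine ⟨g * x * g⁻¹, hgK x hx, g * y * g⁻¹, hgK y hy, ?_⟩
        simp only [commutatorElement_def]; group
      · apply Subgroup.subset_closure
        right
        refine ⟨g * x * g⁻¹, hgK x hx, ?_⟩
        rw [conj_pow]
    | one => simp
    | mul a b _ _ iha ihb =>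
      have h3 : g * (a * b) * g⁻¹ = (g * a * g⁻¹) * (g * b * g⁻¹) := by group
      rw [h3]; exact H.mul_mem iha ihb
    | inv a _ iha =>
      have h3 : g * a⁻¹ * g⁻¹ = (g * a * g⁻¹)⁻¹ := by group
      rw [h3]; exact H.inv_mem iha
  refine ⟨r, H, hr, hHK, hne, hinv, ?_⟩
  intro x hx
  exact Subgroup.subset_closure (Or.inr ⟨x, hx, rfl⟩)

end Cfsg.Agent.Lib.H20.SigC
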