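import Mathlib
import Cfsg.Agent.Lib.H20.SigCDefs

/-!
# S1299 farm-out, piece COMPL : complements in elementary abelian groups (helper16)
-/

set_option autoImplicit false

namespace Cfsg.Agent.Lib.H20.SigC

open Cfsg

universe u

variable {G : Type u} [Group G] [Finite G]

/-- In a cyclic group of prime order every nontrivial element generates. -/
theorem compl_mem_zpowers_of (p : ℕ) [Fact p.Prime] {x y : G} (hx : x ^ p = 1)
    (hy : y ∈ Subgroup.zpowers x) (hy1 : y ≠ 1) : x ∈ Subgroup.zpowers y := by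
  have hp := (Fact.out : p.Prime)
  have hle : Subgroup.zpowers y ≤ Subgroup.zpowers x := Subgroup.zpowers_le.mpr hy
  have hx1 : x ≠ 1 := by
    rintro rfl
    rw [Subgroup.zpowers_one_eq_bot, Subgroup.mem_bot] at hy
    exact hy1 hy
  have hox : orderOf x = p := orderOf_eq_prime hx hx1
  have hyp : y ^ p = 1 := by
    obtain ⟨k, rfl⟩ := Subgroup.mem_zpowers_iff.mp hy
    rw [← zpow_natCast, ← zpow_mul, mul_comm, zpow_mul, zpow_natCast, hx, one_zpow]
  have hoy : orderOf y = p := orderOf_eq_prime hyp hy1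
  have heq : Subgroup.zpowers y = Subgroup.zpowers x :=
    Subgroup.eq_of_le_of_card_ge hle (by rw [Nat.card_zpowers, Nat.card_zpowers, hox, hoy])
  rw [heq]
  exact Subgroup.mem_zpowers x

/-- Description of `B ⊔ ⟨x⟩` inside an abelian subgroup. -/
theorem compl_mem_sup_zpowers (A : Subgroup G) (hc : ∀ x ∈ A, ∀ y ∈ A, x * y = y * x)
    (B : Subgroup G) (hB : B ≤ A) (x : G) (hx : x ∈ A) (g : G)
    (hg : g ∈ B ⊔ Subgroup.zpowers x) : ∃ y ∈ B, ∃ k : ℤ, g = y * x ^ k := by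
  let S : Subgroup G :=
    { carrier := {g | ∃ y ∈ B, ∃ k : ℤ, g = y * x ^ k}
      one_mem' := ⟨1, B.one_mem, 0, by simp⟩
      mul_mem' := by
        rintro _ _ ⟨y1, hy1, k1, rfl⟩ ⟨y2, hy2, k2, rfl⟩
        refine ⟨y1 * y2, B.mul_mem hy1 hy2, k1 + k2, ?_⟩
        have h1 : x ^ k1 * y2 = y2 * x ^ k1 := hc _ (A.zpow_mem hx k1) _ (hB hy2)
        rw [zpow_add]
        calc y1 * x ^ k1 * (y2 * x ^ k2) = y1 * (x ^ k1 * y2) * x ^ k2 := by
              simp only [mul_assoc]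
          _ = y1 * (y2 * x ^ k1) * x ^ k2 := by rw [h1]
          _ = y1 * y2 * (x ^ k1 * x ^ k2) := by simp only [mul_assoc]
      inv_mem' := by
        rintro _ ⟨y, hy, k, rfl⟩
        refine ⟨y⁻¹, B.inv_mem hy, -k, ?_⟩
        have h1 : (x ^ k)⁻¹ * y⁻¹ = y⁻¹ * (x ^ k)⁻¹ :=
          hc _ (A.inv_mem (A.zpow_mem hx k)) _ (A.inv_mem (hB hy))
        rw [mul_inv_rev, zpow_neg, h1] }
  have hle : B ⊔ Subgroup.zpowers x ≤ S :=
    sup_le (fun y hy => ⟨y, hy, 0, by simp⟩)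
      (Subgroup.zpowers_le.mpr ⟨1, B.one_mem, 1, by simp⟩)
  exact hle hg

theorem exists_complement_containing (p : ℕ) [Fact p.Prime] (A : Subgroup G)
    (hA : Cfsg.IsElementaryAbelian p A) (a b : G) (ha : a ∈ A) (hb : b ∈ A) (ha1 : a ≠ 1)
    (hba : b ∉ Subgroup.zpowers a) :
    ∃ A₁ : Subgroup G, A₁ ≤ A ∧ b ∈ A₁ ∧ a ∉ A₁ ∧ A₁ ⊔ Subgroup.zpowers a = A ∧
      Nat.card ↥A₁ * p = Nat.card ↥A := by
  classical
  have hp := (Fact.out : p.Prime)
  have hc : ∀ x ∈ A, ∀ y ∈ A, x * y = y * x := fun x hx y hy => by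
    have := hA.1.is_comm.comm ⟨x, hx⟩ ⟨y, hy⟩
    exact congrArg Subtype.val this
  have hpw : ∀ x ∈ A, x ^ p = 1 := hA.2
  haveI : Fintype (Subgroup G) := Fintype.ofFinite _
  let F : Finset (Subgroup G) := Finset.univ.filter (fun B => B ≤ A ∧ b ∈ B ∧ a ∉ B)
  have hanb : a ∉ Subgroup.zpowers b := by
    intro h
    exact hba (compl_mem_zpowers_of p (hpw b hb) h ha1)
  have hF : F.Nonempty :=
    ⟨Subgroup.zpowers b, by
      simp only [F, Finset.mem_filter, Finset.mem_univ, true_and]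
      exact ⟨Subgroup.zpowers_le.mpr hb, Subgroup.mem_zpowers b, hanb⟩⟩
  obtain ⟨A₁, hA₁F, hmax⟩ := Finset.exists_max_image F (fun B => Nat.card ↥B) hF
  have hA₁ : A₁ ≤ A ∧ b ∈ A₁ ∧ a ∉ A₁ := by
    simpa only [F, Finset.mem_filter, Finset.mem_univ, true_and] using hA₁F
  obtain ⟨hA₁A, hbA₁, haA₁⟩ := hA₁
  have hsup : A₁ ⊔ Subgroup.zpowers a = A := by
    apply le_antisymm (sup_le hA₁A (Subgroup.zpowers_le.mpr ha))
    intro x hx
    by_contra hxn
    have hxA₁ : x ∉ A₁ := fun h => hxn (Subgroup.mem_sup_left h)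
    have hBA : A₁ ⊔ Subgroup.zpowers x ≤ A := sup_le hA₁A (Subgroup.zpowers_le.mpr hx)
    have ha_in : a ∈ A₁ ⊔ Subgroup.zpowers x := by
      by_contra hnot
      have hBF : (A₁ ⊔ Subgroup.zpowers x) ∈ F := by
        simp only [F, Finset.mem_filter, Finset.mem_univ, true_and]
        exact ⟨hBA, Subgroup.mem_sup_left hbA₁, hnot⟩
      have hle := hmax _ hBF
      have heq := Subgroup.eq_of_le_of_card_ge
        (le_sup_left : A₁ ≤ A₁ ⊔ Subgroup.zpowers x) hle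
      apply hxA₁
      rw [heq]
      exact Subgroup.mem_sup_right (Subgroup.mem_zpowers x)
    obtain ⟨y, hy, k, hk⟩ := compl_mem_sup_zpowers A hc A₁ hA₁A x hx a ha_in
    have hxk : x ^ k ≠ 1 := by
      intro h
      rw [h, mul_one] at hk
      exact haA₁ (hk ▸ hy)
    have hxz : x ∈ Subgroup.zpowers (x ^ k) :=
      compl_mem_zpowers_of p (hpw x hx) (Subgroup.zpow_mem_zpowers x k) hxk
    have hxk_in : x ^ k ∈ A₁ ⊔ Subgroup.zpowers a := by
      have h2 : x ^ k = y⁻¹ * a := by rw [hk]; group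
      rw [h2]
      exact Subgroup.mul_mem _ (Subgroup.mem_sup_left (A₁.inv_mem hy))
        (Subgroup.mem_sup_right (Subgroup.mem_zpowers a))
    exact hxn ((Subgroup.zpowers_le.mpr hxk_in) hxz)
  have hdisj : ∀ z, z ∈ A₁ → z ∈ Subgroup.zpowers a → z = 1 := by
    intro z hz hza
    by_contra hz1
    exact haA₁ ((Subgroup.zpowers_le.mpr hz) (compl_mem_zpowers_of p (hpw a ha) hza hz1))
  have hoa : orderOf a = p := orderOf_eq_prime (hpw a ha) ha1
  have hcard : Nat.card ↥A₁ * p = Nat.card ↥A := by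
    have e : (↥A₁ × ↥(Subgroup.zpowers a)) ≃ ↥A := by
      refine Equiv.ofBijective
        (fun yz => ⟨yz.1.1 * yz.2.1,
          A.mul_mem (hA₁A yz.1.2) ((Subgroup.zpowers_le.mpr ha) yz.2.2)⟩) ⟨?_, ?_⟩
      · rintro ⟨⟨y1, hy1⟩, ⟨z1, hz1⟩⟩ ⟨⟨y2, hy2⟩, ⟨z2, hz2⟩⟩ h
        have h' : y1 * z1 = y2 * z2 := congrArg Subtype.val h
        have h2 : y2⁻¹ * y1 = z2 * z1⁻¹ := by
          calc y2⁻¹ * y1 = y2⁻¹ * (y1 * z1) * z1⁻¹ := by group
            _ = y2⁻¹ * (y2 * z2) * z1⁻¹ := by rw [h']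
            _ = z2 * z1⁻¹ := by group
        have h3 : y2⁻¹ * y1 = 1 :=
          hdisj _ (A₁.mul_mem (A₁.inv_mem hy2) hy1)
            (h2 ▸ (Subgroup.zpowers a).mul_mem hz2 ((Subgroup.zpowers a).inv_mem hz1))
        have hy : y1 = y2 := by
          have h4 : y2 * (y2⁻¹ * y1) = y2 * 1 := by rw [h3]
          rw [mul_inv_cancel_left, mul_one] at h4
          exact h4
        subst hy
        have hz : z1 = z2 := mul_left_cancel h'
        subst hz
        rfl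
      · rintro ⟨g, hg⟩
        have hg' : g ∈ A₁ ⊔ Subgroup.zpowers a := by rw [hsup]; exact hg
        obtain ⟨y, hy, k, hk⟩ := compl_mem_sup_zpowers A hc A₁ hA₁A a ha g hg'
        exact ⟨(⟨y, hy⟩, ⟨a ^ k, Subgroup.zpow_mem_zpowers a k⟩), Subtype.ext hk.symm⟩
    rw [← Nat.card_congr e, Nat.card_prod, Nat.card_zpowers, hoa]
  exact ⟨A₁, hA₁A, hbA₁, haA₁, hsup, hcard⟩

end Cfsg.Agent.Lib.H20.SigC
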