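import Mathlib
import Cfsg.Agent.Lib.H10.SoD

/-!
# S5659 farm-out (helper10), task C: points ⟹ subfield subgroup  (helper16)

An element of `GL_n(F)` mapping every rational singular point to a rational point lies in the
subfield subgroup.
-/

set_option autoImplicit false

namespace Cfsg.Agent.Lib.H16.SoSub

open Matrix
open Cfsg.Agent.S0837 (Bs Bs_apply Bs_symm Bs_nondeg)
open Cfsg.Agent.Lib.H10.Sf (IsRat)
open Cfsg.Agent.Lib.H10.Su
open Cfsg.Agent.Lib.H10.So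

variable {F : Type*} [Field F] [Fintype F] {n q : ℕ}
variable {φ : F →+* F} {F₀ : Subfield F} {P : GL (Fin n) F}

/-- a rational vector which is a combination of two independent rational vectors has rational
coefficients. -/
theorem coeff_mem (R : RS φ n q F₀ P) {r₁ r₂ r₃ : Fin n → F} (h₁ : RatV F₀ P r₁)
    (h₂ : RatV F₀ P r₂) (h₃ : RatV F₀ P r₃)
    (hli : ∀ a b : F, a • r₁ + b • r₂ = 0 → a = 0 ∧ b = 0) {α β : F}
    (h : r₃ = α • r₁ + β • r₂) : α ∈ F₀ ∧ β ∈ F₀ := by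
  obtain ⟨θ, hθ0, hθ, -⟩ := R.exists_theta
  obtain ⟨a, a', ha, ha', hα⟩ := R.scalar_decomp hθ0 hθ α
  obtain ⟨b, b', hb, hb', hβ⟩ := R.scalar_decomp hθ0 hθ β
  have key : (a • r₁ + b • r₂ - r₃) + θ • (a' • r₁ + b' • r₂) = 0 := by
    rw [h, hα, hβ]; module
  obtain ⟨-, h2⟩ := R.decomp_unique hθ0 hθ (((h₁.smul ha).add (h₂.smul hb)).sub h₃)
    ((h₁.smul ha').add (h₂.smul hb')) key
  obtain ⟨ha0, hb0⟩ := hli a' b' h2
  rw [hα, hβ, ha0, hb0, mul_zero, add_zero, add_zero]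
  exact ⟨ha, hb⟩

theorem gl_mulVec_eq_zero (g : GL (Fin n) F) {v : Fin n → F}
    (h : (g : Matrix (Fin n) (Fin n) F) *ᵥ v = 0) : v = 0 := by
  apply mulVec_injective g
  rw [h, Matrix.mulVec_zero]

/-- one step along an edge of the graph of rational singular points. -/
theorem adj_step (R : RS φ n q F₀ P) (g : GL (Fin n) F)
    (hg : ∀ y, RatV F₀ P y → Bs φ n y y = 0 → ∃ (l : F) (r : Fin n → F), RatV F₀ P r ∧
      (g : Matrix (Fin n) (Fin n) F) *ᵥ y = l • r)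
    {y y' : Fin n → F} (hy : RatV F₀ P y) (hy' : RatV F₀ P y') (hyy : Bs φ n y y = 0)
    (hy'y' : Bs φ n y' y' = 0) (hyy' : Bs φ n y y' = 0)
    (hli : ∀ a b : F, a • y + b • y' = 0 → a = 0 ∧ b = 0)
    {c : F} (hc : c ≠ 0) (hcy : RatV F₀ P (c • ((g : Matrix (Fin n) (Fin n) F) *ᵥ y))) :
    RatV F₀ P (c • ((g : Matrix (Fin n) (Fin n) F) *ᵥ y')) := by
  have hy'y : Bs φ n y' y = 0 := B_zero_symm φ R.hφ2 hyy'
  have hsum : Bs φ n (y + y') (y + y') = 0 := by
    simp only [map_add, LinearMap.add_apply, hyy, hy'y', hyy', hy'y, add_zero]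
  obtain ⟨l', r', hr', hgy'⟩ := hg y' hy' hy'y'
  obtain ⟨l'', r'', hr'', hgs⟩ := hg (y + y') (hy.add hy') hsum
  have hy'0 : y' ≠ 0 := by
    rintro rfl
    have := (hli 0 1 (by simp)).2
    exact one_ne_zero this
  have hl' : l' ≠ 0 := by
    rintro rfl
    rw [zero_smul] at hgy'
    exact hy'0 (gl_mulVec_eq_zero g hgy')
  set r := c • ((g : Matrix (Fin n) (Fin n) F) *ᵥ y) with hr
  have e1 : r + (c * l') • r' = (c * l'') • r'' := by
    rw [hr, mul_smul, ← hgy', mul_smul, ← hgs, Matrix.mulVec_add, smul_add]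
  have hli' : ∀ a b : F, a • r + b • r' = 0 → a = 0 ∧ b = 0 := by
    intro a b hab
    have hr'eq : r' = l'⁻¹ • ((g : Matrix (Fin n) (Fin n) F) *ᵥ y') := by
      rw [hgy', smul_smul, inv_mul_cancel₀ hl', one_smul]
    rw [hr, hr'eq, smul_smul, smul_smul, ← Matrix.mulVec_smul, ← Matrix.mulVec_smul,
      ← Matrix.mulVec_add] at hab
    have := hli _ _ (gl_mulVec_eq_zero g hab)
    refine ⟨(mul_eq_zero.1 this.1).resolve_right hc, ?_⟩
    exact (mul_eq_zero.1 this.2).resolve_right (inv_ne_zero hl')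
  have hcl'' : c * l'' ≠ 0 := by
    intro h0
    rw [h0, zero_smul] at e1
    have := (hli' 1 (c * l') (by rw [one_smul]; exact e1)).1
    exact one_ne_zero this
  have e2 : r'' = (c * l'')⁻¹ • r + ((c * l'')⁻¹ * (c * l')) • r' := by
    rw [mul_smul, ← smul_add, e1, smul_smul, inv_mul_cancel₀ hcl'', one_smul]
  obtain ⟨hm1, hm2⟩ := coeff_mem R hcy hr' hr'' hli' e2
  have hm3 : c * l' ∈ F₀ := by
    have : c * l' = ((c * l'')⁻¹)⁻¹ * ((c * l'')⁻¹ * (c * l')) := by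
      rw [inv_inv, ← mul_assoc, mul_inv_cancel₀ hcl'', one_mul]
    rw [this]
    exact F₀.mul_mem (F₀.inv_mem hm1) hm2
  rw [hgy', smul_smul]
  exact hr'.smul hm3

/-- any two rational singular points are joined by a path of length two. -/
theorem connect (R : RS φ n q F₀ P) (g : GL (Fin n) F)
    (hg : ∀ y, RatV F₀ P y → Bs φ n y y = 0 → ∃ (l : F) (r : Fin n → F), RatV F₀ P r ∧
      (g : Matrix (Fin n) (Fin n) F) *ᵥ y = l • r)
    {y y' : Fin n → F} (hy : RatV F₀ P y) (hy' : RatV F₀ P y') (hyy : Bs φ n y y = 0)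
    (hy'y' : Bs φ n y' y' = 0) (hy0 : y ≠ 0) (hy'0 : y' ≠ 0)
    {c : F} (hc : c ≠ 0) (hcy : RatV F₀ P (c • ((g : Matrix (Fin n) (Fin n) F) *ᵥ y))) :
    RatV F₀ P (c • ((g : Matrix (Fin n) (Fin n) F) *ᵥ y')) := by
  have hn := R.hn
  have hrat : ∀ i, RatV F₀ P (![y, y'] i) := by
    intro i; fin_cases i
    · exact hy
    · exact hy'
  obtain ⟨e, f, he, hf, hee, hff, hef, hve, hvf⟩ := R.exists_hyp_perp ![y, y'] hrat (by omega)
  have hye : Bs φ n y e = 0 := by simpa using hve 0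
  have hy'e : Bs φ n y' e = 0 := by simpa using hve 1
  have hyf : Bs φ n y f = 0 := by simpa using hvf 0
  have hy'f : Bs φ n y' f = 0 := by simpa using hvf 1
  have hey' : Bs φ n e y' = 0 := B_zero_symm φ R.hφ2 hy'e
  have hφ0 : ∀ a : F, φ a = 0 → a = 0 := fun a ha => (map_eq_zero φ).1 ha
  have hli1 : ∀ a b : F, a • y + b • e = 0 → a = 0 ∧ b = 0 := by
    intro a b hab
    have h1 := congrArg (fun v => Bs φ n v f) hab
    simp only [map_add, map_smulₛₗ, LinearMap.add_apply, LinearMap.smul_apply, smul_eq_mul, hyf, hef,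
      mul_zero, mul_one, zero_add, map_zero, LinearMap.zero_apply] at h1
    have hb : b = 0 := hφ0 b h1
    rw [hb, zero_smul, add_zero] at hab
    exact ⟨(smul_eq_zero.1 hab).resolve_right hy0, hb⟩
  have hli2 : ∀ a b : F, a • e + b • y' = 0 → a = 0 ∧ b = 0 := by
    intro a b hab
    have h1 := congrArg (fun v => Bs φ n v f) hab
    simp only [map_add, map_smulₛₗ, LinearMap.add_apply, LinearMap.smul_apply, smul_eq_mul, hy'f, hef,
      mul_zero, mul_one, add_zero, map_zero, LinearMap.zero_apply] at h1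
    have ha : a = 0 := hφ0 a h1
    rw [ha, zero_smul, zero_add] at hab
    exact ⟨ha, (smul_eq_zero.1 hab).resolve_right hy'0⟩
  have h1 := adj_step R g hg hy he hyy hee hye hli1 hc hcy
  exact adj_step R g hg he hy' hee hy'y' hey' hli2 hc h1

/-- **C (points ⟹ subfield subgroup)**. -/
theorem mem_sub_of_sing_pts (R : RS φ n q F₀ P) (g : GL (Fin n) F)
    (hg : ∀ y, RatV F₀ P y → Bs φ n y y = 0 → ∃ (l : F) (r : Fin n → F), RatV F₀ P r ∧
      (g : Matrix (Fin n) (Fin n) F) *ᵥ y = l • r) :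
    g ∈ Cfsg.Geo.subfieldSubgroup F₀ P := by
  have hn := R.hn
  obtain ⟨e₀, f₀, he₀, hf₀, he₀e₀, -, he₀f₀, -, -⟩ :=
    R.exists_hyp_perp (k := 0) (fun i => Fin.elim0 i) (fun i => Fin.elim0 i) (by omega)
  have he₀0 : e₀ ≠ 0 := by
    rintro rfl
    simp only [map_zero, LinearMap.zero_apply] at he₀f₀
    exact zero_ne_one he₀f₀
  obtain ⟨l₀, r₀, hr₀, hgl₀⟩ := hg e₀ he₀ he₀e₀
  have hl₀ : l₀ ≠ 0 := by
    rintro rfl
    rw [zero_smul] at hgl₀
    exact he₀0 (gl_mulVec_eq_zero g hgl₀)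
  have hc : l₀⁻¹ ≠ 0 := inv_ne_zero hl₀
  have hbase : RatV F₀ P (l₀⁻¹ • ((g : Matrix (Fin n) (Fin n) F) *ᵥ e₀)) := by
    rw [hgl₀, smul_smul, inv_mul_cancel₀ hl₀, one_smul]; exact hr₀
  have hall : ∀ y, RatV F₀ P y → Bs φ n y y = 0 →
      RatV F₀ P (l₀⁻¹ • ((g : Matrix (Fin n) (Fin n) F) *ᵥ y)) := by
    intro y hy hyy
    by_cases hy0 : y = 0
    · subst hy0; rw [Matrix.mulVec_zero, smul_zero]; exact RatV.zero
    · exact connect R g hg he₀ hy he₀e₀ hyy he₀0 hy0 hc hbase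
  apply mem_sub_of_ratV hc
  intro x hx
  obtain ⟨e, f, he, hf, hee, hff, hef, hve, hvf⟩ :=
    R.exists_hyp_perp ![x] (by intro i; fin_cases i; exact hx) (by omega)
  have hxe : Bs φ n x e = 0 := by simpa using hve 0
  have hxf : Bs φ n x f = 0 := by simpa using hvf 0
  have hex : Bs φ n e x = 0 := B_zero_symm φ R.hφ2 hxe
  have hfx : Bs φ n f x = 0 := B_zero_symm φ R.hφ2 hxf
  have hfe : Bs φ n f e = 1 := by rw [← R.B_symm he hf]; exact hef
  set s : F := Bs φ n x x / 2 with hs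
  have hsm : s ∈ F₀ := F₀.div_mem (R.hB x x hx hx) R.two_mem
  have hφs : φ s = s := R.fix hsm
  have hv : RatV F₀ P (x + e - s • f) := (hx.add he).sub (hf.smul hsm)
  have hvv : Bs φ n (x + e - s • f) (x + e - s • f) = 0 := by
    simp only [map_add, map_sub, map_smulₛₗ, LinearMap.add_apply, LinearMap.sub_apply,
      LinearMap.smul_apply, smul_eq_mul, hxe, hxf, hex, hfx, hee, hff, hef, hfe, hφs,
      RingHom.id_apply]
    rw [hs]
    have := R.h2
    field_simp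
    ring
  have e3 : x = (x + e - s • f) - e + s • f := by abel
  have h1 := hall _ hv hvv
  have h2 := hall _ he hee
  have h3 := hall _ hf hff
  have e4 : l₀⁻¹ • ((g : Matrix (Fin n) (Fin n) F) *ᵥ x) =
      l₀⁻¹ • ((g : Matrix (Fin n) (Fin n) F) *ᵥ (x + e - s • f)) -
        l₀⁻¹ • ((g : Matrix (Fin n) (Fin n) F) *ᵥ e) +
        s • (l₀⁻¹ • ((g : Matrix (Fin n) (Fin n) F) *ᵥ f)) := by
    conv_lhs => rw [e3]
    rw [Matrix.mulVec_add, Matrix.mulVec_sub, Matrix.mulVec_smul, smul_add, smul_sub, smul_comm]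
  rw [e4]
  exact (h1.sub h2).add (h3.smul hsm)

end Cfsg.Agent.Lib.H16.SoSub
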