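import Mathlib
import Cfsg.Prelude.Def_ParabolicCharacters

/-!
# S2314 piece DCNT (helper16): double counting fixed points over a conjugation-invariant set.
-/

set_option autoImplicit false

namespace Cfsg.Agent.Lib.H16.StCnt

/-- DCNT.  `∑_{x ∈ X} #Fix(x; H/L) = #{(x, gL) : x ∈ X, g⁻¹ x g ∈ L} = ∑_{gL} #(X ∩ g L g⁻¹) = [H:L] * #(X ∩ L)`
(conjugation by `g` is a bijection `X ∩ L ≃ X ∩ g L g⁻¹` since `X` is conjugation invariant). -/
theorem sum_fixedPointCharacter {H : Type*} [Group H] [Fintype H] (L : Subgroup H) (X : H → Prop)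
    [DecidablePred X] (hX : ∀ g x, X x → X (g * x * g⁻¹)) :
    ∑ x : H with X x, Cfsg.fixedPointCharacter L x =
      (L.index : ℂ) * (Nat.card {x : H // x ∈ L ∧ X x} : ℂ) := by
  classical
  haveI : Fintype (H ⧸ L) := Fintype.ofFinite _
  set N : ℕ := Nat.card {x : H // x ∈ L ∧ X x} with hN
  -- per-coset count
  have hcount : ∀ c : H ⧸ L, (Finset.univ.filter (fun x : H => X x ∧ x • c = c)).card = N := by
    intro c
    induction c using QuotientGroup.induction_on with
    | H g =>
      have hN' : N = (Finset.univ.filter (fun x : H => x ∈ L ∧ X x)).card := by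
        rw [hN, Nat.card_eq_fintype_card]
        exact Fintype.card_of_subtype _ (by simp)
      rw [hN']
      symm
      refine Finset.card_bij' (fun y _ => g * y * g⁻¹) (fun x _ => g⁻¹ * x * g) ?_ ?_ ?_ ?_
      · intro y hy
        rw [Finset.mem_filter] at hy ⊢
        refine ⟨Finset.mem_univ _, hX g y hy.2.2, ?_⟩
        rw [MulAction.Quotient.smul_mk, smul_eq_mul, QuotientGroup.eq]
        have : (g * y * g⁻¹ * g)⁻¹ * g = y⁻¹ := by group
        rw [this]
        exact L.inv_mem hy.2.1
      · intro x hx
        rw [Finset.mem_filter] at hx ⊢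
        obtain ⟨_, hXx, hfix⟩ := hx
        rw [MulAction.Quotient.smul_mk, smul_eq_mul, QuotientGroup.eq] at hfix
        refine ⟨Finset.mem_univ _, ?_, ?_⟩
        · have : (g⁻¹ * x * g) = ((x * g)⁻¹ * g)⁻¹ := by group
          rw [this]
          exact L.inv_mem hfix
        · have := hX g⁻¹ x hXx
          rwa [inv_inv] at this
      · intro y _
        group
      · intro x _
        group
  -- the fixed point character as a sum of indicators
  have hfix : ∀ x : H, Cfsg.fixedPointCharacter L x
      = ((∑ c : H ⧸ L, if x • c = c then 1 else 0 : ℕ) : ℂ) := by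
    intro x
    unfold Cfsg.fixedPointCharacter
    congr 1
    rw [← Finset.card_filter, Nat.card_eq_fintype_card]
    exact Fintype.card_of_subtype _ (by simp [MulAction.mem_fixedBy])
  have hidx : L.index = Fintype.card (H ⧸ L) := by
    rw [Subgroup.index, Nat.card_eq_fintype_card]
  calc ∑ x : H with X x, Cfsg.fixedPointCharacter L x
      = ((∑ x ∈ Finset.univ.filter (fun x : H => X x),
          ∑ c : H ⧸ L, if x • c = c then 1 else 0 : ℕ) : ℂ) := by
        rw [Nat.cast_sum]
        exact Finset.sum_congr rfl (fun x _ => hfix x)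
    _ = ((∑ c : H ⧸ L, ∑ x ∈ Finset.univ.filter (fun x : H => X x),
          if x • c = c then 1 else 0 : ℕ) : ℂ) := by
        rw [Finset.sum_comm]
    _ = ((∑ _c : H ⧸ L, N : ℕ) : ℂ) := by
        congr 1
        refine Finset.sum_congr rfl (fun c _ => ?_)
        rw [← Finset.card_filter, Finset.filter_filter]
        exact hcount c
    _ = (L.index : ℂ) * (N : ℂ) := by
        rw [Finset.sum_const, Finset.card_univ, smul_eq_mul, Nat.cast_mul, hidx]

end Cfsg.Agent.Lib.H16.StCnt
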