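import Mathlib
import Cfsg.Prelude.Def_ParabolicCharacters

/-!
# S2314 piece IND (helper16): the permutation character on `B/Q` at an element of a normal subgroup.
-/

set_option autoImplicit false

namespace Cfsg.Agent.Lib.H16.StCnt

/-- IND.  `b Q` is fixed by `x` iff `b⁻¹ x b ∈ Q`, iff (`U` normal) `b⁻¹ x b ∈ Q ⊓ U = V`, iff (`V` normal) `x ∈ V`:
all cosets are fixed or none. -/
theorem fixedPointCharacter_of_normal {B : Type*} [Group B] [Finite B] (Q U V : Subgroup B) [U.Normal] [V.Normal]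
    (hV : Q ⊓ U = V) (x : B) (hx : x ∈ U) :
    (x ∈ V → Cfsg.fixedPointCharacter Q x = (Q.index : ℂ)) ∧
      (x ∉ V → Cfsg.fixedPointCharacter Q x = 0) := by
  have hUn : U.Normal := inferInstance
  have hVn : V.Normal := inferInstance
  have key : ∀ c : B ⧸ Q, c ∈ MulAction.fixedBy (B ⧸ Q) x ↔ x ∈ V := by
    intro c
    induction c using QuotientGroup.induction_on with
    | H b =>
      rw [MulAction.mem_fixedBy, MulAction.Quotient.smul_mk, smul_eq_mul, QuotientGroup.eq]
      constructor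
      · intro hq
        have hu : (x * b)⁻¹ * b ∈ U := by
          have h1 := hUn.conj_mem x⁻¹ (U.inv_mem hx) b⁻¹
          have h2 : (x * b)⁻¹ * b = b⁻¹ * x⁻¹ * b⁻¹⁻¹ := by group
          rw [h2]; exact h1
        have hv : (x * b)⁻¹ * b ∈ V := hV ▸ (Subgroup.mem_inf.2 ⟨hq, hu⟩)
        have h3 := hVn.conj_mem _ hv b
        have h4 : b * ((x * b)⁻¹ * b) * b⁻¹ = x⁻¹ := by group
        rw [h4] at h3
        exact (V.inv_mem_iff).1 h3
      · intro hxV
        have h1 := hVn.conj_mem x⁻¹ (V.inv_mem hxV) b⁻¹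
        have h2 : (x * b)⁻¹ * b = b⁻¹ * x⁻¹ * b⁻¹⁻¹ := by group
        rw [h2]
        have : b⁻¹ * x⁻¹ * b⁻¹⁻¹ ∈ Q ⊓ U := hV ▸ h1
        exact (Subgroup.mem_inf.1 this).1
  constructor
  · intro hxV
    have : MulAction.fixedBy (B ⧸ Q) x = Set.univ := by
      ext c
      simp [key c, hxV]
    unfold Cfsg.fixedPointCharacter
    rw [this, Nat.card_coe_set_eq, Set.ncard_univ]
    rfl
  · intro hxV
    have : MulAction.fixedBy (B ⧸ Q) x = ∅ := by
      ext c
      simp [key c, hxV]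
    unfold Cfsg.fixedPointCharacter
    rw [this]
    simp

end Cfsg.Agent.Lib.H16.StCnt
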