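import Mathlib
import Cfsg.Agent.Lib.H8.SUN4
import Cfsg.Agent.Lib.H8.SU3Q5

set_option autoImplicit false
set_option linter.unusedSimpArgs false

/-!
# The local statement `Local3` for `SU_3(5)` (helper16, for helper8's S2282)

Explicit data over `F_25 = F_5(i)`, `i^2 = 2`; certificates generated by `scratch/sun3/q5gen.py`.
-/

namespace Cfsg.Agent.Lib.H16.Sun3

open Matrix Cfsg.Agent.Lib.H8.SU3Gen

variable {F : Type*} [Field F]

theorem mat_inv_of_mul_eq_one {σ : F →+* F} (k : SUJ σ) {N : Matrix (Fin 3) (Fin 3) F}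
    (h : mat k * N = 1) : mat k⁻¹ = N := by
  have h1 : mat k⁻¹ * mat k = 1 := by rw [← mat_mul, inv_mul_cancel, mat_one]
  calc mat k⁻¹ = mat k⁻¹ * (mat k * N) := by rw [h, Matrix.mul_one]
    _ = N := by rw [← Matrix.mul_assoc, h1, Matrix.one_mul]

theorem q5_X1 (i : F) (hi : i ^ 2 = 2) (h5 : (5 : F) = 0) (σ : F →+* F) (hσi : σ i = -i) :
    uM σ 1 (2 + 2 * i) * uM σ (-(2 * 1)) (2 ^ 2 * σ (2 + 2 * i)) =
      (!![1, 4, 2 + 4*i; 0, 1, 1; 0, 0, 1] : Matrix (Fin 3) (Fin 3) F) := by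
  unfold uM
  simp only [map_add, map_mul, map_neg, map_one, map_ofNat, map_pow, hσi]
  rw [Matrix.mul_fin_three]
  exact mat3_ext
    (by ring)
    (by linear_combination ((-1)) * h5)
    (by linear_combination (2 + (-2)*i) * h5)
    (by ring)
    (by ring)
    (by ring)
    (by ring)
    (by ring)
    (by ring)

theorem q5_K2 (i : F) (hi : i ^ 2 = 2) (h5 : (5 : F) = 0) (σ : F →+* F) (hσi : σ i = -i) :
    uM σ 1 (2 + 2 * i) * vM σ (-(1 * 1)) (1 * σ 1 * σ (2 + 2 * i)) =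
      (!![1, 3 + 2*i, 2 + 2*i; 2 + 2*i, 0, 4; 2 + 3*i, 1, 1] : Matrix (Fin 3) (Fin 3) F) := by
  unfold uM vM
  simp only [map_add, map_mul, map_neg, map_one, map_ofNat, map_pow, hσi]
  rw [Matrix.mul_fin_three]
  exact mat3_ext
    (by linear_combination ((-4)) * hi + ((-1)) * h5)
    (by ring)
    (by ring)
    (by linear_combination ((-1)) * h5)
    (by ring)
    (by linear_combination ((-1)) * h5)
    (by linear_combination ((-1)*i) * h5)
    (by ring)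
    (by ring)

theorem q5_X1inv (i : F) (hi : i ^ 2 = 2) (h5 : (5 : F) = 0) :
    (!![1, 4, 2 + 4*i; 0, 1, 1; 0, 0, 1] : Matrix (Fin 3) (Fin 3) F) * !![1, 1, 2 + i; 0, 1, 4; 0, 0, 1] =
      !![1, 0, 0; 0, 1, 0; 0, 0, 1] := by
  rw [Matrix.mul_fin_three]
  exact mat3_ext
    (by ring)
    (by linear_combination (1) * h5)
    (by linear_combination (4 + i) * h5)
    (by ring)
    (by ring)
    (by linear_combination (1) * h5)
    (by ring)
    (by ring)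
    (by ring)

theorem q5_K2inv (i : F) (hi : i ^ 2 = 2) (h5 : (5 : F) = 0) :
    (!![1, 3 + 2*i, 2 + 2*i; 2 + 2*i, 0, 4; 2 + 3*i, 1, 1] : Matrix (Fin 3) (Fin 3) F) * !![1, 4, 2 + 3*i; 1, 0, 3 + 3*i; 2 + 2*i, 2 + 3*i, 1] =
      !![1, 0, 0; 0, 1, 0; 0, 0, 1] := by
  rw [Matrix.mul_fin_three]
  exact mat3_ext
    (by linear_combination (4) * hi + (3 + 2*i) * h5)
    (by linear_combination (6) * hi + (4 + 2*i) * h5)
    (by linear_combination (6) * hi + (5 + 4*i) * h5)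
    (by linear_combination (2 + 2*i) * h5)
    (by linear_combination (3 + 4*i) * h5)
    (by linear_combination (6) * hi + (4 + 2*i) * h5)
    (by linear_combination (1 + i) * h5)
    (by linear_combination (2 + 3*i) * h5)
    (by linear_combination (9) * hi + (5 + 3*i) * h5)

theorem q5_step1 (i : F) (hi : i ^ 2 = 2) (h5 : (5 : F) = 0) :
    (!![1, 3 + 2*i, 2 + 2*i; 2 + 2*i, 0, 4; 2 + 3*i, 1, 1] : Matrix (Fin 3) (Fin 3) F) * !![1, 4, 2 + 4*i; 0, 1, 1; 0, 0, 1] =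
      !![1, 2 + 2*i, 2 + 3*i; 2 + 2*i, 3 + 3*i, 4 + 2*i; 2 + 3*i, 4 + 2*i, 4*i] := by
  rw [Matrix.mul_fin_three]
  exact mat3_ext
    (by ring)
    (by linear_combination (1) * h5)
    (by linear_combination (1 + i) * h5)
    (by ring)
    (by linear_combination (1 + i) * h5)
    (by linear_combination (8) * hi + (4 + 2*i) * h5)
    (by ring)
    (by linear_combination (1 + 2*i) * h5)
    (by linear_combination (12) * hi + (6 + 2*i) * h5)

theorem q5_step2 (i : F) (hi : i ^ 2 = 2) (h5 : (5 : F) = 0) :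
    (!![1, 2 + 2*i, 2 + 3*i; 2 + 2*i, 3 + 3*i, 4 + 2*i; 2 + 3*i, 4 + 2*i, 4*i] : Matrix (Fin 3) (Fin 3) F) * !![1, 4, 2 + 4*i; 0, 1, 1; 0, 0, 1] =
      !![1, 1 + 2*i, 1 + 4*i; 2 + 2*i, 1 + i, 2 + 2*i; 2 + 3*i, 2 + 4*i, 2] := by
  rw [Matrix.mul_fin_three]
  exact mat3_ext
    (by ring)
    (by linear_combination (1) * h5)
    (by linear_combination (1 + i) * h5)
    (by ring)
    (by linear_combination (2 + 2*i) * h5)
    (by linear_combination (8) * hi + (5 + 3*i) * h5)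
    (by ring)
    (by linear_combination (2 + 2*i) * h5)
    (by linear_combination (12) * hi + (6 + 4*i) * h5)

theorem q5_step3 (i : F) (hi : i ^ 2 = 2) (h5 : (5 : F) = 0) :
    (!![1, 1 + 2*i, 1 + 4*i; 2 + 2*i, 1 + i, 2 + 2*i; 2 + 3*i, 2 + 4*i, 2] : Matrix (Fin 3) (Fin 3) F) * !![1, 3 + 2*i, 2 + 2*i; 2 + 2*i, 0, 4; 2 + 3*i, 1, 1] =
      !![2 + 2*i, 4 + i, 2 + 4*i; 4 + i, 1 + 2*i, 3 + 4*i; 1 + i, 3*i, 1 + i] := by
  rw [Matrix.mul_fin_three]
  exact mat3_ext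
    (by linear_combination (16) * hi + (7 + 3*i) * h5)
    (by linear_combination (i) * h5)
    (by linear_combination (1 + 2*i) * h5)
    (by linear_combination (8) * hi + (4 + 3*i) * h5)
    (by linear_combination (4) * hi + (3 + 2*i) * h5)
    (by linear_combination (4) * hi + (3 + 2*i) * h5)
    (by linear_combination (8) * hi + (5 + 4*i) * h5)
    (by linear_combination (6) * hi + (4 + 2*i) * h5)
    (by linear_combination (6) * hi + (5 + 5*i) * h5)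

theorem q5_step4 (i : F) (hi : i ^ 2 = 2) (h5 : (5 : F) = 0) :
    (!![2 + 2*i, 4 + i, 2 + 4*i; 4 + i, 1 + 2*i, 3 + 4*i; 1 + i, 3*i, 1 + i] : Matrix (Fin 3) (Fin 3) F) * !![1, 1, 2 + i; 0, 1, 4; 0, 0, 1] =
      !![2 + 2*i, 1 + 3*i, 1 + 4*i; 4 + i, 3*i, 2 + 3*i; 1 + i, 1 + 4*i, i] := by
  rw [Matrix.mul_fin_three]
  exact mat3_ext
    (by ring)
    (by linear_combination (1) * h5)
    (by linear_combination (2) * hi + (5 + 2*i) * h5)
    (by ring)
    (by linear_combination (1) * h5)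
    (by linear_combination (1) * hi + (3 + 3*i) * h5)
    (by ring)
    (by ring)
    (by linear_combination (1) * hi + (1 + 3*i) * h5)

theorem q5_step5 (i : F) (hi : i ^ 2 = 2) (h5 : (5 : F) = 0) :
    (!![2 + 2*i, 1 + 3*i, 1 + 4*i; 4 + i, 3*i, 2 + 3*i; 1 + i, 1 + 4*i, i] : Matrix (Fin 3) (Fin 3) F) * !![1, 4, 2 + 3*i; 1, 0, 3 + 3*i; 2 + 2*i, 2 + 3*i, 1] =
      !![1, 4 + 4*i, 3 + i; 4*i, 3 + i, 4 + i; 1 + 2*i, i, i] := by
  rw [Matrix.mul_fin_three]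
  exact mat3_ext
    (by linear_combination (8) * hi + (4 + 3*i) * h5)
    (by linear_combination (12) * hi + (6 + 3*i) * h5)
    (by linear_combination (15) * hi + (7 + 5*i) * h5)
    (by linear_combination (6) * hi + (4 + 2*i) * h5)
    (by linear_combination (9) * hi + (7 + 3*i) * h5)
    (by linear_combination (12) * hi + (6 + 5*i) * h5)
    (by linear_combination (2) * hi + (1 + i) * h5)
    (by linear_combination (3) * hi + (2 + i) * h5)
    (by linear_combination (15) * hi + (7 + 4*i) * h5)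

theorem q5_step6 (i : F) (hi : i ^ 2 = 2) (h5 : (5 : F) = 0) :
    (!![1, 4 + 4*i, 3 + i; 4*i, 3 + i, 4 + i; 1 + 2*i, i, i] : Matrix (Fin 3) (Fin 3) F) * !![1, 4, 2 + 3*i; 1, 0, 3 + 3*i; 2 + 2*i, 2 + 3*i, 1] =
      !![2*i, 1 + i, 1 + 3*i; 0, 4, 3 + i; 0, 0, i] := by
  rw [Matrix.mul_fin_three]
  exact mat3_ext
    (by linear_combination (2) * hi + (3 + 2*i) * h5)
    (by linear_combination (3) * hi + (3 + 2*i) * h5)
    (by linear_combination (12) * hi + (8 + 5*i) * h5)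
    (by linear_combination (2) * hi + (3 + 3*i) * h5)
    (by linear_combination (3) * hi + (2 + 6*i) * h5)
    (by linear_combination (15) * hi + (8 + 4*i) * h5)
    (by linear_combination (2) * hi + (1 + i) * h5)
    (by linear_combination (3) * hi + (2 + 2*i) * h5)
    (by linear_combination (9) * hi + (4 + 2*i) * h5)

theorem q5_word (i : F) (hi : i ^ 2 = 2) (h5 : (5 : F) = 0) :
    (!![1, 3 + 2*i, 2 + 2*i; 2 + 2*i, 0, 4; 2 + 3*i, 1, 1] : Matrix (Fin 3) (Fin 3) F) * !![1, 4, 2 + 4*i; 0, 1, 1; 0, 0, 1] * !![1, 4, 2 + 4*i; 0, 1, 1; 0, 0, 1] * !![1, 3 + 2*i, 2 + 2*i; 2 + 2*i, 0, 4; 2 + 3*i, 1, 1] * !![1, 1, 2 + i; 0, 1, 4; 0, 0, 1] * !![1, 4, 2 + 3*i; 1, 0, 3 + 3*i; 2 + 2*i, 2 + 3*i, 1] * !![1, 4, 2 + 3*i; 1, 0, 3 + 3*i; 2 + 2*i, 2 + 3*i, 1] =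
      !![2*i, 1 + i, 1 + 3*i; 0, 4, 3 + i; 0, 0, i] := by
  rw [q5_step1 i hi h5, q5_step2 i hi h5, q5_step3 i hi h5, q5_step4 i hi h5, q5_step5 i hi h5, q5_step6 i hi h5]

section fin

variable [Fintype F]

/-- the local statement for `q = 5` -/
theorem local3_q5 (hF : Fintype.card F = 5 ^ 2) (σ : F →+* F) (hσq : ∀ x, σ x = x ^ 5)
    (hσ : ∀ x, σ (σ x) = x) : Local3 σ := by
  obtain ⟨h5, i, hi⟩ := exists_sqrt_two (F := F) (by rw [hF]; norm_num)
  have hσi : σ i = -i := by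
    rw [hσq]
    linear_combination (i ^ 3 + 2 * i) * hi + i * h5
  have h1ne : (1 : F) ≠ 0 := one_ne_zero
  have h2ne : (2 : F) ≠ 0 := by
    intro h
    apply h1ne
    linear_combination (3 : F) * h - h5
  refine ⟨1, 2 + 2 * i, 2, 1, one_ne_zero, ?_, map_ofNat σ 2, h2ne, one_ne_zero,
    Or.inl (map_one σ), ?_⟩
  · rw [map_add, map_mul, map_ofNat, hσi, map_one]
    linear_combination h5
  · intro K x₁ k₂ hx₁ hk₂ hx₁K hk₂K
    have hX1 : mat x₁ = !![1, 4, 2 + 4*i; 0, 1, 1; 0, 0, 1] := by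
      rw [hx₁]; exact q5_X1 i hi h5 σ hσi
    have hK2 : mat k₂ = !![1, 3 + 2*i, 2 + 2*i; 2 + 2*i, 0, 4; 2 + 3*i, 1, 1] := by
      rw [hk₂]; exact q5_K2 i hi h5 σ hσi
    have hX1i : mat x₁⁻¹ = !![1, 1, 2 + i; 0, 1, 4; 0, 0, 1] := by
      apply mat_inv_of_mul_eq_one
      rw [hX1, q5_X1inv i hi h5, Matrix.one_fin_three]
    have hK2i : mat k₂⁻¹ = !![1, 4, 2 + 3*i; 1, 0, 3 + 3*i; 2 + 2*i, 2 + 3*i, 1] := by
      apply mat_inv_of_mul_eq_one
      rw [hK2, q5_K2inv i hi h5, Matrix.one_fin_three]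
    have hsm : mat (k₂ * x₁ * x₁ * k₂ * x₁⁻¹ * k₂⁻¹ * k₂⁻¹) =
        !![2*i, 1 + i, 1 + 3*i; 0, 4, 3 + i; 0, 0, i] := by
      simp only [mat_mul]
      rw [hX1, hK2, hX1i, hK2i]
      exact q5_word i hi h5
    have hx₁' : mat x₁ = uM σ (1 + -(2 * 1)) ((2 + 2 * i) + 2 ^ 2 * σ (2 + 2 * i) - 1 * σ (-(2 * 1))) := by
      rw [hx₁, uM_mul]
    have ha' : (1 + -(2 * 1) : F) ≠ 0 := by
      intro h
      apply h1ne
      linear_combination (-1 : F) * h
    refine SUJ_eq_top_of_data σ hσ hσq hF (by norm_num) K hx₁K hk₂K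
      (K.mul_mem (K.mul_mem (K.mul_mem (K.mul_mem (K.mul_mem (K.mul_mem hk₂K hx₁K) hx₁K) hk₂K) (K.inv_mem hx₁K)) (K.inv_mem hk₂K)) (K.inv_mem hk₂K)) hx₁' ha' ?_ ?_ ?_ ?_ ?_
    · rw [hK2]
      show (2 + 3*i : F) ≠ 0
      intro h
      apply h1ne
      linear_combination (2 + 2*i) * h + ((-6)) * hi + ((-3) + (-2)*i) * h5
    · rw [hsm]; rfl
    · rw [hsm]; rfl
    · rw [hsm]; rfl
    · rw [hsm]
      have hν : (!![2*i, 1 + i, 1 + 3*i; 0, 4, 3 + i; 0, 0, i] : Matrix (Fin 3) (Fin 3) F) 0 0 *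
          σ ((!![2*i, 1 + i, 1 + 3*i; 0, 4, 3 + i; 0, 0, i] : Matrix (Fin 3) (Fin 3) F) 1 1) = 3*i := by
        show (2*i) * σ (4) = 3*i
        simp only [map_add, map_mul, map_neg, map_one, map_ofNat, map_pow, hσi]
        linear_combination (i) * h5
      rw [hν]
      apply closure_eq_top_25 (by rw [hF]; norm_num)
      intro h
      apply h1ne
      linear_combination (2*i) * h + ((-1938) + (-972)*i^2 + (-486)*i^4) * hi + ((-775)) * h5

end fin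

end Cfsg.Agent.Lib.H16.Sun3
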