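import Mathlib
import Cfsg.Agent.Lib.H8.SUN4
import Cfsg.Agent.Lib.H8.SU3Q8
import Cfsg.Agent.Lib.H16.Sun3q5

set_option autoImplicit false
set_option linter.unusedSimpArgs false
set_option linter.unusedVariables false

/-!
# The local statement `Local3` for `SU_3(8)` (helper16, for helper8's S2282)

Explicit data over `F_64 = F_2(η, ω)`, `η^3 = η + 1`, `ω^2 = ω + 1`; certificates generated by
`scratch/sun3/q8gen.py`.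
-/

namespace Cfsg.Agent.Lib.H16.Sun3

open Matrix Cfsg.Agent.Lib.H8.SU3Gen

variable {F : Type*} [Field F]

theorem q8_X1 (η ω : F) (hη : η ^ 3 = η + 1) (hω : ω ^ 2 = ω + 1) (h2 : (2 : F) = 0) (σ : F →+* F) (hση : σ η = η) (hσω : σ ω = ω + 1) :
    uM σ 1 (ω + η ^ 2) * uM σ (-(η * 1)) (η ^ 2 * σ (ω + η ^ 2)) =
      (!![1, 1 + η, ω + η^2 + η^2*ω; 0, 1, 1 + η; 0, 0, 1] : Matrix (Fin 3) (Fin 3) F) := by
  unfold uM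
  simp only [map_add, map_mul, map_neg, map_one, map_pow, hση, hσω]
  rw [Matrix.mul_fin_three]
  exact mat3_ext
    (by ring)
    (by linear_combination ((-1)*η) * h2)
    (by linear_combination (η) * hη + (η + η^2) * h2)
    (by ring)
    (by ring)
    (by linear_combination ((-1)) * h2)
    (by ring)
    (by ring)
    (by ring)

theorem q8_K2 (η ω : F) (hη : η ^ 3 = η + 1) (hω : ω ^ 2 = ω + 1) (h2 : (2 : F) = 0) (σ : F →+* F) (hση : σ η = η) (hσω : σ ω = ω + 1) :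
    uM σ 1 (ω + η ^ 2) * vM σ (-((η + η ^ 2) * 1)) ((η + η ^ 2) * σ (η + η ^ 2) * σ (ω + η ^ 2)) =
      (!![1, η*ω + η^2 + η^2*ω, ω + η^2; 1 + η + η*ω + η^2, 1 + η + η^2, 1; 1 + η*ω, η + η^2, 1] : Matrix (Fin 3) (Fin 3) F) := by
  unfold uM vM
  simp only [map_add, map_mul, map_neg, map_one, map_pow, hση, hσω]
  rw [Matrix.mul_fin_three]
  exact mat3_ext
    (by linear_combination (8 + 8*ω + 2*ω^2 + 6*η + 5*η*ω + η*ω^2 + 5*η^2 + 4*η^2*ω + 3*η^3 + 2*η^3*ω + 2*η^4 + η^5) * hη + (2 + 3*η + 2*η^2) * hω + (5 + 5*ω + 8*η + 8*η*ω + 6*η^2 + 6*η^2*ω) * h2)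
    (by linear_combination (1 + η) * hη + (1 + η) * h2)
    (by ring)
    (by linear_combination ((-5) + (-2)*ω + (-3)*η + (-1)*η*ω + (-2)*η^2 + (-1)*η^3) * hη + ((-3) + (-1)*ω + (-5)*η + (-2)*η*ω + (-4)*η^2 + (-1)*η^2*ω) * h2)
    (by linear_combination ((-1)*η + (-1)*η^2) * h2)
    (by linear_combination ((-1)) * h2)
    (by linear_combination (5 + 2*ω + 3*η + η*ω + 2*η^2 + η^3) * hη + (2 + ω + 4*η + η*ω + 3*η^2 + η^2*ω) * h2)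
    (by ring)
    (by ring)

theorem q8_K2inv (η ω : F) (hη : η ^ 3 = η + 1) (hω : ω ^ 2 = ω + 1) (h2 : (2 : F) = 0) :
    (!![1, η*ω + η^2 + η^2*ω, ω + η^2; 1 + η + η*ω + η^2, 1 + η + η^2, 1; 1 + η*ω, η + η^2, 1] : Matrix (Fin 3) (Fin 3) F) * !![1, 1, 1 + ω + η^2; η + η^2, 1 + η + η^2, η + η*ω + η^2*ω; 1 + η + η*ω, 1 + η*ω + η^2, 1] =
      !![1, 0, 0; 0, 1, 0; 0, 0, 1] := by
  rw [Matrix.mul_fin_three]
  exact mat3_ext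
    (by linear_combination (2 + 3*ω + η + η*ω) * hη + (η) * hω + (1 + 2*ω + 2*η + 3*η*ω + η^2 + η^2*ω) * h2)
    (by linear_combination (1 + 3*ω + 2*η + η*ω) * hη + (η) * hω + (1 + 2*ω + 2*η + 3*η*ω + 2*η^2 + 2*η^2*ω) * h2)
    (by linear_combination (1 + 2*ω + 2*ω^2 + η*ω + η*ω^2) * hη + (2 + 3*η + 2*η^2) * hω + (2 + 3*ω + 2*η + 3*η*ω + 2*η^2 + 2*η^2*ω) * h2)
    (by linear_combination (2 + η) * hη + (2 + 3*η + η*ω + 2*η^2) * h2)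
    (by linear_combination (2 + η) * hη + (2 + 3*η + η*ω + 3*η^2) * h2)
    (by linear_combination (2 + 3*ω + η + η*ω) * hη + (η) * hω + (2 + 2*ω + 3*η + 4*η*ω + 2*η^2 + 2*η^2*ω) * h2)
    (by linear_combination (2 + η) * hη + (2 + 2*η + η*ω + η^2) * h2)
    (by linear_combination (2 + η) * hη + (2 + 2*η + η*ω + 2*η^2) * h2)
    (by linear_combination (1 + 3*ω + η*ω) * hη + (η) * hω + (1 + 2*ω + η + 3*η*ω + η^2 + η^2*ω) * h2)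

theorem q8_step1 (η ω : F) (hη : η ^ 3 = η + 1) (hω : ω ^ 2 = ω + 1) (h2 : (2 : F) = 0) :
    (!![1, η*ω + η^2 + η^2*ω, ω + η^2; 1 + η + η*ω + η^2, 1 + η + η^2, 1; 1 + η*ω, η + η^2, 1] : Matrix (Fin 3) (Fin 3) F) * !![1, 1 + η, ω + η^2 + η^2*ω; 0, 1, 1 + η; 0, 0, 1] =
      !![1, 1 + η + η*ω + η^2 + η^2*ω, 1 + ω + η + η^2 + η^2*ω; 1 + η + η*ω + η^2, 1 + η*ω + η^2 + η^2*ω, 1 + η + η^2*ω; 1 + η*ω, 1 + η*ω + η^2 + η^2*ω, 1 + ω + η*ω + η^2 + η^2*ω] := by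
  rw [Matrix.mul_fin_three]
  exact mat3_ext
    (by ring)
    (by ring)
    (by linear_combination (1 + ω) * hη + (ω + η*ω + η^2 + η^2*ω) * h2)
    (by ring)
    (by linear_combination (1) * hη + (1 + 2*η + η^2) * h2)
    (by linear_combination (2 + 2*ω + ω^2 + η + η*ω) * hη + (1 + 2*η) * hω + (2 + 2*ω + 3*η + 3*η*ω + 2*η^2 + η^2*ω) * h2)
    (by ring)
    (by linear_combination (η) * h2)
    (by linear_combination (1 + ω + ω^2) * hη + (1 + 2*η) * hω + (1 + ω + 2*η + η*ω + η^2) * h2)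

theorem q8_step2 (η ω : F) (hη : η ^ 3 = η + 1) (hω : ω ^ 2 = ω + 1) (h2 : (2 : F) = 0) :
    (!![1, 1 + η + η*ω + η^2 + η^2*ω, 1 + ω + η + η^2 + η^2*ω; 1 + η + η*ω + η^2, 1 + η*ω + η^2 + η^2*ω, 1 + η + η^2*ω; 1 + η*ω, 1 + η*ω + η^2 + η^2*ω, 1 + ω + η*ω + η^2 + η^2*ω] : Matrix (Fin 3) (Fin 3) F) * !![1, 1 + η, ω + η^2 + η^2*ω; 0, 1, 1 + η; 0, 0, 1] =
      !![1, η*ω + η^2 + η^2*ω, 1 + ω; 1 + η + η*ω + η^2, 1 + η + η^2, 1 + ω + η + η^2; 1 + η*ω, η + η^2, ω + η^2] := by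
  rw [Matrix.mul_fin_three]
  exact mat3_ext
    (by ring)
    (by linear_combination (1 + η) * h2)
    (by linear_combination (1 + ω) * hη + (1 + ω + 2*η + η*ω + 2*η^2 + 2*η^2*ω) * h2)
    (by ring)
    (by linear_combination (1) * hη + (1 + η + η*ω + η^2 + η^2*ω) * h2)
    (by linear_combination (2 + 3*ω + ω^2 + η + η*ω) * hη + (1 + 2*η) * hω + (2 + 2*ω + 3*η + 4*η*ω + η^2 + 3*η^2*ω) * h2)
    (by ring)
    (by linear_combination (1 + η*ω + η^2*ω) * h2)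
    (by linear_combination (1 + 2*ω + ω^2) * hη + (1 + 2*η) * hω + (2 + 2*ω + 2*η + 3*η*ω + η^2 + 2*η^2*ω) * h2)

theorem q8_step3 (η ω : F) (hη : η ^ 3 = η + 1) (hω : ω ^ 2 = ω + 1) (h2 : (2 : F) = 0) :
    (!![1, η*ω + η^2 + η^2*ω, 1 + ω; 1 + η + η*ω + η^2, 1 + η + η^2, 1 + ω + η + η^2; 1 + η*ω, η + η^2, ω + η^2] : Matrix (Fin 3) (Fin 3) F) * !![1, 1, 1 + ω + η^2; η + η^2, 1 + η + η^2, η + η*ω + η^2*ω; 1 + η + η*ω, 1 + η*ω + η^2, 1] =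
      !![1 + ω + η^2, 1 + ω + η + η^2, 1 + η^2; 1 + η + η*ω + η^2*ω, 0, ω + η + η^2; η + η^2, 1 + η*ω + η^2 + η^2*ω, ω + η^2] := by
  rw [Matrix.mul_fin_three]
  exact mat3_ext
    (by linear_combination (1 + 2*ω + η + η*ω) * hη + (η) * hω + (1 + ω + 2*η + 3*η*ω + η^2*ω) * h2)
    (by linear_combination (1 + 2*ω + η + η*ω) * hη + (η) * hω + (1 + ω + η + 3*η*ω + η^2 + 2*η^2*ω) * h2)
    (by linear_combination (1 + 2*ω + 2*ω^2 + η*ω + η*ω^2) * hη + (2 + 3*η + 2*η^2) * hω + (2 + 3*ω + 2*η + 3*η*ω + η^2 + 2*η^2*ω) * h2)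
    (by linear_combination (3 + ω + η) * hη + (η) * hω + (2 + ω + 4*η + 2*η*ω + 3*η^2) * h2)
    (by linear_combination (3 + ω + 2*η) * hη + (η) * hω + (3 + ω + 5*η + 2*η*ω + 4*η^2 + η^2*ω) * h2)
    (by linear_combination (2 + 3*ω + η + η*ω) * hη + (η) * hω + (2 + 2*ω + 3*η + 4*η*ω + 2*η^2 + 2*η^2*ω) * h2)
    (by linear_combination (3 + ω + η) * hη + (η) * hω + (2 + ω + 2*η + 2*η*ω + η^2) * h2)
    (by linear_combination (2 + ω + 2*η) * hη + (η) * hω + (1 + ω + 3*η + η*ω + 2*η^2) * h2)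
    (by linear_combination (1 + 3*ω + η*ω) * hη + (η) * hω + (1 + 2*ω + η + 3*η*ω + η^2 + η^2*ω) * h2)

theorem q8_step4 (η ω : F) (hη : η ^ 3 = η + 1) (hω : ω ^ 2 = ω + 1) (h2 : (2 : F) = 0) :
    (!![1 + ω + η^2, 1 + ω + η + η^2, 1 + η^2; 1 + η + η*ω + η^2*ω, 0, ω + η + η^2; η + η^2, 1 + η*ω + η^2 + η^2*ω, ω + η^2] : Matrix (Fin 3) (Fin 3) F) * !![1, 1, 1 + ω + η^2; η + η^2, 1 + η + η^2, η + η*ω + η^2*ω; 1 + η + η*ω, 1 + η*ω + η^2, 1] =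
      !![1 + η*ω + η^2 + η^2*ω, 1 + ω + η*ω + η^2*ω, ω; 0, η + η*ω + η^2*ω, ω + η*ω + η^2 + η^2*ω; 0, 0, ω + η^2] := by
  rw [Matrix.mul_fin_three]
  exact mat3_ext
    (by linear_combination (3 + ω + η) * hη + (2 + ω + 3*η + η*ω + 2*η^2) * h2)
    (by linear_combination (2 + ω + 2*η) * hη + (2 + ω + 3*η + η*ω + 4*η^2) * h2)
    (by linear_combination (1 + 2*ω + η + η*ω) * hη + (1 + η + η^2) * hω + (2 + 2*ω + 2*η + 3*η*ω + 3*η^2 + 3*η^2*ω) * h2)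
    (by linear_combination (1 + ω) * hη + (η) * hω + (1 + ω + 2*η + 2*η*ω + η^2 + η^2*ω) * h2)
    (by linear_combination (1 + ω + η) * hη + (η) * hω + (1 + ω + 2*η + η*ω + η^2 + η^2*ω) * h2)
    (by linear_combination (1 + ω + η*ω) * hη + (η + η^2) * hω + (1 + ω + 2*η + 2*η*ω + η^2 + η^2*ω) * h2)
    (by linear_combination (2 + 3*ω + η + η*ω) * hη + (η) * hω + (1 + 2*ω + 3*η + 3*η*ω + 2*η^2 + η^2*ω) * h2)
    (by linear_combination (1 + 3*ω + 2*η + η*ω) * hη + (η) * hω + (1 + 2*ω + 3*η + 3*η*ω + 3*η^2 + 2*η^2*ω) * h2)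
    (by linear_combination (2 + 2*ω + 2*ω^2 + η + η*ω + η*ω^2) * hη + (2 + 3*η + 2*η^2) * hω + (2 + 2*ω + 4*η + 4*η*ω + 2*η^2 + 3*η^2*ω) * h2)

theorem q8_word (η ω : F) (hη : η ^ 3 = η + 1) (hω : ω ^ 2 = ω + 1) (h2 : (2 : F) = 0) :
    (!![1, η*ω + η^2 + η^2*ω, ω + η^2; 1 + η + η*ω + η^2, 1 + η + η^2, 1; 1 + η*ω, η + η^2, 1] : Matrix (Fin 3) (Fin 3) F) * !![1, 1 + η, ω + η^2 + η^2*ω; 0, 1, 1 + η; 0, 0, 1] * !![1, 1 + η, ω + η^2 + η^2*ω; 0, 1, 1 + η; 0, 0, 1] * !![1, 1, 1 + ω + η^2; η + η^2, 1 + η + η^2, η + η*ω + η^2*ω; 1 + η + η*ω, 1 + η*ω + η^2, 1] * !![1, 1, 1 + ω + η^2; η + η^2, 1 + η + η^2, η + η*ω + η^2*ω; 1 + η + η*ω, 1 + η*ω + η^2, 1] =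
      !![1 + η*ω + η^2 + η^2*ω, 1 + ω + η*ω + η^2*ω, ω; 0, η + η*ω + η^2*ω, ω + η*ω + η^2 + η^2*ω; 0, 0, ω + η^2] := by
  rw [q8_step1 η ω hη hω h2, q8_step2 η ω hη hω h2, q8_step3 η ω hη hω h2, q8_step4 η ω hη hω h2]

section fin

variable [Fintype F]

/-- the local statement for `q = 8` -/
theorem local3_q8 (hF : Fintype.card F = 8 ^ 2) (σ : F →+* F) (hσq : ∀ x, σ x = x ^ 8)
    (hσ : ∀ x, σ (σ x) = x) : Local3 σ := by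
  obtain ⟨h2, η, ω, hη, hω⟩ := exists_gens64 (F := F) (by rw [hF]; norm_num)
  have hση : σ η = η := by
    rw [hσq]
    linear_combination (2 + η + η^2 + η^3 + η^5) * hη + (1 + η + η^2) * h2
  have hσω : σ ω = ω + 1 := by
    rw [hσq]
    linear_combination (13 + 8*ω + 5*ω^2 + 3*ω^3 + 2*ω^4 + ω^5 + ω^6) * hω + (6 + 10*ω) * h2
  have h1ne : (1 : F) ≠ 0 := one_ne_zero
  have hη0 : η ≠ 0 := by
    intro h
    apply h1ne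
    linear_combination (1 + η^2) * h + ((-1)) * hη + ((-1)*η) * h2
  have hν0 : (η + η ^ 2 : F) ≠ 0 := by
    intro h
    apply h1ne
    linear_combination (1 + η) * h + ((-1)) * hη + ((-1)*η + (-1)*η^2) * h2
  have hσν : σ (η + η ^ 2) = η + η ^ 2 := by
    rw [map_add, map_pow, hση]
  refine ⟨1, ω + η ^ 2, η, η + η ^ 2, one_ne_zero, ?_, hση, hη0, hν0, Or.inl hσν, ?_⟩
  · simp only [map_add, map_mul, map_neg, map_one, map_pow, hση, hσω]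
    linear_combination (1 + ω + η^2) * h2
  · intro K x₁ k₂ hx₁ hk₂ hx₁K hk₂K
    have hX1 : mat x₁ = !![1, 1 + η, ω + η^2 + η^2*ω; 0, 1, 1 + η; 0, 0, 1] := by
      rw [hx₁]; exact q8_X1 η ω hη hω h2 σ hση hσω
    have hK2 : mat k₂ = !![1, η*ω + η^2 + η^2*ω, ω + η^2; 1 + η + η*ω + η^2, 1 + η + η^2, 1; 1 + η*ω, η + η^2, 1] := by
      rw [hk₂]; exact q8_K2 η ω hη hω h2 σ hση hσω
    have hK2i : mat k₂⁻¹ = !![1, 1, 1 + ω + η^2; η + η^2, 1 + η + η^2, η + η*ω + η^2*ω; 1 + η + η*ω, 1 + η*ω + η^2, 1] := by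
      apply mat_inv_of_mul_eq_one
      rw [hK2, q8_K2inv η ω hη hω h2, Matrix.one_fin_three]
    have hsm : mat (k₂ * x₁ * x₁ * k₂⁻¹ * k₂⁻¹) =
        !![1 + η*ω + η^2 + η^2*ω, 1 + ω + η*ω + η^2*ω, ω; 0, η + η*ω + η^2*ω, ω + η*ω + η^2 + η^2*ω; 0, 0, ω + η^2] := by
      simp only [mat_mul]
      rw [hX1, hK2, hK2i]
      exact q8_word η ω hη hω h2
    have hx₁' : mat x₁ = uM σ (1 + -(η * 1)) ((ω + η ^ 2) + η ^ 2 * σ (ω + η ^ 2) - 1 * σ (-(η * 1))) := by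
      rw [hx₁, uM_mul]
    have ha' : (1 + -(η * 1) : F) ≠ 0 := by
      intro h
      apply h1ne
      linear_combination (η + η^2) * h + (1) * hη + (1) * h2
    refine SUJ_eq_top_of_data σ hσ hσq hF (by norm_num) K hx₁K hk₂K
      (K.mul_mem (K.mul_mem (K.mul_mem (K.mul_mem hk₂K hx₁K) hx₁K) (K.inv_mem hk₂K)) (K.inv_mem hk₂K)) hx₁' ha' ?_ ?_ ?_ ?_ ?_
    · rw [hK2]
      show (1 + η*ω : F) ≠ 0
      intro h
      apply h1ne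
      linear_combination (1 + ω + η + η*ω + η^2) * h + ((-1)*ω) * hη + ((-1)*η + (-1)*η^2) * hω + ((-1)*ω + (-1)*η + (-2)*η*ω + (-1)*η^2 + (-1)*η^2*ω) * h2
    · rw [hsm]; rfl
    · rw [hsm]; rfl
    · rw [hsm]; rfl
    · rw [hsm]
      have hν : (!![1 + η*ω + η^2 + η^2*ω, 1 + ω + η*ω + η^2*ω, ω; 0, η + η*ω + η^2*ω, ω + η*ω + η^2 + η^2*ω; 0, 0, ω + η^2] : Matrix (Fin 3) (Fin 3) F) 0 0 *
          σ ((!![1 + η*ω + η^2 + η^2*ω, 1 + ω + η*ω + η^2*ω, ω; 0, η + η*ω + η^2*ω, ω + η*ω + η^2 + η^2*ω; 0, 0, ω + η^2] : Matrix (Fin 3) (Fin 3) F) 1 1) = η^2*ω := by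
        show (1 + η*ω + η^2 + η^2*ω) * σ (η + η*ω + η^2*ω) = η^2*ω
        simp only [map_add, map_mul, map_neg, map_one, map_pow, hση, hσω]
        linear_combination (2 + 4*ω + 2*ω^2 + η + 2*η*ω + η*ω^2) * hη + (2 + 3*η + 2*η^2) * hω + (2 + 3*ω + 4*η + 5*η*ω + 2*η^2 + 3*η^2*ω) * h2
      rw [hν]
      apply closure_eq_top_64 (by rw [hF]; norm_num)
      · intro h
        apply h1ne
        linear_combination (1 + η + η^2) * h + ((-845) + (-1364)*ω + (-637)*η + (-1028)*η*ω + (-481)*η^2 + (-777)*η^2*ω + (-364)*η^3 + (-588)*η^3*ω + (-105)*η^4*ω^2 + (-168)*η^4*ω^3 + (-80)*η^5*ω^2 + (-128)*η^5*ω^3 + (-60)*η^6*ω^2 + (-96)*η^6*ω^3 + (-18)*η^7*ω^4 + (-27)*η^7*ω^5 + (-14)*η^8*ω^4 + (-21)*η^8*ω^5 + (-10)*η^9*ω^4 + (-15)*η^9*ω^5 + (-4)*η^10*ω^6 + (-4)*η^10*ω^7 + (-3)*η^11*ω^6 + (-3)*η^11*ω^7 + (-2)*η^12*ω^6 + (-2)*η^12*ω^7 + (-2)*η^13*ω^8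 + (-1)*η^14*ω^8 + (-1)*η^15*ω^8) * hη + ((-273)*η^4 + (-168)*η^4*ω + (-481)*η^5 + (-296)*η^5*ω + (-364)*η^6 + (-224)*η^6*ω + (-45)*η^7*ω^2 + (-27)*η^7*ω^3 + (-80)*η^8*ω^2 + (-48)*η^8*ω^3 + (-60)*η^9*ω^2 + (-36)*η^9*ω^3 + (-8)*η^10*ω^4 + (-4)*η^10*ω^5 + (-14)*η^11*ω^4 + (-7)*η^11*ω^5 + (-10)*η^12*ω^4 + (-5)*η^12*ω^5 + (-2)*η^13*ω^6 + (-3)*η^14*ω^6 + (-2)*η^15*ω^6) * hω + ((-422) + (-682)*ω + (-741)*η + (-1196)*η*ω + (-559)*η^2 + (-902)*η^2*ω) * h2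
      · intro h
        apply h1ne
        linear_combination (1 + ω + η + η*ω) * h + ((-20) + (-31)*ω + ω^2 + (-15)*η + (-24)*η*ω + (-4)*η^2*ω^2 + (-6)*η^2*ω^3 + (-4)*η^3*ω^2 + (-6)*η^3*ω^3 + (-2)*η^4*ω^2 + (-3)*η^4*ω^3 + (-1)*η^5*ω^4 + (-1)*η^5*ω^5 + (-1)*η^6*ω^4 + (-1)*η^6*ω^5) * hη + (1 + η + (-9)*η^2 + (-6)*η^2*ω + (-20)*η^3 + (-12)*η^3*ω + (-15)*η^4 + (-9)*η^4*ω + (-2)*η^5*ω^2 + (-1)*η^5*ω^3 + (-4)*η^6*ω^2 + (-2)*η^6*ω^3 + (-2)*η^7*ω^2 + (-1)*η^7*ω^3) * hω + ((-9) + (-15)*ω + (-17)*η + (-27)*η*ω + (-12)*η^2 + (-19)*η^2*ω) * h2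

end fin

end Cfsg.Agent.Lib.H16.Sun3
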