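/-
UP3-E3 (helper16), part a: the group `Rp` of invertible 4×4 matrices commuting up to sign with the four Pauli
generators `Z1, Z2, X1, X2`, and a criterion for membership in its normaliser.  Pure matrix algebra.
-/
import Mathlib

set_option autoImplicit false

namespace Cfsg.Agent.Lib.H16.UP3

open scoped Matrix MatrixGroups

variable {F : Type*} [Field F]

/-- sign-commutation of two matrices -/
def SC (g A : Matrix (Fin 4) (Fin 4) F) : Prop := g * A = A * g ∨ g * A = -(A * g)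

theorem SC.one_right (g : Matrix (Fin 4) (Fin 4) F) : SC g 1 := Or.inl (by rw [mul_one, one_mul])

theorem SC.one_left (A : Matrix (Fin 4) (Fin 4) F) : SC 1 A := Or.inl (by rw [mul_one, one_mul])

theorem SC.mul_left {g g' A : Matrix (Fin 4) (Fin 4) F} (h : SC g A) (h' : SC g' A) : SC (g * g') A := by
  rcases h with h | h <;> rcases h' with h' | h'
  · left; rw [mul_assoc, h', ← mul_assoc, h, mul_assoc]
  · right; rw [mul_assoc, h', mul_neg, ← mul_assoc, h, mul_assoc]
  · right; rw [mul_assoc, h', ← mul_assoc, h, neg_mul, mul_assoc]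
  · left; rw [mul_assoc, h', mul_neg, ← mul_assoc, h, neg_mul, neg_neg, mul_assoc]

theorem SC.mul_right {g A B : Matrix (Fin 4) (Fin 4) F} (h : SC g A) (h' : SC g B) : SC g (A * B) := by
  rcases h with h | h <;> rcases h' with h' | h'
  · left; rw [← mul_assoc, h, mul_assoc, h', ← mul_assoc]
  · right; rw [← mul_assoc, h, mul_assoc, h', mul_neg, ← mul_assoc]
  · right; rw [← mul_assoc, h, neg_mul, mul_assoc, h', ← mul_assoc]
  · left; rw [← mul_assoc, h, neg_mul, mul_assoc, h', mul_neg, neg_neg, ← mul_assoc]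

theorem SC.smul_right {g A : Matrix (Fin 4) (Fin 4) F} (c : F) (h : SC g A) : SC g (c • A) := by
  rcases h with h | h
  · left; rw [Matrix.mul_smul, h, Matrix.smul_mul]
  · right; rw [Matrix.mul_smul, h, Matrix.smul_mul, smul_neg]

theorem gl_inv_mul (g : GL (Fin 4) F) :
    ((g⁻¹ : GL (Fin 4) F) : Matrix (Fin 4) (Fin 4) F) * (g : Matrix (Fin 4) (Fin 4) F) = 1 := by
  rw [← Units.val_mul, inv_mul_cancel, Units.val_one]

theorem gl_mul_inv (g : GL (Fin 4) F) :
    (g : Matrix (Fin 4) (Fin 4) F) * ((g⁻¹ : GL (Fin 4) F) : Matrix (Fin 4) (Fin 4) F) = 1 := by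
  rw [← Units.val_mul, mul_inv_cancel, Units.val_one]

theorem SC.inv (g : GL (Fin 4) F) {A : Matrix (Fin 4) (Fin 4) F}
    (h : SC (g : Matrix (Fin 4) (Fin 4) F) A) :
    SC ((g⁻¹ : GL (Fin 4) F) : Matrix (Fin 4) (Fin 4) F) A := by
  have h1 := gl_inv_mul g
  have h2 := gl_mul_inv g
  generalize (g : Matrix (Fin 4) (Fin 4) F) = G at *
  generalize ((g⁻¹ : GL (Fin 4) F) : Matrix (Fin 4) (Fin 4) F) = Gi at *
  rcases h with h | h
  · left
    calc Gi * A = Gi * A * (G * Gi) := by rw [h2, mul_one]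
      _ = Gi * (A * G) * Gi := by simp only [mul_assoc]
      _ = Gi * (G * A) * Gi := by rw [h]
      _ = (Gi * G) * A * Gi := by simp only [mul_assoc]
      _ = A * Gi := by rw [h1, one_mul]
  · right
    have h' : A * G = -(G * A) := by rw [h, neg_neg]
    calc Gi * A = Gi * A * (G * Gi) := by rw [h2, mul_one]
      _ = Gi * (A * G) * Gi := by simp only [mul_assoc]
      _ = Gi * (-(G * A)) * Gi := by rw [h']
      _ = -((Gi * G) * A * Gi) := by simp only [mul_assoc, mul_neg, neg_mul]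
      _ = -(A * Gi) := by rw [h1, one_mul]

/-- if `A x = x B` and `g` sign-commutes with `B` then `x g x⁻¹` sign-commutes with `A` -/
theorem SC.conj (x g : GL (Fin 4) F) {A B : Matrix (Fin 4) (Fin 4) F}
    (hAB : A * (x : Matrix (Fin 4) (Fin 4) F) = (x : Matrix (Fin 4) (Fin 4) F) * B)
    (h : SC (g : Matrix (Fin 4) (Fin 4) F) B) :
    SC ((x * g * x⁻¹ : GL (Fin 4) F) : Matrix (Fin 4) (Fin 4) F) A := by
  have h1 := gl_inv_mul x
  have h2 := gl_mul_inv x
  rw [Units.val_mul, Units.val_mul]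
  generalize (g : Matrix (Fin 4) (Fin 4) F) = G at *
  generalize (x : Matrix (Fin 4) (Fin 4) F) = X at *
  generalize ((x⁻¹ : GL (Fin 4) F) : Matrix (Fin 4) (Fin 4) F) = Xi at *
  have h3 : Xi * A = B * Xi := by
    calc Xi * A = Xi * A * (X * Xi) := by rw [h2, mul_one]
      _ = Xi * (A * X) * Xi := by simp only [mul_assoc]
      _ = Xi * (X * B) * Xi := by rw [hAB]
      _ = (Xi * X) * B * Xi := by simp only [mul_assoc]
      _ = B * Xi := by rw [h1, one_mul]
  rcases h with h | h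
  · left
    calc X * G * Xi * A = X * G * (Xi * A) := by simp only [mul_assoc]
      _ = X * G * (B * Xi) := by rw [h3]
      _ = X * (G * B) * Xi := by simp only [mul_assoc]
      _ = X * (B * G) * Xi := by rw [h]
      _ = (X * B) * G * Xi := by simp only [mul_assoc]
      _ = (A * X) * G * Xi := by rw [hAB]
      _ = A * (X * G * Xi) := by simp only [mul_assoc]
  · right
    calc X * G * Xi * A = X * G * (Xi * A) := by simp only [mul_assoc]
      _ = X * G * (B * Xi) := by rw [h3]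
      _ = X * (G * B) * Xi := by simp only [mul_assoc]
      _ = X * (-(B * G)) * Xi := by rw [h]
      _ = -((X * B) * G * Xi) := by simp only [mul_assoc, mul_neg, neg_mul]
      _ = -((A * X) * G * Xi) := by rw [hAB]
      _ = -(A * (X * G * Xi)) := by simp only [mul_assoc]

/-! ### the Pauli generators -/

/-- the sign vector of `Z1` -/
def z1 : Fin 4 → F := ![1, -1, 1, -1]

/-- the sign vector of `Z2` -/
def z2 : Fin 4 → F := ![1, 1, -1, -1]

def Z1 : Matrix (Fin 4) (Fin 4) F := Matrix.diagonal z1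

def Z2 : Matrix (Fin 4) (Fin 4) F := Matrix.diagonal z2

/-- the permutation matrix `e_j ↦ e_{σ j}` -/
def pm (σ : Equiv.Perm (Fin 4)) : Matrix (Fin 4) (Fin 4) F := fun i j => if i = σ j then 1 else 0

theorem pm_apply (σ : Equiv.Perm (Fin 4)) (i j : Fin 4) :
    (pm σ : Matrix (Fin 4) (Fin 4) F) i j = if i = σ j then 1 else 0 := rfl

def s1 : Equiv.Perm (Fin 4) := Equiv.swap 0 1 * Equiv.swap 2 3

def s2 : Equiv.Perm (Fin 4) := Equiv.swap 0 2 * Equiv.swap 1 3

def X1 : Matrix (Fin 4) (Fin 4) F := pm s1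

def X2 : Matrix (Fin 4) (Fin 4) F := pm s2

theorem pm_mul (σ τ : Equiv.Perm (Fin 4)) :
    (pm (σ * τ) : Matrix (Fin 4) (Fin 4) F) = pm σ * pm τ := by
  ext i k
  rw [Matrix.mul_apply, Finset.sum_eq_single (τ k)]
  · rw [pm_apply, pm_apply, pm_apply, if_pos rfl, mul_one, Equiv.Perm.mul_apply]
  · intro j _ hj
    rw [pm_apply, pm_apply, if_neg hj, mul_zero]
  · intro h; exact absurd (Finset.mem_univ _) h

theorem pm_one : (pm 1 : Matrix (Fin 4) (Fin 4) F) = 1 := by
  ext i j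
  by_cases h : i = j
  · rw [pm_apply, Matrix.one_apply, Equiv.Perm.one_apply, if_pos h]
  · rw [pm_apply, Matrix.one_apply, Equiv.Perm.one_apply, if_neg h]

/-- conjugation by a permutation matrix is re-indexing -/
theorem mul_pm (A : Matrix (Fin 4) (Fin 4) F) (σ : Equiv.Perm (Fin 4)) :
    A * pm σ = pm σ * A.submatrix σ σ := by
  ext i k
  rw [Matrix.mul_apply, Matrix.mul_apply, Finset.sum_eq_single (σ k), Finset.sum_eq_single (σ.symm i)]
  · simp [pm_apply]
  · intro j _ hj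
    have : i ≠ σ j := fun h => hj (by rw [h]; simp)
    rw [pm_apply, if_neg this, zero_mul]
  · intro h; exact absurd (Finset.mem_univ _) h
  · intro j _ hj
    rw [pm_apply, if_neg hj, mul_zero]
  · intro h; exact absurd (Finset.mem_univ _) h

/-- the permutation matrix as an element of `GL` -/
def pmGL (σ : Equiv.Perm (Fin 4)) : GL (Fin 4) F :=
  ⟨pm σ, pm σ⁻¹, by rw [← pm_mul, mul_inv_cancel, pm_one], by rw [← pm_mul, inv_mul_cancel, pm_one]⟩

theorem pmGL_val (σ : Equiv.Perm (Fin 4)) :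
    ((pmGL σ : GL (Fin 4) F) : Matrix (Fin 4) (Fin 4) F) = pm σ := rfl

/-! ### the group `Rp` -/

/-- invertible matrices commuting up to sign with `Z1, Z2, X1, X2` (the Pauli group times the scalars) -/
def Rp : Subgroup (GL (Fin 4) F) where
  carrier := {g | SC (g : Matrix (Fin 4) (Fin 4) F) Z1 ∧ SC (g : Matrix (Fin 4) (Fin 4) F) Z2 ∧
    SC (g : Matrix (Fin 4) (Fin 4) F) X1 ∧ SC (g : Matrix (Fin 4) (Fin 4) F) X2}
  mul_mem' := by
    rintro a b ⟨a1, a2, a3, a4⟩ ⟨b1, b2, b3, b4⟩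
    refine ⟨?_, ?_, ?_, ?_⟩
    · show SC ((a * b : GL (Fin 4) F) : Matrix (Fin 4) (Fin 4) F) Z1
      rw [Units.val_mul]; exact a1.mul_left b1
    · show SC ((a * b : GL (Fin 4) F) : Matrix (Fin 4) (Fin 4) F) Z2
      rw [Units.val_mul]; exact a2.mul_left b2
    · show SC ((a * b : GL (Fin 4) F) : Matrix (Fin 4) (Fin 4) F) X1
      rw [Units.val_mul]; exact a3.mul_left b3
    · show SC ((a * b : GL (Fin 4) F) : Matrix (Fin 4) (Fin 4) F) X2
      rw [Units.val_mul]; exact a4.mul_left b4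
  one_mem' := ⟨SC.one_left _, SC.one_left _, SC.one_left _, SC.one_left _⟩
  inv_mem' := by
    rintro a ⟨a1, a2, a3, a4⟩
    exact ⟨SC.inv a a1, SC.inv a a2, SC.inv a a3, SC.inv a a4⟩

theorem mem_Rp (g : GL (Fin 4) F) :
    g ∈ (Rp : Subgroup (GL (Fin 4) F)) ↔ SC (g : Matrix (Fin 4) (Fin 4) F) Z1 ∧
      SC (g : Matrix (Fin 4) (Fin 4) F) Z2 ∧ SC (g : Matrix (Fin 4) (Fin 4) F) X1 ∧
      SC (g : Matrix (Fin 4) (Fin 4) F) X2 := Iff.rfl

/-- criterion for the normaliser -/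
theorem mem_normalizer_Rp [Finite F] (x : GL (Fin 4) F) (B1 B2 B3 B4 : Matrix (Fin 4) (Fin 4) F)
    (h1 : Z1 * (x : Matrix (Fin 4) (Fin 4) F) = (x : Matrix (Fin 4) (Fin 4) F) * B1)
    (h2 : Z2 * (x : Matrix (Fin 4) (Fin 4) F) = (x : Matrix (Fin 4) (Fin 4) F) * B2)
    (h3 : X1 * (x : Matrix (Fin 4) (Fin 4) F) = (x : Matrix (Fin 4) (Fin 4) F) * B3)
    (h4 : X2 * (x : Matrix (Fin 4) (Fin 4) F) = (x : Matrix (Fin 4) (Fin 4) F) * B4)
    (hB : ∀ g ∈ (Rp : Subgroup (GL (Fin 4) F)), SC (g : Matrix (Fin 4) (Fin 4) F) B1 ∧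
      SC (g : Matrix (Fin 4) (Fin 4) F) B2 ∧ SC (g : Matrix (Fin 4) (Fin 4) F) B3 ∧
      SC (g : Matrix (Fin 4) (Fin 4) F) B4) :
    x ∈ Subgroup.normalizer ((Rp : Subgroup (GL (Fin 4) F)) : Set (GL (Fin 4) F)) := by
  apply Subgroup.mem_normalizer_fintype
  intro g hg
  obtain ⟨b1, b2, b3, b4⟩ := hB g hg
  exact ⟨SC.conj x g h1 b1, SC.conj x g h2 b2, SC.conj x g h3 b3, SC.conj x g h4 b4⟩

end Cfsg.Agent.Lib.H16.UP3
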