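/-
UP3-E3 (helper16), part b: permutation matrices, diagonal matrices with entries in `μ₄` (product `± 1`) and the
Hadamard matrix normalise `Rp`; a transvection-like matrix which does not.
-/
import Cfsg.Agent.Lib.H16.UP3E3a

set_option autoImplicit false

namespace Cfsg.Agent.Lib.H16.UP3

open scoped Matrix MatrixGroups

variable {F : Type*} [Field F]

/-! ### evaluation of `s1`, `s2` -/

theorem s1_0 : s1 0 = 1 := by decide
theorem s1_1 : s1 1 = 0 := by decide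
theorem s1_2 : s1 2 = 3 := by decide
theorem s1_3 : s1 3 = 2 := by decide
theorem s2_0 : s2 0 = 2 := by decide
theorem s2_1 : s2 1 = 3 := by decide
theorem s2_2 : s2 2 = 0 := by decide
theorem s2_3 : s2 3 = 1 := by decide
theorem s1_symm : s1.symm = s1 := by decide
theorem s2_symm : s2.symm = s2 := by decide

theorem conj_s1 : ∀ σ : Equiv.Perm (Fin 4),
    σ⁻¹ * s1 * σ = s1 ∨ σ⁻¹ * s1 * σ = s2 ∨ σ⁻¹ * s1 * σ = s1 * s2 := by decide

theorem conj_s2 : ∀ σ : Equiv.Perm (Fin 4),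
    σ⁻¹ * s2 * σ = s1 ∨ σ⁻¹ * s2 * σ = s2 ∨ σ⁻¹ * s2 * σ = s1 * s2 := by decide

theorem z1_sq (j : Fin 4) : (z1 j : F) * z1 j = 1 := by fin_cases j <;> simp [z1]

theorem z2_sq (j : Fin 4) : (z2 j : F) * z2 j = 1 := by fin_cases j <;> simp [z2]

theorem z1_prod : (z1 0 : F) * z1 1 * z1 2 * z1 3 = 1 := by simp [z1]

theorem z2_prod : (z2 0 : F) * z2 1 * z2 2 * z2 3 = 1 := by simp [z2]

/-! ### diagonal matrices sign-commuting with `Rp` -/

theorem diag_one4 : (Matrix.diagonal ![(1 : F), 1, 1, 1] : Matrix (Fin 4) (Fin 4) F) = 1 := by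
  rw [← Matrix.diagonal_one]
  congr 1
  funext j
  fin_cases j <;> rfl

/-- even sign diagonal matrices -/
theorem SC_diag {g : GL (Fin 4) F} (hg : g ∈ (Rp : Subgroup (GL (Fin 4) F))) (w : Fin 4 → F)
    (hw : ∀ j, w j * w j = 1) (hp : w 0 * w 1 * w 2 * w 3 = 1) :
    SC (g : Matrix (Fin 4) (Fin 4) F) (Matrix.diagonal w) := by
  obtain ⟨g1, g2, -, -⟩ := hg
  have hA : ∀ a : F, a * a = 1 →
      SC (g : Matrix (Fin 4) (Fin 4) F) (Matrix.diagonal ![1, a, 1, a]) := by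
    intro a ha
    rcases mul_self_eq_one_iff.1 ha with rfl | rfl
    · rw [diag_one4]; exact SC.one_right _
    · exact g1
  have hB : ∀ b : F, b * b = 1 →
      SC (g : Matrix (Fin 4) (Fin 4) F) (Matrix.diagonal ![1, 1, b, b]) := by
    intro b hb
    rcases mul_self_eq_one_iff.1 hb with rfl | rfl
    · rw [diag_one4]; exact SC.one_right _
    · exact g2
  have h0 := hw 0
  have h1 := hw 1
  have h2 := hw 2
  have h3 := hw 3
  have e : Matrix.diagonal w = w 0 • (Matrix.diagonal ![1, w 0 * w 1, 1, w 0 * w 1] *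
      Matrix.diagonal ![1, 1, w 0 * w 2, w 0 * w 2]) := by
    rw [Matrix.diagonal_mul_diagonal, ← Matrix.diagonal_smul]
    congr 1
    funext j
    fin_cases j
    · simp
    · simp only [Pi.smul_apply, smul_eq_mul]
      show w 1 = w 0 * (w 0 * w 1 * 1)
      linear_combination (-w 1) * h0
    · simp only [Pi.smul_apply, smul_eq_mul]
      show w 2 = w 0 * (1 * (w 0 * w 2))
      linear_combination (-w 2) * h0
    · simp only [Pi.smul_apply, smul_eq_mul]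
      show w 3 = w 0 * (w 0 * w 1 * (w 0 * w 2))
      linear_combination (-w 3) * hp + (w 0 * w 1 * w 2) * h3 - (w 0 * w 1 * w 2) * h0
  rw [e]
  refine SC.smul_right _ ((hA _ ?_).mul_right (hB _ ?_))
  · linear_combination (w 1 * w 1) * h0 + h1
  · linear_combination (w 2 * w 2) * h0 + h2

/-- diagonal matrices with entries in `μ₄`, equal squares and product one -/
theorem SC_diag' {g : GL (Fin 4) F} (hg : g ∈ (Rp : Subgroup (GL (Fin 4) F))) (d : Fin 4 → F)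
    (h4 : ∀ j, d j ^ 4 = 1) (h2 : ∀ j, d j ^ 2 = d 0 ^ 2) (hp : d 0 * d 1 * d 2 * d 3 = 1) :
    SC (g : Matrix (Fin 4) (Fin 4) F) (Matrix.diagonal d) := by
  have e : Matrix.diagonal d = d 0 • Matrix.diagonal (fun j => d 0 ^ 3 * d j) := by
    rw [← Matrix.diagonal_smul]
    congr 1
    funext j
    simp only [Pi.smul_apply, smul_eq_mul]
    linear_combination (-d j) * h4 0
  rw [e]
  apply SC.smul_right
  apply SC_diag hg
  · intro j
    calc d 0 ^ 3 * d j * (d 0 ^ 3 * d j) = d 0 ^ 6 * d j ^ 2 := by ring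
      _ = d 0 ^ 6 * d 0 ^ 2 := by rw [h2 j]
      _ = (d 0 ^ 4) ^ 2 := by ring
      _ = 1 := by rw [h4 0]; ring
  · calc d 0 ^ 3 * d 0 * (d 0 ^ 3 * d 1) * (d 0 ^ 3 * d 2) * (d 0 ^ 3 * d 3)
        = (d 0 ^ 4) ^ 3 * (d 0 * d 1 * d 2 * d 3) := by ring
      _ = 1 := by rw [h4 0, hp]; ring

/-! ### permutation matrices normalise `Rp` -/

theorem pm_submatrix (s σ : Equiv.Perm (Fin 4)) :
    ((pm s : Matrix (Fin 4) (Fin 4) F).submatrix σ σ) = pm (σ⁻¹ * s * σ) := by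
  ext i j
  rw [Matrix.submatrix_apply, pm_apply, pm_apply, Equiv.Perm.mul_apply, Equiv.Perm.mul_apply]
  by_cases h : σ i = s (σ j)
  · rw [if_pos h, if_pos (Equiv.Perm.eq_inv_iff_eq.2 h)]
  · rw [if_neg h, if_neg (fun h' => h (Equiv.Perm.eq_inv_iff_eq.1 h'))]

theorem pmGL_mem_normalizer [Finite F] (σ : Equiv.Perm (Fin 4)) :
    (pmGL σ : GL (Fin 4) F) ∈
      Subgroup.normalizer ((Rp : Subgroup (GL (Fin 4) F)) : Set (GL (Fin 4) F)) := by
  apply mem_normalizer_Rp (pmGL σ) (Z1.submatrix σ σ) (Z2.submatrix σ σ) (X1.submatrix σ σ)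
    (X2.submatrix σ σ) (mul_pm _ _) (mul_pm _ _) (mul_pm _ _) (mul_pm _ _)
  intro g hg
  refine ⟨?_, ?_, ?_, ?_⟩
  · have e : (Z1 : Matrix (Fin 4) (Fin 4) F).submatrix σ σ = Matrix.diagonal (z1 ∘ σ) :=
      Matrix.submatrix_diagonal_equiv _ _
    rw [e]
    apply SC_diag hg
    · intro j; exact z1_sq (σ j)
    · have h := Equiv.prod_comp σ (z1 : Fin 4 → F)
      rw [Fin.prod_univ_four, Fin.prod_univ_four] at h
      simp only [Function.comp]
      rw [h]; exact z1_prod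
  · have e : (Z2 : Matrix (Fin 4) (Fin 4) F).submatrix σ σ = Matrix.diagonal (z2 ∘ σ) :=
      Matrix.submatrix_diagonal_equiv _ _
    rw [e]
    apply SC_diag hg
    · intro j; exact z2_sq (σ j)
    · have h := Equiv.prod_comp σ (z2 : Fin 4 → F)
      rw [Fin.prod_univ_four, Fin.prod_univ_four] at h
      simp only [Function.comp]
      rw [h]; exact z2_prod
  · have e : (X1 : Matrix (Fin 4) (Fin 4) F).submatrix σ σ = pm (σ⁻¹ * s1 * σ) := pm_submatrix s1 σ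
    rw [e]
    rcases conj_s1 σ with h | h | h <;> rw [h]
    · exact hg.2.2.1
    · exact hg.2.2.2
    · rw [pm_mul]; exact hg.2.2.1.mul_right hg.2.2.2
  · have e : (X2 : Matrix (Fin 4) (Fin 4) F).submatrix σ σ = pm (σ⁻¹ * s2 * σ) := pm_submatrix s2 σ
    rw [e]
    rcases conj_s2 σ with h | h | h <;> rw [h]
    · exact hg.2.2.1
    · exact hg.2.2.2
    · rw [pm_mul]; exact hg.2.2.1.mul_right hg.2.2.2

/-! ### diagonal matrices normalise `Rp` -/

/-- the diagonal matrix with entries in `μ₄` as an element of `GL` -/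
def dgGL (c : Fin 4 → F) (hc : ∀ j, c j ^ 4 = 1) : GL (Fin 4) F :=
  ⟨Matrix.diagonal c, Matrix.diagonal (fun j => c j ^ 3), by
    rw [Matrix.diagonal_mul_diagonal, ← Matrix.diagonal_one]
    congr 1
    funext j
    calc c j * c j ^ 3 = c j ^ 4 := by ring
      _ = 1 := hc j, by
    rw [Matrix.diagonal_mul_diagonal, ← Matrix.diagonal_one]
    congr 1
    funext j
    calc c j ^ 3 * c j = c j ^ 4 := by ring
      _ = 1 := hc j⟩

theorem dgGL_val (c : Fin 4 → F) (hc : ∀ j, c j ^ 4 = 1) :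
    ((dgGL c hc : GL (Fin 4) F) : Matrix (Fin 4) (Fin 4) F) = Matrix.diagonal c := rfl

theorem pm_mul_diagonal (s : Equiv.Perm (Fin 4)) (c : Fin 4 → F) (hc : ∀ j, c j ^ 4 = 1) :
    (pm s : Matrix (Fin 4) (Fin 4) F) * Matrix.diagonal c =
      Matrix.diagonal c * (Matrix.diagonal (fun i => c (s.symm i) * c i ^ 3) * pm s) := by
  ext i k
  rw [Matrix.mul_diagonal, Matrix.diagonal_mul, Matrix.diagonal_mul, pm_apply]
  by_cases h : i = s k
  · rw [if_pos h, one_mul, mul_one, h, Equiv.symm_apply_apply]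
    calc c k = c k * c (s k) ^ 4 := by rw [hc, mul_one]
      _ = c (s k) * (c k * c (s k) ^ 3) := by ring
  · rw [if_neg h, zero_mul, mul_zero, mul_zero]

theorem key_sq (a b c d : F) (ha : a ^ 4 = 1) (hb : b ^ 4 = 1)
    (hP : (a * b * c * d) ^ 2 = 1) : c ^ 2 * d ^ 2 = a ^ 2 * b ^ 2 := by
  linear_combination (a ^ 2 * b ^ 2) * hP - (c ^ 2 * d ^ 2) * (b ^ 4 * ha + hb)

theorem pow4_mul (c : Fin 4 → F) (hc : ∀ j, c j ^ 4 = 1) (a b : Fin 4) :
    (c a * c b ^ 3) ^ 4 = 1 := by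
  calc (c a * c b ^ 3) ^ 4 = c a ^ 4 * (c b ^ 4) ^ 3 := by ring
    _ = 1 := by rw [hc, hc]; ring

theorem dgGL_mem_normalizer [Finite F] (c : Fin 4 → F) (hc : ∀ j, c j ^ 4 = 1)
    (hP : (c 0 * c 1 * c 2 * c 3) ^ 2 = 1) :
    (dgGL c hc : GL (Fin 4) F) ∈
      Subgroup.normalizer ((Rp : Subgroup (GL (Fin 4) F)) : Set (GL (Fin 4) F)) := by
  have c0 := hc 0
  have c1 := hc 1
  have c2 := hc 2
  have c3 := hc 3
  apply mem_normalizer_Rp (dgGL c hc) Z1 Z2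
    (Matrix.diagonal (fun i => c (s1.symm i) * c i ^ 3) * X1)
    (Matrix.diagonal (fun i => c (s2.symm i) * c i ^ 3) * X2)
  · rw [dgGL_val, Z1, Matrix.diagonal_mul_diagonal, Matrix.diagonal_mul_diagonal]
    congr 1; funext j; exact mul_comm _ _
  · rw [dgGL_val, Z2, Matrix.diagonal_mul_diagonal, Matrix.diagonal_mul_diagonal]
    congr 1; funext j; exact mul_comm _ _
  · exact pm_mul_diagonal s1 c hc
  · exact pm_mul_diagonal s2 c hc
  · intro g hg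
    refine ⟨hg.1, hg.2.1, SC.mul_right (SC_diag' hg _ ?_ ?_ ?_) hg.2.2.1,
      SC.mul_right (SC_diag' hg _ ?_ ?_ ?_) hg.2.2.2⟩
    · intro j; exact pow4_mul c hc _ _
    · intro j
      rw [s1_symm]
      fin_cases j
      · rfl
      · show (c (s1 1) * c 1 ^ 3) ^ 2 = (c (s1 0) * c 0 ^ 3) ^ 2
        rw [s1_1, s1_0]
        linear_combination (c 0 ^ 2 * c 1 ^ 2) * c1 - (c 0 ^ 2 * c 1 ^ 2) * c0
      · show (c (s1 2) * c 2 ^ 3) ^ 2 = (c (s1 0) * c 0 ^ 3) ^ 2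
        rw [s1_2, s1_0]
        have k := key_sq (c 0) (c 1) (c 2) (c 3) c0 c1 hP
        linear_combination (c 2 ^ 2 * c 3 ^ 2) * c2 - (c 0 ^ 2 * c 1 ^ 2) * c0 + k
      · show (c (s1 3) * c 3 ^ 3) ^ 2 = (c (s1 0) * c 0 ^ 3) ^ 2
        rw [s1_3, s1_0]
        have k := key_sq (c 0) (c 1) (c 2) (c 3) c0 c1 hP
        linear_combination (c 2 ^ 2 * c 3 ^ 2) * c3 - (c 0 ^ 2 * c 1 ^ 2) * c0 + k
    · rw [s1_symm]
      show c (s1 0) * c 0 ^ 3 * (c (s1 1) * c 1 ^ 3) * (c (s1 2) * c 2 ^ 3) * (c (s1 3) * c 3 ^ 3) = 1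
      rw [s1_0, s1_1, s1_2, s1_3]
      calc c 1 * c 0 ^ 3 * (c 0 * c 1 ^ 3) * (c 3 * c 2 ^ 3) * (c 2 * c 3 ^ 3)
          = c 0 ^ 4 * c 1 ^ 4 * c 2 ^ 4 * c 3 ^ 4 := by ring
        _ = 1 := by rw [c0, c1, c2, c3]; ring
    · intro j; exact pow4_mul c hc _ _
    · intro j
      rw [s2_symm]
      have hP' : (c 0 * c 2 * c 1 * c 3) ^ 2 = 1 := by rw [← hP]; ring
      fin_cases j
      · rfl
      · show (c (s2 1) * c 1 ^ 3) ^ 2 = (c (s2 0) * c 0 ^ 3) ^ 2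
        rw [s2_1, s2_0]
        have k := key_sq (c 0) (c 2) (c 1) (c 3) c0 c2 hP'
        linear_combination (c 1 ^ 2 * c 3 ^ 2) * c1 - (c 0 ^ 2 * c 2 ^ 2) * c0 + k
      · show (c (s2 2) * c 2 ^ 3) ^ 2 = (c (s2 0) * c 0 ^ 3) ^ 2
        rw [s2_2, s2_0]
        linear_combination (c 0 ^ 2 * c 2 ^ 2) * c2 - (c 0 ^ 2 * c 2 ^ 2) * c0
      · show (c (s2 3) * c 3 ^ 3) ^ 2 = (c (s2 0) * c 0 ^ 3) ^ 2
        rw [s2_3, s2_0]
        have k := key_sq (c 0) (c 2) (c 1) (c 3) c0 c2 hP'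
        linear_combination (c 1 ^ 2 * c 3 ^ 2) * c3 - (c 0 ^ 2 * c 2 ^ 2) * c0 + k
    · rw [s2_symm]
      show c (s2 0) * c 0 ^ 3 * (c (s2 1) * c 1 ^ 3) * (c (s2 2) * c 2 ^ 3) * (c (s2 3) * c 3 ^ 3) = 1
      rw [s2_0, s2_1, s2_2, s2_3]
      calc c 2 * c 0 ^ 3 * (c 3 * c 1 ^ 3) * (c 0 * c 2 ^ 3) * (c 1 * c 3 ^ 3)
          = c 0 ^ 4 * c 1 ^ 4 * c 2 ^ 4 * c 3 ^ 4 := by ring
        _ = 1 := by rw [c0, c1, c2, c3]; ring

end Cfsg.Agent.Lib.H16.UP3
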