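/-
UP3-E3 (helper16), part c: the Hadamard matrix normalises `Rp`; a transvection which does not.
-/
import Cfsg.Agent.Lib.H16.UP3E3b

set_option autoImplicit false

namespace Cfsg.Agent.Lib.H16.UP3

open scoped Matrix MatrixGroups

variable {F : Type*} [Field F]

theorem Z1_eq : (Z1 : Matrix (Fin 4) (Fin 4) F) = !![1, 0, 0, 0; 0, -1, 0, 0; 0, 0, 1, 0; 0, 0, 0, -1] := by
  ext i j
  fin_cases i <;> fin_cases j <;> simp [Z1, z1]

theorem Z2_eq : (Z2 : Matrix (Fin 4) (Fin 4) F) = !![1, 0, 0, 0; 0, 1, 0, 0; 0, 0, -1, 0; 0, 0, 0, -1] := by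
  ext i j
  fin_cases i <;> fin_cases j <;> simp [Z2, z2]

theorem X1_eq : (X1 : Matrix (Fin 4) (Fin 4) F) = !![0, 1, 0, 0; 1, 0, 0, 0; 0, 0, 0, 1; 0, 0, 1, 0] := by
  ext i j
  fin_cases i <;> fin_cases j <;> simp [X1, pm_apply, s1_0, s1_1, s1_2, s1_3]

theorem X2_eq : (X2 : Matrix (Fin 4) (Fin 4) F) = !![0, 0, 1, 0; 0, 0, 0, 1; 1, 0, 0, 0; 0, 1, 0, 0] := by
  ext i j
  fin_cases i <;> fin_cases j <;> simp [X2, pm_apply, s2_0, s2_1, s2_2, s2_3]

/-- the Hadamard matrix -/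
def had : Matrix (Fin 4) (Fin 4) F := !![1, 1, 1, 1; 1, 1, -1, -1; 1, -1, -1, 1; 1, -1, 1, -1]

theorem had_mul_self (h3 : (3 : F) = 0) : (had : Matrix (Fin 4) (Fin 4) F) * had = 1 := by
  ext i j
  fin_cases i <;> fin_cases j <;>
    simp [had, Matrix.mul_apply, Fin.sum_univ_four] <;>
    linear_combination h3

theorem Z1_had : (Z1 : Matrix (Fin 4) (Fin 4) F) * had = had * (X1 * X2) := by
  rw [Z1_eq, X1_eq, X2_eq]
  ext i j
  fin_cases i <;> fin_cases j <;> simp [had, Matrix.mul_apply, Fin.sum_univ_four]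

theorem Z2_had : (Z2 : Matrix (Fin 4) (Fin 4) F) * had = had * X1 := by
  rw [Z2_eq, X1_eq]
  ext i j
  fin_cases i <;> fin_cases j <;> simp [had, Matrix.mul_apply, Fin.sum_univ_four]

theorem X1_had : (X1 : Matrix (Fin 4) (Fin 4) F) * had = had * Z2 := by
  rw [Z2_eq, X1_eq]
  ext i j
  fin_cases i <;> fin_cases j <;> simp [had, Matrix.mul_apply, Fin.sum_univ_four]

theorem X2_had : (X2 : Matrix (Fin 4) (Fin 4) F) * had = had * (Z1 * Z2) := by
  rw [Z1_eq, Z2_eq, X2_eq]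
  ext i j
  fin_cases i <;> fin_cases j <;> simp [had, Matrix.mul_apply, Fin.sum_univ_four]

/-- the Hadamard matrix as an element of `GL` (characteristic 3) -/
def hadGL (h3 : (3 : F) = 0) : GL (Fin 4) F := ⟨had, had, had_mul_self h3, had_mul_self h3⟩

theorem hadGL_val (h3 : (3 : F) = 0) :
    ((hadGL h3 : GL (Fin 4) F) : Matrix (Fin 4) (Fin 4) F) = had := rfl

theorem hadGL_mem_normalizer [Finite F] (h3 : (3 : F) = 0) :
    (hadGL h3 : GL (Fin 4) F) ∈
      Subgroup.normalizer ((Rp : Subgroup (GL (Fin 4) F)) : Set (GL (Fin 4) F)) := by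
  apply mem_normalizer_Rp (hadGL h3) (X1 * X2) X1 Z2 (Z1 * Z2) Z1_had Z2_had X1_had X2_had
  intro g hg
  exact ⟨hg.2.2.1.mul_right hg.2.2.2, hg.2.2.1, hg.2.1, hg.1.mul_right hg.2.1⟩

theorem had_det (h3 : (3 : F) = 0) : (had : Matrix (Fin 4) (Fin 4) F).det = 1 := by
  have h : (had : Matrix (Fin 4) (Fin 4) F).det = 16 := by
    unfold had
    rw [Matrix.det_succ_row_zero]
    simp [Fin.sum_univ_succ, Matrix.det_fin_three, Matrix.submatrix_apply, Fin.succAbove]
    norm_num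
  rw [h]
  linear_combination (5 : F) * h3

theorem had_transpose : (had : Matrix (Fin 4) (Fin 4) F)ᵀ = had := by
  ext i j
  fin_cases i <;> fin_cases j <;> simp [had, Matrix.transpose_apply]

theorem had_map (τ : F →+* F) : (had : Matrix (Fin 4) (Fin 4) F).map τ = had := by
  ext i j
  fin_cases i <;> fin_cases j <;> simp [had, Matrix.map_apply]

theorem had_mulVec_single : (had : Matrix (Fin 4) (Fin 4) F) *ᵥ Pi.single 0 1 = ![1, 1, 1, 1] := by
  rw [Matrix.mulVec_single_one]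
  funext i
  fin_cases i <;> simp [had]

/-! ### a transvection -/

/-- the transvection `1 + a v v^*`, `v = (1,1,1,0)` -/
def tmat (a : F) : Matrix (Fin 4) (Fin 4) F :=
  !![1 + a, a, a, 0; a, 1 + a, a, 0; a, a, 1 + a, 0; 0, 0, 0, 1]

theorem tmat_mul (a : F) (h3 : (3 : F) = 0) : tmat a * tmat (-a) = 1 := by
  ext i j
  fin_cases i <;> fin_cases j <;>
    simp [tmat, Matrix.mul_apply, Fin.sum_univ_four] <;>
    linear_combination (-(a * a)) * h3

/-- the transvection as an element of `GL` -/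
def tGL (a : F) (h3 : (3 : F) = 0) : GL (Fin 4) F :=
  ⟨tmat a, tmat (-a), tmat_mul a h3, by
    have h := tmat_mul (-a) h3
    rwa [neg_neg] at h⟩

theorem tGL_val (a : F) (h3 : (3 : F) = 0) :
    ((tGL a h3 : GL (Fin 4) F) : Matrix (Fin 4) (Fin 4) F) = tmat a := rfl

theorem tGL_inv_val (a : F) (h3 : (3 : F) = 0) :
    (((tGL a h3)⁻¹ : GL (Fin 4) F) : Matrix (Fin 4) (Fin 4) F) = tmat (-a) := rfl

theorem tmat_det (a : F) (h3 : (3 : F) = 0) : (tmat a).det = 1 := by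
  have h : (tmat a).det = 1 + 3 * a := by
    unfold tmat
    rw [Matrix.det_succ_row_zero]
    simp [Fin.sum_univ_succ, Matrix.det_fin_three, Matrix.submatrix_apply, Fin.succAbove]
    ring
  rw [h, h3]; ring

theorem tmat_transpose (a : F) : (tmat a)ᵀ = tmat a := by
  ext i j
  fin_cases i <;> fin_cases j <;> simp [tmat, Matrix.transpose_apply]

theorem tmat_map (τ : F →+* F) (a : F) : (tmat a).map τ = tmat (τ a) := by
  ext i j
  fin_cases i <;> fin_cases j <;> simp [tmat, Matrix.map_apply]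

/-- `Z1` as an element of `Rp` -/
theorem z1_pow4 (j : Fin 4) : (z1 j : F) ^ 4 = 1 := by
  have h := z1_sq (F := F) j
  calc (z1 j : F) ^ 4 = (z1 j * z1 j) ^ 2 := by ring
    _ = 1 := by rw [h]; ring

theorem Z1GL_mem : (dgGL (z1 : Fin 4 → F) z1_pow4 : GL (Fin 4) F) ∈ (Rp : Subgroup (GL (Fin 4) F)) := by
  refine ⟨Or.inl rfl, Or.inl ?_, Or.inr ?_, Or.inl ?_⟩
  · rw [dgGL_val, Z2, Matrix.diagonal_mul_diagonal, Matrix.diagonal_mul_diagonal]
    congr 1; funext j; exact mul_comm _ _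
  · show (Z1 : Matrix (Fin 4) (Fin 4) F) * X1 = -(X1 * Z1)
    rw [Z1_eq, X1_eq]
    ext i j
    fin_cases i <;> fin_cases j <;> simp [Matrix.mul_apply, Fin.sum_univ_four]
  · show (Z1 : Matrix (Fin 4) (Fin 4) F) * X2 = X2 * Z1
    rw [Z1_eq, X2_eq]
    ext i j
    fin_cases i <;> fin_cases j <;> simp [Matrix.mul_apply, Fin.sum_univ_four]

theorem tGL_not_mem_normalizer (a : F) (ha : a * a = -1) (h3 : (3 : F) = 0) :
    (tGL a h3 : GL (Fin 4) F) ∉
      Subgroup.normalizer ((Rp : Subgroup (GL (Fin 4) F)) : Set (GL (Fin 4) F)) := by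
  intro hmem
  have h1 := (Subgroup.mem_normalizer_iff.1 hmem (dgGL (z1 : Fin 4 → F) z1_pow4)).1 Z1GL_mem
  have h2 : SC ((tGL a h3 * dgGL (z1 : Fin 4 → F) z1_pow4 * (tGL a h3)⁻¹ : GL (Fin 4) F) :
      Matrix (Fin 4) (Fin 4) F) Z2 := h1.2.1
  rw [Units.val_mul, Units.val_mul, tGL_val, tGL_inv_val, dgGL_val] at h2
  have e00 : (tmat a * Matrix.diagonal z1 * tmat (-a) : Matrix (Fin 4) (Fin 4) F) 0 0 = 1 - a * a := by
    rw [Matrix.mul_apply, Fin.sum_univ_four]
    simp only [Matrix.mul_diagonal]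
    simp [tmat, z1]
    ring
  have e02 : (tmat a * Matrix.diagonal z1 * tmat (-a) : Matrix (Fin 4) (Fin 4) F) 0 2 = -(a * a) := by
    rw [Matrix.mul_apply, Fin.sum_univ_four]
    simp only [Matrix.mul_diagonal]
    simp [tmat, z1]
    ring
  have h10 : (1 : F) ≠ 0 := one_ne_zero
  rcases h2 with h | h
  · have h' := congrFun (congrFun h 0) 2
    rw [Z2, Matrix.mul_diagonal, Matrix.diagonal_mul, e02] at h'
    simp [z2] at h'
    apply h10
    linear_combination h3 - 2 * ha + h'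
  · have h' := congrFun (congrFun h 0) 0
    rw [Z2, Matrix.neg_apply, Matrix.mul_diagonal, Matrix.diagonal_mul, e00] at h'
    simp [z2] at h'
    apply h10
    linear_combination (-1 : F) * h3 + 2 * ha + h'

end Cfsg.Agent.Lib.H16.UP3
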