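/-
UP3-E3 (helper16), part d: the monomial subgroup `4^3 : S_4` of `SU_4(3)` is not maximal (it normalises `4 ∘ 2^{1+4}`).
-/
import Cfsg.Agent.Lib.H16.UP3E3c
import Cfsg.Agent.Lib.H23.UP2B2p
import Cfsg.Agent.Lib.H13.AutPSLGraphField

set_option autoImplicit false
set_option linter.unusedSectionVars false

namespace Cfsg.Agent.Lib.H16.UP3

open Cfsg Cfsg.Geo
open scoped Matrix MatrixGroups

variable {F : Type*} [Field F] [Fintype F] {q : ℕ}

/-- `x ↦ x ^ q` as a ring automorphism -/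
noncomputable def frobQ (hF : Fintype.card F = q ^ 2) : F ≃+* F :=
  RingEquiv.ofBijective
    ({ toFun := fun x => x ^ q
       map_one' := one_pow q
       map_mul' := fun x y => mul_pow x y q
       map_zero' := zero_pow (by have := Cfsg.Agent.Lib.H2.Herm.two_le_q hF; omega)
       map_add' := Cfsg.Agent.Lib.H2.Herm.add_pow_q hF } : F →+* F)
    ((Finite.injective_iff_bijective).1 (RingHom.injective _))

theorem frobQ_apply (hF : Fintype.card F = q ^ 2) (x : F) : frobQ hF x = x ^ q := rfl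

theorem three_eq_zero (hF : Fintype.card F = 3 ^ 2) : (3 : F) = 0 := by
  have h := Nat.cast_card_eq_zero F
  rw [hF] at h
  have h2 : (3 : F) ^ 2 = 0 := by exact_mod_cast h
  exact pow_eq_zero_iff (two_ne_zero) |>.1 h2

theorem exists_sq_neg_one (hF : Fintype.card F = 3 ^ 2) : ∃ a : F, a * a = -1 := by
  obtain ⟨a, ha0, ha⟩ := Cfsg.Agent.Lib.H23.UP2.exists_tr0 hF
  refine ⟨a, ?_⟩
  have h : a * (a * a + 1) = 0 := by linear_combination ha
  rcases mul_eq_zero.1 h with h | h
  · exact absurd h ha0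
  · linear_combination h

theorem mem_GU_iff_gram (hF : Fintype.card F = q ^ 2) (g : GL (Fin 4) F) :
    g ∈ GU 4 F q ↔
      (g : Matrix (Fin 4) (Fin 4) F)ᵀ * (g : Matrix (Fin 4) (Fin 4) F).map (frobQ hF) = 1 :=
  Cfsg.Agent.Lib.H13.AutPSL.mem_GU_iff_mat (frobQ hF) (frobQ_apply hF) g

theorem hadGL_mem_SU (hF : Fintype.card F = 3 ^ 2) :
    hadGL (three_eq_zero hF) ∈ GU 4 F 3 ⊓ specialLinear (Fin 4) F := by
  refine Subgroup.mem_inf.2 ⟨?_, ?_⟩
  · rw [mem_GU_iff_gram hF, hadGL_val, had_transpose]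
    have h := had_map (F := F) (frobQ hF : F ≃+* F).toRingHom
    have h' : (had : Matrix (Fin 4) (Fin 4) F).map (frobQ hF) = had := h
    rw [h', had_mul_self (three_eq_zero hF)]
  · rw [Cfsg.Agent.Lib.H28.mem_specialLinear_iff, hadGL_val, had_det (three_eq_zero hF)]

theorem tGL_mem_SU (hF : Fintype.card F = 3 ^ 2) (a : F) (ha : a * a = -1) :
    tGL a (three_eq_zero hF) ∈ GU 4 F 3 ⊓ specialLinear (Fin 4) F := by
  refine Subgroup.mem_inf.2 ⟨?_, ?_⟩
  · rw [mem_GU_iff_gram hF, tGL_val, tmat_transpose]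
    have h := tmat_map (F := F) (frobQ hF : F ≃+* F).toRingHom a
    have h' : (tmat a).map (frobQ hF) = tmat (frobQ hF a) := h
    have h3 : frobQ hF a = -a := by
      rw [frobQ_apply]
      linear_combination a * ha
    rw [h', h3, tmat_mul a (three_eq_zero hF)]
  · rw [Cfsg.Agent.Lib.H28.mem_specialLinear_iff, tGL_val, tmat_det a (three_eq_zero hF)]

/-! ### the standard frame -/

/-- the coordinate lines -/
def stdE (k : Fin 4) : Submodule F (Fin 4 → F) := Submodule.span F {(Pi.single k 1 : Fin 4 → F)}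

theorem herm_single (j : Fin 4) :
    hermForm 4 F 3 (Pi.single j 1 : Fin 4 → F) (Pi.single j 1) = 1 := by
  unfold hermForm
  rw [Finset.sum_eq_single j]
  · simp
  · intro b _ hb
    simp [hb]
  · intro h; exact absurd (Finset.mem_univ _) h

theorem det_pm (σ : Equiv.Perm (Fin 4)) :
    (pm σ : Matrix (Fin 4) (Fin 4) F).det = ((Equiv.Perm.sign σ.symm : ℤ) : F) := by
  have e : (pm σ : Matrix (Fin 4) (Fin 4) F) = (1 : Matrix (Fin 4) (Fin 4) F).submatrix σ.symm id := by
    ext i j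
    rw [Matrix.submatrix_apply, pm_apply, Matrix.one_apply, id]
    by_cases h : i = σ j
    · rw [if_pos h, if_pos (by rw [h]; simp)]
    · rw [if_neg h, if_neg (fun h' => h (by rw [← h']; simp))]
  rw [e, Matrix.det_permute, Matrix.det_one, mul_one]

/-- a unitary matrix of determinant one stabilising the standard frame normalises `Rp` -/
theorem stdStab_mem_normalizer (hF : Fintype.card F = 3 ^ 2) (g : GL (Fin 4) F)
    (hg : g ∈ decompositionStabilizer (stdE (F := F))) (hgU : g ∈ GU 4 F 3)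
    (hdet : (g : Matrix (Fin 4) (Fin 4) F).det = 1) :
    g ∈ Subgroup.normalizer ((Rp : Subgroup (GL (Fin 4) F)) : Set (GL (Fin 4) F)) := by
  obtain ⟨σ, hσ⟩ := hg
  have hcol : ∀ k, ∃ c : F, c • (Pi.single (σ k) 1 : Fin 4 → F) =
      (g : Matrix (Fin 4) (Fin 4) F) *ᵥ Pi.single k 1 := by
    intro k
    have h1 : (g : Matrix (Fin 4) (Fin 4) F) *ᵥ Pi.single k 1 ∈
        (stdE (F := F) k).map (Matrix.toLin' (g : Matrix (Fin 4) (Fin 4) F)) :=
      ⟨_, Submodule.mem_span_singleton_self _, Matrix.toLin'_apply _ _⟩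
    rw [hσ k] at h1
    exact Submodule.mem_span_singleton.1 h1
  choose c hc using hcol
  have hval : (g : Matrix (Fin 4) (Fin 4) F) = pm σ * Matrix.diagonal c := by
    ext i k
    rw [Matrix.mul_diagonal, pm_apply]
    have h1 := congrFun (hc k) i
    rw [Matrix.mulVec_single_one, Matrix.col_apply] at h1
    rw [← h1, Pi.smul_apply, smul_eq_mul, Pi.single_apply]
    by_cases h : i = σ k
    · rw [if_pos h, mul_one, one_mul]
    · rw [if_neg h, mul_zero, zero_mul]
  have hc4 : ∀ k, c k ^ 4 = 1 := by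
    intro k
    have h1 : hermForm 4 F 3 ((g : Matrix (Fin 4) (Fin 4) F) *ᵥ Pi.single k 1)
        ((g : Matrix (Fin 4) (Fin 4) F) *ᵥ Pi.single k 1) =
        hermForm 4 F 3 (Pi.single k 1 : Fin 4 → F) (Pi.single k 1) := hgU _ _
    rw [← hc k, Cfsg.Agent.Lib.H23.UP2.herm_smul_left, Cfsg.Agent.Lib.H23.UP2.herm_smul_right,
      herm_single, herm_single, mul_one] at h1
    rw [← h1]; ring
  have hprod : (c 0 * c 1 * c 2 * c 3) ^ 2 = 1 := by
    have h1 : (g : Matrix (Fin 4) (Fin 4) F).det = ((Equiv.Perm.sign σ.symm : ℤ) : F) * ∏ k, c k := by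
      rw [hval, Matrix.det_mul, det_pm, Matrix.det_diagonal]
    rw [hdet, Fin.prod_univ_four] at h1
    rcases Int.units_eq_one_or (Equiv.Perm.sign σ.symm) with hs | hs
    · rw [hs] at h1
      simp only [Units.val_one, Int.cast_one, one_mul] at h1
      rw [← h1]; ring
    · rw [hs] at h1
      simp only [Units.val_neg, Units.val_one, Int.cast_neg, Int.cast_one, neg_mul, one_mul] at h1
      have h2 : c 0 * c 1 * c 2 * c 3 = -1 := by linear_combination h1
      rw [h2]; ring
  have hg' : g = pmGL σ * dgGL c hc4 := by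
    apply Units.ext
    rw [Units.val_mul, pmGL_val, dgGL_val, hval]
  rw [hg']
  exact Subgroup.mul_mem _ (pmGL_mem_normalizer σ) (dgGL_mem_normalizer c hc4 hprod)

/-- the Hadamard matrix does not stabilise the standard frame -/
theorem hadGL_not_mem_stdStab (h3 : (3 : F) = 0) :
    hadGL h3 ∉ decompositionStabilizer (stdE (F := F)) := by
  rintro ⟨σ, hσ⟩
  have h1 : (had : Matrix (Fin 4) (Fin 4) F) *ᵥ Pi.single 0 1 ∈
      (stdE (F := F) 0).map (Matrix.toLin' ((hadGL h3 : GL (Fin 4) F) : Matrix (Fin 4) (Fin 4) F)) :=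
    ⟨_, Submodule.mem_span_singleton_self _, Matrix.toLin'_apply _ _⟩
  rw [hσ 0, had_mulVec_single] at h1
  obtain ⟨c, hc⟩ := Submodule.mem_span_singleton.1 h1
  obtain ⟨i, hi⟩ := exists_ne (σ 0)
  have h2 := congrFun hc i
  rw [Pi.smul_apply, Pi.single_apply, if_neg hi, smul_zero] at h2
  have h4 : (![1, 1, 1, 1] : Fin 4 → F) i = 1 := by fin_cases i <;> rfl
  rw [h4] at h2
  exact one_ne_zero h2.symm

end Cfsg.Agent.Lib.H16.UP3
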