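/-
UP3-E3 (helper16): the monomial subgroup `4^3 : S_4` of `SU_4(3)` is not maximal: it normalises `4 ∘ 2^{1+4}`
(the group `Rp` of matrices commuting up to sign with the Pauli generators), as does a Hadamard matrix, but not all of
`SU_4(3)`.  Exact signature of `tools/blueprints/UP3_sigs.lean`.
-/
import Cfsg.Agent.Lib.H16.UP3E3d

set_option autoImplicit false
set_option linter.unusedSectionVars false

namespace Cfsg.Agent.Lib.H16.UP3

open Cfsg Cfsg.Geo
open scoped Matrix MatrixGroups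

variable {F : Type*} [Field F] [Fintype F] {q : ℕ}

theorem exists_orthonormal (hF : Fintype.card F = q ^ 2) (D : Fin 4 → Submodule F (Fin 4 → F))
    (hD : IsNondegenerateMDecomposition (hermForm 4 F q) 1 D) :
    ∃ x : Fin 4 → (Fin 4 → F), (∀ i, x i ∈ D i) ∧ (∀ i, hermForm 4 F q (x i) (x i) = 1) ∧
      (∀ i j, i ≠ j → hermForm 4 F q (x i) (x j) = 0) := by
  obtain ⟨y, hy, hyy, hyo⟩ := Cfsg.Agent.Lib.H23.UP2.exists_frame D hD
  have hb : ∀ i, ∃ b : F, b * b ^ q = (hermForm 4 F q (y i) (y i))⁻¹ := by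
    intro i
    apply Cfsg.Agent.Lib.H23.UP2.exists_norm_eq hF
    rw [inv_pow, Cfsg.Agent.Lib.H23.UP2.herm_self_pow hF]
  choose b hb using hb
  refine ⟨fun i => b i • y i, fun i => (D i).smul_mem _ (hy i), fun i => ?_, fun i j hij => ?_⟩
  · rw [Cfsg.Agent.Lib.H23.UP2.herm_smul_left, Cfsg.Agent.Lib.H23.UP2.herm_smul_right, ← mul_assoc, hb,
      inv_mul_cancel₀ (hyy i)]
  · rw [Cfsg.Agent.Lib.H23.UP2.herm_smul_left, Cfsg.Agent.Lib.H23.UP2.herm_smul_right, hyo i j hij,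
      mul_zero, mul_zero]

/-- the matrix with columns `x k` -/
def frameMat (x : Fin 4 → (Fin 4 → F)) : Matrix (Fin 4) (Fin 4) F := Matrix.of fun j k => x k j

theorem frameMat_gram (hF : Fintype.card F = q ^ 2) (x : Fin 4 → (Fin 4 → F))
    (hxx : ∀ i, hermForm 4 F q (x i) (x i) = 1)
    (hxo : ∀ i j, i ≠ j → hermForm 4 F q (x i) (x j) = 0) :
    (frameMat x)ᵀ * (frameMat x).map (frobQ hF) = 1 := by
  ext k l
  have h : ((frameMat x)ᵀ * (frameMat x).map (frobQ hF)) k l = hermForm 4 F q (x k) (x l) := by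
    rw [Matrix.mul_apply]
    rfl
  rw [h, Matrix.one_apply]
  by_cases hkl : k = l
  · rw [if_pos hkl, hkl, hxx]
  · rw [if_neg hkl, hxo k l hkl]

theorem frameMat_gram' (hF : Fintype.card F = q ^ 2) (x : Fin 4 → (Fin 4 → F))
    (hxx : ∀ i, hermForm 4 F q (x i) (x i) = 1)
    (hxo : ∀ i j, i ≠ j → hermForm 4 F q (x i) (x j) = 0) :
    ((frameMat x).map (frobQ hF))ᵀ * frameMat x = 1 := by
  have h := congrArg Matrix.transpose (frameMat_gram hF x hxx hxo)
  rwa [Matrix.transpose_mul, Matrix.transpose_transpose, Matrix.transpose_one] at h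

/-- the frame matrix as an element of `GL` -/
noncomputable def frameGL (hF : Fintype.card F = q ^ 2) (x : Fin 4 → (Fin 4 → F))
    (hxx : ∀ i, hermForm 4 F q (x i) (x i) = 1)
    (hxo : ∀ i j, i ≠ j → hermForm 4 F q (x i) (x j) = 0) : GL (Fin 4) F :=
  ⟨frameMat x, ((frameMat x).map (frobQ hF))ᵀ,
    (mul_eq_one_comm).1 (frameMat_gram' hF x hxx hxo), frameMat_gram' hF x hxx hxo⟩

theorem frameGL_val (hF : Fintype.card F = q ^ 2) (x : Fin 4 → (Fin 4 → F))
    (hxx : ∀ i, hermForm 4 F q (x i) (x i) = 1)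
    (hxo : ∀ i j, i ≠ j → hermForm 4 F q (x i) (x j) = 0) :
    ((frameGL hF x hxx hxo : GL (Fin 4) F) : Matrix (Fin 4) (Fin 4) F) = frameMat x := rfl

theorem frameMat_mulVec_single (x : Fin 4 → (Fin 4 → F)) (k : Fin 4) :
    frameMat x *ᵥ Pi.single k 1 = x k := by
  rw [Matrix.mulVec_single_one]
  funext j
  rfl

/-- conjugating the stabiliser of a decomposition -/
theorem conj_mem_stab (X g : GL (Fin 4) F) (D E : Fin 4 → Submodule F (Fin 4 → F))
    (hDE : ∀ k, D k = (E k).map (Matrix.toLin' (X : Matrix (Fin 4) (Fin 4) F)))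
    (hg : g ∈ decompositionStabilizer D) : X⁻¹ * g * X ∈ decompositionStabilizer E := by
  obtain ⟨σ, hσ⟩ := hg
  refine ⟨σ, fun k => ?_⟩
  rw [Units.val_mul, Units.val_mul, Matrix.toLin'_mul, Matrix.toLin'_mul, Submodule.map_comp,
    Submodule.map_comp, ← hDE, hσ, hDE, ← Submodule.map_comp, ← Matrix.toLin'_mul, gl_inv_mul,
    Matrix.toLin'_one, Submodule.map_id]

/-- **UP3-E3**. -/
theorem c2_k1_q3_n4 (hF : Fintype.card F = q ^ 2) (hq : q = 3) (D : Fin 4 → Submodule F (Fin 4 → F))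
    (hD : IsNondegenerateMDecomposition (hermForm 4 F q) 1 D) :
    ¬ IsMaximalIn (GU 4 F q ⊓ specialLinear (Fin 4) F)
      (decompositionStabilizer D ⊓ (GU 4 F q ⊓ specialLinear (Fin 4) F)) := by
  subst hq
  intro hmax
  obtain ⟨x, hxD, hxx, hxo⟩ := exists_orthonormal hF D hD
  have h3 := three_eq_zero hF
  obtain ⟨a, ha⟩ := exists_sq_neg_one hF
  set X : GL (Fin 4) F := frameGL hF x hxx hxo with hX
  have hXU : X ∈ GU 4 F 3 := by
    rw [mem_GU_iff_gram hF, hX, frameGL_val]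
    exact frameMat_gram hF x hxx hxo
  have hx0 : ∀ k, x k ≠ 0 := by
    intro k h0
    have h1 := hxx k
    rw [h0] at h1
    unfold hermForm at h1
    simp at h1
  have hDE : ∀ k, D k = (stdE (F := F) k).map (Matrix.toLin' (X : Matrix (Fin 4) (Fin 4) F)) := by
    intro k
    unfold stdE
    rw [Submodule.map_span, Set.image_singleton, Matrix.toLin'_apply, hX, frameGL_val,
      frameMat_mulVec_single]
    symm
    apply Submodule.eq_of_le_of_finrank_eq
    · rw [Submodule.span_le, Set.singleton_subset_iff]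
      exact hxD k
    · rw [finrank_span_singleton (hx0 k), hD.decomp.finrank_eq k]
  -- conjugation by unitary matrices preserves `SU`
  have hconj : ∀ g : GL (Fin 4) F, g ∈ GU 4 F 3 ⊓ specialLinear (Fin 4) F → ∀ Y ∈ GU 4 F 3,
      Y * g * Y⁻¹ ∈ GU 4 F 3 ⊓ specialLinear (Fin 4) F := by
    intro g hg Y hY
    obtain ⟨hg1, hg2⟩ := Subgroup.mem_inf.1 hg
    refine Subgroup.mem_inf.2 ⟨(GU 4 F 3).mul_mem ((GU 4 F 3).mul_mem hY hg1) ((GU 4 F 3).inv_mem hY), ?_⟩
    rw [Cfsg.Agent.Lib.H28.mem_specialLinear_iff] at hg2 ⊢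
    rw [Units.val_mul, Units.val_mul, Matrix.det_mul, Matrix.det_mul, hg2, mul_one, ← Matrix.det_mul,
      gl_mul_inv, Matrix.det_one]
  set N : Subgroup (GL (Fin 4) F) :=
    Subgroup.normalizer ((Rp : Subgroup (GL (Fin 4) F)) : Set (GL (Fin 4) F)) with hN
  set M' : Subgroup (GL (Fin 4) F) :=
    (N ⊓ (GU 4 F 3 ⊓ specialLinear (Fin 4) F)).comap (MulAut.conj X⁻¹).toMonoidHom with hM'
  have hmem : ∀ g, g ∈ M' ↔ X⁻¹ * g * X ∈ N ⊓ (GU 4 F 3 ⊓ specialLinear (Fin 4) F) := by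
    intro g
    rw [hM', Subgroup.mem_comap]
    show (MulAut.conj X⁻¹) g ∈ _ ↔ _
    rw [MulAut.conj_apply, inv_inv]
  have hsu : ∀ g, g ∈ GU 4 F 3 ⊓ specialLinear (Fin 4) F →
      X⁻¹ * g * X ∈ GU 4 F 3 ⊓ specialLinear (Fin 4) F := by
    intro g hg
    have h := hconj g hg X⁻¹ ((GU 4 F 3).inv_mem hXU)
    rwa [inv_inv] at h
  have h1 : decompositionStabilizer D ⊓ (GU 4 F 3 ⊓ specialLinear (Fin 4) F) ≤ M' := by
    intro g hg
    obtain ⟨hgD, hgS⟩ := Subgroup.mem_inf.1 hg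
    have hS := hsu g hgS
    obtain ⟨hS1, hS2⟩ := Subgroup.mem_inf.1 hS
    rw [hmem]
    refine Subgroup.mem_inf.2 ⟨?_, hS⟩
    exact stdStab_mem_normalizer hF _ (conj_mem_stab X g D stdE hDE hgD) hS1
      ((Cfsg.Agent.Lib.H28.mem_specialLinear_iff _).1 hS2)
  have h2 : M' ≤ GU 4 F 3 ⊓ specialLinear (Fin 4) F := by
    intro g hg
    rw [hmem] at hg
    have h := hconj _ (Subgroup.mem_inf.1 hg).2 X hXU
    have e : X * (X⁻¹ * g * X) * X⁻¹ = g := by group
    rwa [e] at h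
  rcases hmax.2 M' h1 h2 with h | h
  · -- the Hadamard element
    have hh : X * hadGL h3 * X⁻¹ ∈ M' := by
      rw [hmem]
      have e : X⁻¹ * (X * hadGL h3 * X⁻¹) * X = hadGL h3 := by group
      rw [e]
      exact Subgroup.mem_inf.2 ⟨hadGL_mem_normalizer h3, hadGL_mem_SU hF⟩
    rw [h] at hh
    have h4 := conj_mem_stab X _ D stdE hDE (Subgroup.mem_inf.1 hh).1
    have e : X⁻¹ * (X * hadGL h3 * X⁻¹) * X = hadGL h3 := by group
    rw [e] at h4
    exact hadGL_not_mem_stdStab h3 h4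
  · -- the transvection
    have ht : X * tGL a h3 * X⁻¹ ∈ M' := by
      rw [h]
      exact hconj _ (tGL_mem_SU hF a ha) X hXU
    rw [hmem] at ht
    have e : X⁻¹ * (X * tGL a h3 * X⁻¹) * X = tGL a h3 := by group
    rw [e] at ht
    exact tGL_not_mem_normalizer a ha h3 (Subgroup.mem_inf.1 ht).1

end Cfsg.Agent.Lib.H16.UP3
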