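import Cfsg.Agent.Lib.H20.WeilDefs

/-!
# S2347 (Weil representation / minimal degree of `Sp_2n(q)`, `q` odd; architect helper20), piece WEIL-L2 (helper16):
the ORBIT LEMMA for symmetric matrices.

`F` a finite field of odd characteristic, `Y ≠ 0` a symmetric `n × n` matrix: the congruence orbit `{gᵀ Y g}` has at least
`(q^n - 1)/2` elements.  ONE double count of `T = {(Z, v) : Z ∈ orbit, v ⬝ᵥ Z v = c}` (`c = u ⬝ᵥ Y u ≠ 0`):
every `Z` has at most `2 q^(n-1)` vectors `v` (a quadratic equation in one coordinate), every `v ≠ 0` has at least `q^(n-1)` matrices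
`Z` (conjugate by the `1 + v φᵀ`, `φ ⬝ᵥ v = 0`).
-/

set_option autoImplicit false

namespace Cfsg.Agent.Lib.H16.Weil

open Matrix Cfsg.Agent.Lib.H12.LS2 Cfsg.Agent.Lib.H20.Weil

variable {F : Type*} [Field F] {n : ℕ}

/-- the quadratic form `v ↦ vᵀ Z v` of a matrix -/
def qf (Z : Matrix (Fin n) (Fin n) F) (v : Fin n → F) : F := v ⬝ᵥ Z *ᵥ v

theorem qf_conj (g Z : Matrix (Fin n) (Fin n) F) (v : Fin n → F) :
    qf (gᵀ * Z * g) v = qf Z (g *ᵥ v) := by
  unfold qf
  rw [← Matrix.mulVec_mulVec, ← Matrix.mulVec_mulVec, Matrix.dotProduct_mulVec, Matrix.vecMul_transpose]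

theorem rk_mulVec (a b v : Fin n → F) : (1 + vecMulVec a b) *ᵥ v = v + (b ⬝ᵥ v) • a := by
  rw [Matrix.add_mulVec, Matrix.one_mulVec]
  congr 1
  ext i
  simp only [mulVec, dotProduct, vecMulVec_apply, Pi.smul_apply, smul_eq_mul, Finset.sum_mul]
  apply Finset.sum_congr rfl
  intro j _
  ring

theorem rk_transpose (a b : Fin n → F) : (1 + vecMulVec a b)ᵀ = 1 + vecMulVec b a := by
  rw [Matrix.transpose_add, Matrix.transpose_one]
  congr 1
  ext i j
  rw [Matrix.transpose_apply, Matrix.vecMulVec_apply, Matrix.vecMulVec_apply, mul_comm]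

theorem rk_det (a b : Fin n → F) : (1 + vecMulVec a b).det = 1 + b ⬝ᵥ a := by
  rw [vecMulVec_eq Unit, det_one_add_replicateCol_mul_replicateRow]

/-- expansion of the quadratic form along a line -/
theorem qf_add_smul (Z : Matrix (Fin n) (Fin n) F) (x u : Fin n → F) (t : F) :
    qf Z (x + t • u) = qf Z x + t * (x ⬝ᵥ Z *ᵥ u + u ⬝ᵥ Z *ᵥ x) + t ^ 2 * qf Z u := by
  unfold qf
  rw [Matrix.mulVec_add, Matrix.mulVec_smul, add_dotProduct, dotProduct_add, dotProduct_add, smul_dotProduct,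
    smul_dotProduct, dotProduct_smul, dotProduct_smul]
  simp only [smul_eq_mul]
  ring

theorem exists_qf_ne (h2 : (2 : F) ≠ 0) (Y : Matrix (Fin n) (Fin n) F) (hYs : Yᵀ = Y) (hY : Y ≠ 0) :
    ∃ u : Fin n → F, qf Y u ≠ 0 := by
  by_cases h : ∃ i, Y i i ≠ 0
  · obtain ⟨i, hi⟩ := h
    refine ⟨Pi.single i 1, ?_⟩
    have e : qf Y (Pi.single i 1) = Y i i := by
      unfold qf
      simp
    rw [e]
    exact hi
  · push Not at h
    have h1 : ∃ i j, Y i j ≠ 0 := by
      by_contra hcon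
      push Not at hcon
      apply hY
      ext a b
      exact hcon a b
    obtain ⟨i, j, hij⟩ := h1
    refine ⟨Pi.single i 1 + Pi.single j 1, ?_⟩
    have e : qf Y (Pi.single i 1 + Pi.single j 1) = Y i i + Y i j + Y j i + Y j j := by
      unfold qf
      simp [Matrix.mulVec_add, add_dotProduct, dotProduct_add]
      ring
    have hji : Y j i = Y i j := by
      have := congrFun (congrFun hYs i) j
      rwa [Matrix.transpose_apply] at this
    rw [e, h i, h j, hji]
    intro h0
    have h3 : (2 : F) * Y i j = 0 := by linear_combination h0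
    rcases mul_eq_zero.1 h3 with h4 | h4
    · exact h2 h4
    · exact hij h4

theorem exists_functional (u v : Fin n → F) (hu : u ≠ 0) (hv : v ≠ 0) :
    ∃ φ : Fin n → F, φ ⬝ᵥ v ≠ 0 ∧ φ ⬝ᵥ u ≠ 0 := by
  obtain ⟨i, hi⟩ : ∃ i, v i ≠ 0 := by
    by_contra hcon
    push Not at hcon
    exact hv (funext hcon)
  obtain ⟨j, hj⟩ : ∃ j, u j ≠ 0 := by
    by_contra hcon
    push Not at hcon
    exact hu (funext hcon)
  by_cases hui : u i = 0
  · by_cases hvj : v j = 0
    · refine ⟨Pi.single i 1 + Pi.single j 1, ?_, ?_⟩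
      · simp [add_dotProduct, hvj, hi]
      · simp [add_dotProduct, hui, hj]
    · refine ⟨Pi.single j 1, ?_, ?_⟩
      · simp [hvj]
      · simp [hj]
  · refine ⟨Pi.single i 1, ?_, ?_⟩
    · simp [hi]
    · simp [hui]

/-- `GL_n` is transitive on non-zero vectors -/
theorem exists_gl_map (u v : Fin n → F) (hu : u ≠ 0) (hv : v ≠ 0) :
    ∃ h : GL (Fin n) F, h.1 *ᵥ v = u := by
  obtain ⟨φ, hφv, hφu⟩ := exists_functional u v hu hv
  have hdet : (1 + vecMulVec ((φ ⬝ᵥ v)⁻¹ • (u - v)) φ).det ≠ 0 := by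
    rw [rk_det, dotProduct_smul, dotProduct_sub, smul_eq_mul]
    have e : 1 + (φ ⬝ᵥ v)⁻¹ * (φ ⬝ᵥ u - φ ⬝ᵥ v) = (φ ⬝ᵥ v)⁻¹ * (φ ⬝ᵥ u) := by
      field_simp
      ring
    rw [e]
    exact mul_ne_zero (inv_ne_zero hφv) hφu
  refine ⟨Matrix.GeneralLinearGroup.mkOfDetNeZero _ hdet, ?_⟩
  show (1 + vecMulVec ((φ ⬝ᵥ v)⁻¹ • (u - v)) φ) *ᵥ v = u
  rw [rk_mulVec, smul_smul, mul_inv_cancel₀ hφv, one_smul]
  abel

/-- the functional `φ_w` with `φ_w ⬝ᵥ v = 0`, parametrised by its coordinates off `i` -/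
def phiOf {m : ℕ} (v : Fin (m + 1) → F) (i : Fin (m + 1)) (w : Fin m → F) : Fin (m + 1) → F :=
  Fin.insertNth i (-(∑ j, w j * v (i.succAbove j)) / v i) w

theorem phiOf_dot {m : ℕ} (v : Fin (m + 1) → F) (i : Fin (m + 1)) (hi : v i ≠ 0) (w : Fin m → F) :
    phiOf v i w ⬝ᵥ v = 0 := by
  unfold phiOf dotProduct
  rw [Fin.sum_univ_succAbove _ i]
  simp only [Fin.insertNth_apply_same, Fin.insertNth_apply_succAbove]
  rw [div_mul_cancel₀ _ hi]
  ring

theorem phiOf_injective {m : ℕ} (v : Fin (m + 1) → F) (i : Fin (m + 1)) :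
    Function.Injective (phiOf v i) := by
  intro w w' h
  funext j
  have h1 := congrFun h (i.succAbove j)
  unfold phiOf at h1
  rwa [Fin.insertNth_apply_succAbove, Fin.insertNth_apply_succAbove] at h1

/-- **lower bound for the fibres**: a set of matrices closed under `Z ↦ gᵀ Z g` (`det g = 1`) containing `Z0` with
`qf Z0 v ≠ 0` contains at least `q^m` matrices with the same value at `v`. -/
theorem card_fiber_ge [Fintype F] [DecidableEq F] {m : ℕ}
    (OS : Finset (Matrix (Fin (m + 1)) (Fin (m + 1)) F))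
    (hOS : ∀ Z ∈ OS, ∀ g : Matrix (Fin (m + 1)) (Fin (m + 1)) F, g.det = 1 → gᵀ * Z * g ∈ OS)
    (Z0 : Matrix (Fin (m + 1)) (Fin (m + 1)) F) (hZ0 : Z0 ∈ OS) (v : Fin (m + 1) → F)
    (hc : qf Z0 v ≠ 0) :
    Fintype.card F ^ m ≤ (OS.filter (fun Z => qf Z v = qf Z0 v)).card := by
  obtain ⟨i, hi⟩ : ∃ i, v i ≠ 0 := by
    by_contra hcon
    push Not at hcon
    apply hc
    have e : v = 0 := funext hcon
    rw [e]
    unfold qf
    simp
  let G : (Fin m → F) → Matrix (Fin (m + 1)) (Fin (m + 1)) F := fun w => 1 + vecMulVec v (phiOf v i w)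
  have hGdet : ∀ w, (G w).det = 1 := by
    intro w
    show (1 + vecMulVec v (phiOf v i w)).det = 1
    rw [rk_det, phiOf_dot v i hi, add_zero]
  have hGv : ∀ w, G w *ᵥ v = v := by
    intro w
    show (1 + vecMulVec v (phiOf v i w)) *ᵥ v = v
    rw [rk_mulVec, phiOf_dot v i hi, zero_smul, add_zero]
  have hZv : ∀ w, ((G w)ᵀ * Z0 * G w) *ᵥ v = Z0 *ᵥ v + qf Z0 v • phiOf v i w := by
    intro w
    rw [← Matrix.mulVec_mulVec, hGv, ← Matrix.mulVec_mulVec]
    show (1 + vecMulVec v (phiOf v i w))ᵀ *ᵥ (Z0 *ᵥ v) = _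
    rw [rk_transpose, rk_mulVec]
    rfl
  have h := Finset.card_le_card_of_injOn (s := (Finset.univ : Finset (Fin m → F)))
    (t := OS.filter (fun Z => qf Z v = qf Z0 v)) (fun w => (G w)ᵀ * Z0 * G w) ?_ ?_
  · rwa [Finset.card_univ, Fintype.card_fun, Fintype.card_fin] at h
  · intro w _
    rw [Finset.mem_coe, Finset.mem_filter]
    refine ⟨hOS Z0 hZ0 _ (hGdet w), ?_⟩
    rw [qf_conj, hGv]
  · intro w _ w' _ hww
    have h1 : ((G w)ᵀ * Z0 * G w) *ᵥ v = ((G w')ᵀ * Z0 * G w') *ᵥ v := by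
      have hww' : (G w)ᵀ * Z0 * G w = (G w')ᵀ * Z0 * G w' := hww
      rw [hww']
    rw [hZv, hZv] at h1
    have h2 : qf Z0 v • phiOf v i w = qf Z0 v • phiOf v i w' := add_left_cancel h1
    have h3 : phiOf v i w = phiOf v i w' := by
      funext k
      have h4 := congrFun h2 k
      simp only [Pi.smul_apply, smul_eq_mul] at h4
      exact mul_left_cancel₀ hc h4
    exact phiOf_injective v i h3

/-- **upper bound for the level sets**: if `qf Z u ≠ 0` then `qf Z v = c'` has at most `2 q^m` solutions `v`. -/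
theorem card_level_le [Fintype F] [DecidableEq F] {m : ℕ} (Z : Matrix (Fin (m + 1)) (Fin (m + 1)) F)
    (u : Fin (m + 1) → F) (hu : qf Z u ≠ 0) (c' : F) :
    (Finset.univ.filter (fun v : Fin (m + 1) → F => qf Z v = c')).card ≤ 2 * Fintype.card F ^ m := by
  obtain ⟨i, hi⟩ : ∃ i, u i ≠ 0 := by
    by_contra hcon
    push Not at hcon
    apply hu
    have e : u = 0 := funext hcon
    rw [e]
    unfold qf
    simp
  let f : (Fin (m + 1) → F) → (Fin m → F) :=
    fun v j => v (i.succAbove j) - (v i / u i) * u (i.succAbove j)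
  have key : ∀ a b : Fin (m + 1) → F, f a = f b → b = a + (b i / u i - a i / u i) • u := by
    intro a b hab
    funext k
    rcases Fin.eq_self_or_eq_succAbove i k with rfl | ⟨j, rfl⟩
    · simp only [Pi.add_apply, Pi.smul_apply, smul_eq_mul]
      field_simp
      ring
    · have h1 := congrFun hab j
      simp only [f] at h1
      simp only [Pi.add_apply, Pi.smul_apply, smul_eq_mul]
      linear_combination -h1
  have h := Finset.card_le_mul_card_image (f := f)
    (Finset.univ.filter (fun v : Fin (m + 1) → F => qf Z v = c')) 2 ?_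
  · refine le_trans h (Nat.mul_le_mul_left _ ?_)
    calc ((Finset.univ.filter (fun v : Fin (m + 1) → F => qf Z v = c')).image f).card
        ≤ (Finset.univ : Finset (Fin m → F)).card := Finset.card_le_univ _
      _ = Fintype.card F ^ m := by rw [Finset.card_univ, Fintype.card_fun, Fintype.card_fin]
  · intro w _
    by_contra hcon
    push Not at hcon
    rw [Finset.two_lt_card] at hcon
    obtain ⟨a, ha, b, hb, d, hd, hab, had, hbd⟩ := hcon
    simp only [Finset.mem_filter, Finset.mem_univ, true_and] at ha hb hd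
    have eb := key a b (ha.2.trans hb.2.symm)
    have ed := key a d (ha.2.trans hd.2.symm)
    have hsb : b i / u i - a i / u i ≠ 0 := by
      intro h0
      apply hab
      rw [eb, h0, zero_smul, add_zero]
    have hsd : d i / u i - a i / u i ≠ 0 := by
      intro h0
      apply had
      rw [ed, h0, zero_smul, add_zero]
    have hsbd : b i / u i - a i / u i ≠ d i / u i - a i / u i := by
      intro h0
      apply hbd
      rw [eb, ed, h0]
    have qb := qf_add_smul Z a u (b i / u i - a i / u i)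
    have qd := qf_add_smul Z a u (d i / u i - a i / u i)
    rw [← eb, hb.1, ha.1] at qb
    rw [← ed, hd.1, ha.1] at qd
    have e1 : (b i / u i - a i / u i) *
        ((a ⬝ᵥ Z *ᵥ u + u ⬝ᵥ Z *ᵥ a) + (b i / u i - a i / u i) * qf Z u) = 0 := by
      linear_combination -qb
    have e2 : (d i / u i - a i / u i) *
        ((a ⬝ᵥ Z *ᵥ u + u ⬝ᵥ Z *ᵥ a) + (d i / u i - a i / u i) * qf Z u) = 0 := by
      linear_combination -qd
    have e3 := (mul_eq_zero.1 e1).resolve_left hsb
    have e4 := (mul_eq_zero.1 e2).resolve_left hsd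
    have e5 : ((b i / u i - a i / u i) - (d i / u i - a i / u i)) * qf Z u = 0 := by
      linear_combination e3 - e4
    rcases mul_eq_zero.1 e5 with h6 | h6
    · exact hsbd (sub_eq_zero.1 h6)
    · exact hu h6

variable [Fintype F]

/-- **WEIL-L2**: the congruence orbit of a non-zero symmetric matrix has at least `(q^n - 1)/2` elements. -/
theorem symm_orbit_card_ge (h2 : (2 : F) ≠ 0) (n : ℕ) (Y : Symm n F) (hY : Y ≠ 0) :
    Fintype.card F ^ n - 1 ≤ 2 * Nat.card {Z : Symm n F // ∃ g : GL (Fin n) F,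
      (Z : Matrix (Fin n) (Fin n) F) = g.1ᵀ * (Y : Matrix (Fin n) (Fin n) F) * g.1} := by
  classical
  cases n with
  | zero => simp
  | succ m =>
    set Ym : Matrix (Fin (m + 1)) (Fin (m + 1)) F := Y.1 with hYm
    have hYs : Ymᵀ = Ym := Y.2
    have hYm0 : Ym ≠ 0 := by
      intro h0
      apply hY
      exact Subtype.ext h0
    obtain ⟨u, hu⟩ := exists_qf_ne h2 Ym hYs hYm0
    have hu0 : u ≠ 0 := by
      rintro rfl
      apply hu
      unfold qf
      simp
    let OS : Finset (Matrix (Fin (m + 1)) (Fin (m + 1)) F) :=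
      Finset.univ.filter (fun Z => ∃ g : GL (Fin (m + 1)) F, Z = g.1ᵀ * Ym * g.1)
    have hOSmem : ∀ Z, Z ∈ OS ↔ ∃ g : GL (Fin (m + 1)) F, Z = g.1ᵀ * Ym * g.1 := by
      intro Z
      simp [OS]
    have hOS : ∀ Z ∈ OS, ∀ g : Matrix (Fin (m + 1)) (Fin (m + 1)) F, g.det = 1 → gᵀ * Z * g ∈ OS := by
      intro Z hZ g hg
      rw [hOSmem] at hZ ⊢
      obtain ⟨k, rfl⟩ := hZ
      have hdet : g.det ≠ 0 := by
        rw [hg]
        exact one_ne_zero
      refine ⟨k * Matrix.GeneralLinearGroup.mkOfDetNeZero g hdet, ?_⟩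
      show gᵀ * (k.1ᵀ * Ym * k.1) * g = (k.1 * g)ᵀ * Ym * (k.1 * g)
      rw [Matrix.transpose_mul]
      simp only [Matrix.mul_assoc]
    have hcard : OS.card ≤ Nat.card {Z : Symm (m + 1) F // ∃ g : GL (Fin (m + 1)) F,
        (Z : Matrix (Fin (m + 1)) (Fin (m + 1)) F) =
          g.1ᵀ * (Y : Matrix (Fin (m + 1)) (Fin (m + 1)) F) * g.1} := by
      rw [← Fintype.card_coe OS, ← Nat.card_eq_fintype_card]
      refine Nat.card_le_card_of_injective (fun Z => ⟨⟨Z.1, ?_⟩, ?_⟩) ?_
      · obtain ⟨g, hg⟩ := (hOSmem Z.1).1 Z.2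
        rw [mem_Symm, hg, Matrix.transpose_mul, Matrix.transpose_mul, Matrix.transpose_transpose, hYs,
          Matrix.mul_assoc]
      · exact (hOSmem Z.1).1 Z.2
      · intro Z Z' h
        apply Subtype.ext
        have h1 := congrArg (fun W => ((W.1 : Symm (m + 1) F) : Matrix (Fin (m + 1)) (Fin (m + 1)) F)) h
        exact h1
    have hqpos : 0 < Fintype.card F ^ m := pow_pos Fintype.card_pos m
    have hdc := Finset.sum_card_bipartiteAbove_eq_sum_card_bipartiteBelow
      (s := OS) (t := (Finset.univ : Finset (Fin (m + 1) → F))) (fun Z v => qf Z v = qf Ym u)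
    have hL : ∑ Z ∈ OS, (Finset.bipartiteAbove (fun Z v => qf Z v = qf Ym u)
        (Finset.univ : Finset (Fin (m + 1) → F)) Z).card ≤ OS.card * (2 * Fintype.card F ^ m) := by
      rw [← smul_eq_mul]
      apply Finset.sum_le_card_nsmul
      intro Z hZ
      obtain ⟨g, rfl⟩ := (hOSmem Z).1 hZ
      have hne : qf (g.1ᵀ * Ym * g.1) ((g⁻¹).1 *ᵥ u) ≠ 0 := by
        rw [qf_conj, Matrix.mulVec_mulVec, Units.mul_inv, Matrix.one_mulVec]
        exact hu
      exact card_level_le (g.1ᵀ * Ym * g.1) ((g⁻¹).1 *ᵥ u) hne (qf Ym u)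
    have hR : (Fintype.card F ^ (m + 1) - 1) * Fintype.card F ^ m ≤
        ∑ v ∈ (Finset.univ : Finset (Fin (m + 1) → F)),
          (Finset.bipartiteBelow (fun Z v => qf Z v = qf Ym u) OS v).card := by
      have hne : ((Finset.univ : Finset (Fin (m + 1) → F)).filter (fun v => v ≠ 0)).card =
          Fintype.card F ^ (m + 1) - 1 := by
        rw [Finset.filter_ne', Finset.card_erase_of_mem (Finset.mem_univ _), Finset.card_univ, Fintype.card_fun,
          Fintype.card_fin]
      calc (Fintype.card F ^ (m + 1) - 1) * Fintype.card F ^ m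
          = ∑ v ∈ (Finset.univ : Finset (Fin (m + 1) → F)).filter (fun v => v ≠ 0), Fintype.card F ^ m := by
            rw [Finset.sum_const, hne, smul_eq_mul]
        _ ≤ ∑ v ∈ (Finset.univ : Finset (Fin (m + 1) → F)).filter (fun v => v ≠ 0),
              (Finset.bipartiteBelow (fun Z v => qf Z v = qf Ym u) OS v).card := by
            apply Finset.sum_le_sum
            intro v hv
            have hv0 : v ≠ 0 := (Finset.mem_filter.1 hv).2
            obtain ⟨h, hh⟩ := exists_gl_map u v hu0 hv0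
            have hZ0 : h.1ᵀ * Ym * h.1 ∈ OS := (hOSmem _).2 ⟨h, rfl⟩
            have hq0 : qf (h.1ᵀ * Ym * h.1) v = qf Ym u := by rw [qf_conj, hh]
            have h3 := card_fiber_ge OS hOS _ hZ0 v (by rw [hq0]; exact hu)
            rw [hq0] at h3
            exact h3
        _ ≤ _ := Finset.sum_le_sum_of_subset (Finset.filter_subset _ _)
    have hfin : (Fintype.card F ^ (m + 1) - 1) * Fintype.card F ^ m ≤
        (2 * OS.card) * Fintype.card F ^ m := by
      calc (Fintype.card F ^ (m + 1) - 1) * Fintype.card F ^ m ≤ _ := hR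
        _ = _ := hdc.symm
        _ ≤ OS.card * (2 * Fintype.card F ^ m) := hL
        _ = (2 * OS.card) * Fintype.card F ^ m := by ring
    have h5 := Nat.le_of_mul_le_mul_right hfin hqpos
    exact le_trans h5 (Nat.mul_le_mul_left 2 hcard)

end Cfsg.Agent.Lib.H16.Weil
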