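import Mathlib
import Cfsg.Agent.Lib.H4.NF.AbCyc
import Cfsg.Agent.Lib.H4.NF.NormalQuat
import Cfsg.Agent.S0684

/-!
# Minimal non-abelian normal subgroups of regular linear groups (helper16)

Group-theoretic core of S0686: in a finite group all of whose abelian subgroups are cyclic, a
normal subgroup `N` centralising a maximal normal abelian subgroup `A` and minimal among the
non-abelian normal subgroups is perfect or quaternion of order `8`.
-/

set_option autoImplicit false

namespace Cfsg.Agent.Lib.H16.Zas686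

open Subgroup Cfsg.Agent.Lib.H4.NF

section abstract

variable {H : Type*} [Group H]

/-- a normal abelian subgroup of `H` inside `N ≤ C_H(A)` lies in the maximal normal abelian `A` -/
theorem le_of_normal_comm (A : Subgroup H) (hAn : A.Normal)
    (hAmax : ∀ B : Subgroup H, B.Normal → IsMulCommutative B → A ≤ B → B = A)
    (N : Subgroup H) (hNle : N ≤ centralizer (A : Set H))
    (M : Subgroup H) (hMn : M.Normal) (hMN : M ≤ N) (hMc : IsMulCommutative M)
    (hAc : IsMulCommutative A) : M ≤ A := by
  have hsup : IsMulCommutative (M ⊔ A : Subgroup H) := by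
    rw [← closure_eq M, ← closure_eq A, ← Subgroup.closure_union]
    apply closure_isMulCommutative
    rintro a (ha | ha) b (hb | hb)
    · have := hMc.is_comm.comm ⟨a, ha⟩ ⟨b, hb⟩
      exact congrArg Subtype.val this
    · exact ((mem_centralizer_iff.mp (hNle (hMN ha))) b hb).symm
    · exact (mem_centralizer_iff.mp (hNle (hMN hb))) a ha
    · have := hAc.is_comm.comm ⟨a, ha⟩ ⟨b, hb⟩
      exact congrArg Subtype.val this
  have hn : (M ⊔ A : Subgroup H).Normal := Subgroup.sup_normal M A
  have := hAmax (M ⊔ A) hn hsup le_sup_right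
  rw [← this]
  exact le_sup_left

theorem map_commutator_subtype (N : Subgroup H) :
    (_root_.commutator ↥N).map N.subtype = ⁅N, N⁆ := by
  rw [_root_.commutator_def, Subgroup.map_commutator, ← MonoidHom.range_eq_map, Subgroup.range_subtype]

variable [Finite H]

/-- the dichotomy: `N` is perfect or quaternion of order `8` -/
theorem perfect_or_Q8 (hAb : AbCyc H)
    (A : Subgroup H) (hAn : A.Normal) (hAc : IsMulCommutative A)
    (hAmax : ∀ B : Subgroup H, B.Normal → IsMulCommutative B → A ≤ B → B = A)
    (N : Subgroup H) (hNn : N.Normal) (hNle : N ≤ centralizer (A : Set H))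
    (hNna : ¬ IsMulCommutative N)
    (hNmin : ∀ M : Subgroup H, M.Normal → M ≤ N → ¬ IsMulCommutative M → M = N) :
    _root_.commutator ↥N = ⊤ ∨ Nonempty (↥N ≃* QuaternionGroup 2) := by
  classical
  by_cases hperf : ⁅N, N⁆ = N
  · left
    have h1 := map_commutator_subtype N
    rw [hperf] at h1
    have h2 : (⊤ : Subgroup ↥N).map N.subtype = N := by
      rw [← MonoidHom.range_eq_map, Subgroup.range_subtype]
    exact Subgroup.map_injective N.subtype_injective (h1.trans h2.symm)
  right
  -- the commutator subgroup is a proper normal subgroup, hence abelian, hence inside `A`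
  have hCn : (⁅N, N⁆ : Subgroup H).Normal := Subgroup.commutator_normal N N
  have hCN : ⁅N, N⁆ ≤ N := Subgroup.commutator_le_left N N
  have hCc : IsMulCommutative (⁅N, N⁆ : Subgroup H) := by
    by_contra hnc
    exact hperf (hNmin _ hCn hCN hnc)
  have hCA : ⁅N, N⁆ ≤ A := le_of_normal_comm A hAn hAmax N hNle _ hCn hCN hCc hAc
  -- class two
  have hcl : _root_.commutator ↥N ≤ center ↥N := by
    intro x hx
    rw [mem_center_iff]
    intro n
    apply Subtype.ext
    have hxA : (x : H) ∈ A := by
      apply hCA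
      rw [← map_commutator_subtype N]
      exact Subgroup.mem_map_of_mem _ hx
    have := (mem_centralizer_iff.mp (hNle n.2)) (x : H) hxA
    simpa using this.symm
  have hnil : Group.IsNilpotent ↥N := by
    have h1 : IsMulCommutative (↥N ⧸ center ↥N) :=
      Subgroup.Normal.quotient_commutative_iff_commutator_le.mpr hcl
    let _ : CommGroup (↥N ⧸ center ↥N) :=
      { (inferInstance : Group (↥N ⧸ center ↥N)) with mul_comm := h1.is_comm.comm }
    exact Group.of_quotient_center_nilpotent inferInstance
  have hsyl : ∀ (q : ℕ) (_hq : Fact q.Prime) (P : Sylow q ↥N), (↑P : Subgroup ↥N).Normal :=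
    (Group.isNilpotent_of_finite_tfae.out 0 3 rfl rfl).mp hnil
  -- some Sylow subgroup is non-abelian
  have hex : ∃ (q : ℕ) (_hq : Fact q.Prime) (P : Sylow q ↥N), ¬ IsMulCommutative (↑P : Subgroup ↥N) := by
    by_contra hall
    push Not at hall
    obtain ⟨e⟩ := (Group.isNilpotent_of_finite_tfae.out 0 4 rfl rfl).mp hnil
    apply hNna
    refine ⟨⟨fun a b => ?_⟩⟩
    have h1 : e.symm a * e.symm b = e.symm b * e.symm a := by
      funext q
      funext P
      haveI : Fact (q : ℕ).Prime := ⟨Nat.prime_of_mem_primeFactors q.2⟩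
      have hc := hall (q : ℕ) inferInstance P
      exact hc.is_comm.comm _ _
    have := congrArg e h1
    simpa using this
  obtain ⟨q, hq, P, hP⟩ := hex
  haveI := hq
  have hPn : (↑P : Subgroup ↥N).Normal := hsyl q hq P
  haveI hPc : (↑P : Subgroup ↥N).Characteristic := Sylow.characteristic_of_normal P hPn
  haveI := hNn
  have hMn : ((↑P : Subgroup ↥N).map N.subtype).Normal := ConjAct.normal_of_characteristic_of_normal
  have hMN : (↑P : Subgroup ↥N).map N.subtype ≤ N := by
    rintro _ ⟨x, -, rfl⟩
    exact x.2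
  have hMnc : ¬ IsMulCommutative ((↑P : Subgroup ↥N).map N.subtype) := by
    intro hc
    apply hP
    refine ⟨⟨fun a b => ?_⟩⟩
    have h1 := hc.is_comm.comm ⟨N.subtype a, Subgroup.mem_map_of_mem _ a.2⟩
      ⟨N.subtype b, Subgroup.mem_map_of_mem _ b.2⟩
    have h2 := congrArg Subtype.val h1
    apply Subtype.ext
    apply Subtype.ext
    simpa using h2
  have hMeq := hNmin _ hMn hMN hMnc
  have hPtop : ∀ n : ↥N, n ∈ (↑P : Subgroup ↥N) := by
    intro n
    have : (n : H) ∈ (↑P : Subgroup ↥N).map N.subtype := by rw [hMeq]; exact n.2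
    obtain ⟨x, hx, hxn⟩ := this
    have : x = n := Subtype.ext hxn
    rwa [← this]
  have hNq : IsPGroup q ↥N := by
    intro n
    obtain ⟨k, hk⟩ := P.isPGroup' ⟨n, hPtop n⟩
    refine ⟨k, ?_⟩
    have := congrArg Subtype.val hk
    simpa using this
  have hAbN : AbCyc ↥N := hAb.subgroup N
  rcases cyclic_or_quat hAbN hNq with hcyc | ⟨-, n, ⟨e⟩⟩
  · exfalso
    apply hNna
    obtain ⟨g, hg⟩ := hcyc.exists_generator
    refine ⟨⟨fun a b => ?_⟩⟩
    obtain ⟨k, rfl⟩ := Subgroup.mem_zpowers_iff.mp (hg a)
    obtain ⟨l, rfl⟩ := Subgroup.mem_zpowers_iff.mp (hg b)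
    exact zpow_mul_comm g k l
  · have hn1 : n = 1 := by
      apply quat_class_two
      · intro u v w
        have hmem : (e.symm u * e.symm v * (e.symm u)⁻¹ * (e.symm v)⁻¹) ∈ center ↥N := by
          apply hcl
          rw [_root_.commutator_def]
          have := Subgroup.commutator_mem_commutator (H₁ := (⊤ : Subgroup ↥N)) (H₂ := ⊤)
            (Subgroup.mem_top (e.symm u)) (Subgroup.mem_top (e.symm v))
          rwa [commutatorElement_def] at this
        have h1 := (mem_center_iff.mp hmem) (e.symm w)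
        have h2 := congrArg e h1
        simp only [map_mul, map_inv, MulEquiv.apply_symm_apply] at h2
        exact h2.symm
      · by_contra hcomm
        push Not at hcomm
        apply hNna
        refine ⟨⟨fun a b => ?_⟩⟩
        have := hcomm (e a) (e b)
        rw [← map_mul, ← map_mul] at this
        exact e.injective this
    subst hn1
    exact ⟨e⟩

end abstract

section linear

variable {p : ℕ} [hpf : Fact p.Prime] {V : Type*} [AddCommGroup V] [Module (ZMod p) V]

/-- linear automorphisms as automorphisms of the multiplicative copy of `V` -/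
def toMulAut : (V ≃ₗ[ZMod p] V) →* MulAut (Multiplicative V) where
  toFun g := AddEquiv.toMultiplicative g.toAddEquiv
  map_one' := by ext; rfl
  map_mul' g h := by ext; rfl

theorem toMulAut_apply (g : V ≃ₗ[ZMod p] V) (v : V) :
    toMulAut g (Multiplicative.ofAdd v) = Multiplicative.ofAdd (g v) := rfl

theorem toMulAut_injective : Function.Injective (toMulAut (p := p) (V := V)) := by
  intro g h hgh
  apply LinearEquiv.ext
  intro v
  have := congrArg (fun φ : MulAut (Multiplicative V) => φ (Multiplicative.ofAdd v)) hgh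
  simp only [toMulAut_apply] at this
  exact Multiplicative.ofAdd.injective this

/-- S0686 from Zassenhaus' theorem on perfect fixed-point-free automorphism groups -/
theorem s0686_of_zassenhaus [Finite V] (H : Subgroup (V ≃ₗ[ZMod p] V))
    (hreg : ∀ v w : V, v ≠ 0 → w ≠ 0 → ∃! h : H, (h : V ≃ₗ[ZMod p] V) v = w)
    (hI : ∀ A : Subgroup H, A.Normal → IsCyclic A → ∃ W : Submodule (ZMod p) V,
      W ≠ ⊥ ∧ W ≠ ⊤ ∧ ∀ a ∈ A, ∀ v ∈ W, ((a : H) : V ≃ₗ[ZMod p] V) v ∈ W)
    (A : Subgroup H) (hAn : A.Normal) (hAc : IsMulCommutative A)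
    (hAmax : ∀ B : Subgroup H, B.Normal → IsMulCommutative B → A ≤ B → B = A)
    (N : Subgroup H) (hNn : N.Normal) (hNle : N ≤ Subgroup.centralizer (A : Set H))
    (hNna : ¬ IsMulCommutative N)
    (hNmin : ∀ M : Subgroup H, M.Normal → M ≤ N → ¬ IsMulCommutative M → M = N)
    (hZ : ∀ G : Subgroup (MulAut (Multiplicative V)),
      (∀ φ ∈ G, φ ≠ 1 → ∀ k : Multiplicative V, φ k = k → k = 1) → _root_.commutator G = ⊤ →
        G ≠ ⊥ → Nonempty (G ≃* Matrix.SpecialLinearGroup (Fin 2) (ZMod 5))) :
    Nonempty (N ≃* QuaternionGroup 2) ∨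
      Nonempty (N ≃* Matrix.SpecialLinearGroup (Fin 2) (ZMod 5)) := by
  classical
  obtain ⟨W₁, hW₁b, -, -⟩ := hI ⊥ inferInstance inferInstance
  obtain ⟨v₀, -, hv₀⟩ := Submodule.exists_mem_ne_zero_of_ne_bot hW₁b
  have hcardH := Cfsg.Agent.S0684.card_H H hreg v₀ hv₀
  haveI : Finite H := by
    apply Nat.finite_of_card_ne_zero
    rw [hcardH]
    have := Finite.one_lt_card_iff_nontrivial.2 (⟨⟨v₀, 0, hv₀⟩⟩ : Nontrivial V)
    omega
  have hAbCyc : AbCyc H := fun K hK => Cfsg.Agent.S0684.isCyclic_of_comm H hreg v₀ hv₀ K hK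
  rcases perfect_or_Q8 hAbCyc A hAn hAc hAmax N hNn hNle hNna hNmin with hperf | hQ
  swap
  · exact Or.inl hQ
  right
  -- the embedding of `N` into `MulAut (Multiplicative V)`
  let ψ : ↥N →* MulAut (Multiplicative V) := toMulAut.comp (H.subtype.comp N.subtype)
  have hψ : Function.Injective ψ := by
    intro a b hab
    have := toMulAut_injective hab
    exact Subtype.ext (Subtype.ext this)
  let e : ↥N ≃* ψ.range := MonoidHom.ofInjective hψ
  have h1 : ∀ φ ∈ ψ.range, φ ≠ 1 → ∀ k : Multiplicative V, φ k = k → k = 1 := by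
    rintro _ ⟨n, rfl⟩ hne k hk
    by_contra hk1
    apply hne
    have hv : Multiplicative.toAdd k ≠ 0 := by
      intro h0
      apply hk1
      have : k = Multiplicative.ofAdd (Multiplicative.toAdd k) := rfl
      rw [this, h0]; rfl
    have hfix : ((n : H) : V ≃ₗ[ZMod p] V) (Multiplicative.toAdd k) = Multiplicative.toAdd k := by
      have : ψ n (Multiplicative.ofAdd (Multiplicative.toAdd k)) =
          Multiplicative.ofAdd (Multiplicative.toAdd k) := hk
      exact Multiplicative.ofAdd.injective this
    obtain ⟨h, -, huniq⟩ := hreg _ _ hv hv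
    have e1 : (n : H) = h := huniq _ hfix
    have e2 : (1 : H) = h := huniq _ (by simp)
    have e3 : n = 1 := Subtype.ext (e1.trans e2.symm)
    rw [e3, map_one]
  have h2 : _root_.commutator ψ.range = ⊤ := by
    have hm := Subgroup.map_commutator (⊤ : Subgroup ↥N) ⊤ e.toMonoidHom
    have htop : (⊤ : Subgroup ↥N).map e.toMonoidHom = ⊤ := by
      rw [← MonoidHom.range_eq_map]
      exact MonoidHom.range_eq_top.mpr e.surjective
    rw [htop] at hm
    rw [_root_.commutator_def, ← hm]
    rw [_root_.commutator_def] at hperf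
    rw [hperf, htop]
  have h3 : ψ.range ≠ ⊥ := by
    intro hbot
    apply hNna
    refine ⟨⟨fun a b => ?_⟩⟩
    have ha : ψ a = 1 := by
      have : ψ a ∈ ψ.range := ⟨a, rfl⟩
      rw [hbot] at this
      exact Subgroup.mem_bot.mp this
    have hb : ψ b = 1 := by
      have : ψ b ∈ ψ.range := ⟨b, rfl⟩
      rw [hbot] at this
      exact Subgroup.mem_bot.mp this
    have ha1 : a = 1 := hψ (ha.trans (map_one ψ).symm)
    have hb1 : b = 1 := hψ (hb.trans (map_one ψ).symm)
    rw [ha1, hb1]
  obtain ⟨f⟩ := hZ ψ.range h1 h2 h3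
  exact ⟨e.trans f⟩

end linear

end Cfsg.Agent.Lib.H16.Zas686
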