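import Mathlib

/-!
# S0689, part a: a quaternion group of linear maps halves the dimension

(helper16)  If `a`, `b` are linear endomorphisms of a finite `𝔽_p`-space `V` (`p` odd) with
`a² = b² = -1` and `ab = -ba`, then `V` has a subspace `W` of half the dimension which is invariant
under every endomorphism commuting with `a` and `b` (the kernel of the nilpotent element
`x a + y b + a b`, where `x² + y² = -1`).
-/

set_option autoImplicit false

namespace Cfsg.Agent.Lib.H16.Zas689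

variable {p : ℕ} [Fact p.Prime] {V : Type*} [AddCommGroup V] [Module (ZMod p) V]

theorem la_sq (a b : V →ₗ[ZMod p] V) (haa : ∀ v, a (a v) = -v) (hbb : ∀ v, b (b v) = -v)
    (hba : ∀ v, b (a v) = -(a (b v))) (x y : ZMod p) (hxy : x ^ 2 + y ^ 2 = -1) (v : V) :
    (x • a + y • b + a ∘ₗ b) ((x • a + y • b + a ∘ₗ b) v) = 0 := by
  simp only [LinearMap.add_apply, LinearMap.smul_apply, LinearMap.comp_apply, map_add, map_smul,
    haa, hbb, hba, map_neg, smul_neg, neg_neg]
  have h0 : (x ^ 2 + y ^ 2 + 1) • v = 0 := by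
    rw [show x ^ 2 + y ^ 2 + 1 = 0 by rw [hxy]; ring, zero_smul]
  calc _ = -((x ^ 2 + y ^ 2 + 1) • v) := by module
    _ = 0 := by rw [h0, neg_zero]

theorem la_anti (a b : V →ₗ[ZMod p] V) (haa : ∀ v, a (a v) = -v) (hbb : ∀ v, b (b v) = -v)
    (hba : ∀ v, b (a v) = -(a (b v))) (x y : ZMod p) (hxy : x ^ 2 + y ^ 2 = -1) (v : V) :
    (x • a + y • b + a ∘ₗ b) ((x • a + y • b - a ∘ₗ b) v) +
      (x • a + y • b - a ∘ₗ b) ((x • a + y • b + a ∘ₗ b) v) = (4 : ZMod p) • v := by
  simp only [LinearMap.add_apply, LinearMap.sub_apply, LinearMap.smul_apply, LinearMap.comp_apply,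
    map_add, map_sub, map_smul, haa, hbb, hba, map_neg, smul_neg, neg_neg]
  have h0 : (x ^ 2 + y ^ 2 + 1) • v = 0 := by
    rw [show x ^ 2 + y ^ 2 + 1 = 0 by rw [hxy]; ring, zero_smul]
  calc _ = (4 : ZMod p) • v + (-2 : ZMod p) • ((x ^ 2 + y ^ 2 + 1) • v) := by module
    _ = (4 : ZMod p) • v := by rw [h0, smul_zero, add_zero]

/-- the halving lemma -/
theorem exists_half [Finite V] (hp2 : p ≠ 2) (a b : V →ₗ[ZMod p] V) (haa : ∀ v, a (a v) = -v)
    (hbb : ∀ v, b (b v) = -v) (hba : ∀ v, b (a v) = -(a (b v))) :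
    ∃ W : Submodule (ZMod p) V, Module.finrank (ZMod p) V = 2 * Module.finrank (ZMod p) W ∧
      ∀ m : V →ₗ[ZMod p] V, (∀ v, m (a v) = a (m v)) → (∀ v, m (b v) = b (m v)) →
        ∀ v ∈ W, m v ∈ W := by
  have : Module.Finite (ZMod p) V := Module.Finite.of_finite
  obtain ⟨x, y, hxy⟩ := ZMod.sq_add_sq p (-1)
  set w : V →ₗ[ZMod p] V := x • a + y • b + a ∘ₗ b with hw
  set w' : V →ₗ[ZMod p] V := x • a + y • b - a ∘ₗ b with hw'
  have h1 : ∀ v, w (w v) = 0 := la_sq a b haa hbb hba x y hxy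
  have h2 : ∀ v, w (w' v) + w' (w v) = (4 : ZMod p) • v := la_anti a b haa hbb hba x y hxy
  have h4 : (4 : ZMod p) ≠ 0 := by
    intro h
    have h5 : ((4 : ℕ) : ZMod p) = 0 := by exact_mod_cast h
    rw [ZMod.natCast_eq_zero_iff] at h5
    have hp : p.Prime := Fact.out
    have h6 : p ∣ 2 ^ 2 := by norm_num; exact h5
    have h7 := (Nat.prime_dvd_prime_iff_eq hp Nat.prime_two).mp (hp.dvd_of_dvd_pow h6)
    exact hp2 h7
  have hrk : LinearMap.range w = LinearMap.ker w := by
    apply le_antisymm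
    · rintro _ ⟨v, rfl⟩
      exact LinearMap.mem_ker.mpr (h1 v)
    · intro v hv
      rw [LinearMap.mem_ker] at hv
      have h3 := h2 v
      rw [hv, map_zero, add_zero] at h3
      refine ⟨(4 : ZMod p)⁻¹ • w' v, ?_⟩
      rw [map_smul, h3, smul_smul, inv_mul_cancel₀ h4, one_smul]
  refine ⟨LinearMap.ker w, ?_, ?_⟩
  · have := LinearMap.finrank_range_add_finrank_ker w
    rw [hrk] at this
    omega
  · intro m hma hmb v hv
    rw [LinearMap.mem_ker] at hv ⊢
    have : w (m v) = m (w v) := by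
      simp only [hw, LinearMap.add_apply, LinearMap.smul_apply, LinearMap.comp_apply, map_add,
        map_smul, hma, hmb]
    rw [this, hv, map_zero]

end Cfsg.Agent.Lib.H16.Zas689
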