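import Mathlib
import Cfsg.Agent.Lib.H16.Zas689a
import Cfsg.Agent.Lib.H16.Zas686
import Cfsg.Agent.Lib.H5.FC.Nonsolv4
import Cfsg.Agent.Lib.H25.ZasE4a

/-!
# S0689, part b: non-solvable linear groups regular on the non-zero vectors

(helper16)  Reduction of S0689 to Zassenhaus' theorem on perfect fixed-point-free automorphism
groups (S0690).
-/

set_option autoImplicit false
set_option linter.style.haveILetI false

namespace Cfsg.Agent.Lib.H16.Zas689

open Subgroup Cfsg.Agent.Lib.H4.NF Cfsg.Agent.Lib.H5.FC Cfsg.Agent.Lib.H16.Zas686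

set_option maxRecDepth 100000 in
set_option synthInstance.maxSize 4000 in
set_option synthInstance.maxHeartbeats 400000 in
/-- the arithmetic: `(Q + 1) * ((Q - 1) / m) = 120 c` -/
theorem arith_aux : ∀ Q < 240, ∀ c < 3, (1 ≤ c ∧ 2 ≤ Q ∧ (120 * c) % (Q + 1) = 0 ∧
    (Q - 1) % (120 * c / (Q + 1)) = 0 ∧ Nat.gcd ((Q - 1) / (120 * c / (Q + 1))) 30 = 1) →
    ((Q = 11 ∧ c = 1) ∨ (Q = 29 ∧ c = 1) ∨ (Q = 59 ∧ c = 1) ∨ (Q = 119 ∧ c = 2)) := by
  decide

theorem arith {p j Q c m : ℕ} (hp : p.Prime) (hQ : Q = p ^ j) (hc : c = 1 ∨ c = 2)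
    (h1 : Q * Q - 1 = 120 * m * c) (h2 : m ∣ Q - 1) (h3 : Nat.Coprime m 30) (hQ2 : 2 ≤ Q) :
    (Q = 11 ∧ c = 1 ∧ m = 1) ∨ (Q = 29 ∧ c = 1 ∧ m = 7) ∨ (Q = 59 ∧ c = 1 ∧ m = 29) := by
  obtain ⟨k, hk⟩ := h2
  have hm0 : m ≠ 0 := by
    rintro rfl
    simp at h3
  have hmpos : 0 < m := Nat.pos_of_ne_zero hm0
  have hkpos : 0 < k := by
    rcases Nat.eq_zero_or_pos k with h | h
    · rw [h, mul_zero] at hk; omega
    · exact h
  -- `k (Q + 1) = 120 c`
  have hkQ : k * (Q + 1) = 120 * c := by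
    have h4 : (Q - 1) * (Q + 1) = Q * Q - 1 := by
      have : 1 ≤ Q := by omega
      obtain ⟨q, rfl⟩ : ∃ q, Q = q + 1 := ⟨Q - 1, by omega⟩
      simp only [Nat.add_sub_cancel]
      rw [show (q + 1) * (q + 1) - 1 = q * (q + 1 + 1) by
        have : (q + 1) * (q + 1) = q * (q + 1 + 1) + 1 := by ring
        omega]
    have h5 : m * (k * (Q + 1)) = m * (120 * c) := by
      rw [← mul_assoc, ← hk, h4, h1]; ring
    exact Nat.eq_of_mul_eq_mul_left hmpos h5
  have hQlt : Q < 240 := by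
    have : 1 * (Q + 1) ≤ k * (Q + 1) := Nat.mul_le_mul_right _ hkpos
    rcases hc with rfl | rfl <;> omega
  have hk' : k = 120 * c / (Q + 1) := by
    rw [← hkQ, Nat.mul_div_cancel _ (by omega : 0 < Q + 1)]
  have hm' : m = (Q - 1) / k := by
    rw [hk, Nat.mul_div_cancel _ hkpos]
  have hc3 : c < 3 := by rcases hc with rfl | rfl <;> omega
  have hc1 : 1 ≤ c := by rcases hc with rfl | rfl <;> omega
  have hdiv1 : (120 * c) % (Q + 1) = 0 := by
    rw [← hkQ]; exact Nat.mul_mod_left _ _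
  have hdiv2 : (Q - 1) % (120 * c / (Q + 1)) = 0 := by
    rw [← hk', hk]; exact Nat.mul_mod_left _ _
  have hcop : Nat.Coprime ((Q - 1) / (120 * c / (Q + 1))) 30 := by
    rw [← hk', ← hm']; exact h3
  rcases arith_aux Q hQlt c hc3 ⟨hc1, hQ2, hdiv1, hdiv2, hcop⟩ with ⟨rfl, rfl⟩ | ⟨rfl, rfl⟩ |
    ⟨rfl, rfl⟩ | ⟨rfl, rfl⟩
  · left
    refine ⟨rfl, rfl, ?_⟩
    have : k = 10 := by omega
    subst this; omega
  · right; left
    refine ⟨rfl, rfl, ?_⟩
    have : k = 4 := by omega
    subst this; omega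
  · right; right
    refine ⟨rfl, rfl, ?_⟩
    have : k = 2 := by omega
    subst this; omega
  · exfalso
    -- `119 = 7 * 17` is not a prime power
    have hj : j ≠ 0 := by
      rintro rfl
      simp at hQ
    have h7 : p ∣ 119 := by rw [hQ]; exact dvd_pow_self p hj
    have h8 : p ∣ 7 * 17 := by norm_num; exact h7
    rcases (Nat.Prime.dvd_mul hp).mp h8 with h9 | h9
    · have : p = 7 := (Nat.prime_dvd_prime_iff_eq hp (by norm_num)).mp h9
      subst this
      have h10 : 17 ∣ 7 ^ j := by rw [← hQ]; norm_num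
      have := (Nat.Prime.dvd_of_dvd_pow (by norm_num : Nat.Prime 17) h10)
      omega
    · have : p = 17 := (Nat.prime_dvd_prime_iff_eq hp (by norm_num)).mp h9
      subst this
      have h10 : 7 ∣ 17 ^ j := by rw [← hQ]; norm_num
      have := (Nat.Prime.dvd_of_dvd_pow (by norm_num : Nat.Prime 7) h10)
      omega

theorem sl25_rel : x5 * x5 = -1 ∧ y5 * y5 = -1 ∧ y5 * x5 = -1 * (x5 * y5) ∧
    (-1 : SL25) * -1 = 1 ∧ (-1 : SL25) ≠ 1 := by
  decide

section linear

variable {p : ℕ} [hpf : Fact p.Prime] {V : Type*} [AddCommGroup V] [Module (ZMod p) V]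

/-- a perfect nontrivial subgroup of a regular linear group is `SL(2,5)`, by Zassenhaus -/
theorem equiv_sl25_of_perfect [Finite V] (H : Subgroup (V ≃ₗ[ZMod p] V))
    (hreg : ∀ v w : V, v ≠ 0 → w ≠ 0 → ∃! h : H, (h : V ≃ₗ[ZMod p] V) v = w)
    (N : Subgroup H) (hperf : _root_.commutator N = ⊤) (hNne : N ≠ ⊥)
    (hZ : ∀ G : Subgroup (MulAut (Multiplicative V)),
      (∀ φ ∈ G, φ ≠ 1 → ∀ k : Multiplicative V, φ k = k → k = 1) → _root_.commutator G = ⊤ →
        G ≠ ⊥ → Nonempty (G ≃* Matrix.SpecialLinearGroup (Fin 2) (ZMod 5))) :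
    Nonempty (N ≃* Matrix.SpecialLinearGroup (Fin 2) (ZMod 5)) := by
  let ψ : ↥N →* MulAut (Multiplicative V) := toMulAut.comp (H.subtype.comp N.subtype)
  have hψ : Function.Injective ψ := by
    intro a b hab
    have := toMulAut_injective hab
    exact Subtype.ext (Subtype.ext this)
  let e : ↥N ≃* ψ.range := MonoidHom.ofInjective hψ
  have h1 : ∀ φ ∈ ψ.range, φ ≠ 1 → ∀ k : Multiplicative V, φ k = k → k = 1 := by
    rintro _ ⟨n, rfl⟩ hne k hk
    by_contra hk1
    apply hne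
    have hv : Multiplicative.toAdd k ≠ 0 := by
      intro h0
      apply hk1
      have : k = Multiplicative.ofAdd (Multiplicative.toAdd k) := rfl
      rw [this, h0]; rfl
    have hfix : ((n : H) : V ≃ₗ[ZMod p] V) (Multiplicative.toAdd k) = Multiplicative.toAdd k := by
      have : ψ n (Multiplicative.ofAdd (Multiplicative.toAdd k)) =
          Multiplicative.ofAdd (Multiplicative.toAdd k) := hk
      exact Multiplicative.ofAdd.injective this
    obtain ⟨h, -, huniq⟩ := hreg _ _ hv hv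
    have e1 : (n : H) = h := huniq _ hfix
    have e2 : (1 : H) = h := huniq _ (by simp)
    have e3 : n = 1 := Subtype.ext (e1.trans e2.symm)
    rw [e3, map_one]
  have h2 : _root_.commutator ψ.range = ⊤ := by
    have hm := Subgroup.map_commutator (⊤ : Subgroup ↥N) ⊤ e.toMonoidHom
    have htop : (⊤ : Subgroup ↥N).map e.toMonoidHom = ⊤ := by
      rw [← MonoidHom.range_eq_map]
      exact MonoidHom.range_eq_top.mpr e.surjective
    rw [htop] at hm
    rw [_root_.commutator_def, ← hm]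
    rw [_root_.commutator_def] at hperf
    rw [hperf, htop]
  have h3 : ψ.range ≠ ⊥ := by
    intro hbot
    apply hNne
    rw [Subgroup.eq_bot_iff_forall]
    intro a ha
    have h4 : ψ ⟨a, ha⟩ = 1 := by
      have : ψ ⟨a, ha⟩ ∈ ψ.range := ⟨_, rfl⟩
      rw [hbot] at this
      exact Subgroup.mem_bot.mp this
    have h5 : (⟨a, ha⟩ : N) = 1 := hψ (h4.trans (map_one ψ).symm)
    exact congrArg Subtype.val h5
  obtain ⟨f⟩ := hZ ψ.range h1 h2 h3
  exact ⟨e.trans f⟩

/-- S0689 from Zassenhaus' theorem -/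
theorem s0689_of_zassenhaus [Finite V] (H : Subgroup (V ≃ₗ[ZMod p] V))
    (hreg : ∀ v w : V, v ≠ 0 → w ≠ 0 → ∃! h : H, (h : V ≃ₗ[ZMod p] V) v = w)
    (hsolv : ¬ Group.IsSolvable H)
    (hZ : ∀ G : Subgroup (MulAut (Multiplicative V)),
      (∀ φ ∈ G, φ ≠ 1 → ∀ k : Multiplicative V, φ k = k → k = 1) → _root_.commutator G = ⊤ →
        G ≠ ⊥ → Nonempty (G ≃* Matrix.SpecialLinearGroup (Fin 2) (ZMod 5))) :
    (Nat.card V = 121 ∧ Nonempty (H ≃* Matrix.SpecialLinearGroup (Fin 2) (ZMod 5))) ∨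
    (Nat.card V = 841 ∧
      Nonempty (H ≃* Matrix.SpecialLinearGroup (Fin 2) (ZMod 5) × Multiplicative (ZMod 7))) ∨
    (Nat.card V = 3481 ∧
      Nonempty (H ≃* Matrix.SpecialLinearGroup (Fin 2) (ZMod 5) × Multiplicative (ZMod 29))) := by
  classical
  have hp : p.Prime := hpf.out
  -- a nonzero vector
  obtain ⟨v₀, hv₀⟩ : ∃ v₀ : V, v₀ ≠ 0 := by
    by_contra hcon
    push Not at hcon
    apply hsolv
    haveI : Subsingleton H := by
      refine ⟨fun a b => ?_⟩
      apply Subtype.ext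
      apply LinearEquiv.ext
      intro v
      rw [hcon v, map_zero, map_zero]
    infer_instance
  have hcardH := Cfsg.Agent.S0684.card_H H hreg v₀ hv₀
  have hVgt : 1 < Nat.card V := Finite.one_lt_card_iff_nontrivial.2 ⟨⟨v₀, 0, hv₀⟩⟩
  haveI : Finite H := by
    apply Nat.finite_of_card_ne_zero
    rw [hcardH]
    intro h0
    apply hsolv
    haveI : Subsingleton H := by
      refine ⟨fun a b => ?_⟩
      obtain ⟨h, -, huniq⟩ := hreg v₀ v₀ hv₀ hv₀
      have hV2 : Nat.card V = 1 := by omega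
      omega
    infer_instance
  have hAbCyc : AbCyc H := fun K hK => Cfsg.Agent.S0684.isCyclic_of_comm H hreg v₀ hv₀ K hK
  -- the perfect normal subgroup
  obtain ⟨S, hSn, hSne, hSS⟩ := exists_perfect_normal hsolv
  have hperf : _root_.commutator S = ⊤ := commutator_eq_top_of_self S hSS
  obtain ⟨eS⟩ := equiv_sl25_of_perfect H hreg S hperf hSne hZ
  let d : SLData H := ⟨hAbCyc, S, hSn, eS⟩
  obtain ⟨G₀, hG₀n, hidx, S', M, hsup, hinf, hcomm, ⟨e⟩, -, hcop⟩ := d.structure_thm hperf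
  -- the quaternion elements
  obtain ⟨r1, r2, r3, r4, r5⟩ := sl25_rel
  set a : H := ((e.symm x5 : S') : H) with ha
  set b : H := ((e.symm y5 : S') : H) with hb
  set z : H := ((e.symm (-1) : S') : H) with hz
  have haS : a ∈ S' := (e.symm x5).2
  have hbS : b ∈ S' := (e.symm y5).2
  have haa : a * a = z := by
    have : e.symm x5 * e.symm x5 = e.symm (-1) := by rw [← map_mul, r1]
    exact congrArg Subtype.val this
  have hbb : b * b = z := by
    have : e.symm y5 * e.symm y5 = e.symm (-1) := by rw [← map_mul, r2]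
    exact congrArg Subtype.val this
  have hba : b * a = z * (a * b) := by
    have : e.symm y5 * e.symm x5 = e.symm (-1) * (e.symm x5 * e.symm y5) := by
      rw [← map_mul, ← map_mul, ← map_mul, r3]
    exact congrArg Subtype.val this
  have hzz : z * z = 1 := by
    have : e.symm (-1) * e.symm (-1) = 1 := by rw [← map_mul, r4, map_one]
    exact congrArg Subtype.val this
  have hz1 : z ≠ 1 := by
    intro h
    have h1 : e.symm (-1) = 1 := Subtype.ext h
    have h2 : (-1 : SL25) = 1 := by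
      have := congrArg e h1
      rwa [MulEquiv.apply_symm_apply, map_one] at this
    exact r5 h2
  -- `z` acts as `-1`
  have hzv : ∀ v : V, (z : V ≃ₗ[ZMod p] V) v = -v := by
    intro v
    have h1 : (z : V ≃ₗ[ZMod p] V) ((z : V ≃ₗ[ZMod p] V) v) = v := by
      have : ((z * z : H) : V ≃ₗ[ZMod p] V) v = v := by rw [hzz]; rfl
      exact this
    have h2 : (z : V ≃ₗ[ZMod p] V) ((z : V ≃ₗ[ZMod p] V) v + v) = (z : V ≃ₗ[ZMod p] V) v + v := by
      rw [map_add, h1, add_comm]
    have h3 : (z : V ≃ₗ[ZMod p] V) v + v = 0 := by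
      by_contra hne
      exact hz1 (Cfsg.Agent.S0684.semireg H hreg z _ hne h2)
    exact eq_neg_of_add_eq_zero_left h3
  -- `p ≠ 2`
  have hp2 : p ≠ 2 := by
    intro h2
    have h3 := Cfsg.Agent.S0684.not_dvd_card_H H hreg v₀ hv₀
    apply h3
    have h4 : orderOf z = 2 := orderOf_eq_prime (by rw [pow_two]; exact hzz) hz1
    have h5 : orderOf z ∣ Nat.card H := orderOf_dvd_natCard z
    rw [h4, ← h2] at h5
    exact h5
  -- the halving lemma
  set al : V →ₗ[ZMod p] V := ((a : V ≃ₗ[ZMod p] V) : V →ₗ[ZMod p] V) with hal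
  set bl : V →ₗ[ZMod p] V := ((b : V ≃ₗ[ZMod p] V) : V →ₗ[ZMod p] V) with hbl
  have e1 : ∀ v, al (al v) = -v := by
    intro v
    have : ((a * a : H) : V ≃ₗ[ZMod p] V) v = -v := by rw [haa]; exact hzv v
    exact this
  have e2 : ∀ v, bl (bl v) = -v := by
    intro v
    have : ((b * b : H) : V ≃ₗ[ZMod p] V) v = -v := by rw [hbb]; exact hzv v
    exact this
  have e3 : ∀ v, bl (al v) = -(al (bl v)) := by
    intro v
    have : ((b * a : H) : V ≃ₗ[ZMod p] V) v = -(al (bl v)) := by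
      rw [hba]
      exact hzv _
    exact this
  obtain ⟨W, hWrk, hWinv⟩ := exists_half hp2 al bl e1 e2 e3
  -- `M` acts on `W`
  have hMW : ∀ m ∈ M, ∀ v ∈ W, ((m : H) : V ≃ₗ[ZMod p] V) v ∈ W := by
    intro m hm v hv
    apply hWinv ((m : V ≃ₗ[ZMod p] V) : V →ₗ[ZMod p] V) _ _ v hv
    · intro u
      have h1 : m * a = a * m := (hcomm a haS m hm).symm
      have : ((m * a : H) : V ≃ₗ[ZMod p] V) u = ((a * m : H) : V ≃ₗ[ZMod p] V) u := by rw [h1]
      exact this
    · intro u
      have h1 : m * b = b * m := (hcomm b hbS m hm).symm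
      have : ((m * b : H) : V ≃ₗ[ZMod p] V) u = ((b * m : H) : V ≃ₗ[ZMod p] V) u := by rw [h1]
      exact this
  have hMdvd := Cfsg.Agent.S0684.card_dvd_of_invariant H hreg M W hMW
  -- cardinalities
  set j := Module.finrank (ZMod p) W with hj
  set Q := p ^ j with hQ
  have hcardV : Nat.card V = Q * Q := by
    rw [Cfsg.Agent.S0684.card_V_pow (p := p) (V := V), hWrk, hQ, two_mul, pow_add]
  have hcardS' : Nat.card S' = 120 := by rw [Nat.card_congr e.toEquiv, card_sl25]
  have hcardG₀ : Nat.card G₀ = 120 * Nat.card M := by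
    rw [← hsup, Cfsg.Agent.Lib.H25.Zas.card_sup_of_commute S' M hcomm hinf, hcardS']
  have hcardH2 : Nat.card H = 120 * Nat.card M * G₀.index := by
    rw [← hcardG₀]; exact (Subgroup.card_mul_index G₀).symm
  have hQ2 : 2 ≤ Q := by
    by_contra hlt
    have : Q * Q ≤ 1 := by
      have h1 : Q ≤ 1 := by omega
      calc Q * Q ≤ 1 * 1 := Nat.mul_le_mul h1 h1
        _ = 1 := by norm_num
    omega
  have harith := arith hp hQ hidx (by rw [← hcardV, ← hcardH, hcardH2]) hMdvd hcop hQ2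
  -- the isomorphism `H ≃* S' × M` when the index is one
  have hiso : G₀.index = 1 → Nonempty (H ≃* S' × M) := by
    intro hi
    have htop : G₀ = ⊤ := Subgroup.index_eq_one.mp hi
    let φ : S' × M →* H :=
      { toFun := fun x => (x.1 : H) * (x.2 : H)
        map_one' := by simp
        map_mul' := by
          rintro ⟨s, m⟩ ⟨s', m'⟩
          show (s : H) * s' * ((m : H) * m') = s * m * (s' * m')
          have := hcomm s' s'.2 m m.2
          calc (s : H) * s' * ((m : H) * m') = s * (s' * m) * m' := by group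
            _ = s * (m * s') * m' := by rw [this]
            _ = s * m * (s' * m') := by group }
    have hinj : Function.Injective φ := by
      rw [injective_iff_map_eq_one]
      rintro ⟨s, m⟩ hsm
      have h1 : (s : H) * (m : H) = 1 := hsm
      have h2 : (s : H) = (m : H)⁻¹ := eq_inv_of_mul_eq_one_left h1
      have h3 : (s : H) ∈ S' ⊓ M := ⟨s.2, by rw [h2]; exact M.inv_mem m.2⟩
      rw [hinf, mem_bot] at h3
      have h4 : (m : H) = 1 := by rw [h3, one_mul] at h1; exact h1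
      exact Prod.ext (Subtype.ext h3) (Subtype.ext h4)
    have hcard : Nat.card (S' × M) = Nat.card H := by
      rw [Nat.card_prod, hcardS', hcardH2, hi, mul_one]
    have hbij : Function.Bijective φ :=
      (Nat.bijective_iff_injective_and_card φ).mpr ⟨hinj, hcard⟩
    exact ⟨(MulEquiv.ofBijective φ hbij).symm⟩
  have hcyc : ∀ r : ℕ, r.Prime → Nat.card M = r → Nonempty (M ≃* Multiplicative (ZMod r)) := by
    intro r hr hM
    haveI : Fact r.Prime := ⟨hr⟩
    haveI : NeZero r := ⟨hr.ne_zero⟩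
    have h1 : Nat.card (Multiplicative (ZMod r)) = r := by
      rw [Nat.card_congr Multiplicative.toAdd, Nat.card_zmod]
    exact ⟨mulEquivOfPrimeCardEq hM h1⟩
  rcases harith with ⟨hQ11, hc, hm⟩ | ⟨hQ29, hc, hm⟩ | ⟨hQ59, hc, hm⟩
  · left
    refine ⟨by rw [hcardV, hQ11], ?_⟩
    obtain ⟨f⟩ := hiso hc
    have hMbot : M = ⊥ := Subgroup.card_eq_one.mp hm
    haveI : Unique M := by
      rw [hMbot]; infer_instance
    exact ⟨f.trans ((MulEquiv.prodUnique).trans e)⟩
  · right; left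
    refine ⟨by rw [hcardV, hQ29], ?_⟩
    obtain ⟨f⟩ := hiso hc
    obtain ⟨g⟩ := hcyc 7 (by norm_num) hm
    exact ⟨f.trans (MulEquiv.prodCongr e g)⟩
  · right; right
    refine ⟨by rw [hcardV, hQ59], ?_⟩
    obtain ⟨f⟩ := hiso hc
    obtain ⟨g⟩ := hcyc 29 (by norm_num) hm
    exact ⟨f.trans (MulEquiv.prodCongr e g)⟩

end linear

end Cfsg.Agent.Lib.H16.Zas689
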