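import Mathlib
import Cfsg.Agent.Lib.H25.ZasE4a
import Cfsg.Agent.Lib.H16.SylCommA
import Cfsg.Agent.Lib.H4.Zas.ZGroupTwo

/-!
# Zassenhaus, H-level, block E2 (Sylow 2-subgroups of order 4), part a: general lemmas

(helper16)  General group-theoretic lemmas, the pair `VPair t u` of two distinct commuting
involutions, the Sylow 2-subgroup `{1, t, u, tu}` and the fusion of its involutions in its
normalizer.
-/

set_option autoImplicit false
set_option linter.style.haveILetI false

namespace Cfsg.Agent.Lib.H16.ZasE2

open Subgroup Cfsg.Agent.Lib.H25.Zas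

variable {H : Type*} [Group H]

/-- if two coprime powers of `x` commute with `y` then so does `x` -/
theorem commute_of_pow_commute {x y : H} {a b : ℕ} (ha : Commute (x ^ a) y)
    (hb : Commute (x ^ b) y) (hab : Nat.Coprime a b) : Commute x y := by
  have h1 : (1 : ℤ) = a * Nat.gcdA a b + b * Nat.gcdB a b := by
    have := Nat.gcd_eq_gcd_ab a b
    rw [Nat.Coprime.gcd_eq_one hab] at this
    exact_mod_cast this
  have h2 : x = (x ^ a) ^ (Nat.gcdA a b) * (x ^ b) ^ (Nat.gcdB a b) := by
    rw [← zpow_natCast, ← zpow_natCast, ← zpow_mul, ← zpow_mul, ← zpow_add, ← h1, zpow_one]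
  rw [h2]
  exact (ha.zpow_left _).mul_left (hb.zpow_left _)

/-- an element of odd order whose square commutes with `y` commutes with `y` -/
theorem commute_of_sq_commute {x y : H} (hx : Odd (orderOf x)) (h : Commute (x ^ 2) y) :
    Commute x y := by
  have h0 : Commute (x ^ orderOf x) y := by rw [pow_orderOf_eq_one]; exact Commute.one_left y
  exact commute_of_pow_commute h0 h (Nat.coprime_two_right.mpr hx)

/-- two elements of odd prime orders, one normalizing the cyclic group generated by the other,
commute (the group they generate has odd order `pq`, hence is cyclic). -/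
theorem commute_of_prime_of_mem_normalizer [Finite H] (hH : OddFPF H) {d y : H}
    (hd : (orderOf d).Prime) (hy : (orderOf y).Prime) (hd2 : Odd (orderOf d))
    (hy2 : Odd (orderOf y)) (hn : d ∈ normalizer ((zpowers y : Subgroup H) : Set H)) :
    Commute d y := by
  set R : Subgroup H := zpowers d ⊔ zpowers y with hR
  have hle : zpowers d ≤ normalizer ((zpowers y : Subgroup H) : Set H) := by
    rw [zpowers_le]; exact hn
  have hdvd := Cfsg.Agent.Lib.H16.SylComm.card_sup_dvd_of_le_normalizer hle
  rw [Nat.card_zpowers, Nat.card_zpowers] at hdvd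
  have hodd : Odd (Nat.card R) := Odd.of_dvd_nat (hd2.mul hy2) hdvd
  have hfpf := hH R hodd
  have hdR : d ∈ R := mem_sup_left (mem_zpowers d)
  have hyR : y ∈ R := mem_sup_right (mem_zpowers y)
  have h1 : (orderOf (⟨d, hdR⟩ : R)).Prime := by rw [Subgroup.orderOf_mk]; exact hd
  have h2 : (orderOf (⟨y, hyR⟩ : R)).Prime := by rw [Subgroup.orderOf_mk]; exact hy
  have h3 := hfpf.commute_of_prime_order hodd h1 h2
  exact congrArg Subtype.val h3.eq

/-- an element normalizing a group of prime order `p` whose order is prime to `p - 1`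
centralizes it -/
theorem commute_of_coprime_of_mem_normalizer [Finite H] {x y : H} {p : ℕ} (hp : p.Prime)
    (hy : orderOf y = p) (hx : x ∈ normalizer ((zpowers y : Subgroup H) : Set H))
    (hc : (orderOf x).Coprime (p - 1)) : Commute x y := by
  have h1 : Commute (x ^ (p - 1)) y := by
    set φ := (zpowers y).normalizerMonoidHom with hφ
    have hcard : Nat.card (MulAut (zpowers y)) = p - 1 := by
      rw [IsCyclic.card_mulAut, Nat.card_zpowers, hy, Nat.totient_prime hp]
    have h2 : (φ ⟨x, hx⟩) ^ (p - 1) = 1 := by rw [← hcard]; exact pow_card_eq_one'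
    have h3 : (⟨x, hx⟩ : normalizer ((zpowers y : Subgroup H) : Set H)) ^ (p - 1) ∈ φ.ker := by
      rw [MonoidHom.mem_ker, map_pow]; exact h2
    rw [hφ, Subgroup.normalizerMonoidHom_ker, mem_subgroupOf] at h3
    have h4 : x ^ (p - 1) ∈ centralizer ((zpowers y : Subgroup H) : Set H) := by
      simpa using h3
    exact (mem_centralizer_iff.mp h4 y (mem_zpowers y)).symm
  have h0 : Commute (x ^ orderOf x) y := by rw [pow_orderOf_eq_one]; exact Commute.one_left y
  exact commute_of_pow_commute h0 h1 hc

/-- an element of a group of order `2 * m`... -/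
theorem eq_one_of_sq_of_odd {x : H} (h2 : x * x = 1) (hodd : Odd (orderOf x)) : x = 1 := by
  have h1 : orderOf x ∣ 2 := orderOf_dvd_of_pow_eq_one (by rw [pow_two]; exact h2)
  rcases (Nat.dvd_prime Nat.prime_two).mp h1 with h | h
  · exact orderOf_eq_one_iff.mp h
  · rw [h] at hodd; exact absurd hodd (by decide)

end Cfsg.Agent.Lib.H16.ZasE2
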