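import Mathlib
import Cfsg.Agent.Lib.H16.ZasE2a

/-!
# Zassenhaus, H-level, block E2, part b: the four-group of two commuting involutions

(helper16)  `VPair t u`, the Sylow 2-subgroup `{1, t, u, tu}` (when Sylow 2-subgroups have order
4), fusion of its involutions in its normalizer, and the subgroups contained in the normalizer
`N` of a subgroup of prime order of `C_{K_t}(u)`.
-/

set_option autoImplicit false
set_option linter.style.haveILetI false

namespace Cfsg.Agent.Lib.H16.ZasE2

open Subgroup Cfsg.Agent.Lib.H25.Zas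

variable {H : Type*} [Group H]

/-- two distinct commuting involutions -/
structure VPair (t u : H) : Prop where
  ht : orderOf t = 2
  hu : orderOf u = 2
  comm : t * u = u * t
  ne : t ≠ u

namespace VPair

variable {t u : H} (v : VPair t u)

include v

theorem t2 : t * t = 1 := by
  have := pow_orderOf_eq_one t
  rwa [v.ht, pow_two] at this

theorem u2 : u * u = 1 := by
  have := pow_orderOf_eq_one u
  rwa [v.hu, pow_two] at this

theorem t1 : t ≠ 1 := by
  intro h
  have := v.ht
  rw [h, orderOf_one] at this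
  omega

theorem u1 : u ≠ 1 := by
  intro h
  have := v.hu
  rw [h, orderOf_one] at this
  omega

theorem tinv : t⁻¹ = t := inv_eq_of_mul_eq_one_left v.t2

theorem uinv : u⁻¹ = u := inv_eq_of_mul_eq_one_left v.u2

theorem tu2 : (t * u) * (t * u) = 1 := by
  calc t * u * (t * u) = t * (u * t) * u := by group
    _ = t * (t * u) * u := by rw [v.comm]
    _ = (t * t) * (u * u) := by group
    _ = 1 := by rw [v.t2, v.u2, one_mul]

theorem tu1 : t * u ≠ 1 := by
  intro h
  apply v.ne
  have : t = u⁻¹ := eq_inv_of_mul_eq_one_left h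
  rw [this, v.uinv]

theorem tu_order : orderOf (t * u) = 2 :=
  orderOf_eq_prime (by rw [pow_two]; exact v.tu2) v.tu1

theorem tu_ne_t : t * u ≠ t := by
  intro h
  exact v.u1 (mul_eq_left.mp h)

theorem tu_ne_u : t * u ≠ u := by
  intro h
  exact v.t1 (mul_eq_right.mp h)

theorem symm : VPair u t := ⟨v.hu, v.ht, v.comm.symm, v.ne.symm⟩

theorem right : VPair t (t * u) := by
  refine ⟨v.ht, v.tu_order, ?_, Ne.symm v.tu_ne_t⟩
  rw [mul_assoc, ← v.comm]

theorem rot : VPair (t * u) t := v.right.symm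

theorem t_tu : t * (t * u) = u := by rw [← mul_assoc, v.t2, one_mul]

theorem u_tu : u * (t * u) = t := by rw [← mul_assoc, ← v.comm, mul_assoc, v.u2, mul_one]

theorem tu_t : t * u * t = u := by rw [mul_assoc, ← v.comm, ← mul_assoc, v.t2, one_mul]

theorem tu_u : t * u * u = t := by rw [mul_assoc, v.u2, mul_one]

/-- the four-group `{1, t, u, tu}` -/
def klein : Subgroup H := kleinOf t u v.t2 v.u2 v.comm

theorem mem_klein {x : H} : x ∈ v.klein ↔ x = 1 ∨ x = t ∨ x = u ∨ x = t * u := mem_kleinOf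

theorem t_mem : t ∈ v.klein := v.mem_klein.mpr (Or.inr (Or.inl rfl))

theorem u_mem : u ∈ v.klein := v.mem_klein.mpr (Or.inr (Or.inr (Or.inl rfl)))

theorem tu_mem : t * u ∈ v.klein := v.mem_klein.mpr (Or.inr (Or.inr (Or.inr rfl)))

theorem isKleinFour : IsKleinFour v.klein :=
  isKleinFour_kleinOf v.t2 v.u2 v.comm v.t1 v.u1 v.ne

/-- an element commuting with `t` and `u` commutes with every element of the four-group -/
theorem commute_of_mem {x s : H} (hs : s ∈ v.klein) (hxt : x * t = t * x) (hxu : x * u = u * x) :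
    x * s = s * x := by
  rcases v.mem_klein.mp hs with rfl | rfl | rfl | rfl
  · simp
  · exact hxt
  · exact hxu
  · rw [← mul_assoc, hxt, mul_assoc, hxu, mul_assoc]

theorem comm_of_mem {a b : H} (ha : a ∈ v.klein) (hb : b ∈ v.klein) : a * b = b * a := by
  apply v.commute_of_mem hb
  · exact (v.commute_of_mem ha rfl v.comm).symm
  · exact (v.commute_of_mem ha v.comm.symm rfl).symm

theorem sq_of_mem {a : H} (ha : a ∈ v.klein) : a * a = 1 := by
  rcases v.mem_klein.mp ha with rfl | rfl | rfl | rfl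
  · simp
  · exact v.t2
  · exact v.u2
  · exact v.tu2

theorem orderOf_of_mem {a : H} (ha : a ∈ v.klein) (ha1 : a ≠ 1) : orderOf a = 2 :=
  orderOf_eq_prime (by rw [pow_two]; exact v.sq_of_mem ha) ha1

end VPair

section ctx

variable [Finite H] {t u : H} (h : HCtx H 2) (v : VPair t u)

include h v

/-- the four-group is a Sylow 2-subgroup -/
theorem VPair.exists_sylow : ∃ S : Sylow 2 H, (S : Subgroup H) = v.klein := by
  haveI : Fact (Nat.Prime 2) := ⟨Nat.prime_two⟩
  have hc : Nat.card v.klein = 4 := v.isKleinFour.card_four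
  have hp : IsPGroup 2 v.klein := by
    apply IsPGroup.of_card (n := 2)
    rw [hc]; norm_num
  obtain ⟨S, hS⟩ := hp.exists_le_sylow
  refine ⟨S, ?_⟩
  symm
  apply Subgroup.eq_of_le_of_card_ge hS
  rw [hc, h.dih.card_sylow S]

/-- involutions of the Sylow 2-subgroup `{1, t, u, tu}` are conjugate in its normalizer -/
theorem VPair.exists_conj (S : Sylow 2 H) (hS : (S : Subgroup H) = v.klein) {a b : H}
    (ha : a ∈ v.klein) (hb : b ∈ v.klein) (ha1 : a ≠ 1) (hb1 : b ≠ 1) :
    ∃ g ∈ normalizer ((S : Subgroup H) : Set H), g * a * g⁻¹ = b := by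
  haveI : Fact (Nat.Prime 2) := ⟨Nat.prime_two⟩
  have oa := v.orderOf_of_mem ha ha1
  have ob := v.orderOf_of_mem hb hb1
  obtain ⟨c, hc⟩ := isConj_iff.mp (h.isConj_inv a b oa ob)
  have hcent : ∀ x ∈ v.klein, x ∈ centralizer ((S : Subgroup H) : Set H) := by
    intro x hx
    rw [mem_centralizer_iff]
    intro s hs
    have hs' : s ∈ v.klein := by rw [← hS]; exact hs
    exact v.comm_of_mem hs' hx
  have h1 : (c⁻¹)⁻¹ * a * c⁻¹ ∈ centralizer ((S : Subgroup H) : Set H) := by
    rw [inv_inv, hc]; exact hcent b hb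
  obtain ⟨n, hn, hn2⟩ := S.conj_eq_normalizer_conj_of_mem_centralizer a c⁻¹ (hcent a ha) h1
  refine ⟨n⁻¹, (normalizer ((S : Subgroup H) : Set H)).inv_mem hn, ?_⟩
  rw [inv_inv, ← hn2, inv_inv, hc]

end ctx

end Cfsg.Agent.Lib.H16.ZasE2
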