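import Mathlib
import Cfsg.Agent.Lib.H16.ZasE2b

/-!
# Zassenhaus, H-level, block E2, part c: the normalizer of a subgroup of prime order of `C_{K_t}(u)`

(helper16)  For `y ∈ K_t` of prime order commuting with `u`, `N = N_H(⟨y⟩)` contains the
centralizers of `t`, `u`, `tu` and the normalizer of the four-group.  If `N` is solvable the
four-group is normal in `N`; otherwise `N = L × C` with `L ≅ A₅`.
-/

set_option autoImplicit false
set_option linter.style.haveILetI false
set_option linter.unusedSectionVars false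

namespace Cfsg.Agent.Lib.H16.ZasE2

open Subgroup Cfsg.Agent.Lib.H25.Zas

variable {H : Type*} [Group H] [Finite H] {t u : H}

/-- the data: `y ∈ K_t` of prime order commuting with `u` -/
structure YData (t u y : H) : Prop where
  mem : y ∈ Kc t
  comm : u * y = y * u
  prime : (orderOf y).Prime

namespace YData

variable {y : H} (h : HCtx H 2) (v : VPair t u) (d : YData t u y)

include h v d

theorem comm_t : y * t = t * y := ((h.mem_Kc_iff v.ht).mp d.mem).1

theorem odd : Odd (orderOf y) := ((h.mem_Kc_iff v.ht).mp d.mem).2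

theorem ne_one : y ≠ 1 := by
  intro h1
  have := d.prime
  rw [h1, orderOf_one] at this
  exact Nat.not_prime_one this

theorem mem_u : y ∈ Kc u := (h.mem_Kc_iff v.hu).mpr ⟨d.comm.symm, d.odd h v⟩

theorem comm_tu : y * (t * u) = (t * u) * y := by
  rw [← mul_assoc, d.comm_t h v, mul_assoc, ← d.comm, mul_assoc]

theorem mem_tu : y ∈ Kc (t * u) :=
  (h.mem_Kc_iff v.tu_order).mpr ⟨d.comm_tu h v, d.odd h v⟩

theorem symm : YData u t y := ⟨d.mem_u h v, (d.comm_t h v).symm, d.prime⟩

theorem rot : YData (t * u) t y := ⟨d.mem_tu h v, (d.comm_t h v).symm, d.prime⟩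

/-- `y` commutes with the four-group -/
theorem comm_klein {s : H} (hs : s ∈ v.klein) : y * s = s * y :=
  v.commute_of_mem hs (d.comm_t h v) d.comm.symm

theorem centralizer_t_le {x : H} (hx : x * t = t * x) :
    x ∈ normalizer ((zpowers y : Subgroup H) : Set H) :=
  h.centralizer_le_normalizer_zpowers v.ht d.mem d.prime
    (mem_centralizer_singleton_iff.mpr hx)

theorem centralizer_u_le {x : H} (hx : x * u = u * x) :
    x ∈ normalizer ((zpowers y : Subgroup H) : Set H) :=
  h.centralizer_le_normalizer_zpowers v.hu (d.mem_u h v) d.prime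
    (mem_centralizer_singleton_iff.mpr hx)

theorem klein_le {s : H} (hs : s ∈ v.klein) :
    s ∈ normalizer ((zpowers y : Subgroup H) : Set H) :=
  d.centralizer_t_le h v (v.comm_of_mem hs v.t_mem)

/-- the normalizer of the four-group normalizes `⟨y⟩` -/
theorem normalizer_klein_le (S : Sylow 2 H) (hS : (S : Subgroup H) = v.klein) {g : H}
    (hg : g ∈ normalizer ((S : Subgroup H) : Set H)) :
    g ∈ normalizer ((zpowers y : Subgroup H) : Set H) := by
  have hconj : ∀ s ∈ v.klein, g⁻¹ * s * g ∈ v.klein := by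
    intro s hs
    rw [← hS] at hs ⊢
    have := (mem_normalizer_iff.mp ((normalizer ((S : Subgroup H) : Set H)).inv_mem hg) s).mp hs
    rwa [inv_inv] at this
  have hcomm : ∀ s ∈ v.klein, g * y * g⁻¹ * s = s * (g * y * g⁻¹) := by
    intro s hs
    have h1 := d.comm_klein h v (hconj s hs)
    calc g * y * g⁻¹ * s = g * (y * (g⁻¹ * s * g)) * g⁻¹ := by group
      _ = g * ((g⁻¹ * s * g) * y) * g⁻¹ := by rw [h1]
      _ = s * (g * y * g⁻¹) := by group
  have h2 : orderOf (g * y * g⁻¹) = orderOf y := Cfsg.Agent.Lib.H4.DihBSW.orderOf_conj' g y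
  have h3 : g * y * g⁻¹ ∈ Kc t := by
    rw [h.mem_Kc_iff v.ht]
    refine ⟨hcomm t v.t_mem, ?_⟩
    rw [h2]; exact d.odd h v
  have h4 := h.oddFPF.zpowers_eq_of_mem (Kc t) (h.odd_card_Kc v.ht) d.prime h3 d.mem h2 rfl
  exact mem_normalizer_zpowers_of_eq h4

theorem normalizer_ne_top : normalizer ((zpowers y : Subgroup H) : Set H) ≠ ⊤ :=
  h.normalizer_zpowers_ne_top (d.ne_one h v) (d.odd h v)

/-- the solvable case: the four-group is normal in `N` -/
theorem normal_of_solvable (S : Sylow 2 H) (hS : (S : Subgroup H) = v.klein)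
    (hsol : Group.IsSolvable (normalizer ((zpowers y : Subgroup H) : Set H))) :
    ∀ x ∈ normalizer ((zpowers y : Subgroup H) : Set H), ∀ s ∈ v.klein,
      x * s * x⁻¹ ∈ v.klein := by
  set N := normalizer ((zpowers y : Subgroup H) : Set H) with hN
  obtain ⟨Q, Z, hQN, hZN, hQn, hZn, hQp, hZodd, hZc, hQZ, hkey, hQmax, hZmax⟩ :=
    sol_structure_sub h.oddFPF N hsol
  have hSN : (S : Subgroup H) ≤ N := by
    intro s hs
    rw [hS] at hs
    exact d.klein_le h v hs
  have hQS : Q ≤ v.klein := by
    rw [← hS]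
    exact le_sylow_of_normBy N Q hQN hQn hQp S hSN
  by_cases hQ : Q = ⊥
  · exfalso
    obtain ⟨g, hg, hgt⟩ := v.exists_conj h S hS v.t_mem v.u_mem v.t1 v.u1
    have hgN : g ∈ N := d.normalizer_klein_le h v S hS hg
    have htN : t ∈ N := d.klein_le h v v.t_mem
    have h1 := commutator_mem_centralizer_of_cyclic Z hZc (hZn.le_normalizer hgN)
      (hZn.le_normalizer htN)
    rw [hgt, v.tinv] at h1
    have h2 : u * t ∈ N := N.mul_mem (d.klein_le h v v.u_mem) htN
    have h3 : u * t ∈ Q ⊔ Z := by
      apply hkey _ h2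
      · intro q hq
        rw [hQ, mem_bot] at hq
        rw [hq]; simp
      · intro z hz
        exact (mem_centralizer_iff.mp h1 z hz).symm
    rw [hQ, bot_sup_eq] at h3
    have h4 : orderOf (u * t) ∣ Nat.card Z := by
      have := orderOf_dvd_natCard (⟨u * t, h3⟩ : Z)
      rwa [Subgroup.orderOf_mk] at this
    rw [v.symm.tu_order] at h4
    exact absurd (Odd.of_dvd_nat hZodd h4) (by decide)
  · obtain ⟨q, hq1⟩ := (Subgroup.ne_bot_iff_exists_ne_one).mp hQ
    have hq1' : (q : H) ≠ 1 := fun h0 => hq1 (Subtype.ext h0)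
    have hSQ : v.klein ≤ Q := by
      intro s hs
      by_cases hs1 : s = 1
      · rw [hs1]; exact Q.one_mem
      · obtain ⟨g, hg, hgs⟩ := v.exists_conj h S hS (hQS q.2) hs hq1' hs1
        rw [← hgs]
        exact hQn g (d.normalizer_klein_le h v S hS hg) q q.2
    intro x hx s hs
    exact hQS (hQn x hx s (hSQ hs))

end YData

/-- an element of odd order normalizing the four-group and commuting with `t` commutes with `u` -/
theorem VPair.commute_of_normal (v : VPair t u) {k : H} (hk : ∀ s ∈ v.klein, k * s * k⁻¹ ∈ v.klein)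
    (hkt : k * t = t * k) (hodd : Odd (orderOf k)) : k * u = u * k := by
  have hkt' : k * t * k⁻¹ = t := by rw [hkt]; group
  rcases v.mem_klein.mp (hk u v.u_mem) with h1 | h1 | h1 | h1
  · exfalso
    apply v.u1
    have : u = k⁻¹ * (k * u * k⁻¹) * k := by group
    rw [this, h1]; group
  · exfalso
    apply v.ne
    have h2 : k * t * k⁻¹ = k * u * k⁻¹ := by rw [hkt', h1]
    exact mul_left_cancel (mul_right_cancel h2)
  · calc k * u = (k * u * k⁻¹) * k := by group
      _ = u * k := by rw [h1]
  · have h2 : k * (t * u) * k⁻¹ = u := by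
      have : k * (t * u) * k⁻¹ = (k * t * k⁻¹) * (k * u * k⁻¹) := by group
      rw [this, hkt', h1, v.t_tu]
    have h3 : Commute (k ^ 2) u := by
      show k ^ 2 * u = u * k ^ 2
      have : k ^ 2 * u * (k ^ 2)⁻¹ = u := by
        calc k ^ 2 * u * (k ^ 2)⁻¹ = k * (k * u * k⁻¹) * k⁻¹ := by rw [pow_two]; group
          _ = u := by rw [h1, h2]
      calc k ^ 2 * u = (k ^ 2 * u * (k ^ 2)⁻¹) * k ^ 2 := by group
        _ = u * k ^ 2 := by rw [this]
    exact (commute_of_sq_commute hodd h3).eq

end Cfsg.Agent.Lib.H16.ZasE2
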