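import Mathlib
import Cfsg.Agent.Lib.H16.ZasE2c

/-!
# Zassenhaus, H-level, block E2, part d: the nonsolvable case, and `K_t` centralizes `u`

(helper16)
-/

set_option autoImplicit false
set_option linter.style.haveILetI false
set_option linter.unusedSectionVars false

namespace Cfsg.Agent.Lib.H16.ZasE2

open Subgroup Cfsg.Agent.Lib.H25.Zas

theorem commutator_eq_top_of_mulEquiv {L A : Type*} [Group L] [Group A] (e : L ≃* A)
    (hA : commutator A = ⊤) : commutator L = ⊤ := by
  have hr : (⊤ : Subgroup L).map e.toMonoidHom = ⊤ := by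
    rw [← MonoidHom.range_eq_map]
    exact MonoidHom.range_eq_top.mpr e.surjective
  have h1 : (commutator L).map e.toMonoidHom = ⊤ := by
    rw [commutator_def, Subgroup.map_commutator, hr, ← commutator_def]
    exact hA
  apply Subgroup.map_injective (f := e.toMonoidHom) e.injective
  rw [h1, hr]

variable {H : Type*} [Group H] [Finite H] {t u : H}

/-- the order of `H` is not divisible by 8 -/
theorem not_eight_dvd (h : HCtx H 2) : ¬ 8 ∣ Nat.card H := by
  haveI : Fact (Nat.Prime 2) := ⟨Nat.prime_two⟩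
  obtain ⟨S⟩ : Nonempty (Sylow 2 H) := inferInstance
  have h1 := h.dih.card_sylow S
  have h2 := S.card_coprime_index
  have h3 := (S : Subgroup H).card_mul_index
  intro h8
  rw [← h3, h1] at h8
  rw [h1] at h2
  have h4 : 2 ∣ (S : Subgroup H).index := by
    obtain ⟨k, hk⟩ := h8
    exact ⟨k, by omega⟩
  have h5 : 2 ∣ Nat.gcd (2 * 2) (S : Subgroup H).index := Nat.dvd_gcd ⟨2, rfl⟩ h4
  rw [Nat.Coprime.gcd_eq_one h2] at h5
  omega

namespace YData

variable {y : H} (h : HCtx H 2) (v : VPair t u) (d : YData t u y)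

include h v d

/-- the nonsolvable case: `N = L × C` with `L ≅ A₅` -/
theorem structure_of_nonsolvable
    (hns : ¬ Group.IsSolvable (normalizer ((zpowers y : Subgroup H) : Set H))) :
    ∃ L C : Subgroup H, t ∈ L ∧ u ∈ L ∧ (∀ l ∈ L, l * y = y * l) ∧
      (∀ l ∈ L, ∀ c ∈ C, l * c = c * l) ∧ Odd (Nat.card C) ∧
      (∀ x ∈ normalizer ((zpowers y : Subgroup H) : Set H), ∃ l ∈ L, ∃ c ∈ C, x = l * c) ∧
      (∀ l ∈ L, l * t = t * l → Odd (orderOf l) → l = 1) := by
  set N := normalizer ((zpowers y : Subgroup H) : Set H) with hN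
  obtain ⟨L, C, hLN, hCN, hLn, hCn, ⟨e⟩, hLC, hCmax, hinf, hCodd, hC30, hcard, -⟩ :=
    nonsolvable_structure h.dih h.oddFPF h.hyp.perf N (d.normalizer_ne_top h v) hns
  have hcardL : Nat.card L = 60 := by rw [Nat.card_congr e.toEquiv, card_A5]
  have hcardN : Nat.card N = 60 * Nat.card C := by
    rcases hcard with h1 | h1
    · exact h1
    · exfalso
      apply not_eight_dvd h
      have h2 : Nat.card N ∣ Nat.card H := Subgroup.card_subgroup_dvd_card N
      rw [h1] at h2
      exact dvd_trans ⟨15 * Nat.card C, by ring⟩ h2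
  have hsup : L ⊔ C = N := by
    apply Subgroup.eq_of_le_of_card_ge (sup_le hLN hCN)
    rw [card_sup_of_commute L C hLC hinf, hcardL, hcardN]
  have hdecomp : ∀ x ∈ N, ∃ l ∈ L, ∃ c ∈ C, x = l * c := by
    intro x hx
    rw [← hsup] at hx
    exact mem_sup_of_commute L C hLC hx
  -- an involution of `N` lies in `L`
  have hinv : ∀ x ∈ N, x * x = 1 → x ∈ L := by
    intro x hx hx2
    obtain ⟨l, hl, c, hc, rfl⟩ := hdecomp x hx
    have h1 : l * l = (c * c)⁻¹ := by
      have : l * c * (l * c) = (l * l) * (c * c) := by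
        calc l * c * (l * c) = l * (c * l) * c := by group
          _ = l * (l * c) * c := by rw [hLC l hl c hc]
          _ = (l * l) * (c * c) := by group
      rw [this] at hx2
      exact eq_inv_of_mul_eq_one_left hx2
    have h2 : l * l ∈ L ⊓ C := by
      refine mem_inf.mpr ⟨L.mul_mem hl hl, ?_⟩
      rw [h1]; exact C.inv_mem (C.mul_mem hc hc)
    rw [hinf, mem_bot] at h2
    have h3 : c * c = 1 := by
      rw [h2] at h1
      have := inv_eq_one.mp h1.symm
      exact this
    have h4 : Odd (orderOf c) := by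
      have := orderOf_dvd_natCard (⟨c, hc⟩ : C)
      rw [Subgroup.orderOf_mk] at this
      exact Odd.of_dvd_nat hCodd this
    have h5 : c = 1 := eq_one_of_sq_of_odd h3 h4
    rw [h5, mul_one]; exact hl
  have htL : t ∈ L := hinv t (d.klein_le h v v.t_mem) v.t2
  have huL : u ∈ L := hinv u (d.klein_le h v v.u_mem) v.u2
  -- `L` is perfect, so centralizes `⟨y⟩`
  have hperf : commutator L = ⊤ :=
    commutator_eq_top_of_mulEquiv e (commutator_alternatingGroup_eq_top (by rw [Nat.card_fin]))
  have hLy : ∀ l ∈ L, l * y = y * l := by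
    let M : Subgroup L := (centralizer ((zpowers y : Subgroup H) : Set H)).subgroupOf L
    have h1 : commutator L ≤ M := by
      rw [commutator_def, Subgroup.commutator_le]
      intro a _ b _
      rw [mem_subgroupOf]
      have := commutator_mem_centralizer_of_cyclic (zpowers y) inferInstance
        (x := (a : H)) (y := (b : H)) (hLN a.2) (hLN b.2)
      simpa [commutatorElement_def] using this
    rw [hperf] at h1
    intro l hl
    have h2 : (⟨l, hl⟩ : L) ∈ M := h1 (mem_top _)
    rw [mem_subgroupOf] at h2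
    exact (mem_centralizer_iff.mp h2 y (mem_zpowers y)).symm
  -- centralizers of involutions in `A₅` are elementary abelian
  have hcent : ∀ l ∈ L, l * t = t * l → Odd (orderOf l) → l = 1 := by
    intro l hl hlt hodd
    apply eq_one_of_sq_of_odd _ hodd
    set a : Equiv.Perm (Fin 5) := (e ⟨t, htL⟩ : Equiv.Perm (Fin 5)) with ha
    set b : Equiv.Perm (Fin 5) := (e ⟨l, hl⟩ : Equiv.Perm (Fin 5)) with hb
    have hsa : Equiv.Perm.sign a = 1 := Equiv.Perm.mem_alternatingGroup.mp (e ⟨t, htL⟩).2
    have hsb : Equiv.Perm.sign b = 1 := Equiv.Perm.mem_alternatingGroup.mp (e ⟨l, hl⟩).2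
    have ha2 : a * a = 1 := by
      have h1 : (⟨t, htL⟩ : L) * ⟨t, htL⟩ = 1 := Subtype.ext v.t2
      have h2 := congrArg e h1
      rw [map_mul, map_one] at h2
      exact congrArg Subtype.val h2
    have ha1 : a ≠ 1 := by
      intro h1
      have h2 : e ⟨t, htL⟩ = 1 := Subtype.ext h1
      have h3 : (⟨t, htL⟩ : L) = 1 := by
        apply e.injective; rw [h2, map_one]
      exact v.t1 (congrArg Subtype.val h3)
    have hba : b * a = a * b := by
      have h1 : (⟨l, hl⟩ : L) * ⟨t, htL⟩ = ⟨t, htL⟩ * ⟨l, hl⟩ := Subtype.ext hlt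
      have h2 := congrArg e h1
      rw [map_mul, map_mul] at h2
      exact congrArg Subtype.val h2
    have hbb := (a5_centralizer_inv_aux a hsa ha2 ha1).2 b hsb hba
    have h1 : e (⟨l, hl⟩ * ⟨l, hl⟩) = 1 := by
      rw [map_mul]; exact Subtype.ext hbb
    have h2 : (⟨l, hl⟩ : L) * ⟨l, hl⟩ = 1 := by
      apply e.injective; rw [h1, map_one]
    exact congrArg Subtype.val h2
  exact ⟨L, C, htL, huL, hLy, hLC, hCodd, hdecomp, hcent⟩

/-- `K_t` centralizes `u` as soon as `C_{K_t}(u) ≠ 1` -/
theorem Kc_commute : ∀ x ∈ Kc t, x * u = u * x := by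
  intro x hx
  obtain ⟨hxt, hxodd⟩ := (h.mem_Kc_iff v.ht).mp hx
  have hxN := d.centralizer_t_le h v hxt
  obtain ⟨S, hS⟩ := v.exists_sylow h
  by_cases hsol : Group.IsSolvable (normalizer ((zpowers y : Subgroup H) : Set H))
  · have hnorm := d.normal_of_solvable h v S hS hsol
    exact v.commute_of_normal (hnorm x hxN) hxt hxodd
  · obtain ⟨L, C, htL, huL, hLy, hLC, hCodd, hdecomp, hcent⟩ := d.structure_of_nonsolvable h v hsol
    obtain ⟨l, hl, c, hc, hxlc⟩ := hdecomp x hxN
    have hcodd : Odd (orderOf c) := by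
      have := orderOf_dvd_natCard (⟨c, hc⟩ : C)
      rw [Subgroup.orderOf_mk] at this
      exact Odd.of_dvd_nat hCodd this
    have hlx : l = x * c⁻¹ := by rw [hxlc]; group
    have hxc : Commute x c⁻¹ := by
      have : Commute x c := by
        show x * c = c * x
        rw [hxlc, mul_assoc, ← mul_assoc c, ← hLC l hl c hc, mul_assoc]
      exact this.inv_right
    have hlodd : Odd (orderOf l) := by
      rw [hlx]
      have h1 := hxc.orderOf_mul_dvd_lcm
      apply Odd.of_dvd_nat _ h1
      rw [orderOf_inv]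
      exact Odd.of_dvd_nat (hxodd.mul hcodd) (Nat.lcm_dvd_mul _ _)
    have hlt : l * t = t * l := by
      have hct : t * c⁻¹ = c⁻¹ * t := by
        have := hLC t htL c hc
        calc t * c⁻¹ = c⁻¹ * (c * t) * c⁻¹ := by group
          _ = c⁻¹ * (t * c) * c⁻¹ := by rw [this]
          _ = c⁻¹ * t := by group
      rw [hlx]
      calc x * c⁻¹ * t = x * (c⁻¹ * t) := by group
        _ = x * (t * c⁻¹) := by rw [hct]
        _ = (x * t) * c⁻¹ := by group
        _ = (t * x) * c⁻¹ := by rw [hxt]
        _ = t * (x * c⁻¹) := by group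
    have hl1 := hcent l hl hlt hlodd
    rw [hl1, one_mul] at hxlc
    rw [hxlc]
    exact (hLC u huL c hc).symm

end YData

end Cfsg.Agent.Lib.H16.ZasE2
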