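import Mathlib
import Cfsg.Agent.Lib.H16.ZasE2d

/-!
# Zassenhaus, H-level, block E2, part e: `N_H(⟨y⟩) = C_H(y)` for the smallest prime, and the
contradiction by Burnside's transfer theorem

(helper16)
-/

set_option autoImplicit false
set_option linter.style.haveILetI false
set_option linter.unusedSectionVars false

namespace Cfsg.Agent.Lib.H16.ZasE2

open Subgroup Cfsg.Agent.Lib.H25.Zas

variable {H : Type*} [Group H] [Finite H] {t u : H}

/-- an element normalizing a group of prime order `p` induces an automorphism of order dividing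
`p - 1` -/
theorem pow_pred_commute {x y : H} {p : ℕ} (hp : p.Prime)
    (hy : orderOf y = p) (hx : x ∈ normalizer ((zpowers y : Subgroup H) : Set H)) :
    Commute (x ^ (p - 1)) y := by
  set φ := (zpowers y).normalizerMonoidHom with hφ
  have hcard : Nat.card (MulAut (zpowers y)) = p - 1 := by
    rw [IsCyclic.card_mulAut, Nat.card_zpowers, hy, Nat.totient_prime hp]
  have h2 : (φ ⟨x, hx⟩) ^ (p - 1) = 1 := by rw [← hcard]; exact pow_card_eq_one'
  have h3 : (⟨x, hx⟩ : normalizer ((zpowers y : Subgroup H) : Set H)) ^ (p - 1) ∈ φ.ker := by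
    rw [MonoidHom.mem_ker, map_pow]; exact h2
  rw [hφ, Subgroup.normalizerMonoidHom_ker, mem_subgroupOf] at h3
  have h4 : x ^ (p - 1) ∈ centralizer ((zpowers y : Subgroup H) : Set H) := by
    simpa using h3
  exact (mem_centralizer_iff.mp h4 y (mem_zpowers y)).symm

namespace YData

variable {y : H} (h : HCtx H 2) (v : VPair t u) (d : YData t u y)

include h v d

/-- if the order of `y` is the smallest prime divisor of `|K_t|` then `N_H(⟨y⟩) = C_H(y)` -/
theorem normalizer_commute (hmin : orderOf y = (Nat.card (Kc t)).minFac) :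
    ∀ x ∈ normalizer ((zpowers y : Subgroup H) : Set H), x * y = y * x := by
  have hpp : (orderOf y).Prime := d.prime
  have hp2 := hpp.two_le
  have hyodd := d.odd h v
  obtain ⟨S, hS⟩ := v.exists_sylow h
  have hK1 := d.Kc_commute h v
  have hK2 := (d.symm h v).Kc_commute h v.symm
  have hK3 := (d.rot h v).Kc_commute h v.rot
  have hKu : ∀ x ∈ Kc u, x ∈ Kc t := by
    intro x hx
    obtain ⟨_, hodd⟩ := (h.mem_Kc_iff v.hu).mp hx
    exact (h.mem_Kc_iff v.ht).mpr ⟨hK2 x hx, hodd⟩
  have hKtu : ∀ x ∈ Kc (t * u), x ∈ Kc t := by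
    intro x hx
    obtain ⟨_, hodd⟩ := (h.mem_Kc_iff v.tu_order).mp hx
    exact (h.mem_Kc_iff v.ht).mpr ⟨hK3 x hx, hodd⟩
  -- `K_t` centralizes `y`
  have hKy : ∀ k ∈ Kc t, k * y = y * k := by
    intro k hk
    have hkN := d.centralizer_t_le h v ((h.mem_Kc_iff v.ht).mp hk).1
    have hcop : (orderOf k).Coprime (orderOf y - 1) := by
      have h1 : orderOf k ∣ Nat.card (Kc t) := by
        have := orderOf_dvd_natCard (⟨k, hk⟩ : Kc t)
        rwa [Subgroup.orderOf_mk] at this
      have h2 : (Nat.card (Kc t)).Coprime (orderOf y - 1) := by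
        apply Nat.coprime_of_lt_minFac
        · omega
        · rw [← hmin]; omega
      exact Nat.Coprime.coprime_dvd_left h1 h2
    exact (commute_of_coprime_of_mem_normalizer hpp rfl hkN hcop).eq
  have hos : ∀ o ∈ Kc t, ∀ s ∈ v.klein, (o * s) * y = y * (o * s) := by
    intro o ho s hs
    have h1 := d.comm_klein h v hs
    calc o * s * y = o * (s * y) := by group
      _ = o * (y * s) := by rw [h1]
      _ = (o * y) * s := by group
      _ = (y * o) * s := by rw [hKy o ho]
      _ = y * (o * s) := by group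
  -- the centralizers of the three involutions are `K_t × V`
  have hdec : ∀ w : H, orderOf w = 2 → w ∈ v.klein → (∀ k ∈ Kc w, k ∈ Kc t) →
      ∀ x, x * w = w * x → ∃ o ∈ Kc t, ∃ s ∈ v.klein, x = o * s := by
    intro w ow hw hKw x hx
    have hwZ : ∀ s ∈ (S : Subgroup H), s * w = w * s := by
      intro s hs
      rw [hS] at hs
      exact v.comm_of_mem hs hw
    obtain ⟨o, ho, s, hs, rfl⟩ :=
      h.centralizer_eq_mul ow S hwZ x (mem_centralizer_singleton_iff.mpr hx)
    rw [hS] at hs
    exact ⟨o, hKw o ho, s, hs, rfl⟩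
  have hCt := hdec t v.ht v.t_mem (fun k hk => hk)
  have hCu := hdec u v.hu v.u_mem hKu
  have hCtu := hdec (t * u) v.tu_order v.tu_mem hKtu
  have hC : ∀ x, (x * t = t * x ∨ x * u = u * x ∨ x * (t * u) = (t * u) * x) →
      x * y = y * x := by
    intro x hx
    rcases hx with hx | hx | hx
    · obtain ⟨o, ho, s, hs, rfl⟩ := hCt x hx
      exact hos o ho s hs
    · obtain ⟨o, ho, s, hs, rfl⟩ := hCu x hx
      exact hos o ho s hs
    · obtain ⟨o, ho, s, hs, rfl⟩ := hCtu x hx
      exact hos o ho s hs
  intro x hxN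
  by_cases hsol : Group.IsSolvable (normalizer ((zpowers y : Subgroup H) : Set H))
  · have hnorm := d.normal_of_solvable h v S hS hsol
    by_cases hfix : (x * t = t * x ∨ x * u = u * x ∨ x * (t * u) = (t * u) * x)
    · exact hC x hfix
    · push Not at hfix
      obtain ⟨hf1, hf2, hf3⟩ := hfix
      have hconj_ne : ∀ w : H, x * w ≠ w * x → x * w * x⁻¹ ≠ w := by
        intro w hw hc
        apply hw
        calc x * w = (x * w * x⁻¹) * x := by group
          _ = w * x := by rw [hc]
      have hconj_one : ∀ w : H, w ≠ 1 → x * w * x⁻¹ ≠ 1 := by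
        intro w hw hc
        apply hw
        have : w = x⁻¹ * (x * w * x⁻¹) * x := by group
        rw [this, hc]; group
      have hab : x * (t * u) * x⁻¹ = (x * t * x⁻¹) * (x * u * x⁻¹) := by group
      have ha := hnorm x hxN t v.t_mem
      have hb := hnorm x hxN u v.u_mem
      have ha1 := hconj_one t v.t1
      have hb1 := hconj_one u v.u1
      have hat := hconj_ne t hf1
      have hbu := hconj_ne u hf2
      have habtu := hconj_ne (t * u) hf3
      have hne : x * t * x⁻¹ ≠ x * u * x⁻¹ := by
        intro hc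
        exact v.ne (mul_left_cancel (mul_right_cancel hc))
      -- `x ^ 3` centralizes `t`
      have hx3 : x ^ 3 * t = t * x ^ 3 := by
        have hx3' : x ^ 3 * t * (x ^ 3)⁻¹ = t := by
          have e1 : x ^ 3 * t * (x ^ 3)⁻¹ = x * (x * (x * t * x⁻¹) * x⁻¹) * x⁻¹ := by
            rw [pow_succ, pow_two]; group
          rw [e1]
          rcases v.mem_klein.mp ha with h1 | h1 | h1 | h1
          · exact absurd h1 ha1
          · exact absurd h1 hat
          · -- `t ↦ u`
            rcases v.mem_klein.mp hb with h2 | h2 | h2 | h2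
            · exact absurd h2 hb1
            · exfalso
              apply habtu
              rw [hab, h1, h2, v.comm]
            · exact absurd h2 hbu
            · rw [h1, h2, hab, h1, h2, v.u_tu]
          · -- `t ↦ tu`
            rcases v.mem_klein.mp hb with h2 | h2 | h2 | h2
            · exact absurd h2 hb1
            · rw [h1, hab, h1, h2, v.tu_t, h2]
            · exact absurd h2 hbu
            · exact absurd (h1.trans h2.symm) hne
        calc x ^ 3 * t = (x ^ 3 * t * (x ^ 3)⁻¹) * x ^ 3 := by group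
          _ = t * x ^ 3 := by rw [hx3']
      have hx3y : Commute (x ^ 3) y := hC (x ^ 3) (Or.inl hx3)
      by_cases h3 : 3 ∣ Nat.card (Kc t)
      · -- `p = 3`
        have hp3 : orderOf y = 3 := by
          have h4 : orderOf y ≤ 3 := by
            rw [hmin]; exact Nat.minFac_le_of_dvd (by norm_num) h3
          have h5 := Nat.odd_iff.mp hyodd
          omega
        have hx2y : Commute (x ^ 2) y := by
          have := pow_pred_commute hpp rfl hxN
          rwa [hp3] at this
        exact (commute_of_pow_commute hx3y hx2y (by norm_num)).eq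
      · -- `3 ∤ |K_t|`
        set r := 2 * Nat.card (Kc t) with hr
        obtain ⟨o, ho, s, hs, hx3os⟩ := hCt (x ^ 3) hx3
        obtain ⟨hot, _⟩ := (h.mem_Kc_iff v.ht).mp ho
        have hcos : Commute o s := v.commute_of_mem hs hot (hK1 o ho)
        have hor : o ^ r = 1 := by
          have h4 : (⟨o, ho⟩ : Kc t) ^ Nat.card (Kc t) = 1 := pow_card_eq_one'
          have h5 : o ^ Nat.card (Kc t) = 1 := congrArg Subtype.val h4
          rw [hr, mul_comm, pow_mul, h5, one_pow]
        have hsr : s ^ r = 1 := by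
          have h4 : s ^ 2 = 1 := by rw [pow_two]; exact v.sq_of_mem hs
          rw [hr, pow_mul, h4, one_pow]
        have hx'3 : (x ^ r) ^ 3 = 1 := by
          rw [← pow_mul, mul_comm, pow_mul, hx3os, hcos.mul_pow, hor, hsr, one_mul]
        have hxry : Commute (x ^ r) y := by
          by_cases hx'1 : x ^ r = 1
          · rw [hx'1]; exact Commute.one_left y
          · have ho3 : orderOf (x ^ r) = 3 := orderOf_eq_prime hx'3 hx'1
            have hyne3 : orderOf y ≠ 3 := by
              intro hc
              apply h3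
              rw [← hc, hmin]
              exact Nat.minFac_dvd _
            apply commute_of_prime_of_mem_normalizer h.oddFPF
            · rw [ho3]; exact Nat.prime_three
            · exact hpp
            · rw [ho3]; decide
            · exact hyodd
            · exact pow_mem hxN r
        have hcop : Nat.Coprime 3 r := by
          rw [hr]
          apply Nat.Coprime.mul_right (by norm_num)
          exact (Nat.Prime.coprime_iff_not_dvd Nat.prime_three).mpr h3
        exact (commute_of_pow_commute hx3y hxry hcop).eq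
  · obtain ⟨L, C, htL, huL, hLy, hLC, hCodd, hdecomp, hcent⟩ :=
      d.structure_of_nonsolvable h v hsol
    obtain ⟨l, hl, c, hc, rfl⟩ := hdecomp x hxN
    have hcodd : Odd (orderOf c) := by
      have := orderOf_dvd_natCard (⟨c, hc⟩ : C)
      rw [Subgroup.orderOf_mk] at this
      exact Odd.of_dvd_nat hCodd this
    have hcK : c ∈ Kc t := (h.mem_Kc_iff v.ht).mpr ⟨(hLC t htL c hc).symm, hcodd⟩
    calc l * c * y = l * (c * y) := by group
      _ = l * (y * c) := by rw [hKy c hcK]
      _ = (l * y) * c := by group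
      _ = (y * l) * c := by rw [hLy l hl]
      _ = y * (l * c) := by group

end YData

/-- BLOCK E2: if Sylow 2-subgroups have order 4 then `C_{K_t}(u) = 1` -/
theorem VPair.eq_one (h : HCtx H 2) (v : VPair t u) {y₀ : H} (hy₀ : y₀ ∈ Kc t)
    (hy₀u : u * y₀ = y₀ * u) : y₀ = 1 := by
  by_contra hne
  obtain ⟨hy₀t, hodd₀⟩ := (h.mem_Kc_iff v.ht).mp hy₀
  -- a power of prime order
  have ho1 : orderOf y₀ ≠ 1 := fun h1 => hne (orderOf_eq_one_iff.mp h1)
  have hq : (orderOf y₀).minFac.Prime := Nat.minFac_prime ho1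
  have ho0 : orderOf y₀ ≠ 0 := (orderOf_pos y₀).ne'
  set y₁ := y₀ ^ (orderOf y₀ / (orderOf y₀).minFac) with hy₁
  have hoy₁ : orderOf y₁ = (orderOf y₀).minFac :=
    orderOf_pow_orderOf_div ho0 (Nat.minFac_dvd _)
  have d₁ : YData t u y₁ := by
    refine ⟨pow_mem hy₀ _, ?_, by rw [hoy₁]; exact hq⟩
    exact ((show Commute u y₀ from hy₀u).pow_right _).eq
  have hK1 := d₁.Kc_commute h v
  -- the smallest prime divisor of `|K_t|`
  have hcard1 : Nat.card (Kc t) ≠ 1 := by
    intro h1
    have := (Subgroup.card_eq_one.mp h1)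
    rw [this, mem_bot] at hy₀
    exact hne hy₀
  set p := (Nat.card (Kc t)).minFac with hp
  have hpp : p.Prime := Nat.minFac_prime hcard1
  haveI : Fact p.Prime := ⟨hpp⟩
  obtain ⟨y, hy⟩ := exists_prime_orderOf_dvd_card' (G := Kc t) p (Nat.minFac_dvd _)
  have hoy : orderOf (y : H) = p := by rw [Subgroup.orderOf_coe]; exact hy
  have d : YData t u (y : H) := ⟨y.2, (hK1 y y.2).symm, by rw [hoy]; exact hpp⟩
  have hcomm := d.normalizer_commute h v hoy
  have hpodd : Odd p := hoy ▸ d.odd h v
  -- a Sylow `p`-subgroup containing `y`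
  have hyp : IsPGroup p (zpowers (y : H)) := by
    apply IsPGroup.of_card (n := 1)
    rw [Nat.card_zpowers, hoy, pow_one]
  obtain ⟨P, hP⟩ := hyp.exists_le_sylow
  have hyP : (y : H) ∈ (P : Subgroup H) := hP (mem_zpowers _)
  have hPodd : Odd (Nat.card (P : Subgroup H)) := by
    obtain ⟨k, hk⟩ := P.isPGroup'.exists_card_eq
    rw [hk]; exact hpodd.pow
  have hfpf := h.oddFPF (P : Subgroup H) hPodd
  have hnil : Group.IsNilpotent (P : Subgroup H) := P.isPGroup'.isNilpotent
  haveI hcyc : IsCyclic (P : Subgroup H) := hfpf.isCyclic_of_isNilpotent hPodd hnil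
  have hNC : normalizer ((P : Subgroup H) : Set H) ≤ centralizer ((P : Subgroup H) : Set H) := by
    intro g hg
    have h1 : g * y * g⁻¹ ∈ (P : Subgroup H) := (mem_normalizer_iff.mp hg y).mp hyP
    have h2 : orderOf (g * (y : H) * g⁻¹) = p := by
      rw [Cfsg.Agent.Lib.H4.DihBSW.orderOf_conj']; exact hoy
    have h3 := h.oddFPF.zpowers_eq_of_mem (P : Subgroup H) hPodd hpp h1 hyP h2 hoy
    have hgN : g ∈ normalizer ((zpowers (y : H) : Subgroup H) : Set H) :=
      mem_normalizer_zpowers_of_eq h3
    have hgy := hcomm g hgN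
    exact Cfsg.Agent.Lib.H4.Zas.mem_centralizer_of_commute_ne_one P hg hyP (d.ne_one h v) hgy
  -- Burnside's transfer theorem
  have hcompl := MonoidHom.ker_transferSylow_isComplement' P hNC
  haveI := h.simple
  have hnormal : (MonoidHom.transferSylow P hNC).ker.Normal := MonoidHom.normal_ker _
  rcases hnormal.eq_bot_or_eq_top with hk | hk
  · rw [hk, isComplement'_bot_left] at hcompl
    have h1 : Nat.card H = Nat.card (P : Subgroup H) := by
      rw [hcompl, Subgroup.card_top]
    have h2 : orderOf t ∣ Nat.card H := orderOf_dvd_natCard t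
    rw [v.ht, h1] at h2
    exact absurd (Odd.of_dvd_nat hPodd h2) (by decide)
  · rw [hk, isComplement'_top_left] at hcompl
    rw [hcompl, mem_bot] at hyP
    exact d.ne_one h v hyP

end Cfsg.Agent.Lib.H16.ZasE2

namespace Cfsg.Agent.Lib.H25.Zas

open Subgroup

/-- BLOCK E2 -/
theorem HCtx.part_E_two {H : Type*} [Group H] [Finite H] (h : HCtx H 2) (t u : H)
    (ht : orderOf t = 2) (hu : orderOf u = 2) (htu : t * u = u * t) (hne : t ≠ u) :
    ∀ y ∈ Kc t, u * y = y * u → y = 1 := by
  intro y hy hyu
  exact Cfsg.Agent.Lib.H16.ZasE2.VPair.eq_one h ⟨ht, hu, htu, hne⟩ hy hyu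

end Cfsg.Agent.Lib.H25.Zas
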