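import Mathlib
import Cfsg.Agent.Lib.H25.ZasE4f
import Cfsg.Agent.Lib.H16.ZasE2a

/-!
# Zassenhaus, H-level, block E4, local estimates Q2/Q3, part a

(helper16)  Facts on `A₄` and `S₄`, the four-group of a subgroup isomorphic to `A₄`, and the
orbit-stabilizer formula for a subgroup acting on subgroups by conjugation.
-/

set_option autoImplicit false
set_option linter.style.haveILetI false
set_option linter.unusedSectionVars false

namespace Cfsg.Agent.Lib.H16.ZasQ

open Subgroup Equiv Cfsg.Agent.Lib.H25.Zas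

open scoped Pointwise

/-- two commuting involutions of `A₄` -/
def s1 : Perm (Fin 4) := swap 0 1 * swap 2 3

/-- two commuting involutions of `A₄` -/
def s2 : Perm (Fin 4) := swap 0 2 * swap 1 3

theorem a4_basic : Perm.sign s1 = 1 ∧ Perm.sign s2 = 1 ∧ s1 * s1 = 1 ∧ s2 * s2 = 1 ∧
    s1 * s2 = s2 * s1 ∧ s1 ≠ 1 ∧ s2 ≠ 1 ∧ s1 ≠ s2 := by
  decide

set_option maxRecDepth 100000 in
theorem a4_inv : ∀ x : Perm (Fin 4), Perm.sign x = 1 → x * x = 1 →
    x = 1 ∨ x = s1 ∨ x = s2 ∨ x = s1 * s2 := by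
  decide

set_option maxRecDepth 100000 in
theorem a4_fpf : ∀ a w : Perm (Fin 4), Perm.sign a = 1 → Perm.sign w = 1 → a * a * a = 1 → a ≠ 1 →
    w * w = 1 → w ≠ 1 → a * w ≠ w * a := by
  decide

set_option maxRecDepth 100000 in
theorem s4_three : ∀ a : Perm (Fin 4), a * a * a = 1 → Perm.sign a = 1 := by
  decide

variable {H : Type*} [Group H]

/-- the four-group of a subgroup isomorphic to `A₄`: its elements of order at most two -/
theorem exists_klein_of_equiv_A4 (X : Subgroup H) (e : X ≃* alternatingGroup (Fin 4)) :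
    ∃ W : Subgroup H, IsKleinFour W ∧ ∀ x, x ∈ W ↔ x ∈ X ∧ x * x = 1 := by
  obtain ⟨h1, h2, h3, h4, h5, h6, h7, h8⟩ := a4_basic
  let σ1 : alternatingGroup (Fin 4) := ⟨s1, Perm.mem_alternatingGroup.mpr h1⟩
  let σ2 : alternatingGroup (Fin 4) := ⟨s2, Perm.mem_alternatingGroup.mpr h2⟩
  set τ1 : H := (e.symm σ1 : H) with hτ1
  set τ2 : H := (e.symm σ2 : H) with hτ2
  have hσ11 : σ1 * σ1 = 1 := Subtype.ext h3
  have hσ22 : σ2 * σ2 = 1 := Subtype.ext h4
  have hσ12 : σ1 * σ2 = σ2 * σ1 := Subtype.ext h5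
  have k1 : τ1 * τ1 = 1 := by
    have : e.symm σ1 * e.symm σ1 = 1 := by rw [← map_mul, hσ11, map_one]
    exact congrArg Subtype.val this
  have k2 : τ2 * τ2 = 1 := by
    have : e.symm σ2 * e.symm σ2 = 1 := by rw [← map_mul, hσ22, map_one]
    exact congrArg Subtype.val this
  have k3 : τ1 * τ2 = τ2 * τ1 := by
    have : e.symm σ1 * e.symm σ2 = e.symm σ2 * e.symm σ1 := by
      rw [← map_mul, ← map_mul, hσ12]
    exact congrArg Subtype.val this
  have k4 : τ1 ≠ 1 := by
    intro hc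
    have h9 : e.symm σ1 = 1 := Subtype.ext hc
    have h10 : σ1 = 1 := by
      have := congrArg e h9
      rwa [MulEquiv.apply_symm_apply, map_one] at this
    exact h6 (congrArg Subtype.val h10)
  have k5 : τ2 ≠ 1 := by
    intro hc
    have h9 : e.symm σ2 = 1 := Subtype.ext hc
    have h10 : σ2 = 1 := by
      have := congrArg e h9
      rwa [MulEquiv.apply_symm_apply, map_one] at this
    exact h7 (congrArg Subtype.val h10)
  have k6 : τ1 ≠ τ2 := by
    intro hc
    have h9 : e.symm σ1 = e.symm σ2 := Subtype.ext hc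
    have h10 : σ1 = σ2 := e.symm.injective h9
    exact h8 (congrArg Subtype.val h10)
  refine ⟨kleinOf τ1 τ2 k1 k2 k3, isKleinFour_kleinOf k1 k2 k3 k4 k5 k6, ?_⟩
  intro x
  rw [mem_kleinOf]
  constructor
  · rintro (rfl | rfl | rfl | rfl)
    · exact ⟨X.one_mem, by simp⟩
    · exact ⟨(e.symm σ1).2, k1⟩
    · exact ⟨(e.symm σ2).2, k2⟩
    · refine ⟨X.mul_mem (e.symm σ1).2 (e.symm σ2).2, ?_⟩
      calc τ1 * τ2 * (τ1 * τ2) = τ1 * (τ2 * τ1) * τ2 := by group
        _ = τ1 * (τ1 * τ2) * τ2 := by rw [k3]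
        _ = (τ1 * τ1) * (τ2 * τ2) := by group
        _ = 1 := by rw [k1, k2, one_mul]
  · rintro ⟨hxX, hx2⟩
    set a : Perm (Fin 4) := (e ⟨x, hxX⟩ : Perm (Fin 4)) with ha
    have hsa : Perm.sign a = 1 := Perm.mem_alternatingGroup.mp (e ⟨x, hxX⟩).2
    have ha2 : a * a = 1 := by
      have h9 : (⟨x, hxX⟩ : X) * ⟨x, hxX⟩ = 1 := Subtype.ext hx2
      have h10 := congrArg e h9
      rw [map_mul, map_one] at h10
      exact congrArg Subtype.val h10
    have hback : ∀ σ : alternatingGroup (Fin 4), e ⟨x, hxX⟩ = σ → x = (e.symm σ : H) := by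
      intro σ hσ
      rw [← hσ, MulEquiv.symm_apply_apply]
    rcases a4_inv a hsa ha2 with h9 | h9 | h9 | h9
    · left
      have := hback 1 (Subtype.ext h9)
      rw [this, map_one]; rfl
    · right; left
      exact hback σ1 (Subtype.ext h9)
    · right; right; left
      exact hback σ2 (Subtype.ext h9)
    · right; right; right
      have := hback (σ1 * σ2) (Subtype.ext h9)
      rw [this, map_mul]; rfl

/-- an element of order three of `X ≅ A₄` commutes with no involution of `X` -/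
theorem not_commute_of_equiv_A4 (X : Subgroup H) (e : X ≃* alternatingGroup (Fin 4)) {b w : H}
    (hb : b ∈ X) (ob : orderOf b = 3) (hw : w ∈ X) (hw2 : w * w = 1) (hw1 : w ≠ 1) :
    b * w ≠ w * b := by
  intro hc
  set a : Perm (Fin 4) := (e ⟨b, hb⟩ : Perm (Fin 4)) with ha
  set c : Perm (Fin 4) := (e ⟨w, hw⟩ : Perm (Fin 4)) with hcdef
  have hsa : Perm.sign a = 1 := Perm.mem_alternatingGroup.mp (e ⟨b, hb⟩).2
  have hsc : Perm.sign c = 1 := Perm.mem_alternatingGroup.mp (e ⟨w, hw⟩).2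
  have hb3 : b * b * b = 1 := by
    have := pow_orderOf_eq_one b
    rw [ob, pow_succ, pow_two] at this
    exact this
  have hb1 : b ≠ 1 := by
    intro h1
    rw [h1, orderOf_one] at ob
    omega
  have ha3 : a * a * a = 1 := by
    have h9 : (⟨b, hb⟩ : X) * ⟨b, hb⟩ * ⟨b, hb⟩ = 1 := Subtype.ext hb3
    have h10 := congrArg e h9
    rw [map_mul, map_mul, map_one] at h10
    exact congrArg Subtype.val h10
  have ha1 : a ≠ 1 := by
    intro h9
    have h10 : e ⟨b, hb⟩ = 1 := Subtype.ext h9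
    have h11 : (⟨b, hb⟩ : X) = 1 := by
      apply e.injective; rw [h10, map_one]
    exact hb1 (congrArg Subtype.val h11)
  have hc2 : c * c = 1 := by
    have h9 : (⟨w, hw⟩ : X) * ⟨w, hw⟩ = 1 := Subtype.ext hw2
    have h10 := congrArg e h9
    rw [map_mul, map_one] at h10
    exact congrArg Subtype.val h10
  have hc1 : c ≠ 1 := by
    intro h9
    have h10 : e ⟨w, hw⟩ = 1 := Subtype.ext h9
    have h11 : (⟨w, hw⟩ : X) = 1 := by
      apply e.injective; rw [h10, map_one]
    exact hw1 (congrArg Subtype.val h11)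
  have hac : a * c = c * a := by
    have h9 : (⟨b, hb⟩ : X) * ⟨w, hw⟩ = ⟨w, hw⟩ * ⟨b, hb⟩ := Subtype.ext hc
    have h10 := congrArg e h9
    rw [map_mul, map_mul] at h10
    exact congrArg Subtype.val h10
  exact a4_fpf a c hsa hsc ha3 ha1 hc2 hc1 hac

/-- Orbit-stabilizer for a subgroup `N` acting by conjugation on a subgroup `X`:
`|N| = #{n X n⁻¹ : n ∈ N} * |N ∩ N_G(X)|`. -/
theorem card_eq_ncard_conj_subgroup_mul [Finite H] (N : Subgroup H) (X : Subgroup H) :
    Nat.card N = {Y : Subgroup H | ∃ n ∈ N, MulAut.conj n • X = Y}.ncard *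
      Nat.card ↥(N ⊓ normalizer (X : Set H)) := by
  letI : MulAction N (Subgroup H) :=
    MulAction.compHom (Subgroup H) ((MulAut.conj : H →* MulAut H).comp N.subtype)
  have hsmul : ∀ (n : N) (Y : Subgroup H), n • Y = MulAut.conj (n : H) • Y := fun n Y => rfl
  have h1 := MulAction.index_stabilizer N X
  have h2 : MulAction.orbit N X = {Y | ∃ n ∈ N, MulAut.conj n • X = Y} := by
    ext Y; constructor
    · rintro ⟨n, rfl⟩; exact ⟨n.1, n.2, (hsmul n X).symm⟩
    · rintro ⟨n, hn, rfl⟩; exact ⟨⟨n, hn⟩, hsmul _ _⟩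
  have hstab : ∀ n : H, MulAut.conj n • X = X ↔ n ∈ normalizer (X : Set H) := by
    intro n
    rw [mem_normalizer_iff]
    constructor
    · intro hn x
      constructor
      · intro hx
        have : MulAut.conj n • x ∈ MulAut.conj n • X := smul_mem_pointwise_smul _ _ _ hx
        rw [hn] at this
        simpa [MulAut.smul_def] using this
      · intro hx
        have h3 : MulAut.conj n • x ∈ MulAut.conj n • X := by
          rw [hn]; simpa [MulAut.smul_def] using hx
        exact smul_mem_pointwise_smul_iff.mp h3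
    · intro hn
      ext x
      rw [mem_pointwise_smul_iff_inv_smul_mem]
      have h3 : (MulAut.conj n)⁻¹ • x = n⁻¹ * x * n := by
        simp [MulAut.smul_def]
      rw [h3, hn (n⁻¹ * x * n)]
      have : n * (n⁻¹ * x * n) * n⁻¹ = x := by group
      rw [this]
  have h3 : Nat.card (MulAction.stabilizer N X) =
      Nat.card ↥(N ⊓ normalizer (X : Set H)) := by
    apply Nat.card_congr
    refine ⟨fun n => ⟨n.1.1, n.1.2, ?_⟩, fun m => ⟨⟨m.1, m.2.1⟩, ?_⟩, fun n => rfl, fun m => rfl⟩
    · have := n.2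
      rw [MulAction.mem_stabilizer_iff, hsmul] at this
      exact (hstab _).mp this
    · rw [MulAction.mem_stabilizer_iff, hsmul]
      exact (hstab _).mpr m.2.2
  rw [← h2, ← h1, ← h3, mul_comm]
  exact (Subgroup.card_mul_index _).symm

end Cfsg.Agent.Lib.H16.ZasQ
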