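import Mathlib
import Cfsg.Agent.Lib.H16.ZasQa

/-!
# Zassenhaus, H-level, block E4, local estimates Q2/Q3, part b: the common lemma

(helper16)  `BadFour t u`, `b ∈ K_t` of order 3, `W` a four-group normalized by `b` on which `b`
acts without fixed points.  Then `C_H(W) = W`, `|N_H(W)| ≤ 24` and `C_{N_H(W)}(b) = ⟨b⟩`.
-/

set_option autoImplicit false
set_option linter.style.haveILetI false
set_option linter.unusedSectionVars false

namespace Cfsg.Agent.Lib.H16.ZasQ

open Subgroup Cfsg.Agent.Lib.H25.Zas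

variable {H : Type*} [Group H] [Finite H] {t u b : H} {W : Subgroup H}

theorem ncard_pair_le {α : Type*} (a b : α) : ({a, b} : Set α).ncard ≤ 2 := by
  calc ({a, b} : Set α).ncard ≤ ({b} : Set α).ncard + 1 := Set.ncard_insert_le a {b}
    _ = 2 := by rw [Set.ncard_singleton]

theorem ncard_triple_le {α : Type*} (a b c : α) : ({a, b, c} : Set α).ncard ≤ 3 := by
  calc ({a, b, c} : Set α).ncard ≤ ({b, c} : Set α).ncard + 1 := Set.ncard_insert_le a {b, c}
    _ ≤ 2 + 1 := by have := ncard_pair_le b c; omega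

omit [Finite H] in
theorem commute_mul_of_commute {x a c : H} (ha : x * a = a * x) (hc : x * c = c * x) :
    x * (a * c) = (a * c) * x := by
  rw [← mul_assoc, ha, mul_assoc, hc, mul_assoc]

/-- the data of the common lemma -/
structure KData (t u b : H) (W : Subgroup H) : Prop where
  bad : BadFour t u
  hb : b ∈ Kc t
  ob : orderOf b = 3
  hW : IsKleinFour W
  hbW : b ∈ normalizer (W : Set H)
  fpf : ∀ w ∈ W, w ≠ 1 → b * w ≠ w * b

namespace KData

variable (h : HCtx H 4) (D : KData t u b W)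

include h D

theorem sq_of_mem {w : H} (hw : w ∈ W) : w * w = 1 := by
  haveI := D.hW
  have := IsKleinFour.mul_self (⟨w, hw⟩ : W)
  exact congrArg Subtype.val this

theorem orderOf_of_mem {w : H} (hw : w ∈ W) (hw1 : w ≠ 1) : orderOf w = 2 :=
  orderOf_eq_prime (by rw [pow_two]; exact D.sq_of_mem h hw) hw1

theorem conj_mem {w : H} (hw : w ∈ W) : b * w * b⁻¹ ∈ W :=
  (mem_normalizer_iff.mp D.hbW w).mp hw

theorem conj_ne_one {w : H} (hw1 : w ≠ 1) : b * w * b⁻¹ ≠ 1 := by
  intro hc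
  apply hw1
  have : w = b⁻¹ * (b * w * b⁻¹) * b := by group
  rw [this, hc]; group

/-- for distinct involutions `t', u'` of `W`: `C_{K_{t'}}(u') = 1` -/
theorem eq_one_of_commute {t' u' : H} (ht' : t' ∈ W) (hu' : u' ∈ W) (ht'1 : t' ≠ 1)
    (hu'1 : u' ≠ 1) (hne : t' ≠ u') {y : H} (hy : y ∈ Kc t') (hyu : u' * y = y * u') : y = 1 := by
  by_contra hy1
  obtain ⟨hx2, hy2, hxy, hWeq⟩ := eq_kleinOf_of_isKleinFour W D.hW ht' hu' ht'1 hu'1 hne
  have ot' := D.orderOf_of_mem h ht' ht'1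
  have ou' := D.orderOf_of_mem h hu' hu'1
  have B' : BadFour t' u' := h.badFour_of ot' ou' hxy hne hy hy1 hyu
  have hKu : Kc u' = Kc t' := B'.Kc_eq h
  have hKtu : Kc (t' * u') = Kc t' := B'.Kc_mul_eq h
  -- `b` normalizes `K' = Kc t'`
  have hbK : b ∈ normalizer ((Kc t' : Subgroup H) : Set H) := by
    apply Cfsg.Agent.Lib.L0.mem_normalizer_of_forall_conj_mem
    intro k hk
    have h1 := h.conj_mem_Kc ot' b hk
    have h2 := D.conj_mem h ht'
    rw [hWeq] at h2
    rcases mem_kleinOf.mp h2 with h3 | h3 | h3 | h3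
    · exact absurd h3 (D.conj_ne_one h ht'1)
    · rwa [h3] at h1
    · rwa [h3, hKu] at h1
    · rwa [h3, hKtu] at h1
  -- an element of order three of `K'`
  obtain ⟨g, hg⟩ := isConj_iff.mp (h.isConj_inv t t' D.bad.ht ot')
  have hb' : g * b * g⁻¹ ∈ Kc t' := by
    have := h.conj_mem_Kc D.bad.ht g D.hb
    rwa [hg] at this
  have ob' : orderOf (g * b * g⁻¹) = 3 := by
    rw [Cfsg.Agent.Lib.H4.DihBSW.orderOf_conj']; exact D.ob
  set R : Subgroup H := zpowers b ⊔ Kc t' with hR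
  have hle : zpowers b ≤ normalizer ((Kc t' : Subgroup H) : Set H) := by
    rw [zpowers_le]; exact hbK
  have hdvd := Cfsg.Agent.Lib.H16.SylComm.card_sup_dvd_of_le_normalizer hle
  rw [Nat.card_zpowers, D.ob] at hdvd
  have hodd : Odd (Nat.card R) :=
    Odd.of_dvd_nat (Odd.mul (by decide) (h.odd_card_Kc ot')) hdvd
  have hbR : b ∈ R := mem_sup_left (mem_zpowers b)
  have hb'R : g * b * g⁻¹ ∈ R := mem_sup_right hb'
  have heq := h.oddFPF.zpowers_eq_of_mem R hodd Nat.prime_three hbR hb'R D.ob ob'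
  have hbK' : b ∈ Kc t' := by
    have h1 : b ∈ zpowers (g * b * g⁻¹) := heq ▸ mem_zpowers b
    exact (zpowers_le.mpr hb') h1
  exact D.fpf t' ht' ht'1 ((h.mem_Kc_iff ot').mp hbK').1

/-- `C_H(W) = W` -/
theorem mem_of_centralize {x : H} (hx : ∀ w ∈ W, x * w = w * x) : x ∈ W := by
  haveI := D.hW
  -- two distinct involutions of `W`
  obtain ⟨t', ht', ht'1⟩ : ∃ t' ∈ W, t' ≠ 1 := by
    by_contra hcon
    push Not at hcon
    have hbot : W = ⊥ := by
      rw [eq_bot_iff]
      intro w hw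
      exact mem_bot.mpr (hcon w hw)
    have hc := D.hW.card_four
    rw [hbot, Subgroup.card_bot] at hc
    omega
  set u' := b * t' * b⁻¹ with hu'
  have hu'W : u' ∈ W := D.conj_mem h ht'
  have hu'1 : u' ≠ 1 := D.conj_ne_one h ht'1
  have hne : t' ≠ u' := by
    intro hc
    apply D.fpf t' ht' ht'1
    calc b * t' = (b * t' * b⁻¹) * b := by group
      _ = t' * b := by rw [← hu', ← hc]
  have ot' := D.orderOf_of_mem h ht' ht'1
  -- the odd part of `x`
  have hox : orderOf x ≠ 0 := (orderOf_pos x).ne'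
  obtain ⟨a, m, hm, hxo⟩ := Nat.exists_eq_two_pow_mul_odd hox
  set z := x ^ (2 ^ a) with hz
  have hzm : z ^ m = 1 := by
    rw [hz, ← pow_mul, ← hxo, pow_orderOf_eq_one]
  have hzodd : Odd (orderOf z) := Odd.of_dvd_nat hm (orderOf_dvd_of_pow_eq_one hzm)
  have hzt : z * t' = t' * z := ((show Commute x t' from hx t' ht').pow_left _).eq
  have hzu : z * u' = u' * z := ((show Commute x u' from hx u' hu'W).pow_left _).eq
  have hzK : z ∈ Kc t' := (h.mem_Kc_iff ot').mpr ⟨hzt, hzodd⟩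
  have hz1 : z = 1 := D.eq_one_of_commute h ht' hu'W ht'1 hu'1 hne hzK hzu.symm
  have hdvd : orderOf x ∣ 2 ^ a := orderOf_dvd_of_pow_eq_one hz1
  obtain ⟨k, -, hk⟩ := (Nat.dvd_prime_pow Nat.prime_two).mp hdvd
  exact h.dih.mem_klein_of_commute W D.hW ⟨k, hk⟩ hx

/-- `|N_H(W)| ≤ 24` -/
theorem card_normalizer_le : Nat.card (normalizer (W : Set H)) ≤ 24 := by
  haveI := D.hW
  obtain ⟨t', ht', ht'1⟩ : ∃ t' ∈ W, t' ≠ 1 := by
    by_contra hcon
    push Not at hcon
    have hbot : W = ⊥ := by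
      rw [eq_bot_iff]
      intro w hw
      exact mem_bot.mpr (hcon w hw)
    have hc := D.hW.card_four
    rw [hbot, Subgroup.card_bot] at hc
    omega
  set u' := b * t' * b⁻¹ with hu'
  have hu'W : u' ∈ W := D.conj_mem h ht'
  have hu'1 : u' ≠ 1 := D.conj_ne_one h ht'1
  have hne : t' ≠ u' := by
    intro hc
    apply D.fpf t' ht' ht'1
    calc b * t' = (b * t' * b⁻¹) * b := by group
      _ = t' * b := by rw [← hu', ← hc]
  obtain ⟨hx2, hy2, hxy, hWeq⟩ := eq_kleinOf_of_isKleinFour W D.hW ht' hu'W ht'1 hu'1 hne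
  set M := normalizer (W : Set H) with hM
  have hconjW : ∀ n ∈ M, ∀ w ∈ W, n * w * n⁻¹ ∈ W := fun n hn w hw =>
    (mem_normalizer_iff.mp hn w).mp hw
  have hconj1 : ∀ n w : H, w ≠ 1 → n * w * n⁻¹ ≠ 1 := by
    intro n w hw1 hc
    apply hw1
    have : w = n⁻¹ * (n * w * n⁻¹) * n := by group
    rw [this, hc]; group
  -- first step
  have h1 := Cfsg.Agent.Lib.H20.card_eq_ncard_conj_mul_card_inf_centralizer M t'
  have h2 : {y : H | ∃ n ∈ M, n * t' * n⁻¹ = y}.ncard ≤ 3 := by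
    have hsub : {y : H | ∃ n ∈ M, n * t' * n⁻¹ = y} ⊆ ({t', u', t' * u'} : Set H) := by
      rintro y ⟨n, hn, rfl⟩
      have h3 := hconjW n hn t' ht'
      rw [hWeq] at h3
      rcases mem_kleinOf.mp h3 with h4 | h4 | h4 | h4
      · exact absurd h4 (hconj1 n t' ht'1)
      · simp [h4]
      · simp [h4]
      · simp [h4]
    calc {y : H | ∃ n ∈ M, n * t' * n⁻¹ = y}.ncard ≤ ({t', u', t' * u'} : Set H).ncard :=
          Set.ncard_le_ncard hsub (Set.toFinite _)
      _ ≤ 3 := ncard_triple_le _ _ _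
  -- second step
  set M1 := M ⊓ centralizer ({t'} : Set H) with hM1
  have h3 := Cfsg.Agent.Lib.H20.card_eq_ncard_conj_mul_card_inf_centralizer M1 u'
  have h4 : {y : H | ∃ n ∈ M1, n * u' * n⁻¹ = y}.ncard ≤ 2 := by
    have hsub : {y : H | ∃ n ∈ M1, n * u' * n⁻¹ = y} ⊆ ({u', t' * u'} : Set H) := by
      rintro y ⟨n, hn, rfl⟩
      obtain ⟨hnM, hnt⟩ := mem_inf.mp hn
      rw [mem_centralizer_singleton_iff] at hnt
      have h5 := hconjW n hnM u' hu'W
      rw [hWeq] at h5
      rcases mem_kleinOf.mp h5 with h6 | h6 | h6 | h6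
      · exact absurd h6 (hconj1 n u' hu'1)
      · exfalso
        apply hne
        have h7 : n * t' * n⁻¹ = t' := by rw [hnt]; group
        have h8 : n * t' * n⁻¹ = n * u' * n⁻¹ := by rw [h7, h6]
        exact mul_left_cancel (mul_right_cancel h8)
      · simp [h6]
      · simp [h6]
    calc {y : H | ∃ n ∈ M1, n * u' * n⁻¹ = y}.ncard ≤ ({u', t' * u'} : Set H).ncard :=
          Set.ncard_le_ncard hsub (Set.toFinite _)
      _ ≤ 2 := ncard_pair_le _ _
  have h5 : Nat.card ↥(M1 ⊓ centralizer ({u'} : Set H)) ≤ 4 := by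
    have hle : M1 ⊓ centralizer ({u'} : Set H) ≤ W := by
      intro x hx
      obtain ⟨hx1, hxu⟩ := mem_inf.mp hx
      obtain ⟨_, hxt⟩ := mem_inf.mp hx1
      rw [mem_centralizer_singleton_iff] at hxu hxt
      apply D.mem_of_centralize h
      intro w hw
      rw [hWeq] at hw
      rcases mem_kleinOf.mp hw with hw1 | hw1 | hw1 | hw1
      · rw [hw1]; simp
      · rw [hw1]; exact hxt
      · rw [hw1]; exact hxu
      · rw [hw1]; exact commute_mul_of_commute hxt hxu
    calc Nat.card ↥(M1 ⊓ centralizer ({u'} : Set H)) ≤ Nat.card W := Subgroup.card_le_of_le hle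
      _ = 4 := D.hW.card_four
  rw [h1, h3]
  calc {y : H | ∃ n ∈ M, n * t' * n⁻¹ = y}.ncard *
        ({y : H | ∃ n ∈ M1, n * u' * n⁻¹ = y}.ncard *
          Nat.card ↥(M1 ⊓ centralizer ({u'} : Set H))) ≤ 3 * (2 * 4) :=
        Nat.mul_le_mul h2 (Nat.mul_le_mul h4 h5)
    _ = 24 := by norm_num

/-- `C_{N_H(W)}(b) = ⟨b⟩` -/
theorem mem_zpowers_of_commute {x : H} (hx : x ∈ normalizer (W : Set H)) (hxb : x * b = b * x) :
    x ∈ zpowers b := by
  haveI := D.hW
  obtain ⟨t', ht', ht'1⟩ : ∃ t' ∈ W, t' ≠ 1 := by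
    by_contra hcon
    push Not at hcon
    have hbot : W = ⊥ := by
      rw [eq_bot_iff]
      intro w hw
      exact mem_bot.mpr (hcon w hw)
    have hc := D.hW.card_four
    rw [hbot, Subgroup.card_bot] at hc
    omega
  set u' := b * t' * b⁻¹ with hu'
  have hu'W : u' ∈ W := D.conj_mem h ht'
  have hu'1 : u' ≠ 1 := D.conj_ne_one h ht'1
  have hne : t' ≠ u' := by
    intro hc
    apply D.fpf t' ht' ht'1
    calc b * t' = (b * t' * b⁻¹) * b := by group
      _ = t' * b := by rw [← hu', ← hc]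
  obtain ⟨hx2, hy2, hxy, hWeq⟩ := eq_kleinOf_of_isKleinFour W D.hW ht' hu'W ht'1 hu'1 hne
  have hb3 : b ^ 3 = 1 := by rw [← D.ob]; exact pow_orderOf_eq_one b
  -- `b u' b⁻¹ = t' u'`
  have hbu : b * u' * b⁻¹ = t' * u' := by
    have h1 := D.conj_mem h hu'W
    rw [hWeq] at h1
    rcases mem_kleinOf.mp h1 with h2 | h2 | h2 | h2
    · exact absurd h2 (D.conj_ne_one h hu'1)
    · -- `b² t' b⁻² = t'`, so `b` commutes with `t'`
      exfalso
      apply D.fpf t' ht' ht'1
      have h3 : Commute (b ^ 2) t' := by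
        show b ^ 2 * t' = t' * b ^ 2
        have : b ^ 2 * t' * (b ^ 2)⁻¹ = t' := by
          calc b ^ 2 * t' * (b ^ 2)⁻¹ = b * (b * t' * b⁻¹) * b⁻¹ := by rw [pow_two]; group
            _ = t' := by rw [← hu', h2]
        calc b ^ 2 * t' = (b ^ 2 * t' * (b ^ 2)⁻¹) * b ^ 2 := by group
          _ = t' * b ^ 2 := by rw [this]
      have h4 : Odd (orderOf b) := by rw [D.ob]; decide
      exact (Cfsg.Agent.Lib.H16.ZasE2.commute_of_sq_commute h4 h3).eq
    · exfalso
      apply D.fpf u' hu'W hu'1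
      calc b * u' = (b * u' * b⁻¹) * b := by group
        _ = u' * b := by rw [h2]
    · exact h2
  -- `x t' x⁻¹ = bⁱ t' b⁻ⁱ`
  have hxt := (mem_normalizer_iff.mp hx t').mp ht'
  have hxt1 : x * t' * x⁻¹ ≠ 1 := by
    intro hc
    apply ht'1
    have : t' = x⁻¹ * (x * t' * x⁻¹) * x := by group
    rw [this, hc]; group
  have key : ∀ z : H, z * b = b * z → z * t' * z⁻¹ = t' → z = 1 := by
    intro z hzb hzt
    have hzt' : z * t' = t' * z := by
      calc z * t' = (z * t' * z⁻¹) * z := by group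
        _ = t' * z := by rw [hzt]
    have hzu : z * u' = u' * z := by
      rw [hu']
      calc z * (b * t' * b⁻¹) = (z * b) * t' * b⁻¹ := by group
        _ = (b * z) * t' * b⁻¹ := by rw [hzb]
        _ = b * (z * t') * b⁻¹ := by group
        _ = b * (t' * z) * b⁻¹ := by rw [hzt']
        _ = b * t' * (b⁻¹ * (b * z) * b⁻¹) := by group
        _ = b * t' * (b⁻¹ * (z * b) * b⁻¹) := by rw [hzb]
        _ = b * t' * b⁻¹ * z := by group
    have hzW : z ∈ W := by
      apply D.mem_of_centralize h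
      intro w hw
      rw [hWeq] at hw
      rcases mem_kleinOf.mp hw with hw1 | hw1 | hw1 | hw1
      · rw [hw1]; simp
      · rw [hw1]; exact hzt'
      · rw [hw1]; exact hzu
      · rw [hw1]; exact commute_mul_of_commute hzt' hzu
    by_contra hz1
    exact D.fpf z hzW hz1 hzb.symm
  rw [hWeq] at hxt
  rcases mem_kleinOf.mp hxt with h1 | h1 | h1 | h1
  · exact absurd h1 hxt1
  · have := key x hxb h1
    rw [this]; exact one_mem _
  · -- `x t' x⁻¹ = u' = b t' b⁻¹`
    have h2 : b⁻¹ * x = 1 := by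
      apply key
      · calc b⁻¹ * x * b = b⁻¹ * (x * b) := by group
          _ = b⁻¹ * (b * x) := by rw [hxb]
          _ = b * (b⁻¹ * x) := by group
      · calc b⁻¹ * x * t' * (b⁻¹ * x)⁻¹ = b⁻¹ * (x * t' * x⁻¹) * b := by group
          _ = b⁻¹ * (b * t' * b⁻¹) * b := by rw [h1]
          _ = t' := by group
    have h3 : x = b := by
      calc x = b * (b⁻¹ * x) := by group
        _ = b := by rw [h2, mul_one]
    rw [h3]; exact mem_zpowers b
  · -- `x t' x⁻¹ = t' u' = b² t' b⁻²`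
    obtain ⟨c, hc⟩ : ∃ c : H, c = b * b := ⟨_, rfl⟩
    have hcb : c * b = b * c := by rw [hc, mul_assoc]
    have hcx : x * c = c * x := by
      rw [hc, ← mul_assoc, hxb, mul_assoc, hxb, mul_assoc]
    have hb2 : c * t' * c⁻¹ = t' * u' := by
      calc c * t' * c⁻¹ = b * (b * t' * b⁻¹) * b⁻¹ := by rw [hc]; group
        _ = t' * u' := by rw [← hu', hbu]
    have h2 : c⁻¹ * x = 1 := by
      apply key
      · calc c⁻¹ * x * b = c⁻¹ * (x * b) := by group
          _ = c⁻¹ * (b * x) := by rw [hxb]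
          _ = c⁻¹ * (c * b) * c⁻¹ * x := by rw [hcb]; group
          _ = b * (c⁻¹ * x) := by group
      · calc c⁻¹ * x * t' * (c⁻¹ * x)⁻¹ = c⁻¹ * (x * t' * x⁻¹) * c := by group
          _ = c⁻¹ * (c * t' * c⁻¹) * c := by rw [h1, hb2]
          _ = t' := by group
    have h3 : x = c := by
      calc x = c * (c⁻¹ * x) := by group
        _ = c := by rw [h2, mul_one]
    rw [h3, hc]; exact mul_mem (mem_zpowers b) (mem_zpowers b)

end KData

end Cfsg.Agent.Lib.H16.ZasQ
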