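import Mathlib
import Cfsg.Agent.Lib.H16.ZasQb

/-!
# Zassenhaus, H-level, block E4, local estimates Q2/Q3, part c: the estimates

(helper16)  `BadFour.card_A4_ge` (Q3) and `BadFour.card_S4_le_card_A4` (Q2).
-/

set_option autoImplicit false
set_option linter.style.haveILetI false
set_option linter.unusedSectionVars false

namespace Cfsg.Agent.Lib.H16.ZasQ

open Subgroup Equiv Cfsg.Agent.Lib.H25.Zas

open scoped Pointwise

variable {H : Type*} [Group H] [Finite H] {t u b : H}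

/-- the normalizer of `X` normalizes the set of its elements of order at most two -/
theorem mem_normalizer_klein {X W : Subgroup H} (hW : ∀ x, x ∈ W ↔ x ∈ X ∧ x * x = 1) {g : H}
    (hg : g ∈ normalizer (X : Set H)) : g ∈ normalizer (W : Set H) := by
  apply Cfsg.Agent.Lib.L0.mem_normalizer_of_forall_conj_mem
  intro w hw
  obtain ⟨hwX, hw2⟩ := (hW w).mp hw
  rw [hW]
  refine ⟨(mem_normalizer_iff.mp hg w).mp hwX, ?_⟩
  calc g * w * g⁻¹ * (g * w * g⁻¹) = g * (w * w) * g⁻¹ := by group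
    _ = 1 := by rw [hw2]; group

/-- the data of the common lemma from a subgroup `X ≅ A₄` through `b` -/
theorem kData_of_equiv_A4 (B : BadFour t u) (hb : b ∈ Kc t) (ob : orderOf b = 3)
    (X : Subgroup H) (hbX : b ∈ X) (e : X ≃* alternatingGroup (Fin 4)) (W : Subgroup H)
    (hW : IsKleinFour W) (hWmem : ∀ x, x ∈ W ↔ x ∈ X ∧ x * x = 1) : KData t u b W := by
  refine ⟨B, hb, ob, hW, mem_normalizer_klein hWmem (le_normalizer hbX), ?_⟩
  intro w hw hw1
  obtain ⟨hwX, hw2⟩ := (hWmem w).mp hw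
  exact not_commute_of_equiv_A4 X e hbX ob hwX hw2 hw1

/-- (Q3) the number of subgroups `≅ A₄` through `b` is at least `4 |K_t|` -/
theorem card_A4_ge (B : BadFour t u) (h : HCtx H 4) (hb : b ∈ Kc t) (ob : orderOf b = 3)
    (X₀ : Subgroup H) (hbX : b ∈ X₀) (hX₀ : Nonempty (X₀ ≃* alternatingGroup (Fin 4))) :
    4 * Nat.card (Kc t) ≤
      Nat.card {X : Subgroup H // b ∈ X ∧ Nonempty (X ≃* alternatingGroup (Fin 4))} := by
  obtain ⟨e⟩ := hX₀
  obtain ⟨W, hW, hWmem⟩ := exists_klein_of_equiv_A4 X₀ e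
  have D := kData_of_equiv_A4 B hb ob X₀ hbX e W hW hWmem
  set C := centralizer ({b} : Set H) with hC
  have hcardC : Nat.card C = 12 * Nat.card (Kc t) := B.card_centralizer_three h hb ob
  have h1 := card_eq_ncard_conj_subgroup_mul C X₀
  have h2 : Nat.card ↥(C ⊓ normalizer (X₀ : Set H)) ≤ 3 := by
    have hle : C ⊓ normalizer (X₀ : Set H) ≤ zpowers b := by
      intro x hx
      obtain ⟨hxC, hxN⟩ := mem_inf.mp hx
      rw [hC, mem_centralizer_singleton_iff] at hxC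
      exact D.mem_zpowers_of_commute h (mem_normalizer_klein hWmem hxN) hxC
    calc Nat.card ↥(C ⊓ normalizer (X₀ : Set H)) ≤ Nat.card (zpowers b) :=
          Subgroup.card_le_of_le hle
      _ = 3 := by rw [Nat.card_zpowers, ob]
  have h3 : {Y : Subgroup H | ∃ n ∈ C, MulAut.conj n • X₀ = Y}.ncard ≤
      Nat.card {X : Subgroup H // b ∈ X ∧ Nonempty (X ≃* alternatingGroup (Fin 4))} := by
    rw [← Nat.card_coe_set_eq]
    have hmem : ∀ Y : {Y : Subgroup H | ∃ n ∈ C, MulAut.conj n • X₀ = Y},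
        b ∈ (Y : Subgroup H) ∧ Nonempty ((Y : Subgroup H) ≃* alternatingGroup (Fin 4)) := by
      rintro ⟨Y, n, hn, rfl⟩
      rw [hC, mem_centralizer_singleton_iff] at hn
      refine ⟨?_, ⟨(equivSMul (MulAut.conj n) X₀).symm.trans e⟩⟩
      have h4 : MulAut.conj n • b ∈ MulAut.conj n • X₀ := smul_mem_pointwise_smul _ _ _ hbX
      have h5 : MulAut.conj n • b = b := by
        simp only [MulAut.smul_def, MulAut.conj_apply]
        rw [hn]; group
      rwa [h5] at h4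
    apply Nat.card_le_card_of_injective (fun Y => ⟨(Y : Subgroup H), hmem Y⟩)
    intro Y Y' hYY'
    apply Subtype.ext
    have h5 := congrArg Subtype.val hYY'
    exact h5
  have h4 : 12 * Nat.card (Kc t) ≤
      Nat.card {X : Subgroup H // b ∈ X ∧ Nonempty (X ≃* alternatingGroup (Fin 4))} * 3 := by
    rw [← hcardC, h1]
    exact Nat.mul_le_mul h3 h2
  omega

/-- the subgroup of the elements of `Y ≅ S₄` corresponding to even permutations -/
def altSub (Y : Subgroup H) (e : Y ≃* Perm (Fin 4)) : Subgroup H :=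
  ((alternatingGroup (Fin 4)).map e.symm.toMonoidHom).map Y.subtype

omit [Finite H] in
theorem mem_altSub {Y : Subgroup H} {e : Y ≃* Perm (Fin 4)} {x : H} :
    x ∈ altSub Y e ↔ ∃ hx : x ∈ Y, Perm.sign (e ⟨x, hx⟩) = 1 := by
  unfold altSub
  rw [mem_map]
  constructor
  · rintro ⟨y, hy, rfl⟩
    obtain ⟨σ, hσ, rfl⟩ := mem_map.mp hy
    refine ⟨(e.symm σ).2, ?_⟩
    show Perm.sign (e (e.symm σ)) = 1
    rw [e.apply_symm_apply]
    exact Perm.mem_alternatingGroup.mp hσ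
  · rintro ⟨hx, hs⟩
    refine ⟨⟨x, hx⟩, ?_, rfl⟩
    rw [mem_map]
    refine ⟨e ⟨x, hx⟩, Perm.mem_alternatingGroup.mpr hs, ?_⟩
    exact e.symm_apply_apply _

/-- `altSub Y e ≅ A₄` -/
noncomputable def altSubEquiv (Y : Subgroup H) (e : Y ≃* Perm (Fin 4)) :
    altSub Y e ≃* alternatingGroup (Fin 4) :=
  ((e.symm.subgroupMap (alternatingGroup (Fin 4))).trans
    (((alternatingGroup (Fin 4)).map e.symm.toMonoidHom).equivMapOfInjective Y.subtype
      Y.subtype_injective)).symm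

omit [Finite H] in
theorem altSub_le (Y : Subgroup H) (e : Y ≃* Perm (Fin 4)) : altSub Y e ≤ Y := by
  intro x hx
  exact (mem_altSub.mp hx).1

theorem le_normalizer_altSub (Y : Subgroup H) (e : Y ≃* Perm (Fin 4)) :
    Y ≤ normalizer ((altSub Y e : Subgroup H) : Set H) := by
  intro y hy
  apply Cfsg.Agent.Lib.L0.mem_normalizer_of_forall_conj_mem
  intro x hx
  obtain ⟨hxY, hs⟩ := mem_altSub.mp hx
  rw [mem_altSub]
  refine ⟨Y.mul_mem (Y.mul_mem hy hxY) (Y.inv_mem hy), ?_⟩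
  have h1 : (⟨y * x * y⁻¹, Y.mul_mem (Y.mul_mem hy hxY) (Y.inv_mem hy)⟩ : Y) =
      ⟨y, hy⟩ * ⟨x, hxY⟩ * ⟨y, hy⟩⁻¹ := rfl
  rw [h1, map_mul, map_mul, map_inv, map_mul, map_mul, map_inv, hs]
  simp

omit [Finite H] in
theorem mem_altSub_of_order_three (Y : Subgroup H) (e : Y ≃* Perm (Fin 4)) (hbY : b ∈ Y)
    (ob : orderOf b = 3) : b ∈ altSub Y e := by
  rw [mem_altSub]
  refine ⟨hbY, ?_⟩
  apply s4_three
  have hb3 : b * b * b = 1 := by
    have := pow_orderOf_eq_one b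
    rw [ob, pow_succ, pow_two] at this
    exact this
  have h1 : (⟨b, hbY⟩ : Y) * ⟨b, hbY⟩ * ⟨b, hbY⟩ = 1 := Subtype.ext hb3
  have h2 := congrArg e h1
  rwa [map_mul, map_mul, map_one] at h2

/-- a subgroup `Y ≅ S₄` through `b` is the normalizer of the four-group of its `A₄` -/
theorem eq_normalizer_of_S4 (B : BadFour t u) (h : HCtx H 4) (hb : b ∈ Kc t) (ob : orderOf b = 3)
    (Y : Subgroup H) (hbY : b ∈ Y) (e : Y ≃* Perm (Fin 4)) (W : Subgroup H) (hW : IsKleinFour W)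
    (hWmem : ∀ x, x ∈ W ↔ x ∈ altSub Y e ∧ x * x = 1) : Y = normalizer (W : Set H) := by
  have hbX := mem_altSub_of_order_three Y e hbY ob
  have D := kData_of_equiv_A4 B hb ob (altSub Y e) hbX (altSubEquiv Y e) W hW hWmem
  have hle : Y ≤ normalizer (W : Set H) := fun y hy =>
    mem_normalizer_klein hWmem (le_normalizer_altSub Y e hy)
  apply Subgroup.eq_of_le_of_card_ge hle
  have hcY : Nat.card Y = 24 := by
    rw [Nat.card_congr e.toEquiv, Nat.card_eq_fintype_card, Fintype.card_perm, Fintype.card_fin]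
    rfl
  rw [hcY]
  exact D.card_normalizer_le h

/-- (Q2) there are at most as many subgroups `≅ S₄` through `b` as subgroups `≅ A₄` -/
theorem card_S4_le_card_A4 (B : BadFour t u) (h : HCtx H 4) (hb : b ∈ Kc t)
    (ob : orderOf b = 3) :
    Nat.card {X : Subgroup H // b ∈ X ∧ Nonempty (X ≃* Perm (Fin 4))} ≤
      Nat.card {X : Subgroup H // b ∈ X ∧ Nonempty (X ≃* alternatingGroup (Fin 4))} := by
  classical
  let ee : ∀ Y : {X : Subgroup H // b ∈ X ∧ Nonempty (X ≃* Perm (Fin 4))},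
      (Y : Subgroup H) ≃* Perm (Fin 4) := fun Y => Classical.choice Y.2.2
  let f : {X : Subgroup H // b ∈ X ∧ Nonempty (X ≃* Perm (Fin 4))} →
      {X : Subgroup H // b ∈ X ∧ Nonempty (X ≃* alternatingGroup (Fin 4))} := fun Y =>
    ⟨altSub (Y : Subgroup H) (ee Y), mem_altSub_of_order_three _ _ Y.2.1 ob,
      ⟨altSubEquiv _ _⟩⟩
  apply Nat.card_le_card_of_injective f
  intro Y Y' hYY'
  have hX : altSub (Y : Subgroup H) (ee Y) = altSub (Y' : Subgroup H) (ee Y') :=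
    congrArg Subtype.val hYY'
  obtain ⟨W, hW, hWmem⟩ := exists_klein_of_equiv_A4 (altSub (Y : Subgroup H) (ee Y))
    (altSubEquiv _ _)
  have h1 := eq_normalizer_of_S4 B h hb ob (Y : Subgroup H) Y.2.1 (ee Y) W hW hWmem
  have hWmem' : ∀ x, x ∈ W ↔ x ∈ altSub (Y' : Subgroup H) (ee Y') ∧ x * x = 1 := by
    intro x
    rw [← hX]; exact hWmem x
  have h2 := eq_normalizer_of_S4 B h hb ob (Y' : Subgroup H) Y'.2.1 (ee Y') W hW hWmem'
  apply Subtype.ext
  rw [h1, h2]

end Cfsg.Agent.Lib.H16.ZasQ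

namespace Cfsg.Agent.Lib.H25.Zas

open Subgroup

variable {H : Type*} [Group H] [Finite H] {t u : H}

/-- (Q2) -/
theorem BadFour.card_S4_le_card_A4 (B : BadFour t u) (h : HCtx H 4) {b : H} (hb : b ∈ Kc t)
    (ob : orderOf b = 3) :
    Nat.card {X : Subgroup H // b ∈ X ∧ Nonempty (X ≃* Equiv.Perm (Fin 4))} ≤
      Nat.card {X : Subgroup H // b ∈ X ∧ Nonempty (X ≃* alternatingGroup (Fin 4))} :=
  Cfsg.Agent.Lib.H16.ZasQ.card_S4_le_card_A4 B h hb ob

/-- (Q3) -/
theorem BadFour.card_A4_ge (B : BadFour t u) (h : HCtx H 4) {b : H} (hb : b ∈ Kc t)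
    (ob : orderOf b = 3) (X₀ : Subgroup H) (hbX : b ∈ X₀)
    (hX₀ : Nonempty (X₀ ≃* alternatingGroup (Fin 4))) :
    4 * Nat.card (Kc t) ≤
      Nat.card {X : Subgroup H // b ∈ X ∧ Nonempty (X ≃* alternatingGroup (Fin 4))} :=
  Cfsg.Agent.Lib.H16.ZasQ.card_A4_ge B h hb ob X₀ hbX hX₀

end Cfsg.Agent.Lib.H25.Zas
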