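import Mathlib
import Cfsg.Agent.S0540
import Cfsg.Agent.Lib.H14.Subnormal2

/-!
# Wielandt's zipper lemma (unique maximal subgroup form)   (helper16)

`exists_greatest_proper_of_not_isSubnormal`: let `A` be a subgroup of a finite group `G` which is
not subnormal in `G`, such that every conjugate `B` of `A` contained in a proper subgroup `V` is
subnormal in `V`.  Then `A` lies in a unique maximal subgroup: there is a proper subgroup `M`
containing every proper subgroup that contains `A`.

`normalizer_eq_self_of_greatest`, `mem_of_conj_mem_of_greatest`: consequences for such an `M`.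
-/

set_option autoImplicit false
open Pointwise

namespace Cfsg.Agent.Lib.H16

theorem exists_greatest_proper_of_not_isSubnormal {G : Type*} [Group G] [Finite G]
    (A : Subgroup G) (hns : ¬ A.IsSubnormal)
    (key : ∀ V : Subgroup G, V ≠ ⊤ → ∀ B : Subgroup G, (∃ g : G, B = MulAut.conj g • A) → B ≤ V →
        (B.subgroupOf V).IsSubnormal) :
    ∃ M : Subgroup G, A ≤ M ∧ M ≠ ⊤ ∧ ¬ M.Normal ∧ ∀ V : Subgroup G, A ≤ V → V ≠ ⊤ → V ≤ M := by
  have hAtop : A ≠ ⊤ := by
    rintro rfl
    exact hns Subgroup.IsSubnormal.top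
  have hnormal : ∀ D : Subgroup G, D.Normal → A ≤ D → D ≠ ⊤ → False := by
    intro D hD hAD hDtop
    have h1 : (A.subgroupOf D).IsSubnormal := key D hDtop A ⟨1, by simp⟩ hAD
    exact hns (Subgroup.IsSubnormal.trans hAD h1 hD.isSubnormal)
  let U : Set (Subgroup G) := {V | A ≤ V ∧ V ≠ ⊤}
  let S : Subgroup G → Set (Subgroup G) := fun V =>
    {B | (∃ g : G, B = MulAut.conj g • A) ∧ B ≤ V ∧ (B.subgroupOf V).IsSubnormal}
  have hAS : ∀ V ∈ U, A ∈ S V := by
    intro V hV
    exact ⟨⟨1, by simp⟩, hV.1, key V hV.2 A ⟨1, by simp⟩ hV.1⟩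
  obtain ⟨M, hMU, hM⟩ := Cfsg.Agent.S0540.result A U ⟨A, le_refl A, hAtop⟩ S
    (fun V B => Iff.rfl) hAS
    (fun V hV W hW B hB hBV => ⟨hB.1, hBV, key V hV.2 B hB.1 hBV⟩)
    (by
      intro V hV W hW
      set D : Subgroup G := sSup (S V ∩ S W) with hD
      have hAD : A ≤ D := le_sSup ⟨hAS V hV, hAS W hW⟩
      have hDV : D ≤ V := sSup_le (fun B hB => hB.1.2.1)
      by_cases hN : Subgroup.normalizer (D : Set G) = ⊤
      · exfalso
        have hDn : D.Normal := Subgroup.normalizer_eq_top_iff.mp hN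
        exact hnormal D hDn hAD (fun h => hV.2 (top_le_iff.mp (h ▸ hDV)))
      · exact ⟨Subgroup.normalizer (D : Set G), ⟨hAD.trans Subgroup.le_normalizer, hN⟩, le_refl _⟩)
  exact ⟨M, hMU.1, hMU.2, fun hMn => hnormal M hMn hMU.1 hMU.2, fun V hAV hV => hM V ⟨hAV, hV⟩⟩

/-- A non-normal greatest proper overgroup is self-normalizing. -/
theorem normalizer_eq_self_of_greatest {G : Type*} [Group G] {A M : Subgroup G} (hAM : A ≤ M)
    (hMn : ¬ M.Normal) (hM : ∀ V : Subgroup G, A ≤ V → V ≠ ⊤ → V ≤ M) :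
    Subgroup.normalizer (M : Set G) = M := by
  have hle' : M ≤ Subgroup.normalizer (M : Set G) := Subgroup.le_normalizer
  by_contra hne
  have hlt : M < Subgroup.normalizer (M : Set G) := lt_of_le_of_ne hle' (Ne.symm hne)
  have htop : Subgroup.normalizer (M : Set G) = ⊤ := by
    by_contra hnt
    exact absurd (hM _ (hAM.trans hle') hnt) (not_le_of_gt hlt)
  exact hMn (Subgroup.normalizer_eq_top_iff.mp htop)

/-- If `M` is the greatest proper subgroup containing `A`, non-normal, and `x` conjugates `A`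
into `M`, then `x ∈ M`. -/
theorem mem_of_conj_le_of_greatest {G : Type*} [Group G] [Finite G] {A M : Subgroup G}
    (hAM : A ≤ M) (hMtop : M ≠ ⊤)
    (hMn : ¬ M.Normal) (hM : ∀ V : Subgroup G, A ≤ V → V ≠ ⊤ → V ≤ M) (x : G)
    (hxA : MulAut.conj x • A ≤ M) : x ∈ M := by
  have hM'A : A ≤ MulAut.conj x⁻¹ • M := by
    intro b hb
    rw [Subgroup.mem_pointwise_smul_iff_inv_smul_mem, ← map_inv, inv_inv]
    apply hxA
    rw [Subgroup.mem_smul_pointwise_iff_exists]
    exact ⟨b, hb, rfl⟩
  have hM'top : MulAut.conj x⁻¹ • M ≠ ⊤ := by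
    intro htop
    apply hMtop
    have := congrArg (fun K : Subgroup G => MulAut.conj x • K) htop
    simp only [smul_smul, ← map_mul, mul_inv_cancel, map_one, one_smul] at this
    rw [this, eq_top_iff]
    intro y _
    rw [Subgroup.mem_pointwise_smul_iff_inv_smul_mem]
    exact Subgroup.mem_top _
  have hle : MulAut.conj x⁻¹ • M ≤ M := hM _ hM'A hM'top
  have hNM := normalizer_eq_self_of_greatest hAM hMn hM
  have heq : MulAut.conj x⁻¹ • M = M := by
    apply Subgroup.eq_of_le_of_card_ge hle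
    exact (Nat.card_congr (Subgroup.equivSMul (MulAut.conj x⁻¹) M).toEquiv).le
  have hxinv : x⁻¹ ∈ Subgroup.normalizer (M : Set G) := by
    rw [Subgroup.mem_normalizer_iff]
    intro y
    constructor
    · intro hy
      rw [← heq, Subgroup.mem_smul_pointwise_iff_exists]
      exact ⟨y, hy, rfl⟩
    · intro hy
      have : x⁻¹ * y * x⁻¹⁻¹ ∈ MulAut.conj x⁻¹ • M := by rw [heq]; exact hy
      rw [Subgroup.mem_smul_pointwise_iff_exists] at this
      obtain ⟨z, hz, hzy⟩ := this
      have : z = y := by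
        simp only [MulAut.smul_def, MulAut.conj_apply] at hzy
        exact mul_left_cancel (mul_right_cancel hzy)
      rw [← this]; exact hz
  rw [hNM] at hxinv
  have := M.inv_mem hxinv
  rwa [inv_inv] at this

end Cfsg.Agent.Lib.H16
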